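import Cfsg.Agent.S0309
import Cfsg.Agent.S1037
import Cfsg.Agent.S1040
import Cfsg.Agent.S1043

/-!
Helper36: the uniqueness half of the Bruhat normal form `g = b n u` (`u ∈ U_n⁻`) in a Chevalley group,
given the `(B, N)`-pair of the group as a hypothesis.
-/

set_option autoImplicit false

namespace Cfsg.Agent.Helper36

open Cfsg Cfsg.Lie

section

variable {F : Type*} [Field F] (D : ChevalleyDatum)

/-- the generating set of `U_n⁻` is made of positive root elements, so `U_n⁻ ≤ U` -/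
theorem bruhatU_le_pos (n : GL D.Idx F) :
    Subgroup.closure {x : GL D.Idx F | ∃ (r : ℕ) (t : F), D.IsPosRoot r ∧
      (D.rootSubgroup F r).map (MulAut.conj n).toMonoidHom ≤ D.negUnipotent F ∧
        (x : Matrix D.Idx D.Idx F) = D.x F r t} ≤ D.posUnipotent F := by
  unfold ChevalleyDatum.posUnipotent
  apply Subgroup.closure_mono
  rintro x ⟨r, t, hr, -, hx⟩
  exact ⟨r, t, hr, hx⟩

/-- `n U_n⁻ n⁻¹ ≤ V` -/
theorem bruhatU_conj_le_neg (n : GL D.Idx F) :
    (Subgroup.closure {x : GL D.Idx F | ∃ (r : ℕ) (t : F), D.IsPosRoot r ∧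
      (D.rootSubgroup F r).map (MulAut.conj n).toMonoidHom ≤ D.negUnipotent F ∧
        (x : Matrix D.Idx D.Idx F) = D.x F r t}).map (MulAut.conj n).toMonoidHom ≤ D.negUnipotent F := by
  rw [Subgroup.map_le_iff_le_comap, Subgroup.closure_le]
  rintro x ⟨r, t, -, hle, hx⟩
  rw [SetLike.mem_coe, Subgroup.mem_comap]
  apply hle
  refine Subgroup.mem_map_of_mem _ ?_
  exact Subgroup.subset_closure ⟨t, hx⟩

/-- The uniqueness half of the Bruhat normal form, from the `(B, N)`-pair of the Chevalley group. -/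
theorem bruhat_normal_form_unique_of_bn
    (hD : D ∈ [chevG2, chevB2, chevD4, chevF4, chevE6, chevE7, chevE8])
    (H42 : ∃ P : Cfsg.BNPair ↥(D.group F),
      P.B = (D.borelSubgroup F).subgroupOf (D.group F) ∧ P.N = (D.monomialSubgroup F).subgroupOf (D.group F) ∧
      P.S = {n : ↥(D.group F) | ∃ i < D.rank, ((n : GL D.Idx F) : Matrix D.Idx D.Idx F) = D.nMat F (D.simple i) 1}) :
    (∀ (b b' n n' u u' : GL D.Idx F), b ∈ D.borelSubgroup F → b' ∈ D.borelSubgroup F →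
      n ∈ D.monomialSubgroup F → n' ∈ D.monomialSubgroup F →
      u ∈ Subgroup.closure {x : GL D.Idx F | ∃ (r : ℕ) (t : F), D.IsPosRoot r ∧
            (D.rootSubgroup F r).map (MulAut.conj n).toMonoidHom ≤ D.negUnipotent F ∧ (x : Matrix D.Idx D.Idx F) = D.x F r t} →
      u' ∈ Subgroup.closure {x : GL D.Idx F | ∃ (r : ℕ) (t : F), D.IsPosRoot r ∧
            (D.rootSubgroup F r).map (MulAut.conj n').toMonoidHom ≤ D.negUnipotent F ∧ (x : Matrix D.Idx D.Idx F) = D.x F r t} →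
      b * n * u = b' * n' * u' → n⁻¹ * n' ∈ D.diagonalSubgroup F ∧ (n = n' → b = b' ∧ u = u')) := by
  intro b b' n n' u u' hb hb' hn hn' hu hu' heq
  obtain ⟨P, hPB, hPN, -⟩ := H42
  obtain ⟨hBG, hNG, -⟩ := Cfsg.Agent.S1043.result (F := F) D hD
  have hUB : D.posUnipotent F ≤ D.borelSubgroup F := le_sup_left
  have huB : u ∈ D.borelSubgroup F := hUB (bruhatU_le_pos D n hu)
  have hu'B : u' ∈ D.borelSubgroup F := hUB (bruhatU_le_pos D n' hu')
  refine ⟨?_, ?_⟩
  · -- `n' ∈ B n B`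
    have hnP : (⟨n, hNG hn⟩ : ↥(D.group F)) ∈ P.N := by
      rw [hPN, Subgroup.mem_subgroupOf]; exact hn
    have hn'P : (⟨n', hNG hn'⟩ : ↥(D.group F)) ∈ P.N := by
      rw [hPN, Subgroup.mem_subgroupOf]; exact hn'
    have hdc : DoubleCoset.doubleCoset (⟨n, hNG hn⟩ : ↥(D.group F)) (P.B : Set ↥(D.group F)) P.B =
        DoubleCoset.doubleCoset (⟨n', hNG hn'⟩ : ↥(D.group F)) (P.B : Set ↥(D.group F)) P.B := by
      symm
      apply DoubleCoset.doubleCoset_eq_of_mem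
      rw [DoubleCoset.mem_doubleCoset]
      have h1 : b'⁻¹ * b ∈ D.borelSubgroup F := Subgroup.mul_mem _ (Subgroup.inv_mem _ hb') hb
      have h2 : u * u'⁻¹ ∈ D.borelSubgroup F := Subgroup.mul_mem _ huB (Subgroup.inv_mem _ hu'B)
      refine ⟨⟨b'⁻¹ * b, hBG h1⟩, ?_, ⟨u * u'⁻¹, hBG h2⟩, ?_, ?_⟩
      · rw [SetLike.mem_coe, hPB, Subgroup.mem_subgroupOf]; exact h1
      · rw [SetLike.mem_coe, hPB, Subgroup.mem_subgroupOf]; exact h2
      · apply Subtype.ext
        show n' = b'⁻¹ * b * n * (u * u'⁻¹)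
        have : b'⁻¹ * b * n * (u * u'⁻¹) = b'⁻¹ * (b * n * u) * u'⁻¹ := by group
        rw [this, heq]; group
    have hmem := (Cfsg.Agent.S0309.result P hnP hn'P).mp hdc
    rw [hPB, Subgroup.mem_subgroupOf] at hmem
    have hmem' : n⁻¹ * n' ∈ D.borelSubgroup F := by simpa using hmem
    have hN' : n⁻¹ * n' ∈ D.monomialSubgroup F := Subgroup.mul_mem _ (Subgroup.inv_mem _ hn) hn'
    have := (Cfsg.Agent.S1040.result (F := F) D hD).2
    rw [← this]
    exact ⟨hmem', hN'⟩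
  · rintro rfl
    -- `b'⁻¹ b = n (u' u⁻¹) n⁻¹ ∈ B ∩ V = 1`
    have hV : n * (u' * u⁻¹) * n⁻¹ ∈ D.negUnipotent F := by
      apply bruhatU_conj_le_neg D n
      refine ⟨u' * u⁻¹, Subgroup.mul_mem _ hu' (Subgroup.inv_mem _ hu), ?_⟩
      simp [MulAut.conj_apply]
    have hE : b'⁻¹ * b = n * (u' * u⁻¹) * n⁻¹ := by
      have : b'⁻¹ * b = b'⁻¹ * (b * n * u) * u⁻¹ * n⁻¹ := by group
      rw [this, heq]; group
    have hB : b'⁻¹ * b ∈ D.borelSubgroup F := Subgroup.mul_mem _ (Subgroup.inv_mem _ hb') hb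
    have h1 : b'⁻¹ * b ∈ D.borelSubgroup F ⊓ D.negUnipotent F := ⟨hB, by rw [hE]; exact hV⟩
    rw [(Cfsg.Agent.S1037.result (F := F) D hD).1, Subgroup.mem_bot] at h1
    have hbb : b = b' := by
      have := congrArg (fun z => b' * z) h1
      simpa using this
    refine ⟨hbb, ?_⟩
    subst hbb
    exact mul_left_cancel heq

end

end Cfsg.Agent.Helper36
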