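import Mathlib

set_option autoImplicit false

namespace Cfsg.Agent.Helper36

open Module

/-- A finite-dimensional space carrying a nondegenerate alternating form has even dimension. -/
theorem even_finrank_of_isAlt_nondegenerate {K : Type*} [Field K] :
    ∀ (n : ℕ) {V : Type*} [AddCommGroup V] [Module K V] [FiniteDimensional K V]
      (B : LinearMap.BilinForm K V), B.IsAlt → B.Nondegenerate → finrank K V = n → Even n := by
  intro n
  induction n using Nat.strong_induction_on with
  | _ n ih =>
    intro V _ _ _ B halt hnd hfr
    by_cases hn : n = 0
    · rw [hn]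
      exact Even.zero
    -- pick a nonzero vector
    have hpos : 0 < finrank K V := by omega
    obtain ⟨v, hv⟩ := (finrank_pos_iff_exists_ne_zero (R := K) (M := V)).mp hpos
    -- a partner
    have hw : ∃ w, B v w ≠ 0 := by
      by_contra hcon
      have hcon' : ∀ w, B v w = 0 := fun w => by
        by_contra h
        exact hcon ⟨w, h⟩
      exact hv (hnd.1 v hcon')
    obtain ⟨w, hw⟩ := hw
    have hwv : B w v ≠ 0 := by
      intro h
      exact hw ((halt.isRefl) w v h)
    have hli : LinearIndependent K ![v, w] := by
      rw [LinearIndependent.pair_iff]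
      intro s t hst
      have e1 : B (s • v + t • w) w = 0 := by rw [hst]; simp
      have e2 : B (s • v + t • w) v = 0 := by rw [hst]; simp
      simp only [map_add, map_smul, LinearMap.add_apply, LinearMap.smul_apply, smul_eq_mul,
        halt w, halt v, mul_zero, add_zero, zero_add] at e1 e2
      exact ⟨(mul_eq_zero.mp e1).resolve_right hw, (mul_eq_zero.mp e2).resolve_right hwv⟩
    set W : Submodule K V := Submodule.span K (Set.range ![v, w]) with hW
    have hWfr : finrank K W = 2 := by
      rw [hW, finrank_span_eq_card hli]
      simp
    have hvW : v ∈ W := Submodule.subset_span ⟨0, rfl⟩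
    have hwW : w ∈ W := Submodule.subset_span ⟨1, rfl⟩
    have hrefl : B.IsRefl := halt.isRefl
    -- W is disjoint from its orthogonal
    have hdisj : Disjoint W (B.orthogonal W) := by
      rw [Submodule.disjoint_def]
      intro x hxW hxO
      rw [LinearMap.BilinForm.mem_orthogonal_iff] at hxO
      have hx1 : B v x = 0 := hxO v hvW
      have hx2 : B w x = 0 := hxO w hwW
      rw [hW, Submodule.mem_span_range_iff_exists_fun] at hxW
      obtain ⟨c, hc⟩ := hxW
      rw [Fin.sum_univ_two] at hc
      simp only [Matrix.cons_val_zero, Matrix.cons_val_one] at hc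
      rw [← hc] at hx1 hx2
      simp only [map_add, map_smul, smul_eq_mul, halt w, halt v, mul_zero, add_zero, zero_add] at hx1 hx2
      have c1 : c 1 = 0 := (mul_eq_zero.mp hx1).resolve_right hw
      have c0 : c 0 = 0 := (mul_eq_zero.mp hx2).resolve_right hwv
      rw [← hc, c0, c1]
      simp
    -- the orthogonal complement is nondegenerate
    have hdisj' : Disjoint (B.orthogonal W) (B.orthogonal (B.orthogonal W)) := by
      rw [LinearMap.BilinForm.orthogonal_orthogonal hnd hrefl W]
      exact hdisj.symm
    have hnd' : (B.restrict (B.orthogonal W)).Nondegenerate :=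
      LinearMap.BilinForm.nondegenerate_restrict_of_disjoint_orthogonal B hrefl hdisj'
    have halt' : (B.restrict (B.orthogonal W)).IsAlt := by
      intro x
      exact halt x
    have hfr' : finrank K (B.orthogonal W) = n - 2 := by
      rw [LinearMap.BilinForm.finrank_orthogonal hnd W, hWfr, hfr]
    have hle : finrank K W ≤ finrank K V := Submodule.finrank_le W
    have h2n : 2 ≤ n := by omega
    have hev : Even (n - 2) := ih (n - 2) (by omega) (B.restrict (B.orthogonal W)) halt' hnd' hfr'
    obtain ⟨k, hk⟩ := hev
    exact ⟨k + 1, by omega⟩

/-- An alternating bilinear form on a finite-dimensional space has even rank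
(phrased with the kernel of the associated map). -/
theorem even_finrank_sub_ker_of_isAlt {K : Type*} [Field K] {V : Type*} [AddCommGroup V] [Module K V]
    [FiniteDimensional K V] (B : LinearMap.BilinForm K V) (halt : B.IsAlt) :
    Even (finrank K V - finrank K (LinearMap.ker B)) := by
  obtain ⟨C, hC⟩ := Submodule.exists_isCompl (LinearMap.ker B)
  have hrefl : B.IsRefl := halt.isRefl
  have hdisj : Disjoint C (B.orthogonal C) := by
    rw [Submodule.disjoint_def]
    intro x hxC hxO
    rw [LinearMap.BilinForm.mem_orthogonal_iff] at hxO
    have hker : x ∈ LinearMap.ker B := by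
      rw [LinearMap.mem_ker]
      ext y
      have hy : y ∈ LinearMap.ker B ⊔ C := by
        rw [hC.sup_eq_top]
        exact Submodule.mem_top
      obtain ⟨r, hr, c, hc, rfl⟩ := Submodule.mem_sup.mp hy
      have h1 : B r x = 0 := by
        rw [LinearMap.mem_ker] at hr
        rw [hr]
        rfl
      have h2 : B c x = 0 := hxO c hc
      have h3 : B x r = 0 := hrefl r x h1
      have h4 : B x c = 0 := hrefl c x h2
      simp [h3, h4]
    have : x ∈ LinearMap.ker B ⊓ C := ⟨hker, hxC⟩
    rw [hC.inf_eq_bot] at this
    exact (Submodule.mem_bot K).mp this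
  have hnd : (B.restrict C).Nondegenerate :=
    LinearMap.BilinForm.nondegenerate_restrict_of_disjoint_orthogonal B hrefl hdisj
  have halt' : (B.restrict C).IsAlt := fun x => halt x
  have hev := even_finrank_of_isAlt_nondegenerate (finrank K C) (B.restrict C) halt' hnd rfl
  have hsum := Submodule.finrank_add_eq_of_isCompl hC
  have : finrank K V - finrank K (LinearMap.ker B) = finrank K C := by omega
  rw [this]
  exact hev

/-- A square matrix `G` over a field with `v ⬝ᵥ G *ᵥ v = 0` for all `v` has even rank. -/
theorem even_rank_of_alternating {K : Type*} [Field K] {ι : Type*} [Fintype ι] [DecidableEq ι]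
    (G : Matrix ι ι K) (hG : ∀ v : ι → K, v ⬝ᵥ (G.mulVec v) = 0) : Even G.rank := by
  have halt : (Matrix.toBilin' G).IsAlt := by
    intro v
    rw [Matrix.toBilin'_apply']
    exact hG v
  have hev := even_finrank_sub_ker_of_isAlt (Matrix.toBilin' G) halt
  -- identify the kernel with the kernel of the transpose
  have hker : finrank K (LinearMap.ker (Matrix.toBilin' G)) = finrank K (LinearMap.ker (G.transpose.mulVecLin)) := by
    have : LinearMap.ker (Matrix.toBilin' G) = LinearMap.ker (G.transpose.mulVecLin) := by
      ext x
      rw [LinearMap.mem_ker, LinearMap.mem_ker, Matrix.mulVecLin_apply]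
      constructor
      · intro h
        ext i
        have := congrArg (fun f => f (Pi.single i 1)) h
        simp only [Matrix.toBilin'_apply', LinearMap.zero_apply] at this
        rw [Matrix.mulVec_single_one, ] at this
        rw [Matrix.mulVec_transpose, Pi.zero_apply]
        rw [← this]
        simp [Matrix.vecMul, dotProduct]
      · intro h
        refine LinearMap.ext fun y => ?_
        rw [Matrix.toBilin'_apply', LinearMap.zero_apply, Matrix.dotProduct_mulVec, ← Matrix.mulVec_transpose, h]
        simp
    rw [this]
  have hrn := LinearMap.finrank_range_add_finrank_ker (G.transpose.mulVecLin)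
  rw [Module.finrank_fintype_fun_eq_card] at hrn hev
  have : G.rank = Fintype.card ι - finrank K (LinearMap.ker (Matrix.toBilin' G)) := by
    rw [hker, ← Matrix.rank_transpose G]
    unfold Matrix.rank
    omega
  rw [this]
  exact hev

end Cfsg.Agent.Helper36
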