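import Mathlib

set_option autoImplicit false

namespace Cfsg.Agent.Helper36

open Module

/-- Normal form basis for a square-zero endomorphism of rank `ℓ > 0`. -/
theorem exists_basis_of_sq_zero {K : Type*} [Field K] {V : Type*} [AddCommGroup V] [Module K V]
    [FiniteDimensional K V] (f : V →ₗ[K] V) (hf : ∀ x, f (f x) = 0) (ℓ : ℕ) (hℓ : 0 < ℓ)
    (hr : finrank K (LinearMap.range f) = ℓ) :
    ∃ b : Basis (Fin ℓ ⊕ (Fin ℓ ⊕ Fin (finrank K V - 2 * ℓ))) K V,
      (∀ i, f (b (Sum.inl i)) = b (Sum.inr (Sum.inl i))) ∧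
      (∀ i, f (b (Sum.inr (Sum.inl i))) = 0) ∧
      (∀ j, f (b (Sum.inr (Sum.inr j))) = 0) := by
  classical
  set R := LinearMap.range f with hR
  set N := LinearMap.ker f with hN
  have hRN : R ≤ N := by
    rintro x ⟨y, rfl⟩
    exact hf y
  -- complement of R inside N
  obtain ⟨W₀, hW₀⟩ := Submodule.exists_isCompl R
  set W := W₀ ⊓ N with hW
  have hRW_sup : R ⊔ W = N := by
    rw [hW, ← sup_inf_assoc_of_le W₀ hRN, hW₀.sup_eq_top, top_inf_eq]
  have hRW_inf : R ⊓ W = ⊥ := by
    rw [eq_bot_iff, hW, ← inf_assoc, hW₀.inf_eq_bot]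
    exact inf_le_left
  have hWN : W ≤ N := inf_le_right
  -- dimension count
  have hrn := LinearMap.finrank_range_add_finrank_ker f
  have hsum := Submodule.finrank_sup_add_finrank_inf_eq R W
  rw [hRW_sup, hRW_inf, finrank_bot, add_zero] at hsum
  have hk : finrank K W = finrank K V - 2 * ℓ := by
    have h1 : finrank K ↥N = ℓ + finrank K ↥W := by rw [hsum, hr]
    have h2 : ℓ + finrank K ↥N = finrank K V := by rw [← hr]; exact hrn
    omega
  -- bases
  let bR : Basis (Fin ℓ) K R := Module.finBasisOfFinrankEq K R hr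
  let bW : Basis (Fin (finrank K V - 2 * ℓ)) K W := Module.finBasisOfFinrankEq K W hk
  have hpre : ∀ i, ∃ v, f v = (bR i : V) := fun i => (bR i).2
  choose v hv using hpre
  let fam : Fin ℓ ⊕ (Fin ℓ ⊕ Fin (finrank K V - 2 * ℓ)) → V :=
    Sum.elim v (Sum.elim (fun i => (bR i : V)) (fun j => (bW j : V)))
  have hliR : LinearIndependent K (fun i => (bR i : V)) :=
    bR.linearIndependent.map' R.subtype (Submodule.ker_subtype R)
  have hliW : LinearIndependent K (fun j => (bW j : V)) :=
    bW.linearIndependent.map' W.subtype (Submodule.ker_subtype W)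
  have hspanR : Submodule.span K (Set.range (fun i => (bR i : V))) = R := by
    have : (fun i => (bR i : V)) = R.subtype ∘ bR := rfl
    rw [this, Set.range_comp, ← Submodule.map_span, bR.span_eq, Submodule.map_top, Submodule.range_subtype]
  have hspanW : Submodule.span K (Set.range (fun j => (bW j : V))) = W := by
    have : (fun j => (bW j : V)) = W.subtype ∘ bW := rfl
    rw [this, Set.range_comp, ← Submodule.map_span, bW.span_eq, Submodule.map_top, Submodule.range_subtype]
  have hliRW : LinearIndependent K (Sum.elim (fun i => (bR i : V)) (fun j => (bW j : V))) := by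
    apply LinearIndependent.sum_type hliR hliW
    rw [hspanR, hspanW, disjoint_iff]
    exact hRW_inf
  have hspanRW : Submodule.span K (Set.range (Sum.elim (fun i => (bR i : V)) (fun j => (bW j : V)))) = N := by
    rw [Set.Sum.elim_range, Submodule.span_union, hspanR, hspanW, hRW_sup]
  have hliv : LinearIndependent K v := by
    apply LinearIndependent.of_comp f
    have : (f ∘ v) = (fun i => (bR i : V)) := by
      funext i
      exact hv i
    rw [this]
    exact hliR
  have hli : LinearIndependent K fam := by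
    apply LinearIndependent.sum_type hliv hliRW
    rw [hspanRW, Submodule.disjoint_def]
    intro x hx hxN
    rw [Submodule.mem_span_range_iff_exists_fun] at hx
    obtain ⟨c, rfl⟩ := hx
    have hfx : f (∑ i, c i • v i) = 0 := hxN
    rw [map_sum] at hfx
    simp only [map_smul, hv] at hfx
    have hc := (Fintype.linearIndependent_iff.mp hliR) c hfx
    simp [hc]
  have hcard : Fintype.card (Fin ℓ ⊕ (Fin ℓ ⊕ Fin (finrank K V - 2 * ℓ))) = finrank K V := by
    simp only [Fintype.card_sum, Fintype.card_fin]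
    have h1 : finrank K ↥N = ℓ + finrank K ↥W := by rw [hsum, hr]
    have h2 : ℓ + finrank K ↥N = finrank K V := by rw [← hr]; exact hrn
    omega
  have : Nonempty (Fin ℓ ⊕ (Fin ℓ ⊕ Fin (finrank K V - 2 * ℓ))) := ⟨Sum.inl ⟨0, hℓ⟩⟩
  refine ⟨basisOfLinearIndependentOfCardEqFinrank hli hcard, ?_, ?_, ?_⟩
  · intro i
    rw [coe_basisOfLinearIndependentOfCardEqFinrank]
    exact hv i
  · intro i
    rw [coe_basisOfLinearIndependentOfCardEqFinrank]
    exact hRN (bR i).2
  · intro j
    rw [coe_basisOfLinearIndependentOfCardEqFinrank]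
    exact hWN (bW j).2

/-- Two square-zero endomorphisms of the same positive rank are conjugate by an automorphism of
determinant one, provided every scalar is a square. -/
theorem exists_conj_of_sq_zero {K : Type*} [Field K] {V : Type*} [AddCommGroup V] [Module K V]
    [FiniteDimensional K V] (f g : V →ₗ[K] V) (hf : ∀ x, f (f x) = 0) (hg : ∀ x, g (g x) = 0)
    (ℓ : ℕ) (hℓ : 0 < ℓ) (hrf : finrank K (LinearMap.range f) = ℓ)
    (hrg : finrank K (LinearMap.range g) = ℓ) (hsq : ∀ d : K, ∃ μ : K, μ * μ = d) :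
    ∃ e : V ≃ₗ[K] V, LinearMap.det (e : V →ₗ[K] V) = 1 ∧ ∀ x, e (f x) = g (e x) := by
  classical
  obtain ⟨bf, hf1, hf2, hf3⟩ := exists_basis_of_sq_zero f hf ℓ hℓ hrf
  obtain ⟨bg, hg1, hg2, hg3⟩ := exists_basis_of_sq_zero g hg ℓ hℓ hrg
  let e₀ : V ≃ₗ[K] V := bf.equiv bg (Equiv.refl _)
  have hδ : IsUnit (LinearMap.det (e₀ : V →ₗ[K] V)) := LinearEquiv.isUnit_det' e₀
  set δ := LinearMap.det (e₀ : V →ₗ[K] V) with hδdef
  have hδ0 : δ ≠ 0 := hδ.ne_zero
  obtain ⟨μ, hμ⟩ := hsq δ⁻¹
  have hμ0 : μ ≠ 0 := by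
    rintro rfl
    rw [mul_zero] at hμ
    exact (inv_ne_zero hδ0) hμ.symm
  let ν : Kˣ := Units.mk0 μ hμ0
  let i0 : Fin ℓ := ⟨0, hℓ⟩
  let w : Fin ℓ ⊕ (Fin ℓ ⊕ Fin (finrank K V - 2 * ℓ)) → Kˣ :=
    Sum.elim (fun i => if i = i0 then ν else 1) (Sum.elim (fun i => if i = i0 then ν else 1) (fun _ => 1))
  let c : V ≃ₗ[K] V := bf.equiv (bf.unitsSMul w) (Equiv.refl _)
  have hc : ∀ i, c (bf i) = (w i : K) • bf i := by
    intro i
    show (bf.equiv (bf.unitsSMul w) (Equiv.refl _)) (bf i) = _
    rw [Basis.equiv_apply, Equiv.refl_apply, Basis.unitsSMul_apply, Units.smul_def]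
  have hdetc : LinearMap.det (c : V →ₗ[K] V) = δ⁻¹ := by
    rw [← LinearMap.det_toMatrix bf]
    have hmat : LinearMap.toMatrix bf bf (c : V →ₗ[K] V) = Matrix.diagonal (fun i => (w i : K)) := by
      ext i j
      rw [LinearMap.toMatrix_apply, LinearEquiv.coe_coe, hc, map_smul, Basis.repr_self, Matrix.diagonal_apply]
      by_cases hij : i = j
      · subst hij
        simp
      · rw [if_neg hij]
        simp [Ne.symm hij]
    rw [hmat, Matrix.det_diagonal, Fintype.prod_sum_type, Fintype.prod_sum_type]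
    simp only [w, Sum.elim_inl, Sum.elim_inr]
    have h1 : ∏ a₁ : Fin ℓ, ((if a₁ = i0 then ν else 1 : Kˣ) : K) = μ := by
      rw [Finset.prod_eq_single i0]
      · simp [ν]
      · intro b _ hb
        simp [hb]
      · intro h
        exact absurd (Finset.mem_univ _) h
    rw [h1]
    simp [hμ]
  let e : V ≃ₗ[K] V := c.trans e₀
  have he : ∀ i, e (bf i) = (w i : K) • bg i := by
    intro i
    show e₀ (c (bf i)) = _
    rw [hc, map_smul]
    show (w i : K) • (bf.equiv bg (Equiv.refl _)) (bf i) = _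
    rw [Basis.equiv_apply, Equiv.refl_apply]
  refine ⟨e, ?_, ?_⟩
  · have : (e : V →ₗ[K] V) = (e₀ : V →ₗ[K] V) ∘ₗ (c : V →ₗ[K] V) := rfl
    rw [this, LinearMap.det_comp, hdetc]
    exact mul_inv_cancel₀ hδ0
  · have hlin : (e : V →ₗ[K] V) ∘ₗ f = g ∘ₗ (e : V →ₗ[K] V) := by
      apply bf.ext
      intro i
      simp only [LinearMap.comp_apply, LinearEquiv.coe_coe]
      rcases i with i | i | j
      · rw [hf1, he, he, map_smul, hg1]
        rfl
      · rw [hf2, he, map_smul, hg2, map_zero, smul_zero]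
      · rw [hf3, he, map_smul, hg3, map_zero, smul_zero]
    intro x
    exact LinearMap.congr_fun hlin x

end Cfsg.Agent.Helper36
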