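import Mathlib

set_option autoImplicit false

namespace Cfsg.Agent.Helper36

open Module

/-- A nondegenerate alternating form has a symplectic (hyperbolic) family of half the dimension. -/
theorem exists_hyperbolic_family {K : Type*} [Field K] :
    ∀ (n : ℕ) {V : Type*} [AddCommGroup V] [Module K V] [FiniteDimensional K V]
      (B : LinearMap.BilinForm K V), B.IsAlt → B.Nondegenerate → finrank K V = n →
      ∃ (r : ℕ) (a b : Fin r → V), n = 2 * r ∧ (∀ i j, B (a i) (b j) = if i = j then 1 else 0) ∧
        (∀ i j, B (a i) (a j) = 0) ∧ (∀ i j, B (b i) (b j) = 0) := by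
  intro n
  induction n using Nat.strong_induction_on with
  | _ n ih =>
    intro V _ _ _ B halt hnd hfr
    by_cases hn : n = 0
    · refine ⟨0, Fin.elim0, Fin.elim0, by omega, ?_, ?_, ?_⟩ <;> intro i <;> exact i.elim0
    have hpos : 0 < finrank K V := by omega
    obtain ⟨v, hv⟩ := (finrank_pos_iff_exists_ne_zero (R := K) (M := V)).mp hpos
    have hw : ∃ w, B v w ≠ 0 := by
      by_contra hcon
      have hcon' : ∀ w, B v w = 0 := fun w => by
        by_contra h
        exact hcon ⟨w, h⟩
      exact hv (hnd.1 v hcon')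
    obtain ⟨w₀, hw₀⟩ := hw
    -- normalise
    set w : V := (B v w₀)⁻¹ • w₀ with hwdef
    have hvw : B v w = 1 := by
      rw [hwdef, map_smul, smul_eq_mul, inv_mul_cancel₀ hw₀]
    have hwv : B w v = -1 := by
      rw [← halt.neg_eq v w, hvw]
    have hrefl : B.IsRefl := halt.isRefl
    have hli : LinearIndependent K ![v, w] := by
      rw [LinearIndependent.pair_iff]
      intro s t hst
      have e1 : B (s • v + t • w) w = 0 := by rw [hst]; simp
      have e2 : B (s • v + t • w) v = 0 := by rw [hst]; simp
      simp only [map_add, map_smul, LinearMap.add_apply, LinearMap.smul_apply, smul_eq_mul,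
        halt w, halt v, mul_zero, add_zero, zero_add, hvw, hwv, mul_one, mul_neg, neg_eq_zero] at e1 e2
      exact ⟨e1, e2⟩
    set W : Submodule K V := Submodule.span K (Set.range ![v, w]) with hW
    have hWfr : finrank K W = 2 := by
      rw [hW, finrank_span_eq_card hli]
      simp
    have hvW : v ∈ W := Submodule.subset_span ⟨0, rfl⟩
    have hwW : w ∈ W := Submodule.subset_span ⟨1, rfl⟩
    have hdisj : Disjoint W (B.orthogonal W) := by
      rw [Submodule.disjoint_def]
      intro x hxW hxO
      rw [LinearMap.BilinForm.mem_orthogonal_iff] at hxO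
      have hx1 : B v x = 0 := hxO v hvW
      have hx2 : B w x = 0 := hxO w hwW
      rw [hW, Submodule.mem_span_range_iff_exists_fun] at hxW
      obtain ⟨c, hc⟩ := hxW
      rw [Fin.sum_univ_two] at hc
      simp only [Matrix.cons_val_zero, Matrix.cons_val_one] at hc
      rw [← hc] at hx1 hx2
      simp only [map_add, map_smul, smul_eq_mul, halt w, halt v, mul_zero, add_zero, zero_add, hvw, hwv,
        mul_one, mul_neg, neg_eq_zero] at hx1 hx2
      rw [← hc, hx1, hx2]
      simp
    have hdisj' : Disjoint (B.orthogonal W) (B.orthogonal (B.orthogonal W)) := by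
      rw [LinearMap.BilinForm.orthogonal_orthogonal hnd hrefl W]
      exact hdisj.symm
    have hnd' : (B.restrict (B.orthogonal W)).Nondegenerate :=
      LinearMap.BilinForm.nondegenerate_restrict_of_disjoint_orthogonal B hrefl hdisj'
    have halt' : (B.restrict (B.orthogonal W)).IsAlt := fun x => halt x
    have hfr' : finrank K (B.orthogonal W) = n - 2 := by
      rw [LinearMap.BilinForm.finrank_orthogonal hnd W, hWfr, hfr]
    have hle : finrank K W ≤ finrank K V := Submodule.finrank_le W
    have h2n : 2 ≤ n := by omega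
    obtain ⟨r, a, b, hr, hab, haa, hbb⟩ := ih (n - 2) (by omega) (B.restrict (B.orthogonal W)) halt' hnd' hfr'
    have horth : ∀ x : B.orthogonal W, B v x = 0 ∧ B w x = 0 ∧ B x v = 0 ∧ B x w = 0 := by
      intro x
      have hx := (LinearMap.BilinForm.mem_orthogonal_iff.mp x.2)
      exact ⟨hx v hvW, hx w hwW, hrefl _ _ (hx v hvW), hrefl _ _ (hx w hwW)⟩
    refine ⟨r + 1, Fin.cons v (fun i => (a i : V)), Fin.cons w (fun i => (b i : V)), by omega, ?_, ?_, ?_⟩
    · intro i j
      refine Fin.cases ?_ (fun i' => ?_) i <;> refine Fin.cases ?_ (fun j' => ?_) j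
      · simp [hvw]
      · simp only [Fin.cons_zero, Fin.cons_succ]
        rw [(horth (b j')).1]
        simp [Fin.ext_iff]
      · simp only [Fin.cons_zero, Fin.cons_succ]
        rw [(horth (a i')).2.2.2]
        simp [Fin.ext_iff]
      · simp only [Fin.cons_succ]
        have := hab i' j'
        simp only [LinearMap.BilinForm.restrict_apply, LinearMap.domRestrict_apply] at this
        rw [this]
        simp [Fin.ext_iff]
    · intro i j
      refine Fin.cases ?_ (fun i' => ?_) i <;> refine Fin.cases ?_ (fun j' => ?_) j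
      · simp [halt v]
      · simp only [Fin.cons_zero, Fin.cons_succ]
        exact (horth (a j')).1
      · simp only [Fin.cons_zero, Fin.cons_succ]
        exact (horth (a i')).2.2.1
      · simp only [Fin.cons_succ]
        exact haa i' j'
    · intro i j
      refine Fin.cases ?_ (fun i' => ?_) i <;> refine Fin.cases ?_ (fun j' => ?_) j
      · simp [halt w]
      · simp only [Fin.cons_zero, Fin.cons_succ]
        exact (horth (b j')).2.1
      · simp only [Fin.cons_zero, Fin.cons_succ]
        exact (horth (b i')).2.2.2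
      · simp only [Fin.cons_succ]
        exact hbb i' j'

/-- Over a field of characteristic two in which every element is a square, a nondegenerate symmetric
bilinear form that is not alternating has an orthonormal family of full size. -/
theorem exists_orthonormal_family {K : Type*} [Field K] [CharP K 2] (hsq : ∀ d : K, ∃ μ : K, μ * μ = d) :
    ∀ (n : ℕ) {V : Type*} [AddCommGroup V] [Module K V] [FiniteDimensional K V]
      (S : LinearMap.BilinForm K V), S.IsSymm → S.Nondegenerate → ¬ S.IsAlt → finrank K V = n →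
      ∃ u : Fin n → V, ∀ i j, S (u i) (u j) = if i = j then 1 else 0 := by
  intro n
  induction n with
  | zero =>
    intro V _ _ _ S _ _ _ _
    exact ⟨Fin.elim0, fun i => i.elim0⟩
  | succ n ih =>
    intro V _ _ _ S hsymm hnd hnalt hfr
    have hrefl : S.IsRefl := hsymm.isRefl
    have hsymm' : ∀ x y, S x y = S y x := fun x y => hsymm.eq x y
    -- a vector of norm one
    have h0 : ∃ v₀, S v₀ v₀ ≠ 0 := by
      by_contra hcon
      apply hnalt
      intro v
      by_contra h
      exact hcon ⟨v, h⟩
    obtain ⟨v₀, hv₀⟩ := h0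
    obtain ⟨μ, hμ⟩ := hsq (S v₀ v₀)⁻¹
    set v₁ : V := μ • v₀ with hv₁def
    have hv₁ : S v₁ v₁ = 1 := by
      simp only [hv₁def, map_smul, LinearMap.smul_apply, smul_eq_mul]
      rw [← mul_assoc, hμ, inv_mul_cancel₀ hv₀]
    -- the key claim
    have key : ∃ v, S v v = 1 ∧ (n = 0 ∨ ¬ (S.restrict (S.orthogonal (K ∙ v))).IsAlt) := by
      by_cases hn : n = 0
      · exact ⟨v₁, hv₁, Or.inl hn⟩
      by_cases halt1 : (S.restrict (S.orthogonal (K ∙ v₁))).IsAlt
      · -- the complement is alternating and nonzero: modify v₁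
        have hv₁ne : S v₁ v₁ ≠ 0 := by rw [hv₁]; exact one_ne_zero
        have hnd1 : (S.restrict (S.orthogonal (K ∙ v₁))).Nondegenerate :=
          LinearMap.BilinForm.restrict_nondegenerate_orthogonal_spanSingleton S hnd hrefl hv₁ne
        have hv₁0 : v₁ ≠ 0 := LinearMap.BilinForm.ne_zero_of_not_isOrtho_self v₁ hv₁ne
        have hfr1 : finrank K (S.orthogonal (K ∙ v₁)) = n := by
          rw [LinearMap.BilinForm.finrank_orthogonal hnd, hfr, finrank_span_singleton hv₁0]
          omega
        have hpos : 0 < finrank K (S.orthogonal (K ∙ v₁)) := by omega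
        obtain ⟨e, he⟩ := (finrank_pos_iff_exists_ne_zero (R := K) (M := S.orthogonal (K ∙ v₁))).mp hpos
        have hf : ∃ f, (S.restrict (S.orthogonal (K ∙ v₁))) e f ≠ 0 := by
          by_contra hcon
          have hcon' : ∀ f, (S.restrict (S.orthogonal (K ∙ v₁))) e f = 0 := fun f => by
            by_contra h
            exact hcon ⟨f, h⟩
          exact he (hnd1.1 e hcon')
        obtain ⟨f₀, hf₀⟩ := hf
        have hf₀' : S (e : V) (f₀ : V) ≠ 0 := hf₀
        set f : V := (S (e : V) (f₀ : V))⁻¹ • (f₀ : V) with hfdef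
        have hef : S (e : V) f = 1 := by
          rw [hfdef, map_smul, smul_eq_mul, inv_mul_cancel₀ hf₀']
        have horth : ∀ y : S.orthogonal (K ∙ v₁), S v₁ (y : V) = 0 := by
          intro y
          exact (LinearMap.BilinForm.mem_orthogonal_iff.mp y.2) v₁ (Submodule.mem_span_singleton_self v₁)
        have hv₁e : S v₁ (e : V) = 0 := horth e
        have hv₁f : S v₁ f = 0 := by
          rw [hfdef, map_smul, horth f₀, smul_zero]
        have hee : S (e : V) (e : V) = 0 := halt1 e
        have hff : S f f = 0 := by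
          have : S (f₀ : V) (f₀ : V) = 0 := halt1 f₀
          simp only [hfdef, map_smul, LinearMap.smul_apply, smul_eq_mul, this, mul_zero]
        have h11 : (1 : K) + 1 = 0 := CharTwo.add_self_eq_zero 1
        refine ⟨v₁ + e, ?_, Or.inr ?_⟩
        · simp only [map_add, LinearMap.add_apply, hv₁, hv₁e, hsymm' (e : V) v₁, hee]
          simp
        · intro halt2
          have hx : v₁ + f ∈ S.orthogonal (K ∙ (v₁ + (e : V))) := by
            rw [LinearMap.BilinForm.mem_orthogonal_iff]
            intro y hy
            obtain ⟨c, rfl⟩ := Submodule.mem_span_singleton.mp hy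
            simp only [map_smul, LinearMap.smul_apply, map_add, LinearMap.add_apply,
              hv₁, hv₁f, hsymm' (e : V) v₁, hv₁e, hef]
            simp only [zero_add, add_zero, smul_eq_mul, mul_one]
            exact CharTwo.add_self_eq_zero c
          have := halt2 ⟨v₁ + f, hx⟩
          simp only [LinearMap.BilinForm.restrict_apply, LinearMap.domRestrict_apply] at this
          simp only [map_add, LinearMap.add_apply, hv₁, hv₁f, hsymm' f v₁, hff] at this
          simp at this
      · exact ⟨v₁, hv₁, Or.inr halt1⟩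
    obtain ⟨v, hv, hcase⟩ := key
    have hvne : S v v ≠ 0 := by rw [hv]; exact one_ne_zero
    have hv0 : v ≠ 0 := LinearMap.BilinForm.ne_zero_of_not_isOrtho_self v hvne
    rcases hcase with hn | hnalt'
    · subst hn
      refine ⟨fun _ => v, ?_⟩
      intro i j
      have : i = j := by
        apply Fin.ext
        have := i.isLt
        have := j.isLt
        omega
      rw [if_pos this, hv]
    · have hnd' : (S.restrict (S.orthogonal (K ∙ v))).Nondegenerate :=
        LinearMap.BilinForm.restrict_nondegenerate_orthogonal_spanSingleton S hnd hrefl hvne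
      have hfr' : finrank K (S.orthogonal (K ∙ v)) = n := by
        rw [LinearMap.BilinForm.finrank_orthogonal hnd, hfr, finrank_span_singleton hv0]
        omega
      have hsymmr : (S.restrict (S.orthogonal (K ∙ v))).IsSymm := by
        constructor
        intro x y
        exact hsymm.eq x y
      obtain ⟨u', hu'⟩ := ih (S.restrict (S.orthogonal (K ∙ v))) hsymmr hnd' hnalt' hfr'
      have horth : ∀ y : S.orthogonal (K ∙ v), S v (y : V) = 0 := by
        intro y
        exact (LinearMap.BilinForm.mem_orthogonal_iff.mp y.2) v (Submodule.mem_span_singleton_self v)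
      refine ⟨Fin.cons v (fun i => (u' i : V)), ?_⟩
      intro i j
      refine Fin.cases ?_ (fun i' => ?_) i <;> refine Fin.cases ?_ (fun j' => ?_) j
      · simp [hv]
      · simp only [Fin.cons_zero, Fin.cons_succ]
        rw [horth (u' j')]
        simp [Fin.ext_iff]
      · simp only [Fin.cons_zero, Fin.cons_succ]
        rw [hsymm' _ v, horth (u' i')]
        simp [Fin.ext_iff]
      · simp only [Fin.cons_succ]
        have := hu' i' j'
        simp only [LinearMap.BilinForm.restrict_apply, LinearMap.domRestrict_apply] at this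
        rw [this]
        simp [Fin.ext_iff]

/-- In characteristic two an alternating form is symmetric. -/
theorem isAlt_symm {K : Type*} [Field K] [CharP K 2] {V : Type*} [AddCommGroup V] [Module K V]
    (B : LinearMap.BilinForm K V) (halt : B.IsAlt) (x y : V) : B x y = B y x := by
  have := halt.neg_eq x y
  rw [← this, CharTwo.neg_eq]

/-- Lifting: given a square-zero `B`-selfadjoint `N` and vectors `u i` whose matrix `B (u i) (N (u j))` is
invertible, the `u i` can be modified by elements of the range of `N` to become pairwise `B`-orthogonal. -/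
theorem exists_isotropic_lift {K : Type*} [Field K] [CharP K 2] {V : Type*} [AddCommGroup V] [Module K V]
    (B : LinearMap.BilinForm K V) (halt : B.IsAlt) (N : V →ₗ[K] V) (hN2 : ∀ x, N (N x) = 0)
    (hNadj : ∀ x y, B (N x) y = B x (N y))
    {I : Type*} [Fintype I] [DecidableEq I] (u : I → V)
    (hS₀ : IsUnit (Matrix.of fun i j => B (u i) (N (u j))).det) :
    ∃ u' : I → V, (∀ i, N (u' i) = N (u i)) ∧ (∀ i j, B (u' i) (u' j) = 0) ∧
      (∀ i j, B (u' i) (N (u j)) = B (u i) (N (u j))) := by
  classical
  have hsymm := isAlt_symm B halt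
  set S₀ : Matrix I I K := Matrix.of fun i j => B (u i) (N (u j)) with hS₀def
  have hS₀symm : ∀ i j, S₀ i j = S₀ j i := by
    intro i j
    simp only [hS₀def, Matrix.of_apply]
    rw [← hNadj, hsymm]
  have hww : ∀ i j, B (N (u i)) (N (u j)) = 0 := by
    intro i j
    rw [hNadj, hN2, map_zero]
  let e := Fintype.equivFin I
  let c : Matrix I I K := Matrix.of fun i j => B (u i) (u j)
  let Y : Matrix I I K := Matrix.of fun i j => if e i < e j then c i j else 0
  have hY : ∀ i j, Y i j + Y j i = c i j := by
    intro i j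
    simp only [Y, c, Matrix.of_apply]
    rcases lt_trichotomy (e i) (e j) with h | h | h
    · rw [if_pos h, if_neg (not_lt.mpr h.le), add_zero]
    · have : i = j := e.injective h
      subst this
      simp [halt (u i)]
    · rw [if_neg (not_lt.mpr h.le), if_pos h, zero_add, hsymm]
  let A : Matrix I I K := Y * S₀⁻¹
  have hA : A * S₀ = Y := Matrix.nonsing_inv_mul_cancel_right S₀ Y hS₀
  have hAS : ∀ i j, ∑ k, A i k * S₀ k j = Y i j := by
    intro i j
    rw [← hA, Matrix.mul_apply]
  refine ⟨fun i => u i + ∑ k, A i k • N (u k), ?_, ?_, ?_⟩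
  · intro i
    simp only [map_add, map_sum, map_smul, hN2, smul_zero, Finset.sum_const_zero, add_zero]
  · intro i j
    simp only [map_add, LinearMap.add_apply, map_sum, LinearMap.sum_apply, map_smul, LinearMap.smul_apply,
      smul_eq_mul, hww, mul_zero, Finset.sum_const_zero, add_zero]
    have h1 : ∑ k, A j k * B (u i) (N (u k)) = Y j i := by
      rw [← hAS j i]
      apply Finset.sum_congr rfl
      intro k _
      show A j k * S₀ i k = A j k * S₀ k i
      rw [hS₀symm]
    have h2 : ∑ k, A i k * B (N (u k)) (u j) = Y i j := by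
      rw [← hAS i j]
      apply Finset.sum_congr rfl
      intro k _
      show A i k * B (N (u k)) (u j) = A i k * S₀ k j
      rw [hsymm (N (u k)) (u j), ← hS₀symm]
      rfl
    rw [h1, h2]
    have : B (u i) (u j) = c i j := rfl
    rw [this, ← hY i j]
    have h3 : ∀ a b : K, a + b + a + b = 0 := by
      intro a b
      have : a + b + a + b = (a + a) + (b + b) := by ring
      rw [this, CharTwo.add_self_eq_zero, CharTwo.add_self_eq_zero, add_zero]
    exact h3 _ _
  · intro i j
    simp only [map_add, LinearMap.add_apply, map_sum, LinearMap.sum_apply, map_smul, LinearMap.smul_apply,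
      smul_eq_mul, hww, mul_zero, Finset.sum_const_zero, add_zero]

/-- index type of an adapted basis -/
abbrev AdIdx (I : Type*) (r : ℕ) := I ⊕ (I ⊕ (Fin r ⊕ Fin r))

/-- the standard Gram matrix of an adapted basis -/
def stdGram {K : Type*} [Field K] {I : Type*} (S₀ : Matrix I I K) (r : ℕ) : AdIdx I r → AdIdx I r → K
  | .inl i, .inr (.inl j) => S₀ i j
  | .inr (.inl i), .inl j => S₀ j i
  | .inr (.inr (.inl p)), .inr (.inr (.inr q)) => if p = q then 1 else 0
  | .inr (.inr (.inr q)), .inr (.inr (.inl p)) => if p = q then 1 else 0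
  | _, _ => 0

theorem exists_adapted_basis {K : Type*} [Field K] [CharP K 2] {V : Type*} [AddCommGroup V] [Module K V]
    [FiniteDimensional K V]
    (B : LinearMap.BilinForm K V) (halt : B.IsAlt) (hnd : B.Nondegenerate)
    (N : V →ₗ[K] V) (hN2 : ∀ x, N (N x) = 0) (hNadj : ∀ x y, B (N x) y = B x (N y))
    {I : Type*} [Fintype I] [DecidableEq I] (u₀ : I → V) (S₀ : Matrix I I K)
    (hS₀eq : ∀ i j, B (u₀ i) (N (u₀ j)) = S₀ i j) (hS₀ : IsUnit S₀.det)
    (hcard : Fintype.card I = finrank K (LinearMap.range N)) :
    ∃ (r : ℕ) (b : Basis (AdIdx I r) K V), (∀ x y, B (b x) (b y) = stdGram S₀ r x y) ∧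
      (∀ i, N (b (.inl i)) = b (.inr (.inl i))) ∧ (∀ i, N (b (.inr (.inl i))) = 0) ∧
      (∀ z, N (b (.inr (.inr z))) = 0) := by
  classical
  have hsymm := isAlt_symm B halt
  have hrefl : B.IsRefl := halt.isRefl
  have hS₀' : IsUnit (Matrix.of fun i j => B (u₀ i) (N (u₀ j))).det := by
    have : (Matrix.of fun i j => B (u₀ i) (N (u₀ j))) = S₀ := by
      ext i j
      exact hS₀eq i j
    rw [this]
    exact hS₀
  obtain ⟨u, hNu, huu, huw₀⟩ := exists_isotropic_lift B halt N hN2 hNadj u₀ hS₀'
  set w : I → V := fun i => N (u i) with hwdef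
  have hw₀ : ∀ i, w i = N (u₀ i) := fun i => hNu i
  have huw : ∀ i j, B (u i) (w j) = S₀ i j := by
    intro i j
    rw [hw₀, huw₀, hS₀eq]
  have hwu : ∀ i j, B (w i) (u j) = S₀ j i := by
    intro i j
    rw [hsymm, huw]
  have hww : ∀ i j, B (w i) (w j) = 0 := by
    intro i j
    simp only [hwdef]
    rw [hNadj, hN2, map_zero]
  have hNw : ∀ i, N (w i) = 0 := fun i => hN2 (u i)
  have hdet : S₀.det ≠ 0 := hS₀.ne_zero
  -- solving the two small systems
  have solve : ∀ (a c : I → K) (x : V), x = ∑ i, a i • u i + ∑ i, c i • w i →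
      (∀ j, B (w j) x = 0) → (∀ j, B (u j) x = 0) → a = 0 ∧ c = 0 := by
    intro a c x hx h1 h2
    constructor
    · apply Matrix.eq_zero_of_vecMul_eq_zero hdet
      funext j
      have := h1 j
      rw [hx] at this
      simp only [map_add, map_sum, map_smul, smul_eq_mul, hww, hwu, mul_zero, Finset.sum_const_zero,
        add_zero] at this
      simp only [Matrix.vecMul, dotProduct, Pi.zero_apply]
      exact this
    · apply Matrix.eq_zero_of_mulVec_eq_zero hdet
      funext j
      have := h2 j
      rw [hx] at this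
      simp only [map_add, map_sum, map_smul, smul_eq_mul, huu, huw, mul_zero, Finset.sum_const_zero,
        zero_add] at this
      simp only [Matrix.mulVec, dotProduct, Pi.zero_apply]
      rw [← this]
      apply Finset.sum_congr rfl
      intro i _
      ring
  -- the span of the w's is the range of N
  have hwli : LinearIndependent K w := by
    rw [Fintype.linearIndependent_iff]
    intro c hc
    have := solve 0 c 0 (by simp [hc]) (by simp) (by simp)
    intro i
    rw [this.2]
    rfl
  have hspanw : Submodule.span K (Set.range w) = LinearMap.range N := by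
    apply Submodule.eq_of_le_of_finrank_eq
    · rw [Submodule.span_le]
      rintro _ ⟨i, rfl⟩
      exact ⟨u i, rfl⟩
    · rw [finrank_span_eq_card hwli, hcard]
  -- the subspace H
  set H : Submodule K V := Submodule.span K (Set.range (Sum.elim u w)) with hH
  have huH : ∀ i, u i ∈ H := fun i => Submodule.subset_span ⟨Sum.inl i, rfl⟩
  have hwH : ∀ i, w i ∈ H := fun i => Submodule.subset_span ⟨Sum.inr i, rfl⟩
  have hHmem : ∀ x ∈ H, ∃ a c : I → K, x = ∑ i, a i • u i + ∑ i, c i • w i := by
    intro x hx
    rw [hH, Submodule.mem_span_range_iff_exists_fun] at hx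
    obtain ⟨g, rfl⟩ := hx
    refine ⟨fun i => g (Sum.inl i), fun i => g (Sum.inr i), ?_⟩
    rw [Fintype.sum_sum_type]
    rfl
  have hdisj : Disjoint H (B.orthogonal H) := by
    rw [Submodule.disjoint_def]
    intro x hxH hxO
    rw [LinearMap.BilinForm.mem_orthogonal_iff] at hxO
    obtain ⟨a, c, hx⟩ := hHmem x hxH
    have := solve a c x hx (fun j => hxO _ (hwH j)) (fun j => hxO _ (huH j))
    rw [hx, this.1, this.2]
    simp
  have hcompl : IsCompl H (B.orthogonal H) :=
    (LinearMap.BilinForm.isCompl_orthogonal_iff_disjoint hrefl).mpr hdisj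
  have hdisj' : Disjoint (B.orthogonal H) (B.orthogonal (B.orthogonal H)) := by
    rw [LinearMap.BilinForm.orthogonal_orthogonal hnd hrefl H]
    exact hdisj.symm
  have hnd' : (B.restrict (B.orthogonal H)).Nondegenerate :=
    LinearMap.BilinForm.nondegenerate_restrict_of_disjoint_orthogonal B hrefl hdisj'
  have halt' : (B.restrict (B.orthogonal H)).IsAlt := fun x => halt x
  obtain ⟨r, a, b, hr, hab, haa, hbb⟩ :=
    exists_hyperbolic_family (finrank K (B.orthogonal H)) (B.restrict (B.orthogonal H)) halt' hnd' rfl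
  have hab' : ∀ p q, B (a p : V) (b q : V) = if p = q then 1 else 0 := hab
  have hba' : ∀ p q, B (b q : V) (a p : V) = if p = q then 1 else 0 := by
    intro p q
    rw [hsymm, hab']
  have haa' : ∀ p q, B (a p : V) (a q : V) = 0 := haa
  have hbb' : ∀ p q, B (b p : V) (b q : V) = 0 := hbb
  -- orthogonality between H and its complement
  have hHO : ∀ x ∈ H, ∀ y : B.orthogonal H, B x (y : V) = 0 := by
    intro x hx y
    exact (LinearMap.BilinForm.mem_orthogonal_iff.mp y.2) x hx
  have hOH : ∀ x ∈ H, ∀ y : B.orthogonal H, B (y : V) x = 0 := by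
    intro x hx y
    rw [hsymm]
    exact hHO x hx y
  -- N vanishes on the complement
  have hNO : ∀ y : B.orthogonal H, N (y : V) = 0 := by
    intro y
    apply hnd.1
    intro z
    rw [hNadj]
    have hz : N z ∈ Submodule.span K (Set.range w) := by
      rw [hspanw]
      exact ⟨z, rfl⟩
    rw [Submodule.mem_span_range_iff_exists_fun] at hz
    obtain ⟨c, hc⟩ := hz
    rw [← hc]
    simp only [map_sum, map_smul, smul_eq_mul]
    apply Finset.sum_eq_zero
    intro i _
    rw [hOH _ (hwH i) y, mul_zero]
  -- the family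
  let fam : AdIdx I r → V :=
    Sum.elim u (Sum.elim w (Sum.elim (fun p => (a p : V)) (fun q => (b q : V))))
  have hgram : ∀ x y, B (fam x) (fam y) = stdGram S₀ r x y := by
    intro x y
    rcases x with i | i | p | q <;> rcases y with j | j | p' | q'
    · exact huu i j
    · exact huw i j
    · exact hHO _ (huH i) (a p')
    · exact hHO _ (huH i) (b q')
    · exact hwu i j
    · exact hww i j
    · exact hHO _ (hwH i) (a p')
    · exact hHO _ (hwH i) (b q')
    · exact hOH _ (huH j) (a p)
    · exact hOH _ (hwH j) (a p)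
    · exact haa' p p'
    · exact hab' p q'
    · exact hOH _ (huH j) (b q)
    · exact hOH _ (hwH j) (b q)
    · exact hba' p' q
    · exact hbb' q q'
  have hli : LinearIndependent K fam := by
    rw [Fintype.linearIndependent_iff]
    intro g hg
    -- apply B (fam y) to the relation
    have hrel : ∀ y, ∑ x, g x * stdGram S₀ r y x = 0 := by
      intro y
      have := congrArg (fun v => B (fam y) v) hg
      simp only [map_sum, map_smul, smul_eq_mul, map_zero, hgram] at this
      exact this
    have h1 : (fun i => g (Sum.inl i)) = 0 := by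
      apply Matrix.eq_zero_of_vecMul_eq_zero hdet
      funext j
      have := hrel (Sum.inr (Sum.inl j))
      simp only [Fintype.sum_sum_type, stdGram, mul_zero, Finset.sum_const_zero, add_zero] at this
      simp only [Matrix.vecMul, dotProduct, Pi.zero_apply]
      exact this
    have h2 : (fun i => g (Sum.inr (Sum.inl i))) = 0 := by
      apply Matrix.eq_zero_of_mulVec_eq_zero hdet
      funext j
      have := hrel (Sum.inl j)
      simp only [Fintype.sum_sum_type, stdGram, mul_zero, Finset.sum_const_zero, add_zero, zero_add] at this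
      simp only [Matrix.mulVec, dotProduct, Pi.zero_apply]
      rw [← this]
      apply Finset.sum_congr rfl
      intro i _
      ring
    have h3 : ∀ p, g (Sum.inr (Sum.inr (Sum.inl p))) = 0 := by
      intro p
      have := hrel (Sum.inr (Sum.inr (Sum.inr p)))
      simp only [Fintype.sum_sum_type, stdGram, mul_zero, Finset.sum_const_zero, add_zero, zero_add] at this
      simpa using this
    have h4 : ∀ q, g (Sum.inr (Sum.inr (Sum.inr q))) = 0 := by
      intro q
      have := hrel (Sum.inr (Sum.inr (Sum.inl q)))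
      simp only [Fintype.sum_sum_type, stdGram, mul_zero, Finset.sum_const_zero, add_zero, zero_add] at this
      simpa using this
    intro x
    rcases x with i | i | p | q
    · exact congrFun h1 i
    · exact congrFun h2 i
    · exact h3 p
    · exact h4 q
  have hcardeq : Fintype.card (AdIdx I r) = finrank K V := by
    apply le_antisymm
    · exact hli.fintype_card_le_finrank
    · have h1 : finrank K H ≤ Fintype.card (I ⊕ I) := by
        rw [hH]
        exact finrank_range_le_card (Sum.elim u w)
      have h2 := Submodule.finrank_add_eq_of_isCompl hcompl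
      simp only [Fintype.card_sum, Fintype.card_fin] at h1 ⊢
      omega
  by_cases hne : Nonempty (AdIdx I r)
  · refine ⟨r, basisOfLinearIndependentOfCardEqFinrank hli hcardeq, ?_, ?_, ?_, ?_⟩
    · intro x y
      rw [coe_basisOfLinearIndependentOfCardEqFinrank]
      exact hgram x y
    · intro i
      rw [coe_basisOfLinearIndependentOfCardEqFinrank]
      rfl
    · intro i
      rw [coe_basisOfLinearIndependentOfCardEqFinrank]
      exact hNw i
    · intro z
      rw [coe_basisOfLinearIndependentOfCardEqFinrank]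
      rcases z with p | q
      · exact hNO (a p)
      · exact hNO (b q)
  · -- degenerate case: the index type is empty, so V is trivial
    have hempty : IsEmpty (AdIdx I r) := not_nonempty_iff.mp hne
    have hV : finrank K V = 0 := by
      rw [← hcardeq]
      exact Fintype.card_eq_zero
    have : Subsingleton V := finrank_zero_iff.mp hV
    refine ⟨r, Basis.empty V, ?_, ?_, ?_, ?_⟩
    · intro x; exact (hempty.false x).elim
    · intro i; exact (hempty.false (Sum.inl i)).elim
    · intro i; exact (hempty.false (Sum.inl i)).elim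
    · intro z; exact (hempty.false (Sum.inr (Sum.inr z))).elim

/-- Two square-zero selfadjoint maps with "the same" invertible matrix `B (u i) (N (u j))` of full size
are conjugate under an isometry. -/
theorem exists_isometry_conj {K : Type*} [Field K] [CharP K 2] {V : Type*} [AddCommGroup V] [Module K V]
    [FiniteDimensional K V]
    (B : LinearMap.BilinForm K V) (halt : B.IsAlt) (hnd : B.Nondegenerate)
    (N₁ N₂ : V →ₗ[K] V) (h₁2 : ∀ x, N₁ (N₁ x) = 0) (h₁adj : ∀ x y, B (N₁ x) y = B x (N₁ y))
    (h₂2 : ∀ x, N₂ (N₂ x) = 0) (h₂adj : ∀ x y, B (N₂ x) y = B x (N₂ y))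
    {I : Type*} [Fintype I] [DecidableEq I] (u₁ u₂ : I → V) (S₀ : Matrix I I K)
    (hS₁ : ∀ i j, B (u₁ i) (N₁ (u₁ j)) = S₀ i j) (hS₂ : ∀ i j, B (u₂ i) (N₂ (u₂ j)) = S₀ i j)
    (hS₀ : IsUnit S₀.det)
    (hc₁ : Fintype.card I = finrank K (LinearMap.range N₁))
    (hc₂ : Fintype.card I = finrank K (LinearMap.range N₂)) :
    ∃ g : V ≃ₗ[K] V, (∀ x y, B (g x) (g y) = B x y) ∧ ∀ x, g (N₁ x) = N₂ (g x) := by
  classical
  obtain ⟨r₁, b₁, hg₁, hu₁, hw₁, hz₁⟩ := exists_adapted_basis B halt hnd N₁ h₁2 h₁adj u₁ S₀ hS₁ hS₀ hc₁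
  obtain ⟨r₂, b₂, hg₂, hu₂, hw₂, hz₂⟩ := exists_adapted_basis B halt hnd N₂ h₂2 h₂adj u₂ S₀ hS₂ hS₀ hc₂
  have hr : r₁ = r₂ := by
    have e1 := Module.finrank_eq_card_basis b₁
    have e2 := Module.finrank_eq_card_basis b₂
    simp only [Fintype.card_sum, Fintype.card_fin] at e1 e2
    omega
  subst hr
  let g : V ≃ₗ[K] V := b₁.equiv b₂ (Equiv.refl _)
  have hg : ∀ x, g (b₁ x) = b₂ x := by
    intro x
    show (b₁.equiv b₂ (Equiv.refl _)) (b₁ x) = _
    rw [Basis.equiv_apply, Equiv.refl_apply]
  refine ⟨g, ?_, ?_⟩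
  · have : B.comp (g : V →ₗ[K] V) (g : V →ₗ[K] V) = B := by
      apply LinearMap.BilinForm.ext_basis b₁
      intro x y
      rw [LinearMap.BilinForm.comp_apply, LinearEquiv.coe_coe, hg, hg, hg₁, hg₂]
    intro x y
    have h := congrArg (fun C : LinearMap.BilinForm K V => C x y) this
    simpa using h
  · have hlin : (g : V →ₗ[K] V) ∘ₗ N₁ = N₂ ∘ₗ (g : V →ₗ[K] V) := by
      apply b₁.ext
      intro x
      simp only [LinearMap.comp_apply, LinearEquiv.coe_coe]
      rcases x with i | i | z
      · rw [hu₁, hg, hg, hu₂]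
      · rw [hw₁, hg, hw₂, map_zero]
      · rw [hz₁, hg, hz₂, map_zero]
    intro x
    exact LinearMap.congr_fun hlin x

/-- Classification of the symmetric form `B x (N y)`: either an orthonormal family or a hyperbolic family
of full size. -/
theorem exists_family_of_sq_zero {K : Type*} [Field K] [CharP K 2] (hsq : ∀ d : K, ∃ μ : K, μ * μ = d)
    {V : Type*} [AddCommGroup V] [Module K V] [FiniteDimensional K V]
    (B : LinearMap.BilinForm K V) (halt : B.IsAlt) (hnd : B.Nondegenerate)
    (N : V →ₗ[K] V) (hNadj : ∀ x y, B (N x) y = B x (N y)) (ℓ : ℕ)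
    (hℓ : finrank K (LinearMap.range N) = ℓ) :
    (¬ (∀ v, B v (N v) = 0) ∧ ∃ u : Fin ℓ → V,
        ∀ i j, B (u i) (N (u j)) = if i = j then 1 else 0) ∨
    ((∀ v, B v (N v) = 0) ∧ ∃ (r : ℕ) (a b : Fin r → V), ℓ = 2 * r ∧
        (∀ i j, B (a i) (N (b j)) = if i = j then 1 else 0) ∧
        (∀ i j, B (a i) (N (a j)) = 0) ∧ (∀ i j, B (b i) (N (b j)) = 0)) := by
  classical
  have hsymm := isAlt_symm B halt
  obtain ⟨C, hC⟩ := Submodule.exists_isCompl (LinearMap.ker N)
  let S : LinearMap.BilinForm K V := B.compRight N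
  have hS : ∀ x y, S x y = B x (N y) := fun x y => rfl
  have hSsymm : ∀ x y, S x y = S y x := by
    intro x y
    rw [hS, hS, ← hNadj, hsymm]
  -- decomposition
  have hdecomp : ∀ y : V, ∃ k ∈ LinearMap.ker N, ∃ c ∈ C, y = k + c := by
    intro y
    have hy : y ∈ LinearMap.ker N ⊔ C := by
      rw [hC.sup_eq_top]
      exact Submodule.mem_top
    obtain ⟨k, hk, c, hc, rfl⟩ := Submodule.mem_sup.mp hy
    exact ⟨k, hk, c, hc, rfl⟩
  have hsepL : ∀ x : C, (∀ c : C, S (x : V) (c : V) = 0) → x = 0 := by
    intro x hx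
    have hker : (x : V) ∈ LinearMap.ker N := by
      rw [LinearMap.mem_ker]
      apply hnd.1
      intro y
      rw [hNadj]
      obtain ⟨k, hk, c, hc, rfl⟩ := hdecomp y
      rw [map_add, LinearMap.mem_ker.mp hk, zero_add]
      exact hx ⟨c, hc⟩
    have : (x : V) ∈ LinearMap.ker N ⊓ C := ⟨hker, x.2⟩
    rw [hC.inf_eq_bot] at this
    exact Subtype.ext ((Submodule.mem_bot K).mp this)
  have hndC : (S.restrict C).Nondegenerate := by
    constructor
    · intro x hx
      exact hsepL x hx
    · intro y hy
      apply hsepL y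
      intro c
      rw [hSsymm]
      exact hy c
  have hsymmC : (S.restrict C).IsSymm := by
    constructor
    intro x y
    exact hSsymm x y
  have hfrC : finrank K C = ℓ := by
    have h1 := Submodule.finrank_add_eq_of_isCompl hC
    have h2 := LinearMap.finrank_range_add_finrank_ker N
    omega
  by_cases halt0 : ∀ v, B v (N v) = 0
  · right
    refine ⟨halt0, ?_⟩
    have haltC : (S.restrict C).IsAlt := fun x => halt0 x
    obtain ⟨r, a, b, hr, hab, haa, hbb⟩ :=
      exists_hyperbolic_family (finrank K C) (S.restrict C) haltC hndC rfl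
    refine ⟨r, fun i => (a i : V), fun i => (b i : V), ?_, hab, haa, hbb⟩
    rw [← hfrC, hr]
  · left
    refine ⟨halt0, ?_⟩
    have hnaltC : ¬ (S.restrict C).IsAlt := by
      intro hcon
      apply halt0
      intro v
      obtain ⟨k, hk, c, hc, rfl⟩ := hdecomp v
      have hNk : N k = 0 := LinearMap.mem_ker.mp hk
      have e1 : N (k + c) = N c := by rw [map_add, hNk, zero_add]
      have e2 : B k (N c) = 0 := by rw [← hNadj, hNk, map_zero, LinearMap.zero_apply]
      rw [e1, map_add, LinearMap.add_apply, e2, zero_add]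
      exact hcon ⟨c, hc⟩
    obtain ⟨u, hu⟩ := exists_orthonormal_family hsq ℓ (S.restrict C)
      hsymmC hndC hnaltC hfrC
    exact ⟨fun i => (u i : V), hu⟩


/-- Two square-zero selfadjoint maps on a nondegenerate alternating space (characteristic two, every
scalar a square) with the same rank and the same type are conjugate under an isometry. -/
theorem exists_isometry_conj_of_invariants {K : Type*} [Field K] [CharP K 2]
    (hsq : ∀ d : K, ∃ μ : K, μ * μ = d)
    {V : Type*} [AddCommGroup V] [Module K V] [FiniteDimensional K V]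
    (B : LinearMap.BilinForm K V) (halt : B.IsAlt) (hnd : B.Nondegenerate)
    (N₁ N₂ : V →ₗ[K] V) (h₁2 : ∀ x, N₁ (N₁ x) = 0) (h₁adj : ∀ x y, B (N₁ x) y = B x (N₁ y))
    (h₂2 : ∀ x, N₂ (N₂ x) = 0) (h₂adj : ∀ x y, B (N₂ x) y = B x (N₂ y))
    (hrank : finrank K (LinearMap.range N₁) = finrank K (LinearMap.range N₂))
    (htype : (∀ v, B v (N₁ v) = 0) ↔ (∀ v, B v (N₂ v) = 0)) :
    ∃ g : V ≃ₗ[K] V, (∀ x y, B (g x) (g y) = B x y) ∧ ∀ x, g (N₁ x) = N₂ (g x) := by
  classical
  have hsymm := isAlt_symm B halt
  rcases exists_family_of_sq_zero hsq B halt hnd N₁ h₁adj (finrank K (LinearMap.range N₁)) rfl with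
    ⟨hn₁, u₁, hu₁⟩ | ⟨ha₁, r₁, a₁, b₁, hr₁, hab₁, haa₁, hbb₁⟩
  · rcases exists_family_of_sq_zero hsq B halt hnd N₂ h₂adj (finrank K (LinearMap.range N₁)) hrank.symm with
      ⟨hn₂, u₂, hu₂⟩ | ⟨ha₂, _⟩
    · refine exists_isometry_conj B halt hnd N₁ N₂ h₁2 h₁adj h₂2 h₂adj u₁ u₂ (1 : Matrix _ _ K) ?_ ?_ ?_ ?_ ?_
      · intro i j
        rw [hu₁, Matrix.one_apply]
      · intro i j
        rw [hu₂, Matrix.one_apply]
      · rw [Matrix.det_one]
        exact isUnit_one
      · rw [Fintype.card_fin]
      · rw [Fintype.card_fin, hrank]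
    · exact absurd (htype.mpr ha₂) hn₁
  · rcases exists_family_of_sq_zero hsq B halt hnd N₂ h₂adj (finrank K (LinearMap.range N₁)) hrank.symm with
      ⟨hn₂, _⟩ | ⟨ha₂, r₂, a₂, b₂, hr₂, hab₂, haa₂, hbb₂⟩
    · exact absurd (htype.mp ha₁) hn₂
    · have hr : r₁ = r₂ := by omega
      subst hr
      have hba : ∀ (N : V →ₗ[K] V) (hadj : ∀ x y, B (N x) y = B x (N y)) (a b : Fin r₁ → V)
          (hab : ∀ i j, B (a i) (N (b j)) = if i = j then 1 else 0) (i j : Fin r₁),
          B (b i) (N (a j)) = if i = j then 1 else 0 := by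
        intro N hadj a b hab i j
        rw [← hadj, hsymm, hab]
        by_cases h : i = j
        · rw [if_pos h, if_pos h.symm]
        · rw [if_neg h, if_neg (fun h' => h h'.symm)]
      have hS₀sq : (Matrix.fromBlocks (0 : Matrix (Fin r₁) (Fin r₁) K) (1 : Matrix (Fin r₁) (Fin r₁) K) (1 : Matrix (Fin r₁) (Fin r₁) K) (0 : Matrix (Fin r₁) (Fin r₁) K)) *
          (Matrix.fromBlocks (0 : Matrix (Fin r₁) (Fin r₁) K) (1 : Matrix (Fin r₁) (Fin r₁) K) (1 : Matrix (Fin r₁) (Fin r₁) K) (0 : Matrix (Fin r₁) (Fin r₁) K)) = 1 := by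
        rw [Matrix.fromBlocks_multiply]
        simp [Matrix.fromBlocks_one]
      refine exists_isometry_conj B halt hnd N₁ N₂ h₁2 h₁adj h₂2 h₂adj (Sum.elim a₁ b₁) (Sum.elim a₂ b₂)
        (Matrix.fromBlocks (0 : Matrix (Fin r₁) (Fin r₁) K) (1 : Matrix (Fin r₁) (Fin r₁) K) (1 : Matrix (Fin r₁) (Fin r₁) K) (0 : Matrix (Fin r₁) (Fin r₁) K)) ?_ ?_ ?_ ?_ ?_
      · intro i j
        rcases i with i | i <;> rcases j with j | j
        · simp [haa₁]
        · simp [hab₁, Matrix.one_apply]
        · simp [hba N₁ h₁adj a₁ b₁ hab₁, Matrix.one_apply]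
        · simp [hbb₁]
      · intro i j
        rcases i with i | i <;> rcases j with j | j
        · simp [haa₂]
        · simp [hab₂, Matrix.one_apply]
        · simp [hba N₂ h₂adj a₂ b₂ hab₂, Matrix.one_apply]
        · simp [hbb₂]
      · exact Matrix.isUnit_det_of_left_inverse hS₀sq
      · rw [Fintype.card_sum, Fintype.card_fin, hr₁]
        omega
      · rw [Fintype.card_sum, Fintype.card_fin, ← hrank, hr₁]
        omega

end Cfsg.Agent.Helper36
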