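import Cfsg.Agent.Helper36.SigmaFix
import Cfsg.Agent.Helper19.Twist.WeylN

/-!
Helper36: the Weyl group element of a `σ`-fixed element of `N` commutes with the root permutation
of `σ` (for an automorphism `σ` with `SigmaChev.Spec`).
-/

set_option autoImplicit false
set_option maxRecDepth 100000

namespace Cfsg.Agent.Helper36.SigmaChev

open Cfsg Cfsg.Lie Cfsg.Agent.Helper18 Cfsg.Agent.Helper19.Cox Cfsg.Agent.Helper19.Poinc
  Cfsg.Agent.Helper19.Twist

theorem rootInjOK_F4 : rootInjOK chevF4 = true := by decide +kernel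
theorem rootInjOK_G2 : rootInjOK chevG2 = true := by decide +kernel

section

variable {K : Type*} [Field K] {D : ChevalleyDatum}
  (hD : D ∈ [chevG2, chevB2, chevD4, chevF4, chevE6, chevE7, chevE8]) (C : Cert D)
  (h31 : NConjHyp D K) [hn : (HN D K).Normal]
  {σ : ↥(D.group K) ≃* ↥(D.group K)} {π : ℕ → ℕ} {c : ℕ → K →+* K}

include hD in
theorem Spec.theta_isFix (hσ : Spec D σ π c) (hOK : rootInjOK D = true) (n : ↥(D.monomialSubgroup K))
    (hnG : (n : GL D.Idx K) ∈ D.group K)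
    (hfix : σ ⟨(n : GL D.Idx K), hnG⟩ = ⟨(n : GL D.Idx K), hnG⟩) :
    IsFix C π (theta D hD C h31 n) := by
  have htri := triOK_of_mem D hD
  intro r hr
  set w := theta D hD C h31 n with hw
  have hspec := theta_spec D hD C h31 n
  obtain ⟨hlt, t', e1⟩ := conj_rep D hD C h31 w n hspec r hr 1
  have hπr : π r < D.nroots := hσ.pi_lt r hr
  obtain ⟨hlt2, t'', e2⟩ := conj_rep D hD C h31 w n hspec (π r) hπr (c r 1)
  set nG : ↥(D.group K) := ⟨(n : GL D.Idx K), hnG⟩ with hnGdef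
  have hx1 := xGL_mem_group' (F := K) D hD r 1
  have hx2 := xGL_mem_group' (F := K) D hD (phi C.M C.Mx C.hI C.hB C.hMx w r) t'
  have e1' : nG * ⟨xGL D K r 1, hx1⟩ * nG⁻¹ = ⟨xGL D K (phi C.M C.Mx C.hI C.hB C.hMx w r) t', hx2⟩ :=
    Subtype.ext e1
  have e3 := congrArg (fun g : ↥(D.group K) => ((σ g : ↥(D.group K)) : GL D.Idx K)) e1'
  simp only [map_mul, map_inv, hfix, Subgroup.coe_mul, Subgroup.coe_inv] at e3
  rw [hσ.map_x r hr 1 hx1, hσ.map_x _ hlt t' hx2] at e3
  have e4 : xGL D K (phi C.M C.Mx C.hI C.hB C.hMx w (π r)) t'' =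
      xGL D K (π (phi C.M C.Mx C.hI C.hB C.hMx w r)) (c (phi C.M C.Mx C.hI C.hB C.hMx w r) t') := by
    rw [← e2, ← e3]
  have hne : t'' ≠ 0 := by
    intro h0
    rw [h0] at e2
    have e5 : xGL D K (π r) (c r 1) = 1 := by
      have : xGL D K (π r) (c r 1) = (n : GL D.Idx K)⁻¹ *
          ((n : GL D.Idx K) * xGL D K (π r) (c r 1) * (n : GL D.Idx K)⁻¹) * (n : GL D.Idx K) := by group
      rw [this, e2, Cfsg.Agent.Helper19.Poinc.xGL_zero' D hD]
      group
    have e6 := congrArg (fun g : GL D.Idx K => (g : Matrix D.Idx D.Idx K)) e5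
    simp only [xGL_val D _ htri, Units.val_one] at e6
    have e7 := (Cfsg.Agent.S1024.result D hD (π r) hπr (c r 1)).mp e6
    rw [map_one] at e7
    exact one_ne_zero e7
  exact xGL_root_inj D _ htri hOK _ _ hlt2 (hσ.pi_lt _ hlt) t'' _ hne e4

end

end Cfsg.Agent.Helper36.SigmaChev
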