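import Cfsg.Agent.Helper36.TwistPair
import Cfsg.Agent.Helper18.Core
import Cfsg.Agent.S1036
import Cfsg.Agent.S1037

/-!
Helper36: tools for the triviality of the normal core of `B¹ = G¹ ∩ B` in a twisted group `G¹`:
an element of the core lies in `H` (conjugate by a representative of the longest element lying in
`G¹`), commutes with the root elements of the fundamental roots and their negatives (from the
generators of `G¹`), hence with all root elements (certificate), hence is trivial.
-/

set_option autoImplicit false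

namespace Cfsg.Agent.Helper36.Twist

open Cfsg Cfsg.Lie Cfsg.Agent.Helper40.ChevAdd Cfsg.Agent.Helper36.Perfect
  Cfsg.Agent.Helper36.ChevSimple
open scoped commutatorElement

section Core

variable {F : Type*} [Field F] (D : ChevalleyDatum)
  (hD : D ∈ [chevG2, chevB2, chevD4, chevF4, chevE6, chevE7, chevE8]) (hadd : addOK D = true)

include hD in
theorem xGL18_eq (r : ℕ) (t : F) : Cfsg.Agent.Helper18.xGL D F r t = xGL D hadd F r t := by
  apply Units.ext
  rw [Cfsg.Agent.Helper18.xGL_val D _ (Cfsg.Agent.Helper18.triOK_of_mem D hD)]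
  rfl

/-- `k` commutes with all root elements of the root `r` -/
def Triv (k : GL D.Idx F) (r : ℕ) : Prop := ∀ t : F, Commute k (xGL D hadd F r t)

theorem triv_comm (hcomm : CommHyp F D) (k : GL D.Idx F) (r s m : ℕ) (C : ℤ)
    (hr : r < D.nroots) (hs : s < D.nroots) (hsr : s ≠ r) (hsn : s ≠ D.neg r)
    (hL : D.commTerms r s = [(m, C, 1, 1)]) (hC : C = 1 ∨ C = -1)
    (h1 : Triv D hadd k r) (h2 : Triv D hadd k s) : Triv D hadd k m := by
  have key : ∀ t u : F, Commute k (wordGL D hadd (D.commWord F r s t u)) := by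
    intro t u
    have e : xGL D hadd F s u * xGL D hadd F r t
        = xGL D hadd F r t * xGL D hadd F s u * wordGL D hadd (D.commWord F r s t u) := by
      apply Units.ext
      rw [Units.val_mul, Units.val_mul, Units.val_mul, coe_wordGL]
      exact hcomm r s hr hs hsr hsn t u
    have e3 : wordGL D hadd (D.commWord F r s t u)
        = (xGL D hadd F r t * xGL D hadd F s u)⁻¹ * (xGL D hadd F s u * xGL D hadd F r t) := by
      rw [e]; group
    rw [e3]
    exact (((h1 t).mul_right (h2 u)).inv_right).mul_right ((h2 u).mul_right (h1 t))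
  have hw : ∀ t u : F, wordGL D hadd (D.commWord F r s t u)
      = xGL D hadd F m ((C : F) * (-t) * u) := by
    intro t u
    unfold wordGL ChevalleyDatum.commWord
    rw [hL]
    simp
  intro v
  rcases hC with rfl | rfl
  · have := key (-v) 1
    rw [hw] at this
    simpa using this
  · have := key v 1
    rw [hw] at this
    simpa using this

/-- certificate: each `(m, r, s)` produces the root `m = r + s` from two earlier roots -/
def trivCertOK (D : ChevalleyDatum) : List ℕ → List (ℕ × ℕ × ℕ) → Bool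
  | done, [] => (List.range D.nroots).all fun r => done.contains r
  | done, e :: rest =>
    done.contains e.2.1 && done.contains e.2.2 && decide (e.2.1 < D.nroots) && decide (e.2.2 < D.nroots) &&
    decide (e.2.2 ≠ e.2.1) && decide (e.2.2 ≠ D.neg e.2.1) &&
    (decide (D.commTerms e.2.1 e.2.2 = [(e.1, 1, 1, 1)]) ||
      decide (D.commTerms e.2.1 e.2.2 = [(e.1, -1, 1, 1)])) &&
    trivCertOK D (e.1 :: done) rest

theorem triv_all (hcomm : CommHyp F D) (k : GL D.Idx F) (cert : List (ℕ × ℕ × ℕ)) :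
    ∀ done : List ℕ, trivCertOK D done cert = true → (∀ r ∈ done, Triv D hadd k r) →
      ∀ r < D.nroots, Triv D hadd k r := by
  induction cert with
  | nil =>
    intro done h hdone r hr
    unfold trivCertOK at h
    rw [List.all_eq_true] at h
    have := h r (List.mem_range.mpr hr)
    exact hdone r (by simpa using this)
  | cons e rest ih =>
    intro done h hdone
    unfold trivCertOK at h
    simp only [Bool.and_eq_true, Bool.or_eq_true, decide_eq_true_eq] at h
    obtain ⟨⟨⟨⟨⟨⟨⟨h1, h2⟩, h3⟩, h4⟩, h5⟩, h6⟩, h7⟩, h8⟩ := h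
    refine ih (e.1 :: done) h8 ?_
    intro r hr
    rcases List.mem_cons.mp hr with rfl | hr'
    · have hd1 : e.2.1 ∈ done := by simpa using h1
      have hd2 : e.2.2 ∈ done := by simpa using h2
      rcases h7 with h7 | h7
      · exact triv_comm D hadd hcomm k e.2.1 e.2.2 e.1 1 h3 h4 h5 h6 h7 (Or.inl rfl) (hdone _ hd1)
          (hdone _ hd2)
      · exact triv_comm D hadd hcomm k e.2.1 e.2.2 e.1 (-1) h3 h4 h5 h6 h7 (Or.inr rfl) (hdone _ hd1)
          (hdone _ hd2)
    · exact hdone r hr'

include hD in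
/-- an element of `H` commuting with all root elements is trivial -/
theorem eq_one_of_triv (k : GL D.Idx F) (hk : k ∈ D.diagonalSubgroup F)
    (h : ∀ r < D.nroots, Triv D hadd k r) : k = 1 := by
  refine Cfsg.Agent.Helper18.eq_one_of_conj_mem D hD k hk (fun r hr => ?_)
  rw [xGL18_eq D hD hadd]
  have := (h r hr 1).eq
  have e : xGL D hadd F r 1 * k * (xGL D hadd F r 1)⁻¹ = k := by
    rw [← this]; group
  rw [e]
  exact hk

/-- the product of reflections maps every positive root to a negative root -/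
def w0OK (D : ChevalleyDatum) (is : List ℕ) : Bool :=
  is.all (fun i => decide (i < D.rank)) &&
  (List.range D.nroots).all fun r =>
    !(decide (D.IsPosRoot r)) || (reflectListOK D is r && decide (D.IsNegRoot (reflectList D is r)))

include hD in
theorem nGL_mem_monomial (i : ℕ) (hi : i < D.rank) : nGL F D hadd i ∈ D.monomialSubgroup F := by
  unfold ChevalleyDatum.monomialSubgroup
  apply Subgroup.mem_sup_right
  apply Subgroup.subset_closure
  exact ⟨D.simple i, Cfsg.Agent.Helper18.simple_lt D (Cfsg.Agent.Helper18.simpleOK_of_mem D hD) i hi,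
    coe_nGL D hadd i⟩

include hD in
theorem nProd_mem_monomial (is : List ℕ) (h : ∀ i ∈ is, i < D.rank) :
    nProd (F := F) D hadd is ∈ D.monomialSubgroup F := by
  unfold nProd
  apply Subgroup.list_prod_mem
  intro g hg
  rw [List.mem_map] at hg
  obtain ⟨i, hi, rfl⟩ := hg
  exact nGL_mem_monomial D hD hadd i (h i hi)

include hD in
theorem map_conj_borel_le (hn : NConjHyp F D) (is : List ℕ) (h : w0OK D is = true) :
    (D.borelSubgroup F).map (MulAut.conj (nProd (F := F) D hadd is)).toMonoidHom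
      ≤ D.negUnipotent F ⊔ D.diagonalSubgroup F := by
  unfold w0OK at h
  rw [Bool.and_eq_true, List.all_eq_true, List.all_eq_true] at h
  obtain ⟨h1, h2⟩ := h
  have hN : nProd (F := F) D hadd is ∈ D.monomialSubgroup F :=
    nProd_mem_monomial D hD hadd is (fun i hi => by simpa using h1 i hi)
  conv_lhs => unfold ChevalleyDatum.borelSubgroup
  rw [Subgroup.map_sup]
  apply sup_le_sup
  · rw [Subgroup.map_le_iff_le_comap]
    unfold ChevalleyDatum.posUnipotent
    rw [Subgroup.closure_le]
    rintro g ⟨r, t, hr, hg⟩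
    rw [SetLike.mem_coe, Subgroup.mem_comap]
    have hg' : g = xGL D hadd F r t := Units.ext hg
    have h3 := h2 r (List.mem_range.mpr hr.1)
    simp only [Bool.or_eq_true, Bool.not_eq_eq_eq_not, Bool.not_true, decide_eq_false_iff_not,
      Bool.and_eq_true, decide_eq_true_eq] at h3
    rcases h3 with h3 | ⟨h3, h4⟩
    · exact absurd hr h3
    · obtain ⟨η, -, e⟩ := nProd_conj D hadd hn is r h3
      show nProd (F := F) D hadd is * g * (nProd (F := F) D hadd is)⁻¹ ∈ D.negUnipotent F
      rw [hg', e]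
      apply Subgroup.subset_closure
      exact ⟨_, _, h4, rfl⟩
  · have hnorm := Cfsg.Agent.Helper18.monomialSubgroup_le_normalizer D hD hN
    have hHmap : (D.diagonalSubgroup F).map (MulAut.conj (nProd (F := F) D hadd is)).toMonoidHom
        = D.diagonalSubgroup F := Subgroup.mem_normalizer_iff_map_conj_eq.mp hnorm
    rw [hHmap]

include hD in
/-- an element of `B` whose conjugate by `n₀⁻¹` lies in `B` lies in `H` -/
theorem mem_diag_of_conj (hn : NConjHyp F D) (is : List ℕ) (h : w0OK D is = true) (k : GL D.Idx F)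
    (hk : k ∈ D.borelSubgroup F)
    (hk' : (nProd (F := F) D hadd is)⁻¹ * k * nProd (F := F) D hadd is ∈ D.borelSubgroup F) :
    k ∈ D.diagonalSubgroup F := by
  have h3 : k ∈ (D.borelSubgroup F).map (MulAut.conj (nProd (F := F) D hadd is)).toMonoidHom := by
    refine ⟨_, hk', ?_⟩
    show nProd (F := F) D hadd is * ((nProd (F := F) D hadd is)⁻¹ * k * nProd (F := F) D hadd is)
      * (nProd (F := F) D hadd is)⁻¹ = k
    group
  have h4 := map_conj_borel_le D hD hadd hn is h h3
  rw [← (Cfsg.Agent.S1037.result (F := F) D hD).2]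
  exact ⟨hk, h4⟩

include hD in
/-- `x_r(c) ∈ H` forces `c = 0` -/
theorem eq_zero_of_xGL_mem_diag (r : ℕ) (hpn : D.IsPosRoot r ∨ D.IsNegRoot r) (c : F)
    (h : xGL D hadd F r c ∈ D.diagonalSubgroup F) : c = 0 := by
  have h1 : xGL D hadd F r c = 1 := by
    rcases hpn with hp | hng
    · have hU : xGL D hadd F r c ∈ D.posUnipotent F := Subgroup.subset_closure ⟨r, c, hp, rfl⟩
      have := (Cfsg.Agent.S1036.result (F := F) D hD).2
      have h2 : xGL D hadd F r c ∈ D.posUnipotent F ⊓ D.diagonalSubgroup F := ⟨hU, h⟩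
      rw [this, Subgroup.mem_bot] at h2
      exact h2
    · have hV : xGL D hadd F r c ∈ D.negUnipotent F := Subgroup.subset_closure ⟨r, c, hng, rfl⟩
      have := (Cfsg.Agent.S1037.result (F := F) D hD).1
      have hB : xGL D hadd F r c ∈ D.borelSubgroup F := (le_sup_right : D.diagonalSubgroup F ≤ _) h
      have h2 : xGL D hadd F r c ∈ D.borelSubgroup F ⊓ D.negUnipotent F := ⟨hB, hV⟩
      rw [this, Subgroup.mem_bot] at h2
      exact h2
  have hr : r < D.nroots := by
    rcases hpn with hp | hng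
    · exact hp.1
    · exact hng.1
  have h2 := congrArg (fun g : GL D.Idx F => (g : Matrix D.Idx D.Idx F)) h1
  simp only [coe_xGL, Units.val_one] at h2
  exact (Cfsg.Agent.S1024.result D hD r hr c).mp h2

include hD in
/-- the conjugation character of an element of `H` -/
theorem diag_char (k : GL D.Idx F) (hk : k ∈ D.diagonalSubgroup F) :
    ∃ χ : ℕ → F, (∀ s, χ s ≠ 0) ∧
      ∀ r < D.nroots, ∀ t : F, k * xGL D hadd F r t * k⁻¹ = xGL D hadd F r (χ r * t) := by
  obtain ⟨χ, hχ, -, hc⟩ := Cfsg.Agent.Helper18.diagonalSubgroup_char D hD k hk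
  refine ⟨χ, hχ, fun r hr t => ?_⟩
  have := hc r hr t
  rw [xGL18_eq D hD hadd, xGL18_eq D hD hadd] at this
  rw [this]; group

theorem triv_of_char_one (k : GL D.Idx F) (χ : ℕ → F) (r : ℕ)
    (hc : ∀ t : F, k * xGL D hadd F r t * k⁻¹ = xGL D hadd F r (χ r * t)) (h1 : χ r = 1) :
    Triv D hadd k r := by
  intro t
  have := hc t
  rw [h1, one_mul] at this
  exact mul_inv_eq_iff_eq_mul.mp this

include hD in
/-- a unipotent `u` (in `U` or in `V`) with `u k u⁻¹ ∈ H` for `k ∈ H` equals `k u k⁻¹` -/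
theorem eq_conj_of_mem_diag (k u : GL D.Idx F) (hk : k ∈ D.diagonalSubgroup F)
    (hu : (u ∈ D.posUnipotent F ∧ k * u * k⁻¹ ∈ D.posUnipotent F) ∨
      (u ∈ D.negUnipotent F ∧ k * u * k⁻¹ ∈ D.negUnipotent F))
    (hconj : u * k * u⁻¹ ∈ D.diagonalSubgroup F) : k * u * k⁻¹ = u := by
  have e : u * (k * u * k⁻¹)⁻¹ = (u * k * u⁻¹) * k⁻¹ := by group
  have hH : u * (k * u * k⁻¹)⁻¹ ∈ D.diagonalSubgroup F := by
    rw [e]; exact Subgroup.mul_mem _ hconj (Subgroup.inv_mem _ hk)
  have h1 : u * (k * u * k⁻¹)⁻¹ = 1 := by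
    rcases hu with ⟨hu1, hu2⟩ | ⟨hu1, hu2⟩
    · have h2 : u * (k * u * k⁻¹)⁻¹ ∈ D.posUnipotent F ⊓ D.diagonalSubgroup F :=
        ⟨Subgroup.mul_mem _ hu1 (Subgroup.inv_mem _ hu2), hH⟩
      rw [(Cfsg.Agent.S1036.result (F := F) D hD).2, Subgroup.mem_bot] at h2
      exact h2
    · have hB : u * (k * u * k⁻¹)⁻¹ ∈ D.borelSubgroup F :=
        (le_sup_right : D.diagonalSubgroup F ≤ _) hH
      have h2 : u * (k * u * k⁻¹)⁻¹ ∈ D.borelSubgroup F ⊓ D.negUnipotent F :=
        ⟨hB, Subgroup.mul_mem _ hu1 (Subgroup.inv_mem _ hu2)⟩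
      rw [(Cfsg.Agent.S1037.result (F := F) D hD).1, Subgroup.mem_bot] at h2
      exact h2
  exact (mul_inv_eq_one.mp h1).symm

theorem xGL_mem_pos (r : ℕ) (hr : D.IsPosRoot r) (t : F) : xGL D hadd F r t ∈ D.posUnipotent F :=
  Subgroup.subset_closure ⟨r, t, hr, rfl⟩

theorem xGL_mem_neg (r : ℕ) (hr : D.IsNegRoot r) (t : F) : xGL D hadd F r t ∈ D.negUnipotent F :=
  Subgroup.subset_closure ⟨r, t, hr, rfl⟩

include hD in
/-- base step for a root `r` with `x_r(1) ∈ G¹` -/
theorem triv_of_unit (r : ℕ) (hpn : D.IsPosRoot r ∨ D.IsNegRoot r) (k : GL D.Idx F)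
    (hk : k ∈ D.diagonalSubgroup F)
    (hconj : xGL D hadd F r 1 * k * (xGL D hadd F r 1)⁻¹ ∈ D.diagonalSubgroup F) :
    Triv D hadd k r := by
  have hr : r < D.nroots := by
    rcases hpn with hp | hng
    · exact hp.1
    · exact hng.1
  obtain ⟨χ, -, hc⟩ := diag_char D hD hadd k hk
  refine triv_of_char_one D hadd k χ r (hc r hr) ?_
  have h1 := eq_conj_of_mem_diag D hD k (xGL D hadd F r 1) hk ?_ hconj
  · rw [hc r hr, mul_one] at h1
    have h2 := congrArg (fun g : GL D.Idx F => (g : Matrix D.Idx D.Idx F)) h1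
    simp only [coe_xGL] at h2
    exact Cfsg.Agent.Helper18.x_injective D hD r hr _ _ h2
  · rw [hc r hr]
    rcases hpn with hp | hng
    · exact Or.inl ⟨xGL_mem_pos D hadd r hp _, xGL_mem_pos D hadd r hp _⟩
    · exact Or.inr ⟨xGL_mem_neg D hadd r hng _, xGL_mem_neg D hadd r hng _⟩

end Core

end Cfsg.Agent.Helper36.Twist
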