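import Cfsg.Agent.Helper36.ChevTabs

set_option autoImplicit false
set_option maxRecDepth 100000
open Cfsg Cfsg.Lie

/-! Kernel-checked reflection data for type B2. -/

namespace Cfsg.Agent.Helper36

def wpB2_0 : ℕ := 289921455100330243
def epB2_0 : ℕ := 255
theorem iCheckB2_0 : iCheck chevB2 0 wpB2_0 epB2_0 cPB2 rPB2 nPB2 = true := by decide +kernel

def wpB2_1 : ℕ := 505817143170892288
def epB2_1 : ℕ := 90
theorem iCheckB2_1 : iCheck chevB2 1 wpB2_1 epB2_1 cPB2 rPB2 nPB2 = true := by decide +kernel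

end Cfsg.Agent.Helper36
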