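import Cfsg.Agent.Helper36.ChevTabs

set_option autoImplicit false
set_option maxRecDepth 100000
open Cfsg Cfsg.Lie

/-! Kernel-checked reflection data for type D4. -/

namespace Cfsg.Agent.Helper36

def wpD4_0 : ℕ := 565592643864087472290204273757603651193062799363369534976
def epD4_0 : ℕ := 508896
theorem iCheckD4_0 : iCheck chevD4 0 wpD4_0 epD4_0 cPD4 rPD4 nPD4 = true := by decide +kernel

def wpD4_1 : ℕ := 541649279090809664310305499994679834166397163664360734721
def epD4_1 : ℕ := 8945169
theorem iCheckD4_1 : iCheck chevD4 1 wpD4_1 epD4_1 cPD4 rPD4 nPD4 = true := by decide +kernel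

def wpD4_2 : ℕ := 565881119482020990812274433957960368099339668429056770816
def epD4_2 : ℕ := 6497478
theorem iCheckD4_2 : iCheck chevD4 2 wpD4_2 epD4_2 cPD4 rPD4 nPD4 = true := by decide +kernel

def wpD4_3 : ℕ := 565978018496368764364970633948976412520310965285293195776
def epD4_3 : ℕ := 5413194
theorem iCheckD4_3 : iCheck chevD4 3 wpD4_3 epD4_3 cPD4 rPD4 nPD4 = true := by decide +kernel

end Cfsg.Agent.Helper36
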