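import Cfsg.Agent.Helper36.ChevTabs

set_option autoImplicit false
set_option maxRecDepth 100000
open Cfsg Cfsg.Lie

/-! Kernel-checked reflection data for type E6. -/

namespace Cfsg.Agent.Helper36

def wpE6_0 : ℕ := 68860739535078100914596739045472550060558126031925906698557184978812794185875324317535844633006154102049939227231216439978584304288106533539790046234022772551535750302269696
def epE6_0 : ℕ := 143055259877474304
theorem iCheckE6_0 : iCheck chevE6 0 wpE6_0 epE6_0 cPE6 rPE6 nPE6 = true := by decide +kernel

def wpE6_1 : ℕ := 67898379116758311409174261616388753868225998791303625563428882050626415270252589797741478371984307561973422256644613195820774439032392954730690482532434882508821640184463361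
def epE6_1 : ℕ := 2377332098023254656769
theorem iCheckE6_1 : iCheck chevE6 1 wpE6_1 epE6_1 cPE6 rPE6 nPE6 = true := by decide +kernel

def wpE6_2 : ℕ := 68860695135535158216797058934368584078938789528211777354868258615236502524939434476014300653026239562496047166733737140692285179851664431971808751874688785261135318011412736
def epE6_2 : ℕ := 1033169672869552603164
theorem iCheckE6_2 : iCheck chevE6 2 wpE6_2 epE6_2 cPE6 rPE6 nPE6 = true := by decide +kernel

def wpE6_3 : ℕ := 68856980314703697980439144254334973515401028023823060939175680109056393390696631820261994746199928716884708600540244424635743493790229057459399689936210111163618278074548736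
def epE6_3 : ℕ := 1236247255438460330178
theorem iCheckE6_3 : iCheck chevE6 3 wpE6_3 epE6_3 cPE6 rPE6 nPE6 = true := by decide +kernel

def wpE6_4 : ℕ := 68860724850632303803458732998465812266828810094652722312245356555948991877575451183817923578624086719198522082862514929281160200302940551006277733868069131789022201037127936
def epE6_4 : ℕ := 669309514447770948132
theorem iCheckE6_4 : iCheck chevE6 4 wpE6_4 epE6_4 cPE6 rPE6 nPE6 = true := by decide +kernel

def wpE6_5 : ℕ := 68860739477726650154684651250440147524905899556371060941805998667168077050675229181777609482453672249988869994526207384147299178654162362870440666247900439482662894518272256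
def epE6_5 : ℕ := 342440805587411929416
theorem iCheckE6_5 : iCheck chevE6 5 wpE6_5 epE6_5 cPE6 rPE6 nPE6 = true := by decide +kernel

end Cfsg.Agent.Helper36
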