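import Cfsg.Agent.Helper36.ChevTabs

set_option autoImplicit false
set_option maxRecDepth 100000
open Cfsg Cfsg.Lie

/-! Kernel-checked reflection data for type E7. -/

namespace Cfsg.Agent.Helper36

def wpE7_0 : ℕ := 1333922837158942011638783835004871262489243524474933806757983325204324354148955901128787715251435855896924984706939979518567157242719197682064722754383056752064764745714105188869695029532754693822593611899134007025978423511653352929402726346889239349767349520011297160997758072428838116713298751769411585
def epE7_0 : ℕ := 42535295884914969941661665728038699009
theorem iCheckE7_0 : iCheck chevE7 0 wpE7_0 epE7_0 cPE7 rPE7 nPE7 = true := by decide +kernel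

def wpE7_1 : ℕ := 1344596064861142540599490890337037530396506312014796134457654209860766914474355053533424106448304668641750238146235616625298608967855065371567541345205591130313893835021149335810105157533873267793712369235831381486269171621811991934200833355141336107082133768387345013012537819798176998924533019780972800
def epE7_1 : ℕ := 9969219475911752942880135688992325752
theorem iCheckE7_1 : iCheck chevE7 1 wpE7_1 epE7_1 cPE7 rPE7 nPE7 = true := by decide +kernel

def wpE7_2 : ℕ := 1344554375120106414798065960470017614978713755228414151433370668601621092779175356141058506517844188051958962228323355573505999256791464453714183605373019334854214694897010135565448054736646733569358624734534287147711832887250382219472046131816456686545071408428738776743299531196152165404305104465625600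
def epE7_2 : ℕ := 21308537290271745760265171479237359618
theorem iCheckE7_2 : iCheck chevE7 2 wpE7_2 epE7_2 cPE7 rPE7 nPE7 = true := by decide +kernel

def wpE7_3 : ℕ := 1344595904565267213246157475033494803249157207063324738659324389841659715695283955303815316936280329696179597506512307998177941509827115356010016869474657504041538202575428963476748087995021914745714269311908081227369626699231579603641239181490320192525717933280632587761748264543583905599801831599571200
def epE7_3 : ℕ := 10924663619488793363045094406352799492
theorem iCheckE7_3 : iCheck chevE7 3 wpE7_3 epE7_3 cPE7 rPE7 nPE7 = true := by decide +kernel

def wpE7_4 : ℕ := 1344596066789662372468730772808347860477161005122219541718508235419833626106302450745862748198090247695116521795627890666608206327119702733434927280617614040672948193304917070539624301444895806139576218160085363566180297830617521222446695171034178763232251478019132116438882014609021606895640681331687680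
def epE7_4 : ℕ := 5665040612189914454778297062204911752
theorem iCheckE7_4 : iCheck chevE7 4 wpE7_4 epE7_4 cPE7 rPE7 nPE7 = true := by decide +kernel

def wpE7_5 : ℕ := 1344596067423351416207557940869874944091727118574762836469837882638712679846178606418228818601986310217411887451905765776107214182568852020646749836716948362818007050784749838543502259798351210584973756022172436114146241694089563918431059909805690131092344135313086916729119604848859188691072391118455040
def epE7_5 : ℕ := 2847024252714933557071685096178878736
theorem iCheckE7_5 : iCheck chevE7 5 wpE7_5 epE7_5 cPE7 rPE7 nPE7 = true := by decide +kernel

def wpE7_6 : ℕ := 1344596067425826764034662734529601288506926453046107113143229300984890479501381833876110010911357495579068344096520604677306938752775870105507180309928942299606468867262391627195069014991692130646454801374407591002787052249416073179196764677152311158875352053765052537485552134445183160720605330624610560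
def epE7_6 : ℕ := 1425493702456110909934783426152649248
theorem iCheckE7_6 : iCheck chevE7 6 wpE7_6 epE7_6 cPE7 rPE7 nPE7 = true := by decide +kernel

end Cfsg.Agent.Helper36
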