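import Cfsg.Agent.Helper36.ChevConj
/-! Splitting the reflection check into independently kernel-checked parts (bounds peak memory). -/ 

set_option autoImplicit false
open Cfsg Cfsg.Lie

namespace Cfsg.Agent.Helper36

variable (D : ChevalleyDatum)

/-- Cartan columns part of `checkN` -/
def checkNh (i : ℕ) : Bool :=
  (List.range D.rank).all fun j =>
    sameVec (ncolS D i (Sum.inl j)) [(Sum.inl j, 1), (Sum.inl i, - D.cartan j (D.simple i))]

/-- root columns `lo ≤ s < lo + len` of `checkN` -/
def checkNr (i : ℕ) (w : ℕ → ℕ) (η : ℕ → ℤ) (lo len : ℕ) : Bool :=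
  (List.range' lo len).all fun s => sameVec (ncolS D i (Sum.inr s)) [(Sum.inr (w s), η s)]

/-- rows `lo ≤ s < lo + len` of `checkX` -/
def checkXr (w : ℕ → ℕ) (η : ℕ → ℤ) (lo len : ℕ) : Bool :=
  (List.range' lo len).all fun s =>
    decide (List.insertionSort keyLe ((flat (rowOf D s)).map (transport w η (η s))) = flat (rowOf D (w s)))

/-- the cheap parts of `iCheck` -/
def checkRest (i wp ep cP rP nP : ℕ) : Bool :=
  decide (i < D.rank) && decide (D.simple i < D.nroots) && decide (D.neg (D.simple i) < D.nroots) &&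
  ((List.range D.nroots).all fun s =>
    decide (wAt wp s = D.reflectRoot i s) && decide (wAt wp s < D.nroots) && decide (wAt wp (wAt wp s) = s)) &&
  ((List.range D.nroots).all fun s =>
    decide (negAt nP s < D.nroots) && decide (wAt wp (negAt nP s) = negAt nP (wAt wp s)) &&
      decide (etaAt ep (negAt nP s) = etaAt ep s)) &&
  ((List.range D.nroots).all fun s => (List.range D.rank).all fun i' =>
    decide (crAt rP (wAt wp s) i' = crAt rP s i' - (if i' = i then
      ((List.range D.rank).map fun j' => cAt cP j' (D.simple i) * crAt rP s j').sum else 0))) &&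
  ((List.range D.nroots).all fun s => (List.range D.rank).all fun j =>
    decide (cAt cP j s = cAt cP j (wAt wp s) - cAt cP i (wAt wp s) * cAt cP j (D.simple i))) &&
  decide (etaAt ep (D.simple i) = -1) && decide (etaAt ep (D.neg (D.simple i)) = -1) &&
  ((List.range D.nroots).all fun s =>
    decide (etaAt ep s * etaAt ep (wAt wp s) = (-1) ^ (cAt cP i s).natAbs) &&
      decide (etaAt ep s * etaAt ep (negAt nP s) = 1))

theorem all_range_of_chunks (p : ℕ → Bool) (a b c d : ℕ)
    (h1 : (List.range' 0 a).all p = true) (h2 : (List.range' a b).all p = true)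
    (h3 : (List.range' (a + b) c).all p = true) (h4 : (List.range' (a + b + c) d).all p = true) :
    (List.range (a + b + c + d)).all p = true := by
  rw [List.all_eq_true] at *
  intro s hs
  rw [List.mem_range] at hs
  by_cases c1 : s < a
  · exact h1 s (by rw [List.mem_range'_1]; omega)
  · by_cases c2 : s < a + b
    · exact h2 s (by rw [List.mem_range'_1]; omega)
    · by_cases c3 : s < a + b + c
      · exact h3 s (by rw [List.mem_range'_1]; omega)
      · exact h4 s (by rw [List.mem_range'_1]; omega)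

theorem iCheck_of_parts (i wp ep cP rP nP : ℕ) (a b c d : ℕ) (habcd : D.nroots = a + b + c + d)
    (h0 : checkRest D i wp ep cP rP nP = true) (hNh : checkNh D i = true)
    (hN1 : checkNr D i (wFun D wp) (etaAt ep) 0 a = true)
    (hN2 : checkNr D i (wFun D wp) (etaAt ep) a b = true)
    (hN3 : checkNr D i (wFun D wp) (etaAt ep) (a + b) c = true)
    (hN4 : checkNr D i (wFun D wp) (etaAt ep) (a + b + c) d = true)
    (hX1 : checkXr D (wFun D wp) (etaAt ep) 0 a = true)
    (hX2 : checkXr D (wFun D wp) (etaAt ep) a b = true)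
    (hX3 : checkXr D (wFun D wp) (etaAt ep) (a + b) c = true)
    (hX4 : checkXr D (wFun D wp) (etaAt ep) (a + b + c) d = true) :
    iCheck D i wp ep cP rP nP = true := by
  have hN : checkN D i (wFun D wp) (etaAt ep) = true := by
    unfold checkN
    rw [Bool.and_eq_true]
    refine ⟨hNh, ?_⟩
    rw [habcd]
    exact all_range_of_chunks _ a b c d hN1 hN2 hN3 hN4
  have hX : checkX D (wFun D wp) (etaAt ep) = true := by
    unfold checkX
    rw [habcd]
    exact all_range_of_chunks _ a b c d hX1 hX2 hX3 hX4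
  unfold checkRest at h0
  unfold iCheck
  simp only [Bool.and_eq_true] at h0 ⊢
  obtain ⟨⟨⟨⟨⟨⟨⟨⟨⟨h1, h2⟩, h3⟩, h5⟩, h6⟩, h8⟩, h9⟩, h10⟩, h11⟩, h12⟩ := h0
  exact ⟨⟨⟨⟨⟨⟨⟨⟨⟨⟨⟨h1, h2⟩, h3⟩, hN⟩, h5⟩, h6⟩, hX⟩, h8⟩, h9⟩, h10⟩, h11⟩, h12⟩


end Cfsg.Agent.Helper36
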