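import Cfsg.Agent.Helper36.ChevTabs
import Cfsg.Agent.Helper36.ChevParts

set_option autoImplicit false
set_option maxRecDepth 100000
open Cfsg Cfsg.Lie

/-! Kernel-checked reflection data for type E8, fundamental reflection 0 (checked in parts). -/

namespace Cfsg.Agent.Helper36

def wpE8_0 : ℕ := 89010710832726070714151161094414522261048587326581510595392028524030207563957026801107561780730543875635899695872657540013727267355752929009945983259756149830046491061614462711827468647410691219483793969699872786852253216181086040217948769591709564461412580249235256415527480204464476331546285723345807496788342194623506928674460502856817942549765057009024427281542244180397900240359504473124310118170232911525014401390998667463253019886626284409262937152958555578213187162928665144744945462487135302530904835859273767658661597756841433802992835089440598390061610903988634517760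
def epE8_0 : ℕ := 20597399253703088803137291363919720476649811351842022074600809197223744

theorem partE8_0_rest : checkRest chevE8 0 wpE8_0 epE8_0 cPE8 rPE8 nPE8 = true := by decide +kernel
theorem partE8_0_Nh : checkNh chevE8 0 = true := by decide +kernel
theorem partE8_0_N1 : checkNr chevE8 0 (wFun chevE8 wpE8_0) (etaAt epE8_0) 0 60 = true := by decide +kernel
theorem partE8_0_N2 : checkNr chevE8 0 (wFun chevE8 wpE8_0) (etaAt epE8_0) 60 60 = true := by decide +kernel
theorem partE8_0_N3 : checkNr chevE8 0 (wFun chevE8 wpE8_0) (etaAt epE8_0) 120 60 = true := by decide +kernel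
theorem partE8_0_N4 : checkNr chevE8 0 (wFun chevE8 wpE8_0) (etaAt epE8_0) 180 60 = true := by decide +kernel
theorem partE8_0_X1 : checkXr chevE8 (wFun chevE8 wpE8_0) (etaAt epE8_0) 0 60 = true := by decide +kernel
theorem partE8_0_X2 : checkXr chevE8 (wFun chevE8 wpE8_0) (etaAt epE8_0) 60 60 = true := by decide +kernel
theorem partE8_0_X3 : checkXr chevE8 (wFun chevE8 wpE8_0) (etaAt epE8_0) 120 60 = true := by decide +kernel
theorem partE8_0_X4 : checkXr chevE8 (wFun chevE8 wpE8_0) (etaAt epE8_0) 180 60 = true := by decide +kernel

theorem iCheckE8_0 : iCheck chevE8 0 wpE8_0 epE8_0 cPE8 rPE8 nPE8 = true :=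
  iCheck_of_parts chevE8 0 wpE8_0 epE8_0 cPE8 rPE8 nPE8 60 60 60 60 rfl partE8_0_rest partE8_0_Nh
    partE8_0_N1 partE8_0_N2 partE8_0_N3 partE8_0_N4 partE8_0_X1 partE8_0_X2 partE8_0_X3 partE8_0_X4

end Cfsg.Agent.Helper36
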