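import Cfsg.Agent.Helper36.ChevTabs
import Cfsg.Agent.Helper36.ChevParts

set_option autoImplicit false
set_option maxRecDepth 100000
open Cfsg Cfsg.Lie

/-! Kernel-checked reflection data for type E8, fundamental reflection 1 (checked in parts). -/

namespace Cfsg.Agent.Helper36

def wpE8_1 : ℕ := 89010710832725403821992757481139071596698173965191600472753702822147364158672239454480583766054916428145578667561196346286240294973106193453481602022994238457747057000441148872921567985804927830925184562410761361820642221993159403124364699503886667373585590236200204532233412719031984404037316613648740789033672441744072877792284927471549198215319587161646246739142712406116015301396244861203768991281616970164435876457802828834673089209444828885868975419990867550410752616208765434029454275512555058899218984728513362813046938098819618253410658999715481853523381007317721022720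
def epE8_1 : ℕ := 41464424276439592458547658795802407934099191135292454134463122888474720

theorem partE8_1_rest : checkRest chevE8 1 wpE8_1 epE8_1 cPE8 rPE8 nPE8 = true := by decide +kernel
theorem partE8_1_Nh : checkNh chevE8 1 = true := by decide +kernel
theorem partE8_1_N1 : checkNr chevE8 1 (wFun chevE8 wpE8_1) (etaAt epE8_1) 0 60 = true := by decide +kernel
theorem partE8_1_N2 : checkNr chevE8 1 (wFun chevE8 wpE8_1) (etaAt epE8_1) 60 60 = true := by decide +kernel
theorem partE8_1_N3 : checkNr chevE8 1 (wFun chevE8 wpE8_1) (etaAt epE8_1) 120 60 = true := by decide +kernel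
theorem partE8_1_N4 : checkNr chevE8 1 (wFun chevE8 wpE8_1) (etaAt epE8_1) 180 60 = true := by decide +kernel
theorem partE8_1_X1 : checkXr chevE8 (wFun chevE8 wpE8_1) (etaAt epE8_1) 0 60 = true := by decide +kernel
theorem partE8_1_X2 : checkXr chevE8 (wFun chevE8 wpE8_1) (etaAt epE8_1) 60 60 = true := by decide +kernel
theorem partE8_1_X3 : checkXr chevE8 (wFun chevE8 wpE8_1) (etaAt epE8_1) 120 60 = true := by decide +kernel
theorem partE8_1_X4 : checkXr chevE8 (wFun chevE8 wpE8_1) (etaAt epE8_1) 180 60 = true := by decide +kernel

theorem iCheckE8_1 : iCheck chevE8 1 wpE8_1 epE8_1 cPE8 rPE8 nPE8 = true :=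
  iCheck_of_parts chevE8 1 wpE8_1 epE8_1 cPE8 rPE8 nPE8 60 60 60 60 rfl partE8_1_rest partE8_1_Nh
    partE8_1_N1 partE8_1_N2 partE8_1_N3 partE8_1_N4 partE8_1_X1 partE8_1_X2 partE8_1_X3 partE8_1_X4

end Cfsg.Agent.Helper36
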