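import Cfsg.Agent.Helper36.ChevTabs
import Cfsg.Agent.Helper36.ChevParts

set_option autoImplicit false
set_option maxRecDepth 100000
open Cfsg Cfsg.Lie

/-! Kernel-checked reflection data for type E8, fundamental reflection 2 (checked in parts). -/

namespace Cfsg.Agent.Helper36

def wpE8_2 : ℕ := 89010710832725745165782235459872475154280622121245305451935284189796891986609553508120115617800247381425903506913793501621740144058856426409726296520870105944088071210077208036158123281336922507974837557012631125147342853176418750825867691433342788636856825459490268921107323757655376441022236038140059219790486132896388440655383746867478063393865412376222232171226315736044435218013124881770230153482484127468225324367815592321859374033917761553313348740424564716417650837788186550135374827969386553419933334973793356178552598849513931315254120302644802431154599699746591473920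
def epE8_2 : ℕ := 34534849182311705006499453394853494570293073576682290393498244893048992

theorem partE8_2_rest : checkRest chevE8 2 wpE8_2 epE8_2 cPE8 rPE8 nPE8 = true := by decide +kernel
theorem partE8_2_Nh : checkNh chevE8 2 = true := by decide +kernel
theorem partE8_2_N1 : checkNr chevE8 2 (wFun chevE8 wpE8_2) (etaAt epE8_2) 0 60 = true := by decide +kernel
theorem partE8_2_N2 : checkNr chevE8 2 (wFun chevE8 wpE8_2) (etaAt epE8_2) 60 60 = true := by decide +kernel
theorem partE8_2_N3 : checkNr chevE8 2 (wFun chevE8 wpE8_2) (etaAt epE8_2) 120 60 = true := by decide +kernel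
theorem partE8_2_N4 : checkNr chevE8 2 (wFun chevE8 wpE8_2) (etaAt epE8_2) 180 60 = true := by decide +kernel
theorem partE8_2_X1 : checkXr chevE8 (wFun chevE8 wpE8_2) (etaAt epE8_2) 0 60 = true := by decide +kernel
theorem partE8_2_X2 : checkXr chevE8 (wFun chevE8 wpE8_2) (etaAt epE8_2) 60 60 = true := by decide +kernel
theorem partE8_2_X3 : checkXr chevE8 (wFun chevE8 wpE8_2) (etaAt epE8_2) 120 60 = true := by decide +kernel
theorem partE8_2_X4 : checkXr chevE8 (wFun chevE8 wpE8_2) (etaAt epE8_2) 180 60 = true := by decide +kernel

theorem iCheckE8_2 : iCheck chevE8 2 wpE8_2 epE8_2 cPE8 rPE8 nPE8 = true :=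
  iCheck_of_parts chevE8 2 wpE8_2 epE8_2 cPE8 rPE8 nPE8 60 60 60 60 rfl partE8_2_rest partE8_2_Nh
    partE8_2_N1 partE8_2_N2 partE8_2_N3 partE8_2_N4 partE8_2_X1 partE8_2_X2 partE8_2_X3 partE8_2_X4

end Cfsg.Agent.Helper36
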