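import Cfsg.Agent.Helper36.ChevTabs
import Cfsg.Agent.Helper36.ChevParts

set_option autoImplicit false
set_option maxRecDepth 100000
open Cfsg Cfsg.Lie

/-! Kernel-checked reflection data for type E8, fundamental reflection 3 (checked in parts). -/

namespace Cfsg.Agent.Helper36

def wpE8_3 : ℕ := 89010710832640042910111002570656357653715391413141566596331023776964856083669365258548140478906507872628955595684419254834843229232697776527642939107948214787375489097164882990093468904723498389665687901900427190291264427804358237891932228052664145351264877813819956450891804972988388003365098856358027288215824823748769396133189946047224742087238448032137898031788973343765419247008549016964559503462021292736161599259527505720347129268890925678250880711178934622972084815217513580310228965341853079554683461698062554884656178636540855221896711318667953180723757473301824405760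
def epE8_3 : ℕ := 58692198817062529918959764646698662451337801727423465191247917552271632

theorem partE8_3_rest : checkRest chevE8 3 wpE8_3 epE8_3 cPE8 rPE8 nPE8 = true := by decide +kernel
theorem partE8_3_Nh : checkNh chevE8 3 = true := by decide +kernel
theorem partE8_3_N1 : checkNr chevE8 3 (wFun chevE8 wpE8_3) (etaAt epE8_3) 0 60 = true := by decide +kernel
theorem partE8_3_N2 : checkNr chevE8 3 (wFun chevE8 wpE8_3) (etaAt epE8_3) 60 60 = true := by decide +kernel
theorem partE8_3_N3 : checkNr chevE8 3 (wFun chevE8 wpE8_3) (etaAt epE8_3) 120 60 = true := by decide +kernel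
theorem partE8_3_N4 : checkNr chevE8 3 (wFun chevE8 wpE8_3) (etaAt epE8_3) 180 60 = true := by decide +kernel
theorem partE8_3_X1 : checkXr chevE8 (wFun chevE8 wpE8_3) (etaAt epE8_3) 0 60 = true := by decide +kernel
theorem partE8_3_X2 : checkXr chevE8 (wFun chevE8 wpE8_3) (etaAt epE8_3) 60 60 = true := by decide +kernel
theorem partE8_3_X3 : checkXr chevE8 (wFun chevE8 wpE8_3) (etaAt epE8_3) 120 60 = true := by decide +kernel
theorem partE8_3_X4 : checkXr chevE8 (wFun chevE8 wpE8_3) (etaAt epE8_3) 180 60 = true := by decide +kernel

theorem iCheckE8_3 : iCheck chevE8 3 wpE8_3 epE8_3 cPE8 rPE8 nPE8 = true :=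
  iCheck_of_parts chevE8 3 wpE8_3 epE8_3 cPE8 rPE8 nPE8 60 60 60 60 rfl partE8_3_rest partE8_3_Nh
    partE8_3_N1 partE8_3_N2 partE8_3_N3 partE8_3_N4 partE8_3_X1 partE8_3_X2 partE8_3_X3 partE8_3_X4

end Cfsg.Agent.Helper36
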