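import Cfsg.Agent.Helper36.ChevTabs
import Cfsg.Agent.Helper36.ChevParts

set_option autoImplicit false
set_option maxRecDepth 100000
open Cfsg Cfsg.Lie

/-! Kernel-checked reflection data for type E8, fundamental reflection 4 (checked in parts). -/

namespace Cfsg.Agent.Helper36

def wpE8_4 : ℕ := 89010710810700264150582617630331042255881895932910918226714852776874391712560822123306201324846964430844654021744796813142187524010757855487702572916830330127298365693899458709456758086075824036756691770046586241064145029133056116495308293743993175776525086010282095515927038476928213975218102397351640852387061258815504561004829092548212349860608510285292324260881662547262759342960965261517043933646963449207241238405678966067672724730749373320049762418207315511506201541333274614526630211416916896943463791273270459031700074181856090797289197533059447945620264098913323188480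
def epE8_4 : ℕ := 112167290887630127568134548647500768953880284869065220113818780602270216

theorem partE8_4_rest : checkRest chevE8 4 wpE8_4 epE8_4 cPE8 rPE8 nPE8 = true := by decide +kernel
theorem partE8_4_Nh : checkNh chevE8 4 = true := by decide +kernel
theorem partE8_4_N1 : checkNr chevE8 4 (wFun chevE8 wpE8_4) (etaAt epE8_4) 0 60 = true := by decide +kernel
theorem partE8_4_N2 : checkNr chevE8 4 (wFun chevE8 wpE8_4) (etaAt epE8_4) 60 60 = true := by decide +kernel
theorem partE8_4_N3 : checkNr chevE8 4 (wFun chevE8 wpE8_4) (etaAt epE8_4) 120 60 = true := by decide +kernel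
theorem partE8_4_N4 : checkNr chevE8 4 (wFun chevE8 wpE8_4) (etaAt epE8_4) 180 60 = true := by decide +kernel
theorem partE8_4_X1 : checkXr chevE8 (wFun chevE8 wpE8_4) (etaAt epE8_4) 0 60 = true := by decide +kernel
theorem partE8_4_X2 : checkXr chevE8 (wFun chevE8 wpE8_4) (etaAt epE8_4) 60 60 = true := by decide +kernel
theorem partE8_4_X3 : checkXr chevE8 (wFun chevE8 wpE8_4) (etaAt epE8_4) 120 60 = true := by decide +kernel
theorem partE8_4_X4 : checkXr chevE8 (wFun chevE8 wpE8_4) (etaAt epE8_4) 180 60 = true := by decide +kernel

theorem iCheckE8_4 : iCheck chevE8 4 wpE8_4 epE8_4 cPE8 rPE8 nPE8 = true :=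
  iCheck_of_parts chevE8 4 wpE8_4 epE8_4 cPE8 rPE8 nPE8 60 60 60 60 rfl partE8_4_rest partE8_4_Nh
    partE8_4_N1 partE8_4_N2 partE8_4_N3 partE8_4_N4 partE8_4_X1 partE8_4_X2 partE8_4_X3 partE8_4_X4

end Cfsg.Agent.Helper36
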