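import Cfsg.Agent.Helper36.ChevTabs
import Cfsg.Agent.Helper36.ChevParts

set_option autoImplicit false
set_option maxRecDepth 100000
open Cfsg Cfsg.Lie

/-! Kernel-checked reflection data for type E8, fundamental reflection 5 (checked in parts). -/

namespace Cfsg.Agent.Helper36

def wpE8_5 : ℕ := 89010705194116901706207898042593272076635715598316080962368373660183275904963211241670112868150747514853452339348300442536856573504108070476071578517515459877170448087740084341605535907786739352171560154020690462814959752126950608726406504555309146021826472933762216957718802688115433395906838355161543700798538259399617365590114206434373053162203444095549298876781670225955956867766795389687715615088611026287293754751444324085777775017164061220134326830106176777561728721517073324255709968496742906099242262077598598897834567242933249561462858944112061751703801260570581336320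
def epE8_5 : ℕ := 221725565796465234069846255712747878990393484658275795028023269379933188

theorem partE8_5_rest : checkRest chevE8 5 wpE8_5 epE8_5 cPE8 rPE8 nPE8 = true := by decide +kernel
theorem partE8_5_Nh : checkNh chevE8 5 = true := by decide +kernel
theorem partE8_5_N1 : checkNr chevE8 5 (wFun chevE8 wpE8_5) (etaAt epE8_5) 0 60 = true := by decide +kernel
theorem partE8_5_N2 : checkNr chevE8 5 (wFun chevE8 wpE8_5) (etaAt epE8_5) 60 60 = true := by decide +kernel
theorem partE8_5_N3 : checkNr chevE8 5 (wFun chevE8 wpE8_5) (etaAt epE8_5) 120 60 = true := by decide +kernel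
theorem partE8_5_N4 : checkNr chevE8 5 (wFun chevE8 wpE8_5) (etaAt epE8_5) 180 60 = true := by decide +kernel
theorem partE8_5_X1 : checkXr chevE8 (wFun chevE8 wpE8_5) (etaAt epE8_5) 0 60 = true := by decide +kernel
theorem partE8_5_X2 : checkXr chevE8 (wFun chevE8 wpE8_5) (etaAt epE8_5) 60 60 = true := by decide +kernel
theorem partE8_5_X3 : checkXr chevE8 (wFun chevE8 wpE8_5) (etaAt epE8_5) 120 60 = true := by decide +kernel
theorem partE8_5_X4 : checkXr chevE8 (wFun chevE8 wpE8_5) (etaAt epE8_5) 180 60 = true := by decide +kernel

theorem iCheckE8_5 : iCheck chevE8 5 wpE8_5 epE8_5 cPE8 rPE8 nPE8 = true :=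
  iCheck_of_parts chevE8 5 wpE8_5 epE8_5 cPE8 rPE8 nPE8 60 60 60 60 rfl partE8_5_rest partE8_5_Nh
    partE8_5_N1 partE8_5_N2 partE8_5_N3 partE8_5_N4 partE8_5_X1 partE8_5_X2 partE8_5_X3 partE8_5_X4

end Cfsg.Agent.Helper36
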