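import Cfsg.Agent.Helper36.ChevTabs
import Cfsg.Agent.Helper36.ChevParts

set_option autoImplicit false
set_option maxRecDepth 100000
open Cfsg Cfsg.Lie

/-! Kernel-checked reflection data for type E8, fundamental reflection 7 (checked in parts). -/

namespace Cfsg.Agent.Helper36

def wpE8_7 : ℕ := 88641178941534961399528574982133574396814677498906256381400989866246665564627449953229161844680194659074190077933092506923116215135179707304662642718937925229953648022107495859618087372822661764163967864959498616813225990959921021107342227069879379961702186122601970179144962718114610669862116384906490085474227268535270866071537994068712179526991254658483445889533178669162414355083484286780054293952034942920139124176531856893144339475625188267984313062904125435984721199090783521652049076887975122872968631645246134704052914889999252209582043955376412284065663104007717126145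
def epE8_7 : ℕ := 883640953424295284539211242083837250739230978062844892341602038697168897

theorem partE8_7_rest : checkRest chevE8 7 wpE8_7 epE8_7 cPE8 rPE8 nPE8 = true := by decide +kernel
theorem partE8_7_Nh : checkNh chevE8 7 = true := by decide +kernel
theorem partE8_7_N1 : checkNr chevE8 7 (wFun chevE8 wpE8_7) (etaAt epE8_7) 0 60 = true := by decide +kernel
theorem partE8_7_N2 : checkNr chevE8 7 (wFun chevE8 wpE8_7) (etaAt epE8_7) 60 60 = true := by decide +kernel
theorem partE8_7_N3 : checkNr chevE8 7 (wFun chevE8 wpE8_7) (etaAt epE8_7) 120 60 = true := by decide +kernel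
theorem partE8_7_N4 : checkNr chevE8 7 (wFun chevE8 wpE8_7) (etaAt epE8_7) 180 60 = true := by decide +kernel
theorem partE8_7_X1 : checkXr chevE8 (wFun chevE8 wpE8_7) (etaAt epE8_7) 0 60 = true := by decide +kernel
theorem partE8_7_X2 : checkXr chevE8 (wFun chevE8 wpE8_7) (etaAt epE8_7) 60 60 = true := by decide +kernel
theorem partE8_7_X3 : checkXr chevE8 (wFun chevE8 wpE8_7) (etaAt epE8_7) 120 60 = true := by decide +kernel
theorem partE8_7_X4 : checkXr chevE8 (wFun chevE8 wpE8_7) (etaAt epE8_7) 180 60 = true := by decide +kernel

theorem iCheckE8_7 : iCheck chevE8 7 wpE8_7 epE8_7 cPE8 rPE8 nPE8 = true :=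
  iCheck_of_parts chevE8 7 wpE8_7 epE8_7 cPE8 rPE8 nPE8 60 60 60 60 rfl partE8_7_rest partE8_7_Nh
    partE8_7_N1 partE8_7_N2 partE8_7_N3 partE8_7_N4 partE8_7_X1 partE8_7_X2 partE8_7_X3 partE8_7_X4

end Cfsg.Agent.Helper36
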