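import Cfsg.Agent.Helper36.ChevTabs

set_option autoImplicit false
set_option maxRecDepth 100000
open Cfsg Cfsg.Lie

/-! Kernel-checked reflection data for type F4. -/

namespace Cfsg.Agent.Helper36

def wpF4_0 : ℕ := 7261724565101152271001196648824430191705409898545041084742521782222439549395075633586971079114467536390968217567488
def epF4_0 : ℕ := 33964469241720
theorem iCheckF4_0 : iCheck chevF4 0 wpF4_0 epF4_0 cPF4 rPF4 nPF4 = true := by decide +kernel

def wpF4_1 : ℕ := 7261719905179377314326951809577084366435515108925945206036271551105028264520922437528663364052125838431098365018368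
def epF4_1 : ℕ := 19125464147592
theorem iCheckF4_1 : iCheck chevF4 1 wpF4_1 epF4_1 cPF4 rPF4 nPF4 = true := by decide +kernel

def wpF4_2 : ℕ := 7261125723798567773061544950201179012210677350992756811983071709623601191490907863340615466535151168674041335710208
def epF4_2 : ℕ := 79753579630866
theorem iCheckF4_2 : iCheck chevF4 2 wpF4_2 epF4_2 cPF4 rPF4 nPF4 = true := by decide +kernel

def wpF4_3 : ℕ := 7108411742389255762021063953019659246634323563397623500971045033854480450961950488139841120255260502304031118589953
def epF4_3 : ℕ := 145481911306785
theorem iCheckF4_3 : iCheck chevF4 3 wpF4_3 epF4_3 cPF4 rPF4 nPF4 = true := by decide +kernel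

end Cfsg.Agent.Helper36
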