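import Cfsg.Agent.Helper36.ChevNG2
import Cfsg.Agent.Helper36.ChevNB2
import Cfsg.Agent.Helper36.ChevND4
import Cfsg.Agent.Helper36.ChevNF4
import Cfsg.Agent.Helper36.ChevNE6
import Cfsg.Agent.Helper36.ChevNE7
import Cfsg.Agent.Helper36.ChevNE8_0
import Cfsg.Agent.Helper36.ChevNE8_1
import Cfsg.Agent.Helper36.ChevNE8_2
import Cfsg.Agent.Helper36.ChevNE8_3
import Cfsg.Agent.Helper36.ChevNE8_4
import Cfsg.Agent.Helper36.ChevNE8_5
import Cfsg.Agent.Helper36.ChevNE8_6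
import Cfsg.Agent.Helper36.ChevNE8_7

set_option autoImplicit false
open Cfsg Cfsg.Lie

/-! Dispatch over the seven tabulated types: every fundamental reflection has kernel-checked data. -/

namespace Cfsg.Agent.Helper36

theorem exists_checks (D : ChevalleyDatum)
    (hD : D ∈ [chevG2, chevB2, chevD4, chevF4, chevE6, chevE7, chevE8]) (i : ℕ) (hi : i < D.rank) :
    ∃ wp ep cP rP nP : ℕ, tabCheck D cP rP nP = true ∧ iCheck D i wp ep cP rP nP = true := by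
  simp only [List.mem_cons, List.mem_nil_iff, or_false] at hD
  rcases hD with rfl | rfl | rfl | rfl | rfl | rfl | rfl
  · have hi' : i < 2 := hi
    interval_cases i
    · exact ⟨_, _, _, _, _, tabG2, iCheckG2_0⟩
    · exact ⟨_, _, _, _, _, tabG2, iCheckG2_1⟩
  · have hi' : i < 2 := hi
    interval_cases i
    · exact ⟨_, _, _, _, _, tabB2, iCheckB2_0⟩
    · exact ⟨_, _, _, _, _, tabB2, iCheckB2_1⟩
  · have hi' : i < 4 := hi
    interval_cases i
    · exact ⟨_, _, _, _, _, tabD4, iCheckD4_0⟩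
    · exact ⟨_, _, _, _, _, tabD4, iCheckD4_1⟩
    · exact ⟨_, _, _, _, _, tabD4, iCheckD4_2⟩
    · exact ⟨_, _, _, _, _, tabD4, iCheckD4_3⟩
  · have hi' : i < 4 := hi
    interval_cases i
    · exact ⟨_, _, _, _, _, tabF4, iCheckF4_0⟩
    · exact ⟨_, _, _, _, _, tabF4, iCheckF4_1⟩
    · exact ⟨_, _, _, _, _, tabF4, iCheckF4_2⟩
    · exact ⟨_, _, _, _, _, tabF4, iCheckF4_3⟩
  · have hi' : i < 6 := hi
    interval_cases i
    · exact ⟨_, _, _, _, _, tabE6, iCheckE6_0⟩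
    · exact ⟨_, _, _, _, _, tabE6, iCheckE6_1⟩
    · exact ⟨_, _, _, _, _, tabE6, iCheckE6_2⟩
    · exact ⟨_, _, _, _, _, tabE6, iCheckE6_3⟩
    · exact ⟨_, _, _, _, _, tabE6, iCheckE6_4⟩
    · exact ⟨_, _, _, _, _, tabE6, iCheckE6_5⟩
  · have hi' : i < 7 := hi
    interval_cases i
    · exact ⟨_, _, _, _, _, tabE7, iCheckE7_0⟩
    · exact ⟨_, _, _, _, _, tabE7, iCheckE7_1⟩
    · exact ⟨_, _, _, _, _, tabE7, iCheckE7_2⟩
    · exact ⟨_, _, _, _, _, tabE7, iCheckE7_3⟩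
    · exact ⟨_, _, _, _, _, tabE7, iCheckE7_4⟩
    · exact ⟨_, _, _, _, _, tabE7, iCheckE7_5⟩
    · exact ⟨_, _, _, _, _, tabE7, iCheckE7_6⟩
  · have hi' : i < 8 := hi
    interval_cases i
    · exact ⟨_, _, _, _, _, tabE8, iCheckE8_0⟩
    · exact ⟨_, _, _, _, _, tabE8, iCheckE8_1⟩
    · exact ⟨_, _, _, _, _, tabE8, iCheckE8_2⟩
    · exact ⟨_, _, _, _, _, tabE8, iCheckE8_3⟩
    · exact ⟨_, _, _, _, _, tabE8, iCheckE8_4⟩
    · exact ⟨_, _, _, _, _, tabE8, iCheckE8_5⟩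
    · exact ⟨_, _, _, _, _, tabE8, iCheckE8_6⟩
    · exact ⟨_, _, _, _, _, tabE8, iCheckE8_7⟩

/-- `n_p x_s(t) = x_{w_p s}(η t) n_p` for every fundamental root `p` and root `s` of the seven types -/
theorem nMat_conj {F : Type*} [Field F] (D : ChevalleyDatum)
    (hD : D ∈ [chevG2, chevB2, chevD4, chevF4, chevE6, chevE7, chevE8]) (i s : ℕ) (hi : i < D.rank)
    (hs : s < D.nroots) :
    ∃ η : ℤ, (η = 1 ∨ η = -1) ∧ ∀ t : F, D.nMat F (D.simple i) 1 * D.x F s t =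
      D.x F (D.reflectRoot i s) ((η : F) * t) * D.nMat F (D.simple i) 1 := by
  obtain ⟨wp, ep, cP, rP, nP, htab, hchk⟩ := exists_checks D hD i hi
  exact ⟨etaAt ep s, etaAt_cases ep s, fun t => conj_of_iCheck D F htab hchk s hs t⟩

end Cfsg.Agent.Helper36
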