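import Cfsg.Agent.Helper36.F4Core
import Cfsg.Agent.Helper19.Twist.FixF4

/-!
Helper36: `N¹ / H¹ ≅ D₁₆` for `²F₄`: the homomorphism `N ∩ ²F₄ → W(F₄)^ρ ≅ DihedralGroup 8`.
-/

set_option autoImplicit false
set_option maxRecDepth 100000

namespace Cfsg.Agent.Helper36.F4Class

open Cfsg Cfsg.Lie Cfsg.Agent.Helper36.Perfect Cfsg.Agent.Helper36.Twist
  Cfsg.Agent.Helper36.TwistF4 Cfsg.Agent.Helper36.B2Class Cfsg.Agent.Helper36.SigmaF4
  Cfsg.Agent.Helper36.SigmaChev Cfsg.Agent.Helper36.LeviBruhat Cfsg.Agent.Helper36.FieldFix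
  Cfsg.Agent.Helper19.Cox Cfsg.Agent.Helper19.Poinc Cfsg.Agent.Helper19.Twist

section

variable {K : Type*} [Field K] [CharP K 2] [Fintype K] {m : ℕ}
  (hK : Fintype.card K = 2 ^ (2 * m + 1))
  {σ : ↥(chevF4.group K) ≃* ↥(chevF4.group K)} (hσ : Spec chevF4 σ rho (cF m))

/-- the restriction of `N → W` to `N ∩ ²F₄` -/
noncomputable def thetaTw (m : ℕ) : ↥(chevF4.monomialSubgroup K ⊓ twistedF4 K (2 ^ m)) →* certF4.M.Group :=
  (thetaF4 (K := K)).comp (Subgroup.inclusion inf_le_left)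

include hK hσ in
theorem thetaTw_mem (n : ↥(chevF4.monomialSubgroup K ⊓ twistedF4 K (2 ^ m))) :
    thetaTw m n ∈ fixF4 := by
  rw [mem_fixF4]
  obtain ⟨hGG, hfix⟩ := twisted_le_FixG hK hσ n.2.2
  exact hσ.theta_isFix hF4 certF4 (Cfsg.Agent.Helper18.nConjHyp chevF4 hF4) rootInjOK_F4
    ⟨(n : GL chevF4.Idx K), n.2.1⟩ hGG hfix

include hK hσ in
theorem thetaTw_surj (w : certF4.M.Group) (hw : w ∈ fixF4) :
    ∃ n : ↥(chevF4.monomialSubgroup K ⊓ twistedF4 K (2 ^ m)), thetaTw m n = w := by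
  have h1 := isFix_F4_mem w hw
  have h2 : Subgroup.closure ({gp certF4.M [0, 3], gp certF4.M [1, 2, 1, 2]} : Set certF4.M.Group) ≤
      (thetaTw (K := K) m).range := by
    rw [Subgroup.closure_le]
    rintro x (rfl | rfl)
    · obtain ⟨hP2, hP3⟩ := mP_theta (K := K) m
      refine ⟨⟨mP m, hP2, mP_mem_twisted m⟩, ?_⟩
      have e : gp certF4.M [0, 3] = gp certF4.M [3, 0] :=
        gp_eq_of_actW certF4 _ _ (by decide)
      rw [e, ← hP3]
      rfl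
    · obtain ⟨mS, hS1, hS2, hS3⟩ := exists_mS_theta hK hσ
      refine ⟨⟨mS, hS2, hS1⟩, ?_⟩
      rw [← hS3]
      rfl
  exact h2 h1

omit [CharP K 2] [Fintype K] in
theorem thetaTw_eq_one_iff (n : ↥(chevF4.monomialSubgroup K ⊓ twistedF4 K (2 ^ m))) :
    thetaTw m n = 1 ↔ (n : GL chevF4.Idx K) ∈ chevF4.diagonalSubgroup K := by
  unfold thetaTw
  rw [MonoidHom.comp_apply]
  exact theta_eq_one_iff chevF4 hF4 certF4 _ _

include hK hσ in
/-- `N¹ / H¹ ≅ D₁₆` -/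
theorem weyl_quot :
    ∃ φ : ↥(chevF4.monomialSubgroup K ⊓ twistedF4 K (2 ^ m)) →* DihedralGroup 8,
      Function.Surjective φ ∧
      φ.ker = (chevF4.diagonalSubgroup K ⊓ twistedF4 K (2 ^ m)).subgroupOf
        (chevF4.monomialSubgroup K ⊓ twistedF4 K (2 ^ m)) := by
  obtain ⟨e⟩ := fixF4_equiv
  let θ' : ↥(chevF4.monomialSubgroup K ⊓ twistedF4 K (2 ^ m)) →* ↥fixF4 :=
    (thetaTw (K := K) m).codRestrict fixF4 (thetaTw_mem hK hσ)
  refine ⟨e.toMonoidHom.comp θ', ?_, ?_⟩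
  · intro d
    obtain ⟨n, hn⟩ := thetaTw_surj hK hσ (e.symm d).1 (e.symm d).2
    refine ⟨n, ?_⟩
    have : θ' n = e.symm d := Subtype.ext hn
    show e (θ' n) = d
    rw [this, MulEquiv.apply_symm_apply]
  · ext n
    rw [MonoidHom.mem_ker, Subgroup.mem_subgroupOf]
    show e (θ' n) = 1 ↔ _
    rw [MulEquiv.map_eq_one_iff]
    constructor
    · intro h
      have h1 : thetaTw m n = 1 := congrArg Subtype.val h
      exact ⟨(thetaTw_eq_one_iff n).mp h1, n.2.2⟩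
    · intro h
      apply Subtype.ext
      exact (thetaTw_eq_one_iff n).mpr h.1

end

end Cfsg.Agent.Helper36.F4Class
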