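import Cfsg.Agent.Helper36.F4Cells
import Cfsg.Agent.Helper36.F4WeylQuot

/-!
Helper36: the order of `²F₄(q)`.
-/

set_option autoImplicit false
set_option maxRecDepth 100000
set_option linter.unusedSectionVars false

namespace Cfsg.Agent.Helper36.F4Class

open Cfsg Cfsg.Lie Cfsg.Agent.Helper36.SigmaF4 Cfsg.Agent.Helper36.SigmaChev
  Cfsg.Agent.Helper36.USplit Cfsg.Agent.Helper19.Cox Cfsg.Agent.Helper19.Poinc Cfsg.Agent.Helper19.Twist
  Cfsg.Agent.Helper40.UProd Cfsg.Agent.Helper36.FieldFix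

section

variable {K : Type*} [Field K] [CharP K 2] [Fintype K] {m : ℕ}
  {σ : ↥(chevF4.group K) ≃* ↥(chevF4.group K)}
  (hK : Fintype.card K = 2 ^ (2 * m + 1)) (hσ : Spec chevF4 σ rho (cF m))

include hK hσ in
theorem goodL_16 (i : ℕ) (hi : i < 16) : GoodL σ m (lists16.getD i []) (exps16.getD i 0) := by
  interval_cases i
  · exact goodL_nil
  · exact goodL_a1 hK hσ
  · exact goodL_a2 hK hσ
  · exact goodL_a3 hK hσ
  · exact goodL_a4 hK hσ
  · exact goodL_a5 hK hσ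
  · exact goodL_a6 hK hσ
  · exact goodL_a7 hK hσ
  · exact goodL_a8 hK hσ
  · exact goodL_b1 hK hσ
  · exact goodL_b2 hK hσ
  · exact goodL_b3 hK hσ
  · exact goodL_b4 hK hσ
  · exact goodL_b5 hK hσ
  · exact goodL_b6 hK hσ
  · exact goodL_b7 hK hσ

theorem sum16 (q : ℕ) : ∑ i : Fin 16, q ^ (exps16.getD i.val 0) =
    (1 + q) * (1 + q ^ 2) * (1 + q ^ 3) * (1 + q ^ 6) := by
  simp only [Fin.sum_univ_succ, exps16]
  simp
  ring

include hK hσ in
/-- the order of `²F₄(q)`, as the product over the sixteen cells -/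
theorem card_twisted_cells :
    Nat.card ↥(twistedF4 K (2 ^ m)) = (2 ^ (2 * m + 1)) ^ 12 * (2 ^ (2 * m + 1) - 1) ^ 2 *
      ((1 + 2 ^ (2 * m + 1)) * (1 + (2 ^ (2 * m + 1)) ^ 2) * (1 + (2 ^ (2 * m + 1)) ^ 3) *
        (1 + (2 ^ (2 * m + 1)) ^ 6)) := by
  obtain ⟨mS, hS1, hS2, hS3⟩ := exists_mS_theta hK hσ
  obtain ⟨hP2, hP3⟩ := mP_theta (K := K) m
  have hP1 := mP_mem_twisted (K := K) m
  have hG1F : twistedF4 K (2 ^ m) ≤ FixS σ := twisted_le_FixG hK hσ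
  have hG1 : twistedF4 K (2 ^ m) ≤ chevF4.group K := fun g hg => (hG1F hg).1
  have hG1fix : ∀ g : ↥(chevF4.group K), (g : GL chevF4.Idx K) ∈ twistedF4 K (2 ^ m) → σ g = g :=
    fun g hg => (mem_FixS g).mp (hG1F hg)
  set rep : Fin 16 → GL chevF4.Idx K := fun i => repOf (mP m) mS (LW16.getD i.val []) with hrep
  have hrepN : ∀ i, rep i ∈ chevF4.monomialSubgroup K := fun i => repOf_mem _ _ _ hP2 hS2 _
  have hrepG : ∀ i, rep i ∈ twistedF4 K (2 ^ m) := fun i => repOf_mem _ _ _ hP1 hS1 _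
  have hrepθ : ∀ i, thetaF4 ⟨rep i, hrepN i⟩ = gp certF4.M (wordOf (LW16.getD i.val [])) :=
    fun i => theta_repOf _ _ hP2 hS2 hP3 hS3 _
  have hHN : chevF4.diagonalSubgroup K ≤ chevF4.monomialSubgroup K := le_sup_left
  have hdist : ∀ i j, (rep i)⁻¹ * rep j ∈ chevF4.diagonalSubgroup K → i = j := by
    intro i j hij
    have e1 : thetaF4 ((⟨rep i, hrepN i⟩ : ↥(chevF4.monomialSubgroup K))⁻¹ * ⟨rep j, hrepN j⟩) = 1 :=
      (theta_eq_one_iff chevF4 hF4 certF4 _ _).mpr hij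
    rw [map_mul, map_inv, inv_mul_eq_one, hrepθ, hrepθ] at e1
    have h1 := List.all_eq_true.mp dist16_ok i.val (List.mem_range.mpr i.2)
    have h2 := List.all_eq_true.mp h1 j.val (List.mem_range.mpr j.2)
    rw [Bool.or_eq_true, decide_eq_true_eq, List.any_eq_true] at h2
    rcases h2 with h2 | ⟨x, -, hx⟩
    · exact Fin.ext h2
    · exfalso
      rw [bne_iff_ne] at hx
      exact hx (actW_eq_of_gp certF4 _ _ e1 x)
  have hcover : ∀ n ∈ chevF4.monomialSubgroup K ⊓ twistedF4 K (2 ^ m),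
      ∃ i, (rep i)⁻¹ * n ∈ chevF4.diagonalSubgroup K := by
    rintro n ⟨hnN, hnG⟩
    have h1 := thetaTw_mem hK hσ ⟨n, hnN, hnG⟩
    rw [mem_fixF4] at h1
    obtain ⟨i, hi, e⟩ := mem_words16 _ (isFix_F4_mem _ h1)
    refine ⟨⟨i, hi⟩, ?_⟩
    have e1 : thetaF4 ((⟨rep ⟨i, hi⟩, hrepN _⟩ : ↥(chevF4.monomialSubgroup K))⁻¹ * ⟨n, hnN⟩) = 1 := by
      rw [map_mul, map_inv, inv_mul_eq_one, hrepθ]
      exact e.symm
    exact (theta_eq_one_iff chevF4 hF4 certF4 _ _).mp e1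
  have hcount := spec_card_twisted chevF4 hF4 (twistedF4 K (2 ^ m)) hG1 hG1fix (hU_F4 hK hσ) rep hrepN hrepG
    hdist hcover hσ
  rw [hcount, card_pos hK hσ, card_torus hK hσ]
  congr 1
  rw [← sum16]
  apply Finset.sum_congr rfl
  intro i _
  have hcell : cellOK (wordOf (LW16.getD i.val [])) (lists16.getD i.val []) = true :=
    List.all_eq_true.mp cells16_ok i.val (List.mem_range.mpr i.2)
  rw [Um_eq_list (rep i) (hrepN i) _ _ (hrepθ i) hcell]
  obtain ⟨hg1, hg2⟩ := goodL_16 hK hσ i.val i.2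
  have e : listSubgroup chevF4 K (lists16.getD i.val []) ⊓ twistedF4 K (2 ^ m) =
      listSubgroup chevF4 K (lists16.getD i.val []) ⊓ FixS σ := by
    apply le_antisymm
    · exact inf_le_inf_left _ hG1F
    · exact le_inf inf_le_left hg1
  rw [e, hg2]

include hK hσ in
/-- the order of `²F₄(q)` -/
theorem card_twisted :
    Nat.card ↥(twistedF4 K (2 ^ m)) = (2 ^ (2 * m + 1)) ^ 12 * (2 ^ (2 * m + 1) - 1) *
      ((2 ^ (2 * m + 1)) ^ 3 + 1) * ((2 ^ (2 * m + 1)) ^ 4 - 1) * ((2 ^ (2 * m + 1)) ^ 6 + 1) := by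
  rw [card_twisted_cells hK hσ]
  obtain ⟨p, hp⟩ : ∃ p, 2 ^ (2 * m + 1) = p + 1 := ⟨2 ^ (2 * m + 1) - 1, by
    have : 0 < 2 ^ (2 * m + 1) := by positivity
    omega⟩
  rw [hp]
  have e1 : p + 1 - 1 = p := by omega
  have e2 : (p + 1) ^ 4 - 1 = p * (1 + (p + 1)) * (1 + (p + 1) ^ 2) := by
    apply Nat.sub_eq_of_eq_add
    ring
  rw [e1, e2]
  ring

end

end Cfsg.Agent.Helper36.F4Class
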