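import Mathlib

/-!
Helper36: the Suzuki-type unipotent group inside a group with root subgroups of type `B₂` in
characteristic two.  Given additive families `xa xb xc xd : F → G` (`a` short, `b` long, `c = a + b`,
`d = 2a + b`) with `x_b(u) x_a(t) = x_a(t) x_b(u) x_c(t u) x_d(t² u)` and all other pairs commuting,
and a ring endomorphism `φ` with `φ(φ t)² = t`, the elements
`β(t, u) = x_a(φ t) x_b(t) x_c(φ t · t + u) x_d((φ u)²)` multiply by
`β(t₁, u₁) β(t₂, u₂) = β(t₁ + t₂, u₁ + u₂ + φ t₁ · t₂)`; if a subgroup contains all of them and an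
element acting on them like a torus element, they lie in its commutator subgroup.
-/

set_option autoImplicit false

namespace Cfsg.Agent.Helper36.B2Class

open scoped commutatorElement

section

variable {F : Type*} [Field F] {G : Type*} [Group G]

/-- the hypotheses on the four families -/
structure Rel (xa xb xc xd : F → G) : Prop where
  adda : ∀ s t, xa (s + t) = xa s * xa t
  addb : ∀ s t, xb (s + t) = xb s * xb t
  addc : ∀ s t, xc (s + t) = xc s * xc t
  addd : ∀ s t, xd (s + t) = xd s * xd t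
  hab : ∀ t u, xb u * xa t = xa t * xb u * xc (t * u) * xd (t ^ 2 * u)
  hca : ∀ s t, Commute (xc s) (xa t)
  hcb : ∀ s t, Commute (xc s) (xb t)
  hcd : ∀ s t, Commute (xc s) (xd t)
  hda : ∀ s t, Commute (xd s) (xa t)
  hdb : ∀ s t, Commute (xd s) (xb t)

variable {xa xb xc xd : F → G} (R : Rel xa xb xc xd)

/-- the normal form `x_a(p) x_b(q) x_c(r) x_d(s)` -/
def nf (xa xb xc xd : F → G) (p q r s : F) : G := xa p * xb q * xc r * xd s

include R in
theorem zero_a : xa 0 = 1 := by
  have h := R.adda 0 0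
  rw [add_zero] at h
  calc xa 0 = xa 0 * xa 0 * (xa 0)⁻¹ := by group
    _ = xa 0 * (xa 0)⁻¹ := by rw [← h]
    _ = 1 := mul_inv_cancel _

include R in
theorem zero_b : xb 0 = 1 := by
  have h := R.addb 0 0
  rw [add_zero] at h
  calc xb 0 = xb 0 * xb 0 * (xb 0)⁻¹ := by group
    _ = xb 0 * (xb 0)⁻¹ := by rw [← h]
    _ = 1 := mul_inv_cancel _

include R in
theorem zero_c : xc 0 = 1 := by
  have h := R.addc 0 0
  rw [add_zero] at h
  calc xc 0 = xc 0 * xc 0 * (xc 0)⁻¹ := by group
    _ = xc 0 * (xc 0)⁻¹ := by rw [← h]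
    _ = 1 := mul_inv_cancel _

include R in
theorem zero_d : xd 0 = 1 := by
  have h := R.addd 0 0
  rw [add_zero] at h
  calc xd 0 = xd 0 * xd 0 * (xd 0)⁻¹ := by group
    _ = xd 0 * (xd 0)⁻¹ := by rw [← h]
    _ = 1 := mul_inv_cancel _

include R in
theorem hcc (s t : F) : Commute (xc s) (xc t) := by
  show _ * _ = _ * _
  rw [← R.addc, ← R.addc, add_comm]

include R in
theorem hdd (s t : F) : Commute (xd s) (xd t) := by
  show _ * _ = _ * _
  rw [← R.addd, ← R.addd, add_comm]

include R in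
/-- the multiplication of normal forms -/
theorem nf_mul (p q r s p' q' r' s' : F) :
    nf xa xb xc xd p q r s * nf xa xb xc xd p' q' r' s' =
      nf xa xb xc xd (p + p') (q + q') (r + r' + p' * q) (s + s' + p' ^ 2 * q) := by
  unfold nf
  -- `x_c(r) x_d(s)` commutes with `x_a(p') x_b(q')`
  have h1 : Commute (xc r * xd s) (xa p' * xb q') :=
    ((R.hca r p').mul_right (R.hcb r q')).mul_left ((R.hda s p').mul_right (R.hdb s q'))
  have h2 : Commute (xc (p' * q) * xd (p' ^ 2 * q)) (xb q') :=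
    (R.hcb _ _).mul_left (R.hdb _ _)
  calc xa p * xb q * xc r * xd s * (xa p' * xb q' * xc r' * xd s')
      = xa p * xb q * ((xc r * xd s) * (xa p' * xb q')) * (xc r' * xd s') := by
        simp only [mul_assoc]
    _ = xa p * xb q * ((xa p' * xb q') * (xc r * xd s)) * (xc r' * xd s') := by rw [h1.eq]
    _ = xa p * (xb q * xa p') * xb q' * ((xc r * xd s) * (xc r' * xd s')) := by
        simp only [mul_assoc]
    _ = xa p * (xa p' * xb q * xc (p' * q) * xd (p' ^ 2 * q)) * xb q' *
          ((xc r * xd s) * (xc r' * xd s')) := by rw [R.hab]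
    _ = xa p * xa p' * xb q * ((xc (p' * q) * xd (p' ^ 2 * q)) * xb q') *
          ((xc r * xd s) * (xc r' * xd s')) := by simp only [mul_assoc]
    _ = xa p * xa p' * xb q * (xb q' * (xc (p' * q) * xd (p' ^ 2 * q))) *
          ((xc r * xd s) * (xc r' * xd s')) := by rw [h2.eq]
    _ = (xa p * xa p') * (xb q * xb q') *
          ((xc (p' * q) * xd (p' ^ 2 * q)) * ((xc r * xd s) * (xc r' * xd s'))) := by
        simp only [mul_assoc]
    _ = (xa p * xa p') * (xb q * xb q') *
          ((xc r * xc r' * xc (p' * q)) * (xd s * xd s' * xd (p' ^ 2 * q))) := by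
        congr 1
        have e1 : (xc r * xd s) * (xc r' * xd s') = (xc r * xc r') * (xd s * xd s') :=
          Commute.mul_mul_mul_comm ((R.hcd r' s).symm) _ _
        rw [e1]
        have e2 : (xc (p' * q) * xd (p' ^ 2 * q)) * ((xc r * xc r') * (xd s * xd s')) =
            (xc (p' * q) * (xc r * xc r')) * (xd (p' ^ 2 * q) * (xd s * xd s')) :=
          Commute.mul_mul_mul_comm (((R.hcd r _).mul_left (R.hcd r' _)).symm) _ _
        rw [e2]
        have e3 : xc (p' * q) * (xc r * xc r') = xc r * xc r' * xc (p' * q) :=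
          ((hcc R _ r).mul_right (hcc R _ r')).eq
        have e4 : xd (p' ^ 2 * q) * (xd s * xd s') = xd s * xd s' * xd (p' ^ 2 * q) :=
          ((hdd R _ s).mul_right (hdd R _ s')).eq
        rw [e3, e4]
    _ = xa (p + p') * xb (q + q') * xc (r + r' + p' * q) * xd (s + s' + p' ^ 2 * q) := by
        rw [R.adda, R.addb, R.addc, R.addc, R.addd, R.addd]
        simp only [mul_assoc]

end

section Twist

variable {F : Type*} [Field F] [CharP F 2] {G : Type*} [Group G]
  {xa xb xc xd : F → G} (R : Rel xa xb xc xd) (φ : F →+* F) (hφ : ∀ t, (φ (φ t)) ^ 2 = t)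

/-- `β(t, u) = x_a(φ t) x_b(t) x_c(φ t · t + u) x_d((φ u)²)` -/
def beta (xa xb xc xd : F → G) (φ : F →+* F) (t u : F) : G :=
  nf xa xb xc xd (φ t) t (φ t * t + u) ((φ u) ^ 2)

include R hφ in
theorem beta_mul (t₁ u₁ t₂ u₂ : F) :
    beta xa xb xc xd φ t₁ u₁ * beta xa xb xc xd φ t₂ u₂ =
      beta xa xb xc xd φ (t₁ + t₂) (u₁ + u₂ + φ t₁ * t₂) := by
  have h2 : (2 : F) = 0 := CharTwo.two_eq_zero
  unfold beta
  rw [nf_mul R]
  have e1 : φ t₁ + φ t₂ = φ (t₁ + t₂) := (map_add φ _ _).symm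
  have e3 : φ t₁ * t₁ + u₁ + (φ t₂ * t₂ + u₂) + φ t₂ * t₁ =
      φ (t₁ + t₂) * (t₁ + t₂) + (u₁ + u₂ + φ t₁ * t₂) := by
    rw [map_add]
    linear_combination (-(φ t₁ * t₂)) * h2
  have e4 : φ u₁ ^ 2 + φ u₂ ^ 2 + φ t₂ ^ 2 * t₁ = φ (u₁ + u₂ + φ t₁ * t₂) ^ 2 := by
    rw [map_add, map_add, map_mul]
    linear_combination (-(φ t₂) ^ 2) * hφ t₁ +
      (-(φ u₁ * φ u₂ + φ u₁ * (φ (φ t₁) * φ t₂) + φ u₂ * (φ (φ t₁) * φ t₂))) * h2
  rw [e1, e3, e4]

include R in
theorem beta_zero : beta xa xb xc xd φ 0 0 = 1 := by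
  unfold beta nf
  simp [zero_a R, zero_b R, zero_c R, zero_d R]

include R hφ in
/-- if `g` acts on the `β(t, u)` like a torus element with parameter `k`, `k ≠ 1`, `φ k · k ≠ 1`,
all `β(t, u)` lie in the commutator subgroup -/
theorem beta_mem_commutator (G₁ : Subgroup G) (hβ : ∀ t u, beta xa xb xc xd φ t u ∈ G₁)
    (g : G) (hg : g ∈ G₁) (k : F)
    (hconj : ∀ t u, g * beta xa xb xc xd φ t u * g⁻¹ = beta xa xb xc xd φ (k * t) (φ k * k * u))
    (hk1 : k ≠ 1) (hk2 : φ k * k ≠ 1) (t u : F) : beta xa xb xc xd φ t u ∈ ⁅G₁, G₁⁆ := by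
  have h2 : (2 : F) = 0 := CharTwo.two_eq_zero
  have hself : ∀ x : F, x + x = 0 := fun x => CharTwo.add_self_eq_zero x
  -- inverses
  have hinv : ∀ t u, (beta xa xb xc xd φ t u)⁻¹ = beta xa xb xc xd φ t (u + φ t * t) := by
    intro t u
    rw [inv_eq_iff_mul_eq_one, beta_mul R φ hφ, hself]
    have : u + (u + φ t * t) + φ t * t = 0 := by
      linear_combination (u + φ t * t) * h2
    rw [this, beta_zero R]
  -- the central part
  have hZ : ∀ v, beta xa xb xc xd φ 0 v ∈ ⁅G₁, G₁⁆ := by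
    intro v
    set c := φ k * k with hc
    have hc1 : c + 1 ≠ 0 := by
      intro h
      apply hk2
      have : c = -1 := eq_neg_of_add_eq_zero_left h
      rw [this, CharTwo.neg_eq]
    have e : beta xa xb xc xd φ 0 v = ⁅g, beta xa xb xc xd φ 0 (v / (c + 1))⁆ := by
      rw [commutatorElement_def, hconj, hinv, beta_mul R φ hφ]
      congr 1
      · rw [mul_zero, add_zero]
      · simp only [map_zero, zero_mul, mul_zero, add_zero]
        field_simp
    rw [e]
    exact Subgroup.commutator_mem_commutator hg (hβ _ _)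
  -- the part `β(s, 0)`
  have hA : ∀ s, beta xa xb xc xd φ s 0 ∈ ⁅G₁, G₁⁆ := by
    intro s
    have hk1' : k + 1 ≠ 0 := by
      intro h
      apply hk1
      have : k = -1 := eq_neg_of_add_eq_zero_left h
      rw [this, CharTwo.neg_eq]
    set t := s / (k + 1) with ht
    have hc : ⁅g, beta xa xb xc xd φ t 0⁆ ∈ ⁅G₁, G₁⁆ :=
      Subgroup.commutator_mem_commutator hg (hβ _ _)
    rw [commutatorElement_def, hconj, hinv, beta_mul R φ hφ] at hc
    have e1 : k * t + t = s := by
      rw [ht]; field_simp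
    rw [e1] at hc
    set w := φ k * k * 0 + (0 + φ t * t) + φ (k * t) * t with hw
    -- `β(s, w) = β(s, 0) β(0, w)`
    have e2 : beta xa xb xc xd φ s 0 = beta xa xb xc xd φ s w * (beta xa xb xc xd φ 0 w)⁻¹ := by
      rw [hinv, beta_mul R φ hφ]
      congr 1
      · rw [add_zero]
      · rw [map_zero, zero_mul, add_zero, mul_zero, add_zero]
        linear_combination (-w) * h2
    rw [e2]
    exact Subgroup.mul_mem _ hc (Subgroup.inv_mem _ (hZ w))
  have e : beta xa xb xc xd φ t u = beta xa xb xc xd φ t 0 * beta xa xb xc xd φ 0 u := by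
    rw [beta_mul R φ hφ]
    congr 1
    · rw [add_zero]
    · rw [mul_zero, add_zero, zero_add]
  rw [e]
  exact Subgroup.mul_mem _ (hA t) (hZ u)

end Twist

end Cfsg.Agent.Helper36.B2Class
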