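import Cfsg.Agent.Helper36.F4UChain

/-!
Helper36: the fixed points of the twist on `U` lie in `²F₄`, and `|U ∩ ²F₄| = q¹²`.
-/

set_option autoImplicit false
set_option maxRecDepth 100000
set_option linter.unusedSectionVars false

namespace Cfsg.Agent.Helper36.F4Class

open Cfsg Cfsg.Lie Cfsg.Agent.Helper36.SigmaF4 Cfsg.Agent.Helper36.SigmaChev
  Cfsg.Agent.Helper36.USplit Cfsg.Agent.Helper19.Cox Cfsg.Agent.Helper19.Poinc Cfsg.Agent.Helper19.Twist
  Cfsg.Agent.Helper40.UProd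

theorem mem_La8 (r : ℕ) : r ∈ La8 ↔ 24 ≤ r ∧ r < 48 := by
  constructor
  · intro h
    have : ∀ x ∈ La8, 24 ≤ x ∧ x < 48 := by decide
    exact this r h
  · rintro ⟨h1, h2⟩
    have : ∀ x < 48, 24 ≤ x → x ∈ La8 := by decide
    exact this r h2 h1

section

variable {K : Type*} [Field K]

theorem listSubgroup_La8 : listSubgroup chevF4 K La8 = chevF4.posUnipotent K := by
  unfold listSubgroup ChevalleyDatum.posUnipotent
  congr 1
  ext g
  constructor
  · rintro ⟨r, t, hr, hg⟩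
    exact ⟨r, t, (isPosRoot_iff r).mpr ((mem_La8 r).mp hr), hg⟩
  · rintro ⟨r, t, hr, hg⟩
    exact ⟨r, t, (mem_La8 r).mpr ((isPosRoot_iff r).mp hr), hg⟩

variable [CharP K 2] [Fintype K] {m : ℕ}
  {σ : ↥(chevF4.group K) ≃* ↥(chevF4.group K)}
  (hK : Fintype.card K = 2 ^ (2 * m + 1)) (hσ : Spec chevF4 σ rho (cF m))

include hK hσ in
/-- the fixed points of the twist on `U` lie in `²F₄` -/
theorem pos_fix_le : chevF4.posUnipotent K ⊓ FixS σ ≤ twistedF4 K (2 ^ m) := by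
  rw [← listSubgroup_La8]
  exact (goodL_a8 hK hσ).1

include hK hσ in
theorem pos_inf_twisted : chevF4.posUnipotent K ⊓ twistedF4 K (2 ^ m) = chevF4.posUnipotent K ⊓ FixS σ := by
  apply le_antisymm
  · rintro u ⟨hu1, hu2⟩
    exact ⟨hu1, twisted_le_FixG hK hσ hu2⟩
  · rintro u hu
    exact ⟨hu.1, pos_fix_le hK hσ hu⟩

include hK hσ in
/-- `|U ∩ ²F₄| = q¹²` -/
theorem card_pos : Nat.card ↥(chevF4.posUnipotent K ⊓ twistedF4 K (2 ^ m)) = (2 ^ (2 * m + 1)) ^ 12 := by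
  rw [pos_inf_twisted hK hσ, ← listSubgroup_La8]
  exact (goodL_a8 hK hσ).2

include hK hσ in
/-- the hypothesis `hU` of the counting and `(B, N)`-pair theorems -/
theorem hU_F4 (u : ↥(chevF4.group K)) (hu : (u : GL chevF4.Idx K) ∈ chevF4.posUnipotent K)
    (hfix : σ u = u) : (u : GL chevF4.Idx K) ∈ twistedF4 K (2 ^ m) :=
  pos_fix_le hK hσ ⟨hu, u.2, hfix⟩

end

end Cfsg.Agent.Helper36.F4Class
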