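import Cfsg.Agent.Helper36.SylowU
import Cfsg.Agent.S1027
import Cfsg.Agent.S1043

/-!
Helper36: `U` is a Sylow `p`-subgroup of a Chevalley group over a finite field of characteristic `p`,
from `|U| = q ^ N` and an order formula `c * |G| = q ^ N * m` with `p ∤ m`.
-/

set_option autoImplicit false

namespace Cfsg.Agent.Helper36

open Cfsg Cfsg.Lie

theorem sylowU_of_order {F : Type*} [Field F] [Fintype F] (p : ℕ) [Fact p.Prime] [CharP F p]
    (D : ChevalleyDatum) (hD : D ∈ [chevG2, chevB2, chevD4, chevF4, chevE6, chevE7, chevE8])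
    (c m : ℕ) (hG : c * Nat.card ↥(D.group F) = Fintype.card F ^ (D.nroots / 2) * m) (hm : ¬ p ∣ m) :
    ∃ P : Sylow p ↥(D.group F), (P : Subgroup ↥(D.group F)) = (D.posUnipotent F).subgroupOf (D.group F) := by
  classical
  obtain ⟨n, -, hn⟩ := FiniteField.card F p
  have hUG : D.posUnipotent F ≤ D.group F :=
    le_trans le_sup_left (Cfsg.Agent.S1043.result (F := F) D hD).1
  have hU : Nat.card ((D.posUnipotent F).subgroupOf (D.group F)) = p ^ ((n : ℕ) * (D.nroots / 2)) := by
    rw [Nat.card_congr (Subgroup.subgroupOfEquivOfLe hUG).toEquiv, Cfsg.Agent.S1027.result D hD, hn, pow_mul]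
  have hG' : c * Nat.card ↥(D.group F) = p ^ ((n : ℕ) * (D.nroots / 2)) * m := by
    rw [hG, hn, pow_mul]
  exact exists_sylow_eq_of_card p _ _ c m hU hG' hm

theorem not_dvd_card_pow_sub_one {F : Type*} [Field F] [Fintype F] (p : ℕ) [Fact p.Prime] [CharP F p]
    {q : ℕ} (hq : Fintype.card F = q) (d : ℕ) (hd : d ≠ 0) : ¬ p ∣ q ^ d - 1 := by
  obtain ⟨n, hp, hn⟩ := FiniteField.card F p
  subst hq
  apply not_dvd_pow_sub_one hp _ hd Fintype.card_ne_zero
  rw [hn]
  exact dvd_pow_self p n.ne_zero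

end Cfsg.Agent.Helper36
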