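import Cfsg.Agent.Helper36.ChevGen
import Cfsg.Prelude.Def_ChevAutomorphisms

set_option autoImplicit false
open Cfsg Cfsg.Lie

/-!
Action of a graph automorphism on all root elements (with signs), from its action on the fundamental root
elements, the conjugation formula for `n_p` and table facts about `permRoot`.
-/

namespace Cfsg.Agent.Helper36

open scoped MatrixGroups

variable (D : ChevalleyDatum) (F : Type*) [Field F]

/-- the element `n_{p_i}` of the group as a product of fundamental root elements -/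
theorem exists_n_elt (i : ℕ)
    (hsimple : D.simple i < D.nroots ∧ D.neg (D.simple i) < D.nroots)
    (hinv : invCheck D (D.simple i) 1 (-1) = true ∧ invCheck D (D.neg (D.simple i)) (-1) 1 = true) :
    ∃ a b : ↥(D.group F),
      ((a : GL D.Idx F) : Matrix D.Idx D.Idx F) = D.x F (D.simple i) 1 ∧
      ((b : GL D.Idx F) : Matrix D.Idx D.Idx F) = D.x F (D.neg (D.simple i)) (-1) ∧
      (((a * b * a : ↥(D.group F)) : GL D.Idx F) : Matrix D.Idx D.Idx F) = D.nMat F (D.simple i) 1 := by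
  obtain ⟨hp, hnp⟩ := hsimple
  obtain ⟨hi1, hi2⟩ := hinv
  have h11 := mul_eq_one_of_invCheck D F ⟨D.simple i, hp⟩ 1 (-1) hi1
  have h22 := mul_eq_one_of_invCheck D F ⟨D.neg (D.simple i), hnp⟩ (-1) 1 hi2
  let u1 : GL D.Idx F := ⟨D.xMat F ⟨D.simple i, hp⟩ ((1 : ℤ) : F), D.xMat F ⟨D.simple i, hp⟩ ((-1 : ℤ) : F),
    h11, mul_eq_one_comm.mp h11⟩
  let u2 : GL D.Idx F := ⟨D.xMat F ⟨D.neg (D.simple i), hnp⟩ ((-1 : ℤ) : F),
    D.xMat F ⟨D.neg (D.simple i), hnp⟩ ((1 : ℤ) : F), h22, mul_eq_one_comm.mp h22⟩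
  have hu1 : u1 ∈ D.group F := Subgroup.subset_closure ⟨⟨D.simple i, hp⟩, ((1 : ℤ) : F), rfl⟩
  have hu2 : u2 ∈ D.group F := Subgroup.subset_closure ⟨⟨D.neg (D.simple i), hnp⟩, ((-1 : ℤ) : F), rfl⟩
  have hx1 : ((u1 : GL D.Idx F) : Matrix D.Idx D.Idx F) = D.x F (D.simple i) 1 := by
    show D.xMat F ⟨D.simple i, hp⟩ ((1 : ℤ) : F) = _
    unfold ChevalleyDatum.x
    rw [dif_pos hp, Int.cast_one]
  have hx2 : ((u2 : GL D.Idx F) : Matrix D.Idx D.Idx F) = D.x F (D.neg (D.simple i)) (-1) := by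
    show D.xMat F ⟨D.neg (D.simple i), hnp⟩ ((-1 : ℤ) : F) = _
    unfold ChevalleyDatum.x
    rw [dif_pos hnp, Int.cast_neg, Int.cast_one]
  refine ⟨⟨u1, hu1⟩, ⟨u2, hu2⟩, hx1, hx2, ?_⟩
  have : ((((⟨u1, hu1⟩ : ↥(D.group F)) * ⟨u2, hu2⟩ * ⟨u1, hu1⟩ : ↥(D.group F)) : GL D.Idx F) :
      Matrix D.Idx D.Idx F) =
      ((u1 : GL D.Idx F) : Matrix D.Idx D.Idx F) * ((u2 : GL D.Idx F) : Matrix D.Idx D.Idx F) *
        ((u1 : GL D.Idx F) : Matrix D.Idx D.Idx F) := rfl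
  rw [this, hx1, hx2]
  unfold ChevalleyDatum.nMat ChevalleyDatum.wordMat ChevalleyDatum.nWord
  simp only [List.map_cons, List.map_nil, List.prod_cons, List.prod_nil, mul_one, inv_one, mul_assoc]

theorem graph_signs_of_facts
    (hconj : ∀ i < D.rank, ∀ s < D.nroots, ∃ η : ℤ, (η = 1 ∨ η = -1) ∧ ∀ t : F,
      D.nMat F (D.simple i) 1 * D.x F s t =
        D.x F (D.reflectRoot i s) ((η : F) * t) * D.nMat F (D.simple i) 1)
    (hrefl : ∀ i < D.rank, ∀ s < D.nroots,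
      D.reflectRoot i s < D.nroots ∧ D.reflectRoot i (D.reflectRoot i s) = s)
    (hsimple : ∀ i < D.rank, D.simple i < D.nroots ∧ D.neg (D.simple i) < D.nroots)
    (hinv : ∀ i < D.rank, invCheck D (D.simple i) 1 (-1) = true ∧
      invCheck D (D.neg (D.simple i)) (-1) 1 = true)
    (cert : List ℕ) (hcert : genCheck D cert = true)
    (π : Equiv.Perm (Fin D.rank))
    (TP1 : ∀ j : Fin D.rank, D.permRoot π (D.simple j) = D.simple (π j) ∧
      D.permRoot π (D.neg (D.simple j)) = D.neg (D.simple (π j)))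
    (TP3 : ∀ s < D.nroots, D.permRoot π s < D.nroots)
    (TP4 : ∀ i : Fin D.rank, ∀ s < D.nroots,
      D.reflectRoot (π i) (D.permRoot π s) = D.permRoot π (D.reflectRoot i s))
    (φ : ↥(D.group F) ≃* ↥(D.group F))
    (hφ : ∀ (g : ↥(D.group F)) (i : Fin D.rank) (t : F),
      (((g : GL D.Idx F) : Matrix D.Idx D.Idx F) = D.x F (D.simple i) t →
        ((φ g : GL D.Idx F) : Matrix D.Idx D.Idx F) = D.x F (D.simple (π i)) t) ∧
      (((g : GL D.Idx F) : Matrix D.Idx D.Idx F) = D.x F (D.neg (D.simple i)) t →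
        ((φ g : GL D.Idx F) : Matrix D.Idx D.Idx F) = D.x F (D.neg (D.simple (π i))) t))
    (r : ℕ) (hr : r < D.nroots) :
    ∃ ε : F, (ε = 1 ∨ ε = -1) ∧ ∀ (g : ↥(D.group F)) (t : F),
      ((g : GL D.Idx F) : Matrix D.Idx D.Idx F) = D.x F r t →
        ((φ g : GL D.Idx F) : Matrix D.Idx D.Idx F) = D.x F (D.permRoot π r) (ε * t) := by
  revert r
  apply root_induction D cert hcert
    (fun r => ∃ ε : F, (ε = 1 ∨ ε = -1) ∧ ∀ (g : ↥(D.group F)) (t : F),
      ((g : GL D.Idx F) : Matrix D.Idx D.Idx F) = D.x F r t →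
        ((φ g : GL D.Idx F) : Matrix D.Idx D.Idx F) = D.x F (D.permRoot π r) (ε * t)) hrefl
  · intro j hj
    obtain ⟨t1, t2⟩ := TP1 ⟨j, hj⟩
    constructor
    · refine ⟨1, Or.inl rfl, ?_⟩
      intro g t hg
      rw [one_mul, t1]
      exact (hφ g ⟨j, hj⟩ t).1 hg
    · refine ⟨1, Or.inl rfl, ?_⟩
      intro g t hg
      rw [one_mul, t2]
      exact (hφ g ⟨j, hj⟩ t).2 hg
  · intro i hi s hs hPs
    obtain ⟨ε, hε, hPs⟩ := hPs
    obtain ⟨a, b, ha, hb, hab⟩ := exists_n_elt D F i (hsimple i hi) (hinv i hi)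
    obtain ⟨a', b', ha', hb', hab'⟩ := exists_n_elt D F (π ⟨i, hi⟩ : ℕ) (hsimple _ (π ⟨i, hi⟩).isLt)
      (hinv _ (π ⟨i, hi⟩).isLt)
    obtain ⟨η, hη, hc⟩ := hconj i hi s hs
    obtain ⟨η', hη', hc'⟩ := hconj (π ⟨i, hi⟩ : ℕ) (π ⟨i, hi⟩).isLt (D.permRoot π s) (TP3 s hs)
    refine ⟨((η' : ℤ) : F) * (ε * ((η : ℤ) : F)), ?_, ?_⟩
    · rcases hη with rfl | rfl <;> rcases hη' with rfl | rfl <;> rcases hε with rfl | rfl <;> simp
    · intro g t hg
      set ν : ↥(D.group F) := a * b * a with hν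
      -- images of a, b under φ
      have hφa : ((φ a : GL D.Idx F) : Matrix D.Idx D.Idx F) = ((a' : GL D.Idx F) : Matrix D.Idx D.Idx F) := by
        rw [(hφ a ⟨i, hi⟩ 1).1 ha, ha']
      have hφb : ((φ b : GL D.Idx F) : Matrix D.Idx D.Idx F) = ((b' : GL D.Idx F) : Matrix D.Idx D.Idx F) := by
        rw [(hφ b ⟨i, hi⟩ (-1)).2 hb, hb']
      have hφa' : φ a = a' := Subtype.ext (Units.ext hφa)
      have hφb' : φ b = b' := Subtype.ext (Units.ext hφb)
      have hφν : φ ν = a' * b' * a' := by rw [hν, map_mul, map_mul, hφa', hφb']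
      have hηη : ((η : ℤ) : F) * (((η : ℤ) : F) * t) = t := by
        rcases hη with rfl | rfl <;> simp
      have hc1 := hc (((η : ℤ) : F) * t)
      rw [hηη, ← hg, ← hab] at hc1
      -- γ' = ν⁻¹ g ν has matrix x_s(η t)
      have hγ' : (((ν⁻¹ * g * ν : ↥(D.group F)) : GL D.Idx F) : Matrix D.Idx D.Idx F) =
          D.x F s (((η : ℤ) : F) * t) := by
        have e1 : (((ν⁻¹ * g * ν : ↥(D.group F)) : GL D.Idx F) : Matrix D.Idx D.Idx F) =
            (((ν : GL D.Idx F)⁻¹ : GL D.Idx F) : Matrix D.Idx D.Idx F) *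
              ((g : GL D.Idx F) : Matrix D.Idx D.Idx F) * ((ν : GL D.Idx F) : Matrix D.Idx D.Idx F) := rfl
        rw [e1, mul_assoc, ← hc1, ← mul_assoc]
        have e2 : (((ν : GL D.Idx F)⁻¹ : GL D.Idx F) : Matrix D.Idx D.Idx F) *
            ((ν : GL D.Idx F) : Matrix D.Idx D.Idx F) = 1 := by
          rw [← Units.val_mul, inv_mul_cancel, Units.val_one]
        rw [e2, one_mul]
      have h1 := hPs _ _ hγ'
      -- φ g = φ ν * φ γ' * (φ ν)⁻¹
      have hg2 : g = ν * (ν⁻¹ * g * ν) * ν⁻¹ := by group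
      have hφg : φ g = (a' * b' * a') * φ (ν⁻¹ * g * ν) * (a' * b' * a')⁻¹ := by
        conv_lhs => rw [hg2]
        rw [map_mul, map_mul, map_inv, hφν]
      rw [hφg]
      have e3 : ((((a' * b' * a') * φ (ν⁻¹ * g * ν) * (a' * b' * a')⁻¹ : ↥(D.group F)) : GL D.Idx F) :
          Matrix D.Idx D.Idx F) =
          (((a' * b' * a' : ↥(D.group F)) : GL D.Idx F) : Matrix D.Idx D.Idx F) *
            ((φ (ν⁻¹ * g * ν) : GL D.Idx F) : Matrix D.Idx D.Idx F) *
            ((((a' * b' * a' : ↥(D.group F)) : GL D.Idx F)⁻¹ : GL D.Idx F) : Matrix D.Idx D.Idx F) := rfl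
      rw [e3, h1, hab', hc' (ε * (((η : ℤ) : F) * t)), TP4 ⟨i, hi⟩ s hs, ← hab', mul_assoc]
      have e4 : (((a' * b' * a' : ↥(D.group F)) : GL D.Idx F) : Matrix D.Idx D.Idx F) *
          ((((a' * b' * a' : ↥(D.group F)) : GL D.Idx F)⁻¹ : GL D.Idx F) : Matrix D.Idx D.Idx F) = 1 := by
        rw [← Units.val_mul, mul_inv_cancel, Units.val_one]
      rw [e4, mul_one]
      congr 1
      ring

end Cfsg.Agent.Helper36
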