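import Cfsg.Agent.Helper36.ChevGenAll
import Cfsg.Agent.Helper36.ChevGraph

set_option autoImplicit false
set_option maxRecDepth 100000
open Cfsg Cfsg.Lie

/-! Diagram symmetries of D₄ and E₆ and kernel-checked `permRoot` tables; the graph automorphism acts on every root
element with a sign. -/

namespace Cfsg.Agent.Helper36

open scoped MatrixGroups

/-- table check for a permutation of the nodes: `pp` packs `permRoot π` -/
def tpCheck (D : ChevalleyDatum) (π : Equiv.Perm (Fin D.rank)) (pp : ℕ) : Bool :=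
  ((List.range D.nroots).all fun s => decide (wAt pp s = D.permRoot π s) && decide (wAt pp s < D.nroots)) &&
  ((List.finRange D.rank).all fun j => decide (wAt pp (D.simple j) = D.simple (π j)) &&
    decide (wAt pp (D.neg (D.simple j)) = D.neg (D.simple (π j)))) &&
  ((List.range D.nroots).all fun s => (List.finRange D.rank).all fun i =>
    decide (D.reflectRoot (π i) (wAt pp s) = wAt pp (D.reflectRoot i s)))

theorem tp_facts (D : ChevalleyDatum) (π : Equiv.Perm (Fin D.rank)) (pp : ℕ) (h : tpCheck D π pp = true)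
    (hrefl : ∀ i < D.rank, ∀ s < D.nroots,
      D.reflectRoot i s < D.nroots ∧ D.reflectRoot i (D.reflectRoot i s) = s)
    (hsimple : ∀ i < D.rank, D.simple i < D.nroots ∧ D.neg (D.simple i) < D.nroots) :
    (∀ j : Fin D.rank, D.permRoot π (D.simple j) = D.simple (π j) ∧
      D.permRoot π (D.neg (D.simple j)) = D.neg (D.simple (π j))) ∧
    (∀ s < D.nroots, D.permRoot π s < D.nroots) ∧
    (∀ i : Fin D.rank, ∀ s < D.nroots,
      D.reflectRoot (π i) (D.permRoot π s) = D.permRoot π (D.reflectRoot i s)) := by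
  unfold tpCheck at h
  simp only [Bool.and_eq_true, List.all_eq_true, decide_eq_true_eq, List.mem_range, List.mem_finRange,
    forall_const] at h
  obtain ⟨⟨h1, h2⟩, h3⟩ := h
  refine ⟨?_, ?_, ?_⟩
  · intro j
    obtain ⟨a, b⟩ := h2 j
    obtain ⟨c, d⟩ := hsimple j j.isLt
    rw [← (h1 _ c).1, ← (h1 _ d).1]
    exact ⟨a, b⟩
  · intro s hs
    rw [← (h1 s hs).1]
    exact (h1 s hs).2
  · intro i s hs
    rw [← (h1 s hs).1, ← (h1 _ (hrefl i i.isLt s hs).1).1]
    exact h3 s hs i

def d40 : Fin chevD4.rank := ⟨0, by decide⟩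
def d42 : Fin chevD4.rank := ⟨2, by decide⟩
def d43 : Fin chevD4.rank := ⟨3, by decide⟩
def e60 : Fin chevE6.rank := ⟨0, by decide⟩
def e62 : Fin chevE6.rank := ⟨2, by decide⟩
def e64 : Fin chevE6.rank := ⟨4, by decide⟩
def e65 : Fin chevE6.rank := ⟨5, by decide⟩

def ppD4_1 : ℕ := 566073426779046459040877649791461066728553822781039575296
theorem tpD4_1 : tpCheck chevD4 (1) ppD4_1 = true := by decide +kernel
def ppD4_2 : ℕ := 566073422377303333367409720947596762245806945156242473216
theorem tpD4_2 : tpCheck chevD4 (Equiv.swap d40 d42) ppD4_2 = true := by decide +kernel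
def ppD4_3 : ℕ := 566071930178400413096263506880048890373996980695145513216
theorem tpD4_3 : tpCheck chevD4 (Equiv.swap d40 d43) ppD4_3 = true := by decide +kernel
def ppD4_4 : ℕ := 566073054096128939321680348723185459246130506873807503616
theorem tpD4_4 : tpCheck chevD4 (Equiv.swap d42 d43) ppD4_4 = true := by decide +kernel
def ppD4_5 : ℕ := 566071931645633254490620476267514897873298047940799365376
theorem tpD4_5 : tpCheck chevD4 (Equiv.swap d40 d42 * Equiv.swap d42 d43) ppD4_5 = true := by decide +kernel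
def ppD4_6 : ℕ := 566073048227152972253855450491855147264082562003356549376
theorem tpD4_6 : tpCheck chevD4 (Equiv.swap d42 d43 * Equiv.swap d40 d42) ppD4_6 = true := by decide +kernel
def ppE6_1 : ℕ := 68860739535087804454153596932559672870373209444495796229207190580635315083870094936584515568054503444700903398640464230674619186175923474129218848011759691072083798584852736
theorem tpE6_1 : tpCheck chevE6 (1) ppE6_1 = true := by decide +kernel
def ppE6_2 : ℕ := 68860739417218020291242710380271612727031550310487325668929011394974525928005367019092266480622676483323572995251894574580543560006432062466002516407798046496184879596830976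
theorem tpE6_2 : tpCheck chevE6 (Equiv.swap e60 e65 * Equiv.swap e62 e64) ppE6_2 = true := by decide +kernel

theorem symD4 : ∀ π : Equiv.Perm (Fin chevD4.rank),
    (∀ i j : Fin chevD4.rank, i ≠ j → chevD4.bonds (π i) (π j) = chevD4.bonds i j) →
    π = 1 ∨ π = Equiv.swap d40 d42 ∨ π = Equiv.swap d40 d43 ∨ π = Equiv.swap d42 d43 ∨
      π = Equiv.swap d40 d42 * Equiv.swap d42 d43 ∨ π = Equiv.swap d42 d43 * Equiv.swap d40 d42 := by
  decide +kernel

theorem symE6 : ∀ π : Equiv.Perm (Fin chevE6.rank),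
    (∀ i j : Fin chevE6.rank, i ≠ j → chevE6.bonds (π i) (π j) = chevE6.bonds i j) →
    π = 1 ∨ π = Equiv.swap e60 e65 * Equiv.swap e62 e64 := by
  decide +kernel

theorem exists_tp (D : ChevalleyDatum) (hD : D ∈ [chevD4, chevE6]) (π : Equiv.Perm (Fin D.rank))
    (hπ : D.IsDiagramSymmetry π) : ∃ pp : ℕ, tpCheck D π pp = true := by
  simp only [List.mem_cons, List.mem_nil_iff, or_false] at hD
  rcases hD with rfl | rfl
  · rcases symD4 π hπ with rfl | rfl | rfl | rfl | rfl | rfl
    · exact ⟨_, tpD4_1⟩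
    · exact ⟨_, tpD4_2⟩
    · exact ⟨_, tpD4_3⟩
    · exact ⟨_, tpD4_4⟩
    · exact ⟨_, tpD4_5⟩
    · exact ⟨_, tpD4_6⟩
  · rcases symE6 π hπ with rfl | rfl
    · exact ⟨_, tpE6_1⟩
    · exact ⟨_, tpE6_2⟩

/-- the graph automorphism of `D₄`, `E₆` acts on every root element with a sign -/
theorem graph_signs {F : Type*} [Field F] (D : ChevalleyDatum) (hD : D ∈ [chevD4, chevE6])
    (π : Equiv.Perm (Fin D.rank)) (hπ : D.IsDiagramSymmetry π) (φ : ↥(D.group F) ≃* ↥(D.group F))
    (hφ : ∀ (g : ↥(D.group F)) (i : Fin D.rank) (t : F),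
      (((g : GL D.Idx F) : Matrix D.Idx D.Idx F) = D.x F (D.simple i) t →
        ((φ g : GL D.Idx F) : Matrix D.Idx D.Idx F) = D.x F (D.simple (π i)) t) ∧
      (((g : GL D.Idx F) : Matrix D.Idx D.Idx F) = D.x F (D.neg (D.simple i)) t →
        ((φ g : GL D.Idx F) : Matrix D.Idx D.Idx F) = D.x F (D.neg (D.simple (π i))) t))
    (r : ℕ) (hr : r < D.nroots) :
    ∃ ε : F, (ε = 1 ∨ ε = -1) ∧ ∀ (g : ↥(D.group F)) (t : F),
      ((g : GL D.Idx F) : Matrix D.Idx D.Idx F) = D.x F r t →
        ((φ g : GL D.Idx F) : Matrix D.Idx D.Idx F) = D.x F (D.permRoot π r) (ε * t) := by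
  have hD7 : D ∈ [chevG2, chevB2, chevD4, chevF4, chevE6, chevE7, chevE8] := by
    simp only [List.mem_cons, List.mem_nil_iff, or_false] at hD ⊢
    rcases hD with rfl | rfl
    · right; right; left; rfl
    · right; right; right; right; left; rfl
  obtain ⟨pp, hpp⟩ := exists_tp D hD π hπ
  obtain ⟨⟨cert, hcert⟩, hinv⟩ := exists_gen_checks D hD7
  have hrefl := fun i hi s hs => reflectRoot_facts D hD7 i hi s hs
  have hsimple := fun i hi => simple_facts D hD7 i hi
  obtain ⟨TP1, TP3, TP4⟩ := tp_facts D π pp hpp hrefl hsimple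
  exact graph_signs_of_facts D F (fun i hi s hs => nMat_conj D hD7 i s hi hs) hrefl hsimple hinv cert hcert π
    TP1 TP3 TP4 φ hφ r hr

end Cfsg.Agent.Helper36
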