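import Cfsg.Agent.Helper18.BNPairChev
import Cfsg.Agent.S1025

/-!
Helper36: the (B,N)-pair of a Chevalley group (helper18's conditional construction combined with
the commutator formula).
-/

set_option autoImplicit false

namespace Cfsg.Agent.Helper36

open Cfsg Cfsg.Lie

theorem chev_bnPair {F : Type*} [Field F] (D : ChevalleyDatum)
    (hD : D ∈ [chevG2, chevB2, chevD4, chevF4, chevE6, chevE7, chevE8]) :
    ∃ P : Cfsg.BNPair ↥(D.group F),
      P.B = (D.borelSubgroup F).subgroupOf (D.group F) ∧ P.N = (D.monomialSubgroup F).subgroupOf (D.group F) ∧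
      P.S = {n : ↥(D.group F) | ∃ i < D.rank, ((n : GL D.Idx F) : Matrix D.Idx D.Idx F) = D.nMat F (D.simple i) 1} :=
  Cfsg.Agent.Helper18.exists_bnPair D hD
    (fun r s hr hs hsr hsn t u => Cfsg.Agent.S1025.result D hD r s hr hs hsr hsn t u)

end Cfsg.Agent.Helper36
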