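import Cfsg.Agent.Helper36.Perfect

/-!
Helper36: certificates for the perfectness of the Chevalley groups of types
G₂, B₂, D₄, F₄, E₆, E₇, E₈ (see `Perfect.lean`), checked by kernel evaluation.
-/

set_option autoImplicit false

namespace Cfsg.Agent.Helper36.Perfect

open Cfsg Cfsg.Lie Cfsg.Agent.Helper40.ChevAdd

def certG2 : List (ℕ × Bool × ℕ × ℕ) :=
  [(0, false, 1, 5), (1, false, 0, 6), (2, true, 0, 0), (3, true, 0, 0), (4, true, 1, 0), (5, false, 0, 10), (6, false, 1, 11), (7, true, 1, 0), (8, true, 0, 0), (9, true, 0, 0), (10, false, 5, 11), (11, false, 6, 10)]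

def certB2 : List (ℕ × Bool × ℕ × ℕ) :=
  [(1, true, 1, 0), (2, true, 1, 0), (5, true, 1, 0), (6, true, 1, 0), (0, false, 3, 2), (3, false, 0, 5), (4, false, 0, 6), (7, false, 3, 6)]

def certD4 : List (ℕ × Bool × ℕ × ℕ) :=
  [(0, false, 1, 9), (1, false, 0, 14), (2, false, 0, 15), (3, false, 0, 16), (4, false, 0, 17), (5, false, 1, 17), (6, false, 0, 19), (7, false, 0, 20), (8, false, 0, 21), (9, false, 0, 22), (10, false, 1, 20), (11, false, 1, 21), (12, false, 2, 22), (13, false, 3, 22), (14, false, 1, 23), (15, false, 2, 23), (16, false, 3, 23), (17, false, 4, 23), (18, false, 6, 22), (19, false, 6, 23), (20, false, 7, 23), (21, false, 8, 23), (22, false, 9, 23), (23, false, 14, 22)]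

def certF4 : List (ℕ × Bool × ℕ × ℕ) :=
  [(0, false, 1, 23), (1, false, 0, 24), (2, false, 0, 26), (3, false, 7, 14), (4, false, 0, 31), (5, false, 0, 32), (6, false, 1, 32), (7, false, 3, 33), (8, false, 3, 34), (9, false, 3, 35), (10, false, 3, 36), (11, false, 3, 37), (12, false, 3, 38), (13, false, 3, 39), (14, false, 3, 40), (15, false, 0, 42), (16, false, 0, 43), (17, false, 1, 43), (18, false, 7, 37), (19, false, 7, 38), (20, false, 7, 39), (21, false, 0, 45), (22, false, 1, 45), (23, false, 0, 46), (24, false, 1, 47), (25, false, 2, 46), (26, false, 2, 47), (27, false, 8, 40), (28, false, 9, 40), (29, false, 10, 40), (30, false, 4, 46), (31, false, 4, 47), (32, false, 5, 47), (33, false, 7, 44), (34, false, 8, 44), (35, false, 9, 44), (36, false, 10, 44), (37, false, 11, 44), (38, false, 12, 44), (39, false, 13, 44), (40, false, 14, 44), (41, false, 15, 46), (42, false, 15, 47), (43, false, 16, 47), (44, false, 33, 40), (45, false, 21, 47), (46, false, 23, 47), (47, false, 24, 46)]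

def certE6 : List (ℕ × Bool × ℕ × ℕ) :=
  [(0, false, 1, 25), (1, false, 0, 46), (2, false, 0, 47), (3, false, 0, 48), (4, false, 0, 49), (5, false, 0, 50), (6, false, 0, 51), (7, false, 0, 52), (8, false, 0, 53), (9, false, 0, 54), (10, false, 0, 55), (11, false, 1, 53), (12, false, 1, 54), (13, false, 1, 55), (14, false, 2, 55), (15, false, 5, 55), (16, false, 0, 61), (17, false, 0, 62), (18, false, 0, 63), (19, false, 0, 64), (20, false, 0, 65), (21, false, 0, 66), (22, false, 0, 67), (23, false, 0, 68), (24, false, 0, 69), (25, false, 0, 70), (26, false, 1, 64), (27, false, 1, 65), (28, false, 1, 66), (29, false, 2, 66), (30, false, 1, 67), (31, false, 1, 68), (32, false, 1, 69), (33, false, 2, 67), (34, false, 2, 68), (35, false, 3, 67), (36, false, 4, 68), (37, false, 3, 69), (38, false, 4, 69), (39, false, 2, 70), (40, false, 3, 70), (41, false, 4, 70), (42, false, 5, 69), (43, false, 5, 70), (44, false, 6, 70), (45, false, 7, 70), (46, false, 1, 71), (47, false, 2, 71), (48, false, 3, 71), (49, false, 4, 71), (50, false, 5, 71), (51, false, 6, 71), (52, false, 7, 71), (53, false, 8, 71), (54, false, 9, 71), (55,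 false, 10, 71), (56, false, 16, 66), (57, false, 16, 69), (58, false, 16, 70), (59, false, 17, 70), (60, false, 18, 70), (61, false, 16, 71), (62, false, 17, 71), (63, false, 18, 71), (64, false, 19, 71), (65, false, 20, 71), (66, false, 21, 71), (67, false, 22, 71), (68, false, 23, 71), (69, false, 24, 71), (70, false, 25, 71), (71, false, 46, 70)]

def certE7 : List (ℕ × Bool × ℕ × ℕ) :=
  [(0, false, 1, 32), (1, false, 0, 93), (2, false, 0, 94), (3, false, 0, 95), (4, false, 0, 96), (5, false, 0, 97), (6, false, 0, 98), (7, false, 0, 99), (8, false, 0, 100), (9, false, 0, 101), (10, false, 0, 102), (11, false, 0, 103), (12, false, 0, 104), (13, false, 0, 105), (14, false, 0, 106), (15, false, 0, 107), (16, false, 0, 108), (17, false, 0, 109), (18, false, 0, 110), (19, false, 0, 111), (20, false, 0, 112), (21, false, 0, 113), (22, false, 0, 114), (23, false, 0, 115), (24, false, 0, 116), (25, false, 0, 117), (26, false, 0, 118), (27, false, 0, 119), (28, false, 0, 120), (29, false, 0, 121), (30, false, 0, 122), (31, false, 0, 123), (32, false, 0, 124), (33, false, 1, 109), (34, false, 1, 110), (35, false, 1, 111), (36,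 false, 1, 112), (37, false, 1, 113), (38, false, 1, 114), (39, false, 1, 115), (40, false, 1, 116), (41, false, 1, 117), (42, false, 1, 118), (43, false, 2, 115), (44, false, 2, 116), (45, false, 2, 117), (46, false, 2, 118), (47, false, 3, 118), (48, false, 1, 119), (49, false, 1, 120), (50, false, 1, 121), (51, false, 1, 122), (52, false, 1, 123), (53, false, 2, 119), (54, false, 2, 120), (55, false, 2, 121), (56, false, 2, 122), (57, false, 3, 119), (58, false, 3, 120), (59, false, 3, 121), (60, false, 4, 119), (61, false, 4, 120), (62, false, 5, 119), (63, false, 6, 120), (64, false, 5, 121), (65, false, 6, 121), (66, false, 4, 122), (67, false, 5, 122), (68, false, 6, 122), (69, false, 3, 123), (70, false, 4, 123), (71, false, 5, 123), (72, false, 6, 123), (73, false, 2, 124), (74, false, 3, 124), (75, false, 4, 124), (76, false, 5, 124), (77, false, 6, 124), (78, false, 7, 122), (79, false, 7, 123), (80, false, 8, 123), (81, false, 9, 123), (82, false, 10, 123), (83, false, 7, 124), (84, false, 8, 124), (85, false, 9, 124), (86, false, 10, 124), (87, false, 11, 124), (88, false, 12, 124), (89, false, 13, 124), (90,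 false, 14, 124), (91, false, 15, 124), (92, false, 16, 124), (93, false, 1, 125), (94, false, 2, 125), (95, false, 3, 125), (96, false, 4, 125), (97, false, 5, 125), (98, false, 6, 125), (99, false, 7, 125), (100, false, 8, 125), (101, false, 9, 125), (102, false, 10, 125), (103, false, 11, 125), (104, false, 12, 125), (105, false, 13, 125), (106, false, 14, 125), (107, false, 15, 125), (108, false, 16, 125), (109, false, 17, 125), (110, false, 18, 125), (111, false, 19, 125), (112, false, 20, 125), (113, false, 21, 125), (114, false, 22, 125), (115, false, 23, 125), (116, false, 24, 125), (117, false, 25, 125), (118, false, 26, 125), (119, false, 27, 125), (120, false, 28, 125), (121, false, 29, 125), (122, false, 30, 125), (123, false, 31, 125), (124, false, 32, 125), (125, false, 93, 124)]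

def certE8 : List (ℕ × Bool × ℕ × ℕ) :=
  [(0, false, 1, 119), (1, false, 0, 120), (2, false, 0, 122), (3, false, 0, 125), (4, false, 0, 129), (5, false, 0, 134), (6, false, 0, 140), (7, false, 0, 146), (8, false, 0, 151), (9, false, 0, 155), (10, false, 0, 158), (11, false, 0, 160), (12, false, 0, 161), (13, false, 1, 161), (14, false, 0, 168), (15, false, 0, 173), (16, false, 0, 177), (17, false, 0, 180), (18, false, 0, 182), (19, false, 0, 183), (20, false, 1, 183), (21, false, 0, 187), (22, false, 0, 190), (23, false, 0, 192), (24, false, 0, 193), (25, false, 1, 193), (26, false, 0, 196), (27, false, 0, 198), (28, false, 0, 199), (29, false, 1, 199), (30, false, 0, 201), (31, false, 0, 202), (32, false, 1, 202), (33, false, 0, 203), (34, false, 1, 203), (35, false, 2, 203), (36, false, 0, 206), (37, false, 0, 208), (38, false, 0, 209), (39, false, 1, 209), (40, false, 0, 211), (41, false, 0, 212), (42, false, 1, 212), (43, false, 0, 213), (44, false, 1, 213), (45, false, 2, 213), (46, false, 0, 215), (47, false, 0, 216), (48, false, 1, 216), (49, false, 0, 217), (50, false, 1, 217), (51, false, 2, 217), (52, false,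 0, 218), (53, false, 1, 218), (54, false, 2, 218), (55, false, 3, 218), (56, false, 0, 220), (57, false, 0, 221), (58, false, 1, 221), (59, false, 0, 222), (60, false, 1, 222), (61, false, 2, 222), (62, false, 0, 223), (63, false, 1, 223), (64, false, 2, 223), (65, false, 3, 223), (66, false, 0, 224), (67, false, 1, 224), (68, false, 2, 224), (69, false, 3, 224), (70, false, 4, 224), (71, false, 0, 225), (72, false, 1, 225), (73, false, 2, 225), (74, false, 3, 225), (75, false, 4, 225), (76, false, 5, 225), (77, false, 6, 225), (78, false, 0, 227), (79, false, 0, 228), (80, false, 1, 228), (81, false, 0, 229), (82, false, 1, 229), (83, false, 2, 229), (84, false, 0, 230), (85, false, 1, 230), (86, false, 2, 230), (87, false, 3, 230), (88, false, 0, 231), (89, false, 1, 231), (90, false, 2, 231), (91, false, 3, 231), (92, false, 4, 231), (93, false, 0, 232), (94, false, 1, 232), (95, false, 2, 232), (96, false, 3, 232), (97, false, 4, 232), (98, false, 5, 232), (99, false, 0, 233), (100, false, 1, 233), (101, false, 2, 233), (102, false, 3, 233), (103, false, 4, 233), (104, false, 5, 233), (105, false, 0, 234), (106, false,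 1, 234), (107, false, 2, 234), (108, false, 3, 234), (109, false, 4, 234), (110, false, 0, 235), (111, false, 1, 235), (112, false, 2, 235), (113, false, 3, 235), (114, false, 0, 236), (115, false, 1, 236), (116, false, 2, 236), (117, false, 0, 237), (118, false, 1, 237), (119, false, 0, 238), (120, false, 1, 239), (121, false, 2, 238), (122, false, 2, 239), (123, false, 3, 237), (124, false, 3, 238), (125, false, 3, 239), (126, false, 4, 236), (127, false, 4, 237), (128, false, 4, 238), (129, false, 4, 239), (130, false, 5, 235), (131, false, 5, 236), (132, false, 5, 237), (133, false, 5, 238), (134, false, 5, 239), (135, false, 6, 234), (136, false, 6, 235), (137, false, 6, 236), (138, false, 6, 237), (139, false, 6, 238), (140, false, 6, 239), (141, false, 7, 234), (142, false, 7, 235), (143, false, 7, 236), (144, false, 7, 237), (145, false, 7, 238), (146, false, 7, 239), (147, false, 8, 235), (148, false, 8, 236), (149, false, 8, 237), (150, false, 8, 238), (151, false, 8, 239), (152, false, 9, 236), (153, false, 9, 237), (154, false, 9, 238), (155, false, 9, 239), (156, false, 10, 237), (157, false, 10, 238), (158,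 false, 10, 239), (159, false, 11, 238), (160, false, 11, 239), (161, false, 12, 239), (162, false, 14, 233), (163, false, 14, 234), (164, false, 14, 235), (165, false, 14, 236), (166, false, 14, 237), (167, false, 14, 238), (168, false, 14, 239), (169, false, 15, 235), (170, false, 15, 236), (171, false, 15, 237), (172, false, 15, 238), (173, false, 15, 239), (174, false, 16, 236), (175, false, 16, 237), (176, false, 16, 238), (177, false, 16, 239), (178, false, 17, 237), (179, false, 17, 238), (180, false, 17, 239), (181, false, 18, 238), (182, false, 18, 239), (183, false, 19, 239), (184, false, 21, 236), (185, false, 21, 237), (186, false, 21, 238), (187, false, 21, 239), (188, false, 22, 237), (189, false, 22, 238), (190, false, 22, 239), (191, false, 23, 238), (192, false, 23, 239), (193, false, 24, 239), (194, false, 26, 237), (195, false, 26, 238), (196, false, 26, 239), (197, false, 27, 238), (198, false, 27, 239), (199, false, 28, 239), (200, false, 30, 238), (201, false, 30, 239), (202, false, 31, 239), (203, false, 33, 239), (204, false, 36, 237), (205, false, 36, 238), (206, false, 36, 239), (207, false, 37,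 238), (208, false, 37, 239), (209, false, 38, 239), (210, false, 40, 238), (211, false, 40, 239), (212, false, 41, 239), (213, false, 43, 239), (214, false, 46, 238), (215, false, 46, 239), (216, false, 47, 239), (217, false, 49, 239), (218, false, 52, 239), (219, false, 56, 238), (220, false, 56, 239), (221, false, 57, 239), (222, false, 59, 239), (223, false, 62, 239), (224, false, 66, 239), (225, false, 71, 239), (226, false, 78, 238), (227, false, 78, 239), (228, false, 79, 239), (229, false, 81, 239), (230, false, 84, 239), (231, false, 88, 239), (232, false, 93, 239), (233, false, 99, 239), (234, false, 105, 239), (235, false, 110, 239), (236, false, 114, 239), (237, false, 117, 239), (238, false, 119, 239), (239, false, 120, 238)]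

theorem run_G2 : run chevG2 true [] certG2 = true := by decide +kernel
theorem run_B2 : run chevB2 true [] certB2 = true := by decide +kernel
theorem run_D4 : run chevD4 false [] certD4 = true := by decide +kernel
theorem run_F4 : run chevF4 false [] certF4 = true := by decide +kernel
theorem run_E6 : run chevE6 false [] certE6 = true := by decide +kernel
theorem run_E7 : run chevE7 false [] certE7 = true := by decide +kernel
theorem run_E8 : run chevE8 false [] certE8 = true := by decide +kernel

/-- the Chevalley groups of the seven tabulated types are perfect, given the commutator formula and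
the torus action (and an element other than `0`, `1` for `G₂`, `B₂`) -/
theorem perfect_all {F : Type*} [Field F] (D : ChevalleyDatum)
    (hD : D ∈ [chevG2, chevB2, chevD4, chevF4, chevE6, chevE7, chevE8])
    (hcomm : CommHyp F D) (htor : TorHyp F D)
    (h2 : D = chevG2 ∨ D = chevB2 → ∃ a : F, a ≠ 0 ∧ a ≠ 1) :
    commutator ↥(D.group F) = ⊤ := by
  have hadd : addOK D = true := addOK_of_mem hD
  simp only [List.mem_cons, List.not_mem_nil, or_false] at hD
  rcases hD with rfl | rfl | rfl | rfl | rfl | rfl | rfl
  · exact perfect_of_run _ hadd hcomm htor true (fun _ => h2 (Or.inl rfl)) certG2 run_G2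
  · exact perfect_of_run _ hadd hcomm htor true (fun _ => h2 (Or.inr rfl)) certB2 run_B2
  · exact perfect_of_run _ hadd hcomm htor false (fun h => absurd h (by decide)) certD4 run_D4
  · exact perfect_of_run _ hadd hcomm htor false (fun h => absurd h (by decide)) certF4 run_F4
  · exact perfect_of_run _ hadd hcomm htor false (fun h => absurd h (by decide)) certE6 run_E6
  · exact perfect_of_run _ hadd hcomm htor false (fun h => absurd h (by decide)) certE7 run_E7
  · exact perfect_of_run _ hadd hcomm htor false (fun h => absurd h (by decide)) certE8 run_E8

end Cfsg.Agent.Helper36.Perfect
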