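import Cfsg.Agent.Helper36.ChevSimpleAll
import Cfsg.Agent.S0319
import Cfsg.Agent.S1024
import Cfsg.Agent.S1031
import Cfsg.Agent.S1037
import Cfsg.Agent.Helper36.BNPair
import Cfsg.Agent.S1050
import Cfsg.Agent.S1051
import Cfsg.Agent.S1052

/-!
Helper36: simplicity of the Chevalley groups of the seven tabulated types (assembly).
-/

set_option autoImplicit false

namespace Cfsg.Agent.Helper36.ChevSimple

open Cfsg Cfsg.Lie

theorem chev_simple {F : Type*} [Field F] (D : ChevalleyDatum)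
    (hD : D ∈ [chevG2, chevB2, chevD4, chevF4, chevE6, chevE7, chevE8])
    (h2 : D = chevG2 ∨ D = chevB2 → ∃ a : F, a ≠ 0 ∧ a ≠ 1) :
    IsSimpleGroup ↥(D.group F) ∧ ¬ IsMulCommutative ↥(D.group F) := by
  refine simple_of_facts D hD ?_ (Cfsg.Agent.S1037.result D hD).1 ?_ (Cfsg.Agent.Helper36.chev_bnPair D hD)
    (Cfsg.Agent.S1052.result D hD h2) (Cfsg.Agent.S1050.result D hD) (Cfsg.Agent.S1051.result D hD) ?_
  · intro i s hi hs
    exact Cfsg.Agent.S1031.result D hD i s hi hs
  · intro r hr t h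
    exact (Cfsg.Agent.S1024.result D hD r hr t).mp h
  · intro P hnt hirr hsolv hperf hcore
    exact @Cfsg.Agent.S0319.result _ _ hnt P hirr hsolv hperf hcore

end Cfsg.Agent.Helper36.ChevSimple
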