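import Cfsg.Prelude.Def_ChevAutomorphisms
import Cfsg.Prelude.Def_ChevG2
import Cfsg.Prelude.Def_ChevB2
import Cfsg.Prelude.Def_ChevD4
import Cfsg.Prelude.Def_ChevF4
import Cfsg.Prelude.Def_ChevE6
import Cfsg.Prelude.Def_ChevE7
import Cfsg.Prelude.Def_ChevE8

set_option autoImplicit false
open Cfsg Cfsg.Lie

namespace Cfsg.Agent.Helper36

/-- recursive check of one chain: `l` lists the roots `r+s, 2r+s, ...` -/
def stepOK (D : ChevalleyDatum) (r : ℕ) : ℕ → List (ℕ × ℤ) → Bool
  | _, [] => true
  | s, (u, _) :: l => decide (u < D.nroots) && (D.chainRoot r s 1 == some u) && stepOK D r u l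

/-- the chain table is consistent with `chainRoot` -/
def chainOK (D : ChevalleyDatum) : Bool :=
  (List.range D.nroots).all fun r =>
    (D.chain.getD r #[]).toList.all fun e =>
      decide (e.1 < D.nroots) && stepOK D r e.1 e.2.toList

variable {F : Type*} [Field F]

theorem stepOK_char (D : ChevalleyDatum) (χ : ℕ → Fˣ) (hχ : D.IsRootCharacter χ) (r : ℕ) (hr : r < D.nroots) :
    ∀ (l : List (ℕ × ℤ)) (s : ℕ), s < D.nroots → stepOK D r s l = true →
      ∀ (idx : ℕ) (q : ℕ × ℤ), l[idx]? = some q → χ q.1 = χ r ^ (idx + 1) * χ s := by
  intro l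
  induction l with
  | nil => intro s _ _ idx q h; simp at h
  | cons a l ih =>
    intro s hs hok idx q hq
    obtain ⟨u, M⟩ := a
    simp only [stepOK, Bool.and_eq_true, decide_eq_true_eq, beq_iff_eq] at hok
    obtain ⟨⟨hu, hcr⟩, hrest⟩ := hok
    have h1 : χ u = χ r * χ s := hχ.2 r s u hr hs hcr
    cases idx with
    | zero =>
      simp only [List.getElem?_cons_zero, Option.some.injEq] at hq
      subst hq
      simp [h1]
    | succ j =>
      simp only [List.getElem?_cons_succ] at hq
      have := ih u hu hrest j q hq
      rw [this, h1, pow_succ (χ r) (j + 1)]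
      rw [mul_assoc]

theorem chainCoeff_char (D : ChevalleyDatum) (hD : chainOK D = true) (χ : ℕ → Fˣ) (hχ : D.IsRootCharacter χ)
    (r s u : ℕ) (hr : r < D.nroots) (km : ℕ × ℤ) (hkm : km ∈ D.chainCoeff r s u) :
    χ u = χ r ^ km.1 * χ s := by
  unfold ChevalleyDatum.chainCoeff at hkm
  simp only [List.mem_flatMap, List.mem_filter, List.mem_map, decide_eq_true_eq] at hkm
  obtain ⟨e, ⟨he, hes⟩, q, ⟨hq, hqu⟩, rfl⟩ := hkm
  unfold chainOK at hD
  rw [List.all_eq_true] at hD
  have h1 := hD r (List.mem_range.mpr hr)
  rw [List.all_eq_true] at h1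
  have h2 := h1 e he
  simp only [Bool.and_eq_true, decide_eq_true_eq] at h2
  obtain ⟨hes', hstep⟩ := h2
  obtain ⟨⟨a, b⟩, i⟩ := q
  have hq' : (e.2.toList)[i]? = some (a, b) := by
    rw [List.mem_zipIdx_iff_getElem?] at hq
    simpa using hq
  have := stepOK_char D χ hχ r hr e.2.toList e.1 hes' hstep i (a, b) hq'
  simp only at hqu
  subst hqu
  subst hes
  exact this


theorem chainOK_G2 : chainOK chevG2 = true := by decide +kernel
theorem chainOK_B2 : chainOK chevB2 = true := by decide +kernel
theorem chainOK_D4 : chainOK chevD4 = true := by decide +kernel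
theorem chainOK_F4 : chainOK chevF4 = true := by decide +kernel
theorem chainOK_E6 : chainOK chevE6 = true := by decide +kernel
theorem chainOK_E7 : chainOK chevE7 = true := by decide +kernel
theorem chainOK_E8 : chainOK chevE8 = true := by decide +kernel

/-- the chain tables of the seven tabulated types are consistent -/
theorem chainOK_of_mem (D : ChevalleyDatum)
    (hD : D ∈ [chevG2, chevB2, chevD4, chevF4, chevE6, chevE7, chevE8]) : chainOK D = true := by
  simp only [List.mem_cons, List.not_mem_nil, or_false] at hD
  rcases hD with rfl | rfl | rfl | rfl | rfl | rfl | rfl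
  · exact chainOK_G2
  · exact chainOK_B2
  · exact chainOK_D4
  · exact chainOK_F4
  · exact chainOK_E6
  · exact chainOK_E7
  · exact chainOK_E8

theorem charDiag_conj_xMat (D : ChevalleyDatum)
    (χ : ℕ → Fˣ) (hχ : D.IsRootCharacter χ)
    (hK : ∀ (r s u : ℕ), r < D.nroots → ∀ km ∈ D.chainCoeff r s u, χ u = χ r ^ km.1 * χ s)
    (r : Fin D.nroots) (t : F) :
    D.charDiag F χ * D.xMat F r t * D.charDiag F (fun s => (χ s)⁻¹) = D.xMat F r ((χ r.val : F) * t) := by
  have hneg : χ (D.negIdx.getD r.val 0) = (χ r.val)⁻¹ := hχ.1 r.val r.isLt
  ext row col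
  simp only [ChevalleyDatum.charDiag, Matrix.mul_diagonal, Matrix.diagonal_mul]
  rcases col with i | s
  · rcases row with i' | u
    · simp [ChevalleyDatum.xMat]
    · simp only [ChevalleyDatum.xMat, Matrix.of_apply, Sum.elim_inr, Sum.elim_inl, mul_one]
      by_cases hu : u = r
      · subst hu
        simp only [if_true]
        ring
      · simp [hu]
  · simp only [ChevalleyDatum.xMat, Matrix.of_apply]
    by_cases hs : s = r
    · subst hs
      rcases row with i' | u
      · simp
      · by_cases hu : u = s
        · subst hu
          simp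
        · simp [hu]
    · simp only [if_neg hs]
      by_cases hs2 : s.val = D.negIdx.getD r.val 0
      · simp only [if_pos hs2]
        have hχs : χ s.val = (χ r.val)⁻¹ := by rw [hs2]; exact hneg
        rcases row with i' | u
        · simp only [Sum.elim_inl, Sum.elim_inr, one_mul, hχs, inv_inv]
          ring
        · simp only [Sum.elim_inr, hχs, inv_inv]
          by_cases hu : u = s
          · subst hu
            simp [hχs]
          · simp only [if_neg hu]
            by_cases hu2 : u = r
            · subst hu2
              simp only [if_true]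
              ring
            · simp [hu2]
      · simp only [if_neg hs2]
        rcases row with i' | u
        · simp
        · simp only [Sum.elim_inr]
          rw [mul_add, add_mul]
          congr 1
          · by_cases hu : u = s
            · subst hu
              simp
            · simp [hu]
          · rw [← List.sum_map_mul_left, ← List.sum_map_mul_right]
            congr 1
            apply List.map_congr_left
            intro km hkm
            have := hK r.val s.val u.val r.isLt km hkm
            simp only [this, Units.val_mul, Units.val_pow_eq_pow_val, Units.val_inv_eq_inv_val]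
            have hne : (χ s.val : F) ≠ 0 := Units.ne_zero _
            field_simp
            rw [mul_pow]
            ring

end Cfsg.Agent.Helper36
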