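import Cfsg.Agent.Helper19.Twist.WeylN

/-!
Helper36: conjugation by an element of `N` maps the root subgroup `X_s` to `X_{w s}` by a linear
change of parameter; the diagonal entries of the conjugate of a torus element.
-/

set_option autoImplicit false
set_option maxRecDepth 100000

namespace Cfsg.Agent.Helper36.ConjLin

open Cfsg Cfsg.Lie Cfsg.Agent.Helper18 Cfsg.Agent.Helper19.Cox Cfsg.Agent.Helper19.Poinc
  Cfsg.Agent.Helper19.Twist

section

variable {F : Type*} [Field F] (D : ChevalleyDatum)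
  (hD : D ∈ [chevG2, chevB2, chevD4, chevF4, chevE6, chevE7, chevE8]) (C : Cert D)
  (h31 : NConjHyp D F) [hn : (HN D F).Normal]
include hD

/-- conjugation by a representative of `w` maps `X_s` to `X_{w s}`, linearly in the parameter -/
theorem conj_rep_lin (w : C.M.Group) (n : ↥(D.monomialSubgroup F))
    (hnw : (QuotientGroup.mk n : ↥(D.monomialSubgroup F) ⧸ HN D F) = psiC D hD C h31 w)
    (s : ℕ) (hs : s < D.nroots) :
    phi C.M C.Mx C.hI C.hB C.hMx w s < D.nroots ∧
    ∃ c : F, c ≠ 0 ∧ ∀ t : F, (n : GL D.Idx F) * xGL D F s t * (n : GL D.Idx F)⁻¹ =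
      xGL D F (phi C.M C.Mx C.hI C.hB C.hMx w s) (c * t) := by
  obtain ⟨word, hw, rfl⟩ := exists_word C.M w
  have h1 := psi_gp D hD C.M C.Mx C.hMx C.tabs C.ht C.hbr h31 word hw
  unfold psiC at hnw
  rw [h1] at hnw
  have h2 : (⟨nWordsGL D F word, nWordsGL_mem D hD word hw⟩ : ↥(D.monomialSubgroup F))⁻¹ * n ∈ HN D F :=
    QuotientGroup.eq.mp hnw.symm
  rw [Subgroup.mem_subgroupOf] at h2
  set h : GL D.Idx F := (nWordsGL D F word)⁻¹ * (n : GL D.Idx F) with hh
  have h2' : h ∈ D.diagonalSubgroup F := by simpa using h2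
  have hn_eq : (n : GL D.Idx F) = nWordsGL D F word * h := by rw [hh]; group
  obtain ⟨χ, hχ, -, hc⟩ := diagonalSubgroup_char D hD h h2'
  obtain ⟨hlt, η, hη, hconj⟩ := nWordsGL_conj_xGL D hD h31 (reflectRoot_lt D hD) word hw s hs
  obtain ⟨e1, e2⟩ := actW_eq_rho D C.tabs C.ht word hw s hs
  have e3 : phi C.M C.Mx C.hI C.hB C.hMx (gp C.M word) s = rho D word s := by
    rw [phi_gp, e1]
  rw [e3]
  refine ⟨hlt, (η : F) * χ s, ?_, fun t => ?_⟩
  · apply mul_ne_zero _ (hχ s)
    rcases hη with rfl | rfl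
    · simp
    · simp
  rw [hn_eq]
  have e4 : h * xGL D F s t = xGL D F s (χ s * t) * h := hc s hs t
  have e5 := hconj (χ s * t)
  calc nWordsGL D F word * h * xGL D F s t * (nWordsGL D F word * h)⁻¹
      = nWordsGL D F word * (h * xGL D F s t) * h⁻¹ * (nWordsGL D F word)⁻¹ := by group
    _ = (nWordsGL D F word * xGL D F s (χ s * t)) * (nWordsGL D F word)⁻¹ := by rw [e4]; group
    _ = xGL D F (rho D word s) ((η : F) * (χ s * t)) := by rw [e5]; group
    _ = xGL D F (rho D word s) ((η : F) * χ s * t) := by rw [mul_assoc]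

end

end Cfsg.Agent.Helper36.ConjLin
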