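import Cfsg.Agent.Helper36.F4Core
import Cfsg.Agent.Helper36.ConjLin

/-!
Helper36: the torus `H ∩ ²F₄`: diagonal entries of elements of `H`, the constraint on them coming
from the twist, and the order `(q - 1)²`.
-/

set_option autoImplicit false
set_option maxRecDepth 100000

namespace Cfsg.Agent.Helper36.F4Class

open Cfsg Cfsg.Lie Cfsg.Agent.Helper36.Perfect Cfsg.Agent.Helper36.Twist
  Cfsg.Agent.Helper36.TwistF4 Cfsg.Agent.Helper36.B2Class Cfsg.Agent.Helper36.SigmaF4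
  Cfsg.Agent.Helper36.SigmaChev Cfsg.Agent.Helper36.LeviBruhat Cfsg.Agent.Helper36.FieldFix
  Cfsg.Agent.Helper36.F4Weyl Cfsg.Agent.Helper19.Cox Cfsg.Agent.Helper19.Poinc Cfsg.Agent.Helper19.Twist

section

variable {K : Type*} [Field K]

local notation "x18" => Cfsg.Agent.Helper18.xGL chevF4 K

/-- the diagonal entry of a matrix at the root `r` -/
def ent (r : ℕ) (k : GL chevF4.Idx K) : K :=
  if hr : r < chevF4.nroots then (k : Matrix chevF4.Idx chevF4.Idx K) (Sum.inr ⟨r, hr⟩) (Sum.inr ⟨r, hr⟩)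
  else 1

/-- the character of an element of `H`, with the diagonal entries -/
theorem ent_char (k : GL chevF4.Idx K) (hk : k ∈ chevF4.diagonalSubgroup K) :
    ∃ χ : ℕ → K, (∀ s, χ s ≠ 0) ∧
      (k : Matrix chevF4.Idx chevF4.Idx K) =
        Matrix.diagonal (Sum.elim (fun _ => (1 : K)) (fun s : Fin chevF4.nroots => χ s.val)) ∧
      (∀ r < chevF4.nroots, ∀ t : K, k * x18 r t = x18 r (χ r * t) * k) ∧
      ∀ r < chevF4.nroots, ent r k = χ r := by
  obtain ⟨χ, h1, h2, h3⟩ := Cfsg.Agent.Helper18.diagonalSubgroup_char chevF4 hF4 k hk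
  refine ⟨χ, h1, h2, h3, fun r hr => ?_⟩
  unfold ent
  rw [dif_pos hr, h2]
  simp

theorem ent_ne_zero (k : GL chevF4.Idx K) (hk : k ∈ chevF4.diagonalSubgroup K) (r : ℕ) : ent r k ≠ 0 := by
  by_cases hr : r < chevF4.nroots
  · obtain ⟨χ, h1, -, -, h4⟩ := ent_char k hk
    rw [h4 r hr]
    exact h1 r
  · unfold ent
    rw [dif_neg hr]
    exact one_ne_zero

theorem ent_one (r : ℕ) : ent r (1 : GL chevF4.Idx K) = 1 := by
  unfold ent
  split_ifs <;> simp

theorem ent_mul (k k' : GL chevF4.Idx K) (hk : k ∈ chevF4.diagonalSubgroup K)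
    (hk' : k' ∈ chevF4.diagonalSubgroup K) (r : ℕ) : ent r (k * k') = ent r k * ent r k' := by
  by_cases hr : r < chevF4.nroots
  · obtain ⟨χ, -, h2, -, -⟩ := ent_char k hk
    obtain ⟨χ', -, h2', -, -⟩ := ent_char k' hk'
    unfold ent
    rw [dif_pos hr, dif_pos hr, dif_pos hr, Units.val_mul, h2, h2', Matrix.diagonal_mul_diagonal]
    simp
  · unfold ent
    rw [dif_neg hr, dif_neg hr, dif_neg hr, one_mul]

/-- the entry is read off from the action on the root subgroup -/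
theorem ent_eq_of_conj (k : GL chevF4.Idx K) (hk : k ∈ chevF4.diagonalSubgroup K) (r : ℕ)
    (hr : r < chevF4.nroots) (c : K) (h : k * x18 r 1 * k⁻¹ = x18 r c) : ent r k = c := by
  obtain ⟨χ, -, -, h3, h4⟩ := ent_char k hk
  rw [h4 r hr]
  have e := h3 r hr 1
  rw [e, mul_one] at h
  have e2 : x18 r (χ r) = x18 r c := by
    rw [← h]; group
  have htri := Cfsg.Agent.Helper18.triOK_of_mem chevF4 hF4
  have e3 := congrArg (fun g : GL chevF4.Idx K => (g : Matrix chevF4.Idx chevF4.Idx K)) e2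
  simp only [Cfsg.Agent.Helper18.xGL_val chevF4 _ htri] at e3
  exact Cfsg.Agent.Helper18.x_injective chevF4 hF4 r hr _ _ e3

theorem conj_ent (k : GL chevF4.Idx K) (hk : k ∈ chevF4.diagonalSubgroup K) (r : ℕ)
    (hr : r < chevF4.nroots) (t : K) : k * x18 r t * k⁻¹ = x18 r (ent r k * t) := by
  obtain ⟨χ, -, -, h3, h4⟩ := ent_char k hk
  rw [h4 r hr, h3 r hr t]
  group

/-- an element of `H` with trivial entries at the fundamental roots is trivial -/
theorem eq_one_of_ent (k : GL chevF4.Idx K) (hk : k ∈ chevF4.diagonalSubgroup K)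
    (h33 : ent 33 k = 1) (h27 : ent 27 k = 1) (h25 : ent 25 k = 1) (h24 : ent 24 k = 1) : k = 1 := by
  obtain ⟨χ, -, h2, -, h4⟩ := ent_char k hk
  refine Cfsg.Agent.Helper36.TorusChar.diag_eq_one_of_char chevF4 hF4 Unimod.invF4 Unimod.invOK_F4
    _ hk χ h2 ?_
  intro j hj
  have hj4 : j < 4 := hj
  interval_cases j
  · rw [← h33]; exact (h4 33 (by decide)).symm
  · rw [← h27]; exact (h4 27 (by decide)).symm
  · rw [← h25]; exact (h4 25 (by decide)).symm
  · rw [← h24]; exact (h4 24 (by decide)).symm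

variable [CharP K 2] {m : ℕ} {σ : ↥(chevF4.group K) ≃* ↥(chevF4.group K)}

/-- the constraint on the entries of an element of `H` fixed by `σ` -/
theorem ent_rho (hσ : Spec chevF4 σ rho (cF m)) (k : GL chevF4.Idx K)
    (hk : k ∈ chevF4.diagonalSubgroup K) (hfix : k ∈ FixG σ) (r : ℕ) (hr : r < 48) :
    ent (rho r) k = cF m r (ent r k) := by
  obtain ⟨hG, hfix⟩ := hfix
  have hρ : rho r < chevF4.nroots := rho_lt r hr
  apply ent_eq_of_conj k hk (rho r) hρ
  have e1 : (⟨k, hG⟩ : ↥(chevF4.group K)) * XG r 1 * (⟨k, hG⟩ : ↥(chevF4.group K))⁻¹ =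
      XG r (ent r k * 1) := Subtype.ext (conj_ent k hk r hr 1)
  have e2 := congrArg σ e1
  rw [map_mul, map_mul, map_inv, hfix, map_XG hσ r hr, map_XG hσ r hr, map_one, mul_one] at e2
  exact congrArg Subtype.val e2


/-- the entries at the two short fundamental roots -/
noncomputable def entPair (m : ℕ) (k : ↥(chevF4.diagonalSubgroup K ⊓ twistedF4 K (2 ^ m))) : Kˣ × Kˣ :=
  (Units.mk0 (ent 33 (k : GL chevF4.Idx K)) (ent_ne_zero _ k.2.1 33),
   Units.mk0 (ent 27 (k : GL chevF4.Idx K)) (ent_ne_zero _ k.2.1 27))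

variable [Fintype K] (hK : Fintype.card K = 2 ^ (2 * m + 1))

include hK in
theorem entPair_injective (hσ : Spec chevF4 σ rho (cF m)) :
    Function.Injective (entPair (K := K) m) := by
  intro k k' h
  have h1 : ent 33 (k : GL chevF4.Idx K) = ent 33 (k' : GL chevF4.Idx K) := by
    have := congrArg (fun p : Kˣ × Kˣ => (p.1 : K)) h
    simpa [entPair] using this
  have h2 : ent 27 (k : GL chevF4.Idx K) = ent 27 (k' : GL chevF4.Idx K) := by
    have := congrArg (fun p : Kˣ × Kˣ => (p.2 : K)) h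
    simpa [entPair] using this
  have hdH : (k : GL chevF4.Idx K) * (k' : GL chevF4.Idx K)⁻¹ ∈ chevF4.diagonalSubgroup K :=
    mul_mem k.2.1 (inv_mem k'.2.1)
  have hdG : (k : GL chevF4.Idx K) * (k' : GL chevF4.Idx K)⁻¹ ∈ twistedF4 K (2 ^ m) :=
    mul_mem k.2.2 (inv_mem k'.2.2)
  have hdF := twisted_le_FixG hK hσ hdG
  have e33 : ent 33 ((k : GL chevF4.Idx K) * (k' : GL chevF4.Idx K)⁻¹) = 1 := by
    rw [ent_mul _ _ k.2.1 (inv_mem k'.2.1), h1, ← ent_mul _ _ k'.2.1 (inv_mem k'.2.1), mul_inv_cancel,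
      ent_one]
  have e27 : ent 27 ((k : GL chevF4.Idx K) * (k' : GL chevF4.Idx K)⁻¹) = 1 := by
    rw [ent_mul _ _ k.2.1 (inv_mem k'.2.1), h2, ← ent_mul _ _ k'.2.1 (inv_mem k'.2.1), mul_inv_cancel,
      ent_one]
  have e24 : ent 24 ((k : GL chevF4.Idx K) * (k' : GL chevF4.Idx K)⁻¹) = 1 := by
    have := ent_rho hσ _ hdH hdF 33 (by norm_num)
    rw [show rho 33 = 24 by decide] at this
    rw [this, e33, map_one]
  have e25 : ent 25 ((k : GL chevF4.Idx K) * (k' : GL chevF4.Idx K)⁻¹) = 1 := by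
    have := ent_rho hσ _ hdH hdF 27 (by norm_num)
    rw [show rho 27 = 25 by decide] at this
    rw [this, e27, map_one]
  have := eq_one_of_ent _ hdH e33 e27 e25 e24
  apply Subtype.ext
  exact mul_inv_eq_one.mp this

omit [Fintype K] in
theorem hT_mem_diag (l : K) (hl : l ≠ 0) : hT (phi m) l ∈ chevF4.diagonalSubgroup K := by
  unfold hT hP
  apply mul_mem
  · exact Subgroup.subset_closure ⟨24, l, by decide, hl, coe_hEl chevF4 haddF4 24 l⟩
  · exact Subgroup.subset_closure ⟨33, phi m l, by decide, (map_ne_zero _).mpr hl,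
      coe_hEl chevF4 haddF4 33 _⟩

omit [Fintype K] in
theorem ent_hT (l : K) (hl : l ≠ 0) (s : ℕ) (hs : s < 48) :
    ent s (hT (phi m) l) = l ^ (chevF4.cartan 3 s) * (phi m l) ^ (chevF4.cartan 0 s) := by
  apply ent_eq_of_conj _ (hT_mem_diag l hl) s hs
  have := hP_conj chevF4 haddF4 (phi m) pairF4 htorF4 l hl s hs 1
  rw [x18_eq]
  unfold hT
  rw [this, mul_one]

omit [CharP K 2] [Fintype K] in
/-- the entries of a conjugate by an element of `N` -/
theorem ent_conj (n : GL chevF4.Idx K) (hN : n ∈ chevF4.monomialSubgroup K) (word : List ℕ)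
    (hθ : thetaF4 ⟨n, hN⟩ = gp certF4.M word) (h : GL chevF4.Idx K)
    (hh : h ∈ chevF4.diagonalSubgroup K) (s : ℕ) (hs : s < 48) :
    n * h * n⁻¹ ∈ chevF4.diagonalSubgroup K ∧
    ent (actW Cfsg.Agent.Helper18.reflTabsF4 4 48 word s) (n * h * n⁻¹) = ent s h := by
  have hnorm := Cfsg.Agent.Helper18.monomialSubgroup_le_normalizer chevF4 hF4 hN
  have hmem : n * h * n⁻¹ ∈ chevF4.diagonalSubgroup K :=
    (Subgroup.mem_normalizer_iff.mp hnorm h).mp hh
  refine ⟨hmem, ?_⟩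
  obtain ⟨hlt, c, hc0, hc⟩ := Cfsg.Agent.Helper36.ConjLin.conj_rep_lin chevF4 hF4 certF4
    (Cfsg.Agent.Helper18.nConjHyp chevF4 hF4) _ ⟨n, hN⟩
    (theta_spec chevF4 hF4 certF4 (Cfsg.Agent.Helper18.nConjHyp chevF4 hF4) ⟨n, hN⟩) s hs
  have e2 : theta chevF4 hF4 certF4 (Cfsg.Agent.Helper18.nConjHyp chevF4 hF4) ⟨n, hN⟩ =
      gp certF4.M word := hθ
  rw [e2, phi_gp] at hlt hc
  have hlt : actW Cfsg.Agent.Helper18.reflTabsF4 4 48 word s < chevF4.nroots := hlt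
  have hc : ∀ t : K, n * x18 s t * n⁻¹ =
      x18 (actW Cfsg.Agent.Helper18.reflTabsF4 4 48 word s) (c * t) := hc
  apply ent_eq_of_conj _ hmem _ hlt
  have e3 : x18 (actW Cfsg.Agent.Helper18.reflTabsF4 4 48 word s) 1 = n * x18 s c⁻¹ * n⁻¹ := by
    rw [hc, mul_inv_cancel₀ hc0]
  have e4 := conj_ent h hh s hs c⁻¹
  calc n * h * n⁻¹ * x18 (actW Cfsg.Agent.Helper18.reflTabsF4 4 48 word s) 1 * (n * h * n⁻¹)⁻¹
      = n * (h * x18 s c⁻¹ * h⁻¹) * n⁻¹ := by rw [e3]; group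
    _ = x18 (actW Cfsg.Agent.Helper18.reflTabsF4 4 48 word s) (ent s h) := by
        rw [e4, hc, mul_comm (ent s h), ← mul_assoc, mul_inv_cancel₀ hc0, one_mul]

omit [Fintype K] in
/-- `(φ x)² = x` forces `x = 1` for `x ≠ 0` -/
theorem eq_one_of_phi_sq (hφ : ∀ t : K, (phi m (phi m t)) ^ 2 = t) (x : K) (hx : x ≠ 0)
    (h : (phi m x) ^ 2 = x) : x = 1 := by
  have h1 : (phi m (phi m x)) ^ 2 = phi m x := by
    rw [← map_pow, h]
  rw [hφ x] at h1
  rw [← h1] at h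
  have h2 : x * (x - 1) = 0 := by
    rw [mul_sub, mul_one, ← pow_two, h, sub_self]
  rcases mul_eq_zero.mp h2 with h3 | h3
  · exact absurd h3 hx
  · exact sub_eq_zero.mp h3

include hK in
/-- the lower bound `(q - 1)² ≤ |H ∩ ²F₄|` -/
theorem card_torus_ge (hσ : Spec chevF4 σ rho (cF m)) :
    Nat.card (Kˣ × Kˣ) ≤ Nat.card ↥(chevF4.diagonalSubgroup K ⊓ twistedF4 K (2 ^ m)) := by
  obtain ⟨mS, hS1, hS2, hS3⟩ := exists_mS_theta hK hσ
  have hTG : ∀ l : K, hT (phi m) l ∈ twistedF4 K (2 ^ m) := by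
    intro l
    rw [twisted_eq]
    exact hT_mem (phi m) hcommF4 l
  have hmem : ∀ p : Kˣ × Kˣ, hT (phi m) (p.1 : K) * (mS * hT (phi m) (p.2 : K) * mS⁻¹) ∈
      chevF4.diagonalSubgroup K ⊓ twistedF4 K (2 ^ m) := by
    intro p
    refine ⟨mul_mem (hT_mem_diag _ p.1.ne_zero)
      (ent_conj mS hS2 _ hS3 _ (hT_mem_diag _ p.2.ne_zero) 0 (by norm_num)).1, ?_⟩
    exact Subgroup.mul_mem _ (hTG _) (Subgroup.mul_mem _ (Subgroup.mul_mem _ hS1 (hTG _)) (Subgroup.inv_mem _ hS1))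
  have h33 : ∀ p : Kˣ × Kˣ, ent 33 (hT (phi m) (p.1 : K) * (mS * hT (phi m) (p.2 : K) * mS⁻¹)) =
      (phi m (p.1 : K)) ^ 2 * (p.2 : K)⁻¹ := by
    intro p
    obtain ⟨hc1, hc2⟩ := ent_conj mS hS2 _ hS3 _ (hT_mem_diag _ p.2.ne_zero) 37 (by norm_num)
    rw [show actW Cfsg.Agent.Helper18.reflTabsF4 4 48 [1, 2, 1, 2] 37 = 33 by decide] at hc2
    rw [ent_mul _ _ (hT_mem_diag _ p.1.ne_zero) hc1, hc2, ent_hT _ p.1.ne_zero 33 (by norm_num),
      ent_hT _ p.2.ne_zero 37 (by norm_num)]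
    rw [show chevF4.cartan 3 33 = 0 by decide, show chevF4.cartan 0 33 = 2 by decide,
      show chevF4.cartan 3 37 = -1 by decide, show chevF4.cartan 0 37 = 0 by decide]
    simp
  have h27 : ∀ p : Kˣ × Kˣ, ent 27 (hT (phi m) (p.1 : K) * (mS * hT (phi m) (p.2 : K) * mS⁻¹)) =
      (phi m (p.1 : K))⁻¹ * phi m (p.2 : K) := by
    intro p
    obtain ⟨hc1, hc2⟩ := ent_conj mS hS2 _ hS3 _ (hT_mem_diag _ p.2.ne_zero) 20 (by norm_num)
    rw [show actW Cfsg.Agent.Helper18.reflTabsF4 4 48 [1, 2, 1, 2] 20 = 27 by decide] at hc2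
    rw [ent_mul _ _ (hT_mem_diag _ p.1.ne_zero) hc1, hc2, ent_hT _ p.1.ne_zero 27 (by norm_num),
      ent_hT _ p.2.ne_zero 20 (by norm_num)]
    rw [show chevF4.cartan 3 27 = 0 by decide, show chevF4.cartan 0 27 = -1 by decide,
      show chevF4.cartan 3 20 = 0 by decide, show chevF4.cartan 0 20 = 1 by decide]
    simp
  apply Nat.card_le_card_of_injective (fun p : Kˣ × Kˣ =>
    (⟨hT (phi m) (p.1 : K) * (mS * hT (phi m) (p.2 : K) * mS⁻¹), hmem p⟩ :
      ↥(chevF4.diagonalSubgroup K ⊓ twistedF4 K (2 ^ m))))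
  intro p p' hpp
  have hval : hT (phi m) (p.1 : K) * (mS * hT (phi m) (p.2 : K) * mS⁻¹) =
      hT (phi m) (p'.1 : K) * (mS * hT (phi m) (p'.2 : K) * mS⁻¹) := congrArg Subtype.val hpp
  have g33 := h33 p
  have g27 := h27 p
  rw [hval, h33 p'] at g33
  rw [hval, h27 p'] at g27
  -- the algebra
  have ha : (p.1 : K) ≠ 0 := p.1.ne_zero
  have hb : (p.2 : K) ≠ 0 := p.2.ne_zero
  have ha' : (p'.1 : K) ≠ 0 := p'.1.ne_zero
  have hb' : (p'.2 : K) ≠ 0 := p'.2.ne_zero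
  have hφa : phi m (p.1 : K) ≠ 0 := (map_ne_zero _).mpr ha
  have hφa' : phi m (p'.1 : K) ≠ 0 := (map_ne_zero _).mpr ha'
  have hφb : phi m (p.2 : K) ≠ 0 := (map_ne_zero _).mpr hb
  have hφb' : phi m (p'.2 : K) ≠ 0 := (map_ne_zero _).mpr hb'
  have hxy : phi m ((p.1 : K) / (p'.1 : K)) = phi m ((p.2 : K) / (p'.2 : K)) := by
    rw [map_div₀, map_div₀, div_eq_div_iff hφa' hφb']
    calc phi m (p.1 : K) * phi m (p'.2 : K)
        = ((phi m (p'.1 : K))⁻¹ * phi m (p'.2 : K)) * (phi m (p.1 : K) * phi m (p'.1 : K)) := by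
          field_simp
      _ = ((phi m (p.1 : K))⁻¹ * phi m (p.2 : K)) * (phi m (p.1 : K) * phi m (p'.1 : K)) := by rw [g27]
      _ = phi m (p.2 : K) * phi m (p'.1 : K) := by field_simp
  have hxy' : (p.1 : K) / (p'.1 : K) = (p.2 : K) / (p'.2 : K) := (phi (K := K) m).injective hxy
  have hx : (phi m ((p.1 : K) / (p'.1 : K))) ^ 2 = (p.1 : K) / (p'.1 : K) := by
    rw [hxy', ← hxy, map_div₀, div_pow, div_eq_div_iff (pow_ne_zero 2 hφa') hb']
    calc phi m (p.1 : K) ^ 2 * (p'.2 : K)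
        = (phi m (p.1 : K) ^ 2 * (p.2 : K)⁻¹) * ((p.2 : K) * (p'.2 : K)) := by field_simp
      _ = (phi m (p'.1 : K) ^ 2 * (p'.2 : K)⁻¹) * ((p.2 : K) * (p'.2 : K)) := by rw [g33]
      _ = (p.2 : K) * phi m (p'.1 : K) ^ 2 := by field_simp
  have hx1 := eq_one_of_phi_sq (phi_phi hK) _ (div_ne_zero ha ha') hx
  have hy1 : (p.2 : K) / (p'.2 : K) = 1 := by rw [← hxy', hx1]
  have e1 : (p.1 : K) = (p'.1 : K) := by
    field_simp at hx1
    exact hx1
  have e2 : (p.2 : K) = (p'.2 : K) := by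
    field_simp at hy1
    exact hy1
  exact Prod.ext (Units.ext e1) (Units.ext e2)

include hK in
/-- the order of the torus `H ∩ ²F₄` -/
theorem card_torus (hσ : Spec chevF4 σ rho (cF m)) :
    Nat.card ↥(chevF4.diagonalSubgroup K ⊓ twistedF4 K (2 ^ m)) = (2 ^ (2 * m + 1) - 1) ^ 2 := by
  have h1 : Nat.card (Kˣ × Kˣ) = (2 ^ (2 * m + 1) - 1) ^ 2 := by
    rw [Nat.card_prod, Nat.card_units, Nat.card_eq_fintype_card, hK, pow_two]
  rw [← h1]
  apply le_antisymm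
  · exact Nat.card_le_card_of_injective _ (entPair_injective hK hσ)
  · exact card_torus_ge hK hσ

end

end Cfsg.Agent.Helper36.F4Class
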