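import Cfsg.Agent.Helper36.F4UFinal
import Cfsg.Agent.Helper36.F4Torus
import Cfsg.Agent.Helper19.Twist.CellWeyl
import Cfsg.Agent.Helper19.Twist.SpecCount
import Cfsg.Agent.Helper19.Twist.FixF4

/-!
Helper36: the sixteen Bruhat cells of `²F₄` and its order.
-/

set_option autoImplicit false
set_option maxRecDepth 100000
set_option linter.unusedSectionVars false

namespace Cfsg.Agent.Helper36.F4Class

open Cfsg Cfsg.Lie Cfsg.Agent.Helper36.SigmaF4 Cfsg.Agent.Helper36.SigmaChev
  Cfsg.Agent.Helper36.USplit Cfsg.Agent.Helper19.Cox Cfsg.Agent.Helper19.Poinc Cfsg.Agent.Helper19.Twist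
  Cfsg.Agent.Helper40.UProd Cfsg.Agent.Helper36.FieldFix

/-- the word of a letter: `false` is the class `P`, `true` the class `S` -/
def letterWord (b : Bool) : List ℕ := if b then [1, 2, 1, 2] else [3, 0]

/-- the word in the fundamental reflections of a word in the two letters -/
def wordOf (l : List Bool) : List ℕ := l.flatMap letterWord

/-- the sixteen elements of the twisted Weyl group, as words in the two letters -/
def LW16 : List (List Bool) :=
  [[], [false], [false, true], [false, true, false], [false, true, false, true],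
   [false, true, false, true, false], [false, true, false, true, false, true],
   [false, true, false, true, false, true, false], [false, true, false, true, false, true, false, true],
   [true], [true, false], [true, false, true], [true, false, true, false],
   [true, false, true, false, true], [true, false, true, false, true, false],
   [true, false, true, false, true, false, true]]

/-- the positive roots made negative by the sixteen elements -/
def lists16 : List (List ℕ) :=
  [[], La1, La2, La3, La4, La5, La6, La7, La8, Lb1, Lb2, Lb3, Lb4, Lb5, Lb6, Lb7]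

/-- the weighted lengths of the sixteen elements -/
def exps16 : List ℕ := [0, 1, 3, 4, 6, 7, 9, 10, 12, 2, 3, 5, 6, 8, 9, 11]

/-- the list is the set of positive roots made negative by the word -/
def cellOK (word L : List ℕ) : Bool :=
  L.all (fun r => decide (r < 48)) &&
  (List.range 48).all fun r => decide (r ∈ L) ==
    (decide (24 ≤ r) && decide (actW Cfsg.Agent.Helper18.reflTabsF4 4 48 word r < 24))

theorem cells16_ok : (List.range 16).all (fun i => cellOK (wordOf (LW16.getD i [])) (lists16.getD i [])) = true := by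
  decide +kernel

/-- the sixteen words are distinct elements of the Weyl group -/
theorem dist16_ok : (List.range 16).all (fun i => (List.range 16).all fun j => decide (i = j) ||
    (List.range 48).any fun x =>
      actW Cfsg.Agent.Helper18.reflTabsF4 4 48 (wordOf (LW16.getD i [])) x !=
        actW Cfsg.Agent.Helper18.reflTabsF4 4 48 (wordOf (LW16.getD j [])) x) = true := by
  decide +kernel

/-- the sixteen words are stable under left multiplication by the two generators -/
theorem closed16_ok : [[0, 3], [1, 2, 1, 2]].all (fun g => (List.range 16).all fun i => (List.range 16).any fun j =>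
    (List.range 48).all fun x =>
      actW Cfsg.Agent.Helper18.reflTabsF4 4 48 (g ++ wordOf (LW16.getD i [])) x ==
        actW Cfsg.Agent.Helper18.reflTabsF4 4 48 (wordOf (LW16.getD j [])) x) = true := by
  decide +kernel

theorem mem_words16 (w : certF4.M.Group)
    (hw : w ∈ Subgroup.closure ({gp certF4.M [0, 3], gp certF4.M [1, 2, 1, 2]} : Set certF4.M.Group)) :
    ∃ i < 16, w = gp certF4.M (wordOf (LW16.getD i [])) := by
  have key : ∀ g ∈ [[0, 3], [1, 2, 1, 2]], ∀ i < 16, ∃ j < 16,
      gp certF4.M g * gp certF4.M (wordOf (LW16.getD i [])) = gp certF4.M (wordOf (LW16.getD j [])) := by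
    intro g hg i hi
    have h1 := List.all_eq_true.mp closed16_ok g hg
    have h2 := List.all_eq_true.mp h1 i (List.mem_range.mpr hi)
    rw [List.any_eq_true] at h2
    obtain ⟨j, hj, h3⟩ := h2
    rw [List.all_eq_true] at h3
    refine ⟨j, List.mem_range.mp hj, ?_⟩
    rw [← gp_append]
    apply gp_eq_of_actW certF4
    intro x hx
    exact beq_iff_eq.mp (h3 x (List.mem_range.mpr hx))
  induction hw using Subgroup.closure_induction_left with
  | one => exact ⟨0, by norm_num, (gp_nil _).symm⟩
  | mul_left x hx y _ ih =>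
    obtain ⟨i, hi, rfl⟩ := ih
    rcases hx with rfl | rfl
    · obtain ⟨j, hj, e⟩ := key [0, 3] (by simp) i hi
      exact ⟨j, hj, e⟩
    · obtain ⟨j, hj, e⟩ := key [1, 2, 1, 2] (by simp) i hi
      exact ⟨j, hj, e⟩
  | inv_mul_cancel x hx y _ ih =>
    obtain ⟨i, hi, rfl⟩ := ih
    rcases hx with rfl | rfl
    · obtain ⟨j, hj, e⟩ := key [0, 3] (by simp) i hi
      refine ⟨j, hj, ?_⟩
      rw [← e, inv_eq_of_mul_eq_one_left fixF4_P_sq]
    · obtain ⟨j, hj, e⟩ := key [1, 2, 1, 2] (by simp) i hi
      refine ⟨j, hj, ?_⟩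
      rw [← e, inv_eq_of_mul_eq_one_left fixF4_S_sq]

section

variable {K : Type*} [Field K]

/-- the product of representatives along a word in the two letters -/
def repOf (nP nS : GL chevF4.Idx K) (l : List Bool) : GL chevF4.Idx K :=
  (l.map fun b => if b then nS else nP).prod

theorem repOf_cons (nP nS : GL chevF4.Idx K) (b : Bool) (l : List Bool) :
    repOf nP nS (b :: l) = (if b then nS else nP) * repOf nP nS l := by
  simp [repOf]

theorem repOf_mem (nP nS : GL chevF4.Idx K) (S : Subgroup (GL chevF4.Idx K)) (hP : nP ∈ S) (hS : nS ∈ S)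
    (l : List Bool) : repOf nP nS l ∈ S := by
  unfold repOf
  apply Subgroup.list_prod_mem
  intro x hx
  obtain ⟨b, -, rfl⟩ := List.mem_map.mp hx
  cases b
  · simpa using hP
  · simpa using hS

theorem theta_repOf (nP nS : GL chevF4.Idx K) (hPN : nP ∈ chevF4.monomialSubgroup K)
    (hSN : nS ∈ chevF4.monomialSubgroup K) (hPθ : thetaF4 ⟨nP, hPN⟩ = gp certF4.M [3, 0])
    (hSθ : thetaF4 ⟨nS, hSN⟩ = gp certF4.M [1, 2, 1, 2]) (l : List Bool) :
    thetaF4 ⟨repOf nP nS l, repOf_mem nP nS _ hPN hSN l⟩ = gp certF4.M (wordOf l) := by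
  induction l with
  | nil =>
    have : (⟨repOf nP nS [], repOf_mem nP nS _ hPN hSN []⟩ : ↥(chevF4.monomialSubgroup K)) = 1 := by
      apply Subtype.ext
      simp [repOf]
    rw [this, map_one]
    simp [wordOf, gp_nil]
  | cons b l ih =>
    have e : (⟨repOf nP nS (b :: l), repOf_mem nP nS _ hPN hSN (b :: l)⟩ : ↥(chevF4.monomialSubgroup K)) =
        ⟨if b then nS else nP, by cases b <;> simpa⟩ * ⟨repOf nP nS l, repOf_mem nP nS _ hPN hSN l⟩ := by
      apply Subtype.ext
      rw [Subgroup.coe_mul]
      exact repOf_cons nP nS b l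
    rw [e, map_mul, ih]
    have e2 : wordOf (b :: l) = letterWord b ++ wordOf l := by simp [wordOf]
    rw [e2, gp_append]
    congr 1
    cases b
    · simpa [letterWord] using hPθ
    · simpa [letterWord] using hSθ

/-- the cell subgroup of an element of `N` with a given image in the Weyl group -/
theorem Um_eq_list (n : GL chevF4.Idx K) (hN : n ∈ chevF4.monomialSubgroup K) (word L : List ℕ)
    (hθ : thetaF4 ⟨n, hN⟩ = gp certF4.M word) (hok : cellOK word L = true) :
    Um chevF4 K n = listSubgroup chevF4 K L := by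
  have htri := Cfsg.Agent.Helper18.triOK_of_mem chevF4 hF4
  have e2 : theta chevF4 hF4 certF4 (Cfsg.Agent.Helper18.nConjHyp chevF4 hF4) ⟨n, hN⟩ =
      gp certF4.M word := hθ
  have h1 := Um_eq_UnegW chevF4 hF4 certF4 (Cfsg.Agent.Helper18.nConjHyp chevF4 hF4) ⟨n, hN⟩
  rw [e2] at h1
  have h1' : Um chevF4 K n = UnegW chevF4 certF4 K (gp certF4.M word) := h1
  rw [h1']
  unfold cellOK at hok
  rw [Bool.and_eq_true, List.all_eq_true, List.all_eq_true] at hok
  obtain ⟨hlt, hok⟩ := hok
  have hmem : ∀ r < 48, (r ∈ L ↔ 24 ≤ r ∧ actW Cfsg.Agent.Helper18.reflTabsF4 4 48 word r < 24) := by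
    intro r hr
    have := hok r (List.mem_range.mpr hr)
    rw [beq_iff_eq] at this
    rw [← decide_eq_true_iff (p := r ∈ L), this]
    simp
  unfold UnegW listSubgroup
  congr 1
  ext g
  constructor
  · rintro ⟨r, t, ⟨hr1, hr2⟩, hneg, rfl⟩
    rw [phi_gp] at hneg
    rw [hlf_F4] at hr1 hneg
    exact ⟨r, t, (hmem r hr2).mpr ⟨hr1, hneg⟩, Cfsg.Agent.Helper18.xGL_val chevF4 _ htri r t⟩
  · rintro ⟨r, t, hr, hg⟩
    have hr48 : r < 48 := by simpa using hlt r hr
    obtain ⟨h3, h4⟩ := (hmem r hr48).mp hr
    refine ⟨r, t, ⟨by rw [hlf_F4]; exact h3, hr48⟩, ?_, ?_⟩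
    · rw [phi_gp, hlf_F4]; exact h4
    · exact Units.ext (by rw [hg, Cfsg.Agent.Helper18.xGL_val chevF4 _ htri])

end

end Cfsg.Agent.Helper36.F4Class
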