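import Cfsg.Agent.Helper36.Unimod
import Cfsg.Agent.Helper18.Core
import Cfsg.Agent.Helper18.HProd
import Cfsg.Agent.S1034

/-!
Helper36: for a Chevalley datum with unimodular Cartan matrix (`G₂`, `F₄`, `E₈`), an element of `H`
with trivial character on the fundamental roots is trivial.
-/

set_option autoImplicit false

namespace Cfsg.Agent.Helper36.TorusChar

open Cfsg Cfsg.Lie Cfsg.Agent.Helper18

section

variable {F : Type*} [Field F] (D : ChevalleyDatum)
  (hD : D ∈ [chevG2, chevB2, chevD4, chevF4, chevE6, chevE7, chevE8])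

include hD in
/-- an element of `H` whose diagonal entries at the fundamental roots are `1` is trivial -/
theorem diag_eq_one_of_char (B : List (List ℤ)) (hB : Unimod.invOK D B = true)
    (k : GL D.Idx F) (hk : k ∈ D.diagonalSubgroup F) (χ : ℕ → F)
    (hdiag : (k : Matrix D.Idx D.Idx F) =
      Matrix.diagonal (Sum.elim (fun _ => (1 : F)) (fun s : Fin D.nroots => χ s.val)))
    (h : ∀ j < D.rank, χ (D.simple j) = 1) : k = 1 := by
  have hs := simpleOK_of_mem D hD
  obtain ⟨c, hc, hhc⟩ := Cfsg.Agent.S1034.result (F := F) D hD k hk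
  have hprod : (k : Matrix D.Idx D.Idx F) = hProd D F c := by
    rw [hhc]
    exact hProd_of_words D hD c hc
  have hent : ∀ s : Fin D.nroots,
      χ s.val = ((List.range D.rank).map fun i => c i ^ D.cartan i s.val).prod := by
    intro s
    have h3 : (k : Matrix D.Idx D.Idx F) (Sum.inr s) (Sum.inr s) = χ s.val := by
      rw [hdiag]; simp
    rw [← h3, hprod]
    unfold hProd
    simp
  let cu : ℕ → Fˣ := fun i => if hi : i < D.rank then Units.mk0 (c i) (hc i hi) else 1
  have hcu : ∀ i < D.rank, ((cu i : Fˣ) : F) = c i := by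
    intro i hi
    simp [cu, hi]
  have hmem : ∀ i < D.rank, cu i ∈ (⊥ : Subgroup Fˣ) := by
    apply Unimod.mem_of_invOK D B hB ⊥ cu
    intro j hj
    rw [Subgroup.mem_bot]
    apply Units.ext
    have e : ((((List.range D.rank).map fun i => cu i ^ D.cartan i (D.simple j)).prod : Fˣ) : F)
        = ((List.range D.rank).map fun i => c i ^ D.cartan i (D.simple j)).prod := by
      rw [← Units.coeHom_apply, map_list_prod, List.map_map]
      congr 1
      apply List.map_congr_left
      intro i hi
      simp [hcu i (List.mem_range.mp hi)]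
    rw [e, Units.val_one, ← hent ⟨D.simple j, simple_lt D hs j hj⟩]
    exact h j hj
  have hc1 : ∀ i < D.rank, c i = 1 := by
    intro i hi
    have := hmem i hi
    rw [Subgroup.mem_bot] at this
    rw [← hcu i hi, this, Units.val_one]
  apply Units.ext
  rw [hprod, Units.val_one, ← hProd_one D]
  unfold hProd
  congr 2
  funext s
  congr 1
  apply List.map_congr_left
  intro i hi
  rw [hc1 i (List.mem_range.mp hi)]

end

end Cfsg.Agent.Helper36.TorusChar
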