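import Cfsg.Agent.Helper36.F4N
import Cfsg.Agent.Helper36.TorusChar
import Cfsg.Agent.Helper36.TwistCore

/-!
Helper36: a representative `n₀ ∈ N ∩ ²F₄` of the longest element of the Weyl group, and the
consequence `B ∩ n₀ B n₀⁻¹ = H`.
-/

set_option autoImplicit false
set_option maxRecDepth 100000

namespace Cfsg.Agent.Helper36.F4Class

open Cfsg Cfsg.Lie Cfsg.Agent.Helper36.Perfect Cfsg.Agent.Helper36.Twist
  Cfsg.Agent.Helper36.TwistF4 Cfsg.Agent.Helper36.B2Class Cfsg.Agent.Helper36.SigmaF4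
  Cfsg.Agent.Helper36.SigmaChev Cfsg.Agent.Helper36.LeviBruhat Cfsg.Agent.Helper36.FieldFix
  Cfsg.Agent.Helper36.F4Weyl Cfsg.Agent.Helper19.Cox Cfsg.Agent.Helper19.Poinc Cfsg.Agent.Helper19.Twist

/-- a word of the longest element, as `(s₄ s₁ · (s₂ s₃)²)⁴` -/
def w0word : List ℕ := [3, 0, 1, 2, 1, 2, 3, 0, 1, 2, 1, 2, 3, 0, 1, 2, 1, 2, 3, 0, 1, 2, 1, 2]

def w0negOK : Bool :=
  (List.range 48).all fun r => decide (r < 24) || decide (actW Cfsg.Agent.Helper18.reflTabsF4 4 48 w0word r < 24)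

theorem w0negOK_ok : w0negOK = true := by decide +kernel

theorem w0word_neg (r : ℕ) (hr : r < 48) (h24 : 24 ≤ r) : actW Cfsg.Agent.Helper18.reflTabsF4 4 48 w0word r < 24 := by
  have h := w0negOK_ok
  unfold w0negOK at h
  rw [List.all_eq_true] at h
  have h1 := h r (List.mem_range.mpr hr)
  simp only [Bool.or_eq_true, decide_eq_true_eq] at h1
  omega

section

variable {K : Type*} [Field K]

local notation "x18" => Cfsg.Agent.Helper18.xGL chevF4 K

/-- conjugation by a representative of `w₀` maps `B` into `V H` -/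
theorem map_conj_borel_le_theta (n : GL chevF4.Idx K) (hN : n ∈ chevF4.monomialSubgroup K)
    (hθ : thetaF4 ⟨n, hN⟩ = gp certF4.M w0word) :
    (chevF4.borelSubgroup K).map (MulAut.conj n).toMonoidHom
      ≤ chevF4.negUnipotent K ⊔ chevF4.diagonalSubgroup K := by
  have htri := Cfsg.Agent.Helper18.triOK_of_mem chevF4 hF4
  conv_lhs => unfold ChevalleyDatum.borelSubgroup
  rw [Subgroup.map_sup]
  apply sup_le_sup
  · rw [Subgroup.map_le_iff_le_comap]
    unfold ChevalleyDatum.posUnipotent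
    rw [Subgroup.closure_le]
    rintro g ⟨r, t, hr, hg⟩
    rw [SetLike.mem_coe, Subgroup.mem_comap]
    have hg' : g = x18 r t := Units.ext (by rw [hg, Cfsg.Agent.Helper18.xGL_val chevF4 _ htri])
    have hr2 := (isPosRoot_iff r).mp hr
    obtain ⟨hlt, t', e⟩ := conj_rep chevF4 hF4 certF4 (Cfsg.Agent.Helper18.nConjHyp chevF4 hF4) _
      ⟨n, hN⟩ (theta_spec chevF4 hF4 certF4 (Cfsg.Agent.Helper18.nConjHyp chevF4 hF4) ⟨n, hN⟩) r hr2.2 t
    show n * g * n⁻¹ ∈ chevF4.negUnipotent K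
    rw [hg']
    change n * x18 r t * n⁻¹ = _ at e
    rw [e]
    apply Subgroup.subset_closure
    refine ⟨_, t', ?_, by rw [Cfsg.Agent.Helper18.xGL_val chevF4 _ htri]⟩
    rw [isNegRoot_iff]
    have e2 : theta chevF4 hF4 certF4 (Cfsg.Agent.Helper18.nConjHyp chevF4 hF4) ⟨n, hN⟩ =
        gp certF4.M w0word := hθ
    rw [e2, phi_gp]
    exact w0word_neg r hr2.2 hr2.1
  · have hnorm := Cfsg.Agent.Helper18.monomialSubgroup_le_normalizer chevF4 hF4 hN
    have hHmap : (chevF4.diagonalSubgroup K).map (MulAut.conj n).toMonoidHom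
        = chevF4.diagonalSubgroup K := Subgroup.mem_normalizer_iff_map_conj_eq.mp hnorm
    rw [hHmap]

/-- an element of `B` whose conjugate by `n₀⁻¹` lies in `B` lies in `H` -/
theorem mem_diag_of_conj_theta (n : GL chevF4.Idx K) (hN : n ∈ chevF4.monomialSubgroup K)
    (hθ : thetaF4 ⟨n, hN⟩ = gp certF4.M w0word) (k : GL chevF4.Idx K)
    (hk : k ∈ chevF4.borelSubgroup K) (hk' : n⁻¹ * k * n ∈ chevF4.borelSubgroup K) :
    k ∈ chevF4.diagonalSubgroup K := by
  have h3 : k ∈ (chevF4.borelSubgroup K).map (MulAut.conj n).toMonoidHom := by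
    refine ⟨_, hk', ?_⟩
    show n * (n⁻¹ * k * n) * n⁻¹ = k
    group
  have h4 := map_conj_borel_le_theta n hN hθ h3
  rw [← (Cfsg.Agent.S1037.result (F := K) chevF4 hF4).2]
  exact ⟨hk, h4⟩

variable [CharP K 2] [Fintype K] {m : ℕ} (hK : Fintype.card K = 2 ^ (2 * m + 1))
  {σ : ↥(chevF4.group K) ≃* ↥(chevF4.group K)} (hσ : Spec chevF4 σ rho (cF m))

include hK hσ in
/-- a representative of the longest element in `N ∩ ²F₄` -/
theorem exists_n0 : ∃ n0 : GL chevF4.Idx K, n0 ∈ twistedF4 K (2 ^ m) ∧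
    ∃ hN : n0 ∈ chevF4.monomialSubgroup K, thetaF4 ⟨n0, hN⟩ = gp certF4.M w0word := by
  obtain ⟨mS, hS1, hS2, hS3⟩ := exists_mS_theta hK hσ
  obtain ⟨hP2, hP3⟩ := mP_theta (K := K) m
  have hP1 := mP_mem_twisted (K := K) m
  refine ⟨(mP m * mS) ^ 4, pow_mem (mul_mem hP1 hS1) 4, pow_mem (mul_mem hP2 hS2) 4, ?_⟩
  have e : (⟨(mP m * mS) ^ 4, pow_mem (mul_mem hP2 hS2) 4⟩ : ↥(chevF4.monomialSubgroup K)) =
      (⟨mP m, hP2⟩ * ⟨mS, hS2⟩) ^ 4 := rfl
  rw [e, map_pow, map_mul, hP3, hS3, ← gp_append]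
  simp only [pow_succ, pow_zero, one_mul, ← gp_append]
  rfl


theorem x18_mem_pos (r : ℕ) (hr : 24 ≤ r) (hr' : r < 48) (t : K) : x18 r t ∈ chevF4.posUnipotent K :=
  Subgroup.subset_closure ⟨r, t, (isPosRoot_iff r).mpr ⟨hr, hr'⟩,
    Cfsg.Agent.Helper18.xGL_val chevF4 _ (Cfsg.Agent.Helper18.triOK_of_mem chevF4 hF4) r t⟩

omit [CharP K 2] [Fintype K] in
theorem conj_x18 (k : GL chevF4.Idx K) (χ : ℕ → K)
    (hc : ∀ r < chevF4.nroots, ∀ t : K, k * x18 r t = x18 r (χ r * t) * k) (r : ℕ) (hr : r < 48) (t : K) :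
    k * x18 r t * k⁻¹ = x18 r (χ r * t) := by
  rw [hc r hr t]; group

include hK hσ in
/-- the normal core of `B ∩ ²F₄` in `²F₄` is trivial -/
theorem core_trivial :
    ((chevF4.borelSubgroup K ⊓ twistedF4 K (2 ^ m)).subgroupOf (twistedF4 K (2 ^ m))).normalCore = ⊥ := by
  obtain ⟨n0, hn0G, hn0N, hn0θ⟩ := exists_n0 hK hσ
  rw [eq_bot_iff]
  intro k hk
  rw [Subgroup.mem_bot]
  have hconjB : ∀ g ∈ twistedF4 K (2 ^ m), g * (k : GL chevF4.Idx K) * g⁻¹ ∈ chevF4.borelSubgroup K := by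
    intro g hg
    have h1 := hk ⟨g, hg⟩
    rw [Subgroup.mem_subgroupOf] at h1
    exact h1.1
  have hconjH : ∀ g ∈ twistedF4 K (2 ^ m), g * (k : GL chevF4.Idx K) * g⁻¹ ∈ chevF4.diagonalSubgroup K := by
    intro g hg
    refine mem_diag_of_conj_theta n0 hn0N hn0θ _ (hconjB g hg) ?_
    have h1 := hconjB (n0⁻¹ * g) (Subgroup.mul_mem _ (Subgroup.inv_mem _ hn0G) hg)
    have e : n0⁻¹ * (g * (k : GL chevF4.Idx K) * g⁻¹) * n0 =
        (n0⁻¹ * g) * (k : GL chevF4.Idx K) * (n0⁻¹ * g)⁻¹ := by group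
    rw [e]; exact h1
  have hkH : (k : GL chevF4.Idx K) ∈ chevF4.diagonalSubgroup K := by
    have := hconjH 1 (Subgroup.one_mem _)
    simpa using this
  obtain ⟨χ, hχ0, hdiag, hc⟩ := Cfsg.Agent.Helper18.diagonalSubgroup_char chevF4 hF4 _ hkH
  have hφ1 : phi (K := K) m 1 = 1 := map_one _
  have hφ0 : phi (K := K) m 0 = 0 := map_zero _
  -- the class `P`
  have hP : χ 24 = 1 ∧ χ 33 = 1 := by
    have hu : ((PpG m (1 : K) : ↥(chevF4.group K)) : GL chevF4.Idx K) = x18 33 1 * x18 24 1 := by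
      unfold PpG
      rw [Subgroup.coe_mul, XG_val, XG_val, hφ1]
    have hku : (k : GL chevF4.Idx K) * (x18 33 1 * x18 24 1) * (k : GL chevF4.Idx K)⁻¹ =
        x18 33 (χ 33 * 1) * x18 24 (χ 24 * 1) := by
      rw [← conj_x18 _ χ hc 33 (by norm_num), ← conj_x18 _ χ hc 24 (by norm_num)]
      group
    have h1 := eq_conj_of_mem_diag chevF4 hF4 (k : GL chevF4.Idx K) (x18 33 1 * x18 24 1) hkH
      (Or.inl ⟨mul_mem (x18_mem_pos 33 (by norm_num) (by norm_num) _)
        (x18_mem_pos 24 (by norm_num) (by norm_num) _), by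
          rw [hku]
          exact mul_mem (x18_mem_pos 33 (by norm_num) (by norm_num) _)
            (x18_mem_pos 24 (by norm_num) (by norm_num) _)⟩)
      (by rw [← hu]; exact hconjH _ (PpG_mem 1))
    rw [hku, mul_one, mul_one] at h1
    have hcm : ∀ s t : K, x18 33 s * x18 24 t = x18 24 t * x18 33 s := by
      intro s t
      have := (commute_P (K := K) s t).eq
      exact congrArg Subtype.val this
    rw [hcm, hcm] at h1
    exact two_inj _ _ _ _ h1
  -- the class `S`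
  have hS : χ 27 = 1 ∧ χ 25 = 1 := by
    have hu : ((BpG m (1 : K) 0 : ↥(chevF4.group K)) : GL chevF4.Idx K) =
        nf (x18 27) (x18 25) (x18 28) (x18 30) 1 1 1 0 := by
      unfold BpG beta nf
      simp only [Subgroup.coe_mul, XG_val, hφ1, hφ0, mul_one, add_zero, ne_eq, OfNat.ofNat_ne_zero,
        not_false_eq_true, zero_pow]
    have hku : (k : GL chevF4.Idx K) * nf (x18 27) (x18 25) (x18 28) (x18 30) 1 1 1 0 *
        (k : GL chevF4.Idx K)⁻¹ =
        nf (x18 27) (x18 25) (x18 28) (x18 30) (χ 27 * 1) (χ 25 * 1) (χ 28 * 1) (χ 30 * 0) := by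
      unfold nf
      rw [← conj_x18 _ χ hc 27 (by norm_num), ← conj_x18 _ χ hc 25 (by norm_num),
        ← conj_x18 _ χ hc 28 (by norm_num), ← conj_x18 _ χ hc 30 (by norm_num)]
      group
    have hmem : ∀ p q r s : K, nf (x18 27) (x18 25) (x18 28) (x18 30) p q r s ∈ chevF4.posUnipotent K := by
      intro p q r s
      unfold nf
      exact mul_mem (mul_mem (mul_mem (x18_mem_pos 27 (by norm_num) (by norm_num) _)
        (x18_mem_pos 25 (by norm_num) (by norm_num) _)) (x18_mem_pos 28 (by norm_num) (by norm_num) _))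
        (x18_mem_pos 30 (by norm_num) (by norm_num) _)
    have h1 := eq_conj_of_mem_diag chevF4 hF4 (k : GL chevF4.Idx K)
      (nf (x18 27) (x18 25) (x18 28) (x18 30) 1 1 1 0) hkH
      (Or.inl ⟨hmem _ _ _ _, by rw [hku]; exact hmem _ _ _ _⟩)
      (by rw [← hu]; exact hconjH _ (BpG_mem 1 0))
    rw [hku] at h1
    obtain ⟨h2, h3, -, -⟩ := nf_inj _ _ _ _ _ _ _ _ h1
    rw [mul_one] at h2 h3
    exact ⟨h2, h3⟩
  have h1 : (k : GL chevF4.Idx K) = 1 := by
    refine Cfsg.Agent.Helper36.TorusChar.diag_eq_one_of_char chevF4 hF4 Unimod.invF4 Unimod.invOK_F4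
      _ hkH χ hdiag ?_
    intro j hj
    have hj4 : j < 4 := hj
    interval_cases j
    · exact hP.2
    · exact hS.1
    · exact hS.2
    · exact hP.1
  exact Subtype.ext h1

end

end Cfsg.Agent.Helper36.F4Class
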