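import Cfsg.Agent.Helper36.TwistPair
import Cfsg.Agent.Helper36.B2Class
import Cfsg.Prelude.Def_LieTwisted

/-!
Helper36: the twisted group `²F₄` (generated by `x_{±p₁}(φ t) x_{±p₄}(t)` and by the `B₂`-class
elements `x_a(φ t) x_b(t) x_{a+b}(φ t · t + u) x_{2a+b}((φ u)²)` for `(a, b) = ±(p₂, p₃)`, `φ` a ring
endomorphism of a field of characteristic two with `φ(φ t)² = t`) is perfect, given the commutator
formula and the action of the `h_p(c)` on root elements.
-/

set_option autoImplicit false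

namespace Cfsg.Agent.Helper36.TwistF4

open Cfsg Cfsg.Lie Cfsg.Agent.Helper40.ChevAdd Cfsg.Agent.Helper36.Perfect
  Cfsg.Agent.Helper36.ChevSimple Cfsg.Agent.Helper36.Twist Cfsg.Agent.Helper36.B2Class
open scoped commutatorElement

theorem haddF4 : addOK chevF4 = true := addOK_of_mem (by simp)

/-- all the constants of the commutator formula for `(r, s)` are even -/
def evenPairOK (D : ChevalleyDatum) (r s : ℕ) : Bool :=
  decide (r < D.nroots) && decide (s < D.nroots) && decide (s ≠ r) && decide (s ≠ D.neg r) &&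
    (D.commTerms r s).all (fun c => decide (c.2.1 % 2 = 0))

section Gen

variable {F : Type*} [Field F] [CharP F 2] (D : ChevalleyDatum) (hadd : addOK D = true)

include hadd in
theorem wordMat_zero' (w : List (ℕ × F)) (h : ∀ p ∈ w, p.2 = 0) : D.wordMat F w = 1 := by
  induction w with
  | nil => simp [ChevalleyDatum.wordMat]
  | cons p w ih =>
    have e : D.wordMat F (p :: w) = D.x F p.1 p.2 * D.wordMat F w := by
      simp [ChevalleyDatum.wordMat]
    have hz : D.x F p.1 (0 : F) = 1 := by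
      have := congrArg (fun g : GL D.Idx F => (g : Matrix D.Idx D.Idx F)) (xGL_zero (F := F) D hadd p.1)
      simpa using this
    rw [e, ih (fun q hq => h q (List.mem_cons_of_mem _ hq)), h p List.mem_cons_self, hz, mul_one]

theorem xGL_commute_even (hcomm : CommHyp F D) (r s : ℕ) (h : evenPairOK D r s = true) (t u : F) :
    Commute (xGL D hadd F s u) (xGL D hadd F r t) := by
  unfold evenPairOK at h
  simp only [Bool.and_eq_true, decide_eq_true_eq, List.all_eq_true] at h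
  obtain ⟨⟨⟨⟨hr, hs⟩, hsr⟩, hsn⟩, h0⟩ := h
  show _ * _ = _ * _
  apply Units.ext
  rw [Units.val_mul, Units.val_mul, coe_xGL, coe_xGL]
  rw [hcomm r s hr hs hsr hsn t u]
  have hw : D.wordMat F (D.commWord F r s t u) = 1 := by
    apply wordMat_zero' D hadd
    intro p hp
    unfold ChevalleyDatum.commWord at hp
    obtain ⟨c, hc, rfl⟩ := List.mem_map.mp hp
    have h2 := h0 c hc
    obtain ⟨k, hk⟩ : ∃ k : ℤ, c.2.1 = 2 * k := ⟨c.2.1 / 2, by omega⟩
    show (c.2.1 : F) * (-t) ^ c.2.2.1 * u ^ c.2.2.2 = 0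
    rw [hk]
    push_cast
    have h20 : (2 : F) = 0 := CharTwo.two_eq_zero
    rw [h20]
    ring
  rw [hw, mul_one]

/-- the commutator formula for a `B₂`-pair `(a, b)` in characteristic two -/
theorem comm_ab (hcomm : CommHyp F D) (a b c d : ℕ) (C₁ C₂ : ℤ)
    (ha : a < D.nroots) (hb : b < D.nroots) (hba : b ≠ a) (hbn : b ≠ D.neg a)
    (hL : D.commTerms a b = [(c, C₁, 1, 1), (d, C₂, 2, 1)]) (h1 : C₁ % 2 = 1) (h2 : C₂ % 2 = 1)
    (t u : F) :
    xGL D hadd F b u * xGL D hadd F a t =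
      xGL D hadd F a t * xGL D hadd F b u * xGL D hadd F c (t * u) * xGL D hadd F d (t ^ 2 * u) := by
  have h20 : (2 : F) = 0 := CharTwo.two_eq_zero
  have hodd : ∀ C : ℤ, C % 2 = 1 → ((C : ℤ) : F) = 1 := by
    intro C hC
    obtain ⟨k, hk⟩ : ∃ k : ℤ, C = 2 * k + 1 := ⟨C / 2, by omega⟩
    rw [hk]
    push_cast
    rw [h20, zero_mul, zero_add]
  apply Units.ext
  simp only [Units.val_mul, coe_xGL]
  rw [hcomm a b ha hb hba hbn t u]
  unfold ChevalleyDatum.commWord
  rw [hL]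
  simp only [List.map_cons, List.map_nil, ChevalleyDatum.wordMat, List.prod_cons, List.prod_nil,
    mul_one]
  rw [hodd C₁ h1, hodd C₂ h2]
  have e1 : (1 : F) * (-t) ^ 1 * u ^ 1 = t * u := by
    rw [CharTwo.neg_eq]; ring
  have e2 : (1 : F) * (-t) ^ 2 * u ^ 1 = t ^ 2 * u := by ring
  rw [e1, e2]
  simp only [mul_assoc]

end Gen

/-! ### the data for `F₄` -/

theorem pairF4 : PairOK chevF4 24 33 23 14 3 0 where
  blk := by decide
  na := by decide
  nb := by decide
  si := by decide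
  sj := by decide
  hi := by decide
  hj := by decide
  ha := by decide
  hb := by decide
  ha' := by decide
  hb' := by decide
  c1 := by decide
  c2 := by decide
  c3 := by decide
  c4 := by decide
  c5 := by decide
  c6 := by decide
  c7 := by decide
  c8 := by decide

section F4

variable {F : Type*} [Field F] [CharP F 2] (φ : F →+* F)

local notation "X" => xGL chevF4 haddF4 F

/-- `x_{p₁}(φ t) x_{p₄}(t)` -/
def Pp (t : F) : GL chevF4.Idx F := X 33 (φ t) * X 24 t

/-- `x_{-p₁}(φ t) x_{-p₄}(t)` -/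
def Pm (t : F) : GL chevF4.Idx F := X 14 (φ t) * X 23 t

/-- the positive `B₂`-class elements -/
def Bp (t u : F) : GL chevF4.Idx F := beta (X 27) (X 25) (X 28) (X 30) φ t u

/-- the negative `B₂`-class elements -/
def Bm (t u : F) : GL chevF4.Idx F := beta (X 20) (X 22) (X 19) (X 17) φ t u

/-- the generators -/
def gens : Set (GL chevF4.Idx F) :=
  {g | ∃ t : F, g = Pp φ t ∨ g = Pm φ t} ∪ {g | ∃ t u : F, g = Bp φ t u ∨ g = Bm φ t u}

/-- the twisted group -/
def G₁ : Subgroup (GL chevF4.Idx F) := Subgroup.closure (gens φ)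

theorem Pp_mem (t : F) : Pp φ t ∈ G₁ φ := Subgroup.subset_closure (Or.inl ⟨t, Or.inl rfl⟩)
theorem Pm_mem (t : F) : Pm φ t ∈ G₁ φ := Subgroup.subset_closure (Or.inl ⟨t, Or.inr rfl⟩)
theorem Bp_mem (t u : F) : Bp φ t u ∈ G₁ φ := Subgroup.subset_closure (Or.inr ⟨t, u, Or.inl rfl⟩)
theorem Bm_mem (t u : F) : Bm φ t u ∈ G₁ φ := Subgroup.subset_closure (Or.inr ⟨t, u, Or.inr rfl⟩)

variable (hcomm : CommHyp F chevF4) (htor : TorHyp F chevF4)

include hcomm in
theorem Pp_eq (t : F) : Pp φ t = P2 chevF4 haddF4 φ 24 33 t := by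
  unfold Pp P2
  exact (xGL_commute chevF4 haddF4 hcomm 33 24 (by decide) (φ t) t).eq.symm

include hcomm in
theorem Pm_eq (t : F) : Pm φ t = P2 chevF4 haddF4 φ 23 14 t := by
  unfold Pm P2
  exact (xGL_commute chevF4 haddF4 hcomm 14 23 (by decide) (φ t) t).eq.symm

include hcomm in
theorem relP : Rel (X 27) (X 25) (X 28) (X 30) where
  adda s t := (xGL_add chevF4 haddF4 27 s t).symm
  addb s t := (xGL_add chevF4 haddF4 25 s t).symm
  addc s t := (xGL_add chevF4 haddF4 28 s t).symm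
  addd s t := (xGL_add chevF4 haddF4 30 s t).symm
  hab t u := comm_ab chevF4 haddF4 hcomm 27 25 28 30 (-1) (-1) (by decide) (by decide) (by decide)
    (by decide) (by decide) (by decide) (by decide) t u
  hca s t := xGL_commute_even chevF4 haddF4 hcomm 27 28 (by decide) t s
  hcb s t := xGL_commute_even chevF4 haddF4 hcomm 25 28 (by decide) t s
  hcd s t := xGL_commute_even chevF4 haddF4 hcomm 30 28 (by decide) t s
  hda s t := xGL_commute_even chevF4 haddF4 hcomm 27 30 (by decide) t s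
  hdb s t := xGL_commute_even chevF4 haddF4 hcomm 25 30 (by decide) t s

include hcomm in
theorem relM : Rel (X 20) (X 22) (X 19) (X 17) where
  adda s t := (xGL_add chevF4 haddF4 20 s t).symm
  addb s t := (xGL_add chevF4 haddF4 22 s t).symm
  addc s t := (xGL_add chevF4 haddF4 19 s t).symm
  addd s t := (xGL_add chevF4 haddF4 17 s t).symm
  hab t u := comm_ab chevF4 haddF4 hcomm 20 22 19 17 1 (-1) (by decide) (by decide) (by decide)
    (by decide) (by decide) (by decide) (by decide) t u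
  hca s t := xGL_commute_even chevF4 haddF4 hcomm 20 19 (by decide) t s
  hcb s t := xGL_commute_even chevF4 haddF4 hcomm 22 19 (by decide) t s
  hcd s t := xGL_commute_even chevF4 haddF4 hcomm 17 19 (by decide) t s
  hda s t := xGL_commute_even chevF4 haddF4 hcomm 20 17 (by decide) t s
  hdb s t := xGL_commute_even chevF4 haddF4 hcomm 22 17 (by decide) t s

variable (hφ : ∀ t : F, (φ (φ t)) ^ 2 = t)

/-- the torus element `h_{p₄}(l) h_{p₁}(φ l)` -/
def hT (l : F) : GL chevF4.Idx F := hP chevF4 haddF4 φ 24 33 l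

include hcomm in
theorem hT_mem (l : F) : hT φ l ∈ G₁ φ :=
  hP_mem chevF4 haddF4 φ pairF4 hcomm (G₁ φ)
    (fun t => by rw [← Pp_eq φ hcomm]; exact Pp_mem φ t)
    (fun t => by rw [← Pm_eq φ hcomm]; exact Pm_mem φ t) l

theorem conj4 {G : Type*} [Group G] (g a b c d : G) :
    g * (a * b * c * d) * g⁻¹ = (g * a * g⁻¹) * (g * b * g⁻¹) * (g * c * g⁻¹) * (g * d * g⁻¹) := by
  group

include htor hφ in
theorem hT_Bp (l : F) (hl : l ≠ 0) (t u : F) :
    hT φ l * Bp φ t u * (hT φ l)⁻¹ = Bp φ (l⁻¹ * t) (φ l⁻¹ * l⁻¹ * u) := by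
  have hl2 : φ l ≠ 0 := (map_ne_zero φ).mpr hl
  unfold Bp beta nf hT
  rw [conj4, hP_conj chevF4 haddF4 φ pairF4 htor l hl 27 (by decide),
    hP_conj chevF4 haddF4 φ pairF4 htor l hl 25 (by decide),
    hP_conj chevF4 haddF4 φ pairF4 htor l hl 28 (by decide),
    hP_conj chevF4 haddF4 φ pairF4 htor l hl 30 (by decide)]
  rw [show chevF4.cartan 3 27 = 0 by decide, show chevF4.cartan 0 27 = -1 by decide,
    show chevF4.cartan 3 25 = -1 by decide, show chevF4.cartan 0 25 = 0 by decide,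
    show chevF4.cartan 3 28 = -1 by decide, show chevF4.cartan 0 28 = -1 by decide,
    show chevF4.cartan 3 30 = -1 by decide, show chevF4.cartan 0 30 = -2 by decide]
  have e1 : l ^ (0 : ℤ) * (φ l ^ (-1 : ℤ) * φ t) = φ (l⁻¹ * t) := by
    rw [map_mul, map_inv₀, zpow_zero, one_mul, zpow_neg_one]
  have e2 : l ^ (-1 : ℤ) * (φ l ^ (0 : ℤ) * t) = l⁻¹ * t := by
    rw [zpow_zero, one_mul, zpow_neg_one]
  have e3 : l ^ (-1 : ℤ) * (φ l ^ (-1 : ℤ) * (φ t * t + u)) =
      φ (l⁻¹ * t) * (l⁻¹ * t) + φ l⁻¹ * l⁻¹ * u := by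
    rw [map_mul, map_inv₀, zpow_neg_one, zpow_neg_one]
    ring
  have e4 : l ^ (-1 : ℤ) * (φ l ^ (-2 : ℤ) * φ u ^ 2) = φ (φ l⁻¹ * l⁻¹ * u) ^ 2 := by
    rw [map_mul, map_mul, map_inv₀, map_inv₀, zpow_neg_one, zpow_neg, zpow_ofNat, mul_pow, mul_pow,
      inv_pow, inv_pow, hφ l]
    ring
  rw [e1, e2, e3, e4]

include htor hφ in
theorem hT_Bm (l : F) (hl : l ≠ 0) (t u : F) :
    hT φ l * Bm φ t u * (hT φ l)⁻¹ = Bm φ (l * t) (φ l * l * u) := by
  have hl2 : φ l ≠ 0 := (map_ne_zero φ).mpr hl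
  unfold Bm beta nf hT
  rw [conj4, hP_conj chevF4 haddF4 φ pairF4 htor l hl 20 (by decide),
    hP_conj chevF4 haddF4 φ pairF4 htor l hl 22 (by decide),
    hP_conj chevF4 haddF4 φ pairF4 htor l hl 19 (by decide),
    hP_conj chevF4 haddF4 φ pairF4 htor l hl 17 (by decide)]
  rw [show chevF4.cartan 3 20 = 0 by decide, show chevF4.cartan 0 20 = 1 by decide,
    show chevF4.cartan 3 22 = 1 by decide, show chevF4.cartan 0 22 = 0 by decide,
    show chevF4.cartan 3 19 = 1 by decide, show chevF4.cartan 0 19 = 1 by decide,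
    show chevF4.cartan 3 17 = 1 by decide, show chevF4.cartan 0 17 = 2 by decide]
  have e1 : l ^ (0 : ℤ) * (φ l ^ (1 : ℤ) * φ t) = φ (l * t) := by
    rw [map_mul, zpow_zero, one_mul, zpow_one]
  have e2 : l ^ (1 : ℤ) * (φ l ^ (0 : ℤ) * t) = l * t := by
    rw [zpow_zero, one_mul, zpow_one]
  have e3 : l ^ (1 : ℤ) * (φ l ^ (1 : ℤ) * (φ t * t + u)) =
      φ (l * t) * (l * t) + φ l * l * u := by
    rw [map_mul, zpow_one, zpow_one]
    ring
  have e4 : l ^ (1 : ℤ) * (φ l ^ (2 : ℤ) * φ u ^ 2) = φ (φ l * l * u) ^ 2 := by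
    rw [map_mul, map_mul, zpow_one, zpow_ofNat, mul_pow, mul_pow, hφ l]
    ring
  rw [e1, e2, e3, e4]

include hcomm htor hφ in
/-- the twisted group is perfect -/
theorem perfect (hl : ∃ l : F, l ≠ 0 ∧ l ≠ 1 ∧ φ l * l ≠ 1) : commutator ↥(G₁ φ) = ⊤ := by
  obtain ⟨l, hl0, hl1, hl2⟩ := hl
  have hl0' : l⁻¹ ≠ 0 := inv_ne_zero hl0
  have hsq : l ^ 2 ≠ 1 := by
    intro h
    apply hl1
    have h1 : (l + 1) ^ 2 = 0 := by
      have h20 : (2 : F) = 0 := CharTwo.two_eq_zero
      linear_combination h + (l + 1) * h20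
    have h2 : l + 1 = 0 := by
      rcases pow_eq_zero_iff (n := 2) (by norm_num) |>.mp h1 with h3
      exact h3
    have : l = -1 := eq_neg_of_add_eq_zero_left h2
    rw [this, CharTwo.neg_eq]
  apply perfect_of_gens chevF4 (G₁ φ) (gens φ) rfl
  rintro g (⟨t, rfl | rfl⟩ | ⟨t, u, rfl | rfl⟩)
  · rw [Pp_eq φ hcomm]
    exact (pair_mem chevF4 haddF4 φ pairF4 hcomm (G₁ φ)
      (fun t => by rw [← Pp_eq φ hcomm]; exact Pp_mem φ t)
      (fun t => by rw [← Pm_eq φ hcomm]; exact Pm_mem φ t) htor ⟨l, hl0, hsq⟩ t).1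
  · rw [Pm_eq φ hcomm]
    exact (pair_mem chevF4 haddF4 φ pairF4 hcomm (G₁ φ)
      (fun t => by rw [← Pp_eq φ hcomm]; exact Pp_mem φ t)
      (fun t => by rw [← Pm_eq φ hcomm]; exact Pm_mem φ t) htor ⟨l, hl0, hsq⟩ t).2
  · refine beta_mem_commutator (relP hcomm) φ hφ (G₁ φ) (Bp_mem φ) (hT φ l) (hT_mem φ hcomm l) l⁻¹
      (hT_Bp φ htor hφ l hl0) ?_ ?_ t u
    · intro h
      apply hl1
      rw [← inv_inv l, h, inv_one]
    · intro h
      apply hl2
      have : (φ l * l)⁻¹ = 1 := by rw [mul_inv, ← map_inv₀]; exact h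
      rw [← inv_inv (φ l * l), this, inv_one]
  · exact beta_mem_commutator (relM hcomm) φ hφ (G₁ φ) (Bm_mem φ) (hT φ l) (hT_mem φ hcomm l) l
      (hT_Bm φ htor hφ l hl0) hl1 hl2 t u

end F4

end Cfsg.Agent.Helper36.TwistF4
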