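import Mathlib
import Cfsg.Prelude.Def_ChevE8
import Cfsg.Prelude.Def_ChevF4
import Cfsg.Prelude.Def_ChevG2
import Cfsg.Prelude.Def_ChevStructure
import Cfsg.Prelude.Def_ChevAutomorphisms

/-!
Helper36: for the types `G₂`, `F₄`, `E₈` the Cartan matrix is unimodular; hence a family `c_i` of
elements of a commutative group is recovered from the products `∏_i c_i ^ A_{i, p_j}`.
-/

set_option autoImplicit false

namespace Cfsg.Agent.Helper36.Unimod

open Cfsg Cfsg.Lie

theorem list_range_prod {M : Type*} [CommMonoid M] (f : ℕ → M) (n : ℕ) :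
    ((List.range n).map f).prod = ∏ i ∈ Finset.range n, f i := by
  induction n with
  | zero => simp
  | succ n ih =>
    rw [List.range_succ, List.map_append, List.prod_append, ih, Finset.prod_range_succ]
    simp

theorem list_range_sum (f : ℕ → ℤ) (n : ℕ) :
    ((List.range n).map f).sum = ∑ i ∈ Finset.range n, f i := by
  induction n with
  | zero => simp
  | succ n ih =>
    rw [List.range_succ, List.map_append, List.sum_append, ih, Finset.sum_range_succ]
    simp

theorem zpow_finset_sum {G : Type*} [CommGroup G] (g : G) (s : Finset ℕ) (f : ℕ → ℤ) :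
    g ^ (∑ i ∈ s, f i) = ∏ i ∈ s, g ^ f i := by
  classical
  induction s using Finset.induction_on with
  | empty => simp
  | insert a s ha ih => rw [Finset.sum_insert ha, Finset.prod_insert ha, zpow_add, ih]

theorem recover {G : Type*} [CommGroup G] (n : ℕ) (A Bm : ℕ → ℕ → ℤ)
    (hAB : ∀ i < n, ∀ k < n, ∑ j ∈ Finset.range n, A i j * Bm j k = if i = k then 1 else 0)
    (c : ℕ → G) (k : ℕ) (hk : k < n) :
    ∏ j ∈ Finset.range n, (∏ i ∈ Finset.range n, c i ^ A i j) ^ Bm j k = c k := by
  have h1 : ∀ j ∈ Finset.range n, (∏ i ∈ Finset.range n, c i ^ A i j) ^ Bm j k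
      = ∏ i ∈ Finset.range n, c i ^ (A i j * Bm j k) := by
    intro j _
    rw [← Finset.prod_zpow]
    apply Finset.prod_congr rfl
    intro i _
    rw [zpow_mul]
  rw [Finset.prod_congr rfl h1, Finset.prod_comm]
  have h2 : ∀ i ∈ Finset.range n, ∏ j ∈ Finset.range n, c i ^ (A i j * Bm j k)
      = c i ^ (if i = k then (1 : ℤ) else 0) := by
    intro i hi
    rw [← zpow_finset_sum, hAB i (Finset.mem_range.mp hi) k hk]
  rw [Finset.prod_congr rfl h2]
  rw [Finset.prod_eq_single k]
  · simp
  · intro b _ hb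
    rw [if_neg hb, zpow_zero]
  · intro h
    exact absurd (Finset.mem_range.mpr hk) h

/-- `B` is a right inverse of the Cartan matrix `(A_{i, p_j})` of `D` -/
def invOK (D : ChevalleyDatum) (B : List (List ℤ)) : Bool :=
  (List.range D.rank).all fun i => (List.range D.rank).all fun k =>
    decide (((List.range D.rank).map fun j => D.cartan i (D.simple j) * (B.getD j []).getD k 0).sum
      = if i = k then 1 else 0)

def invG2 : List (List ℤ) := [[2, 3], [1, 2]]
def invF4 : List (List ℤ) := [[2, 3, 4, 2], [3, 6, 8, 4], [2, 4, 6, 3], [1, 2, 3, 2]]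
def invE8 : List (List ℤ) :=
  [[4, 5, 7, 10, 8, 6, 4, 2], [5, 8, 10, 15, 12, 9, 6, 3], [7, 10, 14, 20, 16, 12, 8, 4],
   [10, 15, 20, 30, 24, 18, 12, 6], [8, 12, 16, 24, 20, 15, 10, 5], [6, 9, 12, 18, 15, 12, 8, 4],
   [4, 6, 8, 12, 10, 8, 6, 3], [2, 3, 4, 6, 5, 4, 3, 2]]

theorem invOK_G2 : invOK chevG2 invG2 = true := by decide +kernel
theorem invOK_F4 : invOK chevF4 invF4 = true := by decide +kernel
theorem invOK_E8 : invOK chevE8 invE8 = true := by decide +kernel

/-- if all the products `∏_i c_i ^ A_{i, p_j}` lie in a subgroup `S`, so do the `c_k` -/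
theorem mem_of_invOK {G : Type*} [CommGroup G] (D : ChevalleyDatum) (B : List (List ℤ))
    (hB : invOK D B = true) (S : Subgroup G) (c : ℕ → G)
    (h : ∀ j < D.rank, ((List.range D.rank).map fun i => c i ^ D.cartan i (D.simple j)).prod ∈ S)
    (k : ℕ) (hk : k < D.rank) : c k ∈ S := by
  have hAB : ∀ i < D.rank, ∀ k < D.rank,
      ∑ j ∈ Finset.range D.rank, D.cartan i (D.simple j) * (B.getD j []).getD k 0
        = if i = k then 1 else 0 := by
    intro i hi k hk
    unfold invOK at hB
    rw [List.all_eq_true] at hB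
    have h1 := hB i (List.mem_range.mpr hi)
    rw [List.all_eq_true] at h1
    have h2 := h1 k (List.mem_range.mpr hk)
    rw [decide_eq_true_eq] at h2
    rw [← list_range_sum]
    exact h2
  rw [← recover D.rank (fun i j => D.cartan i (D.simple j)) (fun j k => (B.getD j []).getD k 0) hAB c k hk]
  apply Subgroup.prod_mem
  intro j hj
  apply Subgroup.zpow_mem
  rw [← list_range_prod]
  exact h j (Finset.mem_range.mp hj)

end Cfsg.Agent.Helper36.Unimod
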