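import Cfsg.Agent.Helper36.BaseChange
import Cfsg.Agent.Helper36.Unimod
import Cfsg.Agent.Helper36.BruhatUnique
import Cfsg.Agent.S1100
import Cfsg.Agent.S1026
import Cfsg.Agent.S1034
import Cfsg.Agent.S1036
import Cfsg.Agent.S1038
import Cfsg.Agent.Helper18.HProd
import Cfsg.Agent.Helper18.Borel

/-!
Helper36: descent along a field automorphism.  Let `σ` be an automorphism of the field `F` whose
fixed field is the image of `ι : F₀ →+* F`.  For a Chevalley datum with unimodular Cartan matrix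
(`G₂`, `F₄`, `E₈`), every element of the Chevalley group over `F` whose matrix is fixed by `σ`
(entrywise) is the base change of an element of the Chevalley group over `F₀`.
The proof uses the Bruhat normal form `g = b n u` and its uniqueness.
-/

set_option autoImplicit false

namespace Cfsg.Agent.Helper36.FieldFix

open Cfsg Cfsg.Lie Cfsg.Agent.Helper40.ChevAdd Cfsg.Agent.Helper36.Perfect
  Cfsg.Agent.Helper36.BaseChange

section Maps

variable {F₁ F₂ : Type*} [Field F₁] [Field F₂] (D : ChevalleyDatum) (f : F₁ →+* F₂)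

theorem nWord_map (r : ℕ) (t : F₁) :
    (D.nWord r t).map (fun p => (p.1, f p.2)) = D.nWord r (f t) := by
  simp [ChevalleyDatum.nWord, map_neg, map_inv₀]

theorem hWord_map (r : ℕ) (t : F₁) :
    (D.hWord r t).map (fun p => (p.1, f p.2)) = D.hWord r (f t) := by
  unfold ChevalleyDatum.hWord
  rw [List.map_append, nWord_map, nWord_map, map_neg, map_one]

theorem bc_pos_le : (D.posUnipotent F₁).map (bc D f) ≤ D.posUnipotent F₂ := by
  rw [Subgroup.map_le_iff_le_comap]
  unfold ChevalleyDatum.posUnipotent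
  rw [Subgroup.closure_le]
  rintro g ⟨r, t, hr, hg⟩
  rw [SetLike.mem_coe, Subgroup.mem_comap]
  apply Subgroup.subset_closure
  refine ⟨r, f t, hr, ?_⟩
  rw [coe_bc, hg, x_map']

theorem bc_diag_le : (D.diagonalSubgroup F₁).map (bc D f) ≤ D.diagonalSubgroup F₂ := by
  rw [Subgroup.map_le_iff_le_comap]
  unfold ChevalleyDatum.diagonalSubgroup
  rw [Subgroup.closure_le]
  rintro g ⟨r, t, hr, ht, hg⟩
  rw [SetLike.mem_coe, Subgroup.mem_comap]
  apply Subgroup.subset_closure
  refine ⟨r, f t, hr, (map_ne_zero f).mpr ht, ?_⟩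
  rw [coe_bc, hg]
  unfold ChevalleyDatum.hMat
  rw [wordMat_map', hWord_map]

theorem bc_borel_le : (D.borelSubgroup F₁).map (bc D f) ≤ D.borelSubgroup F₂ := by
  unfold ChevalleyDatum.borelSubgroup
  rw [Subgroup.map_sup]
  exact sup_le_sup (bc_pos_le D f) (bc_diag_le D f)

end Maps

/-- the subgroup generated by the `n_r(1)` -/
def N0 (D : ChevalleyDatum) (F : Type*) [Field F] : Subgroup (GL D.Idx F) :=
  Subgroup.closure {g | ∃ r : ℕ, r < D.nroots ∧ (g : Matrix D.Idx D.Idx F) = D.nMat F r 1}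

/-- the Bruhat cell subgroup `U_n⁻` -/
def Um (D : ChevalleyDatum) (F : Type*) [Field F] (n : GL D.Idx F) : Subgroup (GL D.Idx F) :=
  Subgroup.closure {x : GL D.Idx F | ∃ (r : ℕ) (t : F), D.IsPosRoot r ∧
    (D.rootSubgroup F r).map (MulAut.conj n).toMonoidHom ≤ D.negUnipotent F ∧
      (x : Matrix D.Idx D.Idx F) = D.x F r t}

section Struct

variable {F : Type*} [Field F] (D : ChevalleyDatum)
  (hD : D ∈ [chevG2, chevB2, chevD4, chevF4, chevE6, chevE7, chevE8])

include hD in
theorem mono_le_normalizer_diag :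
    D.monomialSubgroup F ≤ Subgroup.normalizer (D.diagonalSubgroup F : Set (GL D.Idx F)) := by
  have hn := Cfsg.Agent.S1038.result (F := F) D hD
  have hHN : D.diagonalSubgroup F ≤ D.monomialSubgroup F := le_sup_left
  have key : ∀ n ∈ D.monomialSubgroup F, ∀ x ∈ D.diagonalSubgroup F,
      n * x * n⁻¹ ∈ D.diagonalSubgroup F := by
    intro n hnN x hx
    have := hn.conj_mem ⟨x, hHN hx⟩ (by rw [Subgroup.mem_subgroupOf]; exact hx) ⟨n, hnN⟩
    rw [Subgroup.mem_subgroupOf] at this
    simpa using this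
  intro n hnN
  rw [Subgroup.mem_normalizer_iff]
  intro x
  constructor
  · exact key n hnN x
  · intro h
    have := key n⁻¹ (Subgroup.inv_mem _ hnN) _ h
    simpa [mul_assoc] using this

include hD in
theorem mono_decomp (n : GL D.Idx F) (hn : n ∈ D.monomialSubgroup F) :
    ∃ h ∈ D.diagonalSubgroup F, ∃ m ∈ N0 D F, n = h * m := by
  have hle : N0 D F ≤ Subgroup.normalizer (D.diagonalSubgroup F : Set (GL D.Idx F)) := by
    refine le_trans ?_ (mono_le_normalizer_diag D hD)
    unfold ChevalleyDatum.monomialSubgroup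
    exact le_sup_right
  have hset := Subgroup.coe_mul_of_right_le_normalizer_left (D.diagonalSubgroup F) (N0 D F) hle
  have hmem : n ∈ ((D.diagonalSubgroup F ⊔ N0 D F : Subgroup (GL D.Idx F)) : Set (GL D.Idx F)) := hn
  rw [hset] at hmem
  obtain ⟨h, hh, m, hm, rfl⟩ := hmem
  exact ⟨h, hh, m, hm, rfl⟩

include hD in
theorem borel_decomp (b : GL D.Idx F) (hb : b ∈ D.borelSubgroup F) :
    ∃ u ∈ D.posUnipotent F, ∃ h ∈ D.diagonalSubgroup F, b = u * h := by
  have hle := (Cfsg.Agent.S1036.result (F := F) D hD).1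
  have hset := Subgroup.coe_mul_of_right_le_normalizer_left (D.posUnipotent F) (D.diagonalSubgroup F) hle
  have hmem : b ∈ ((D.posUnipotent F ⊔ D.diagonalSubgroup F : Subgroup (GL D.Idx F)) : Set (GL D.Idx F)) := hb
  rw [hset] at hmem
  obtain ⟨u, hu, h, hh, rfl⟩ := hmem
  exact ⟨u, hu, h, hh, rfl⟩

include hD in
theorem Um_mul_le (h m : GL D.Idx F) (hh : h ∈ D.diagonalSubgroup F) :
    Um D F (h * m) ≤ Um D F m := by
  unfold Um
  apply Subgroup.closure_mono
  rintro x ⟨r, t, hr, hcond, hx⟩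
  refine ⟨r, t, hr, ?_, hx⟩
  rintro y ⟨z, hz, rfl⟩
  have h1 : (MulAut.conj (h * m)).toMonoidHom z ∈ D.negUnipotent F :=
    hcond ⟨z, hz, rfl⟩
  have hnorm := Cfsg.Agent.Helper18.diagonalSubgroup_le_normalizer_negUnipotent (F := F) D hD
    (Subgroup.inv_mem _ hh)
  rw [Subgroup.mem_normalizer_iff] at hnorm
  have h2 := (hnorm _).mp h1
  have e : h⁻¹ * (MulAut.conj (h * m)).toMonoidHom z * h⁻¹⁻¹ = (MulAut.conj m).toMonoidHom z := by
    simp only [MulEquiv.toMonoidHom_eq_coe, MonoidHom.coe_coe, MulAut.conj_apply]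
    group
  rw [e] at h2
  exact h2

end Struct

section Descent

variable {F₀ F : Type*} [Field F₀] [Field F] (D : ChevalleyDatum)
  (hD : D ∈ [chevG2, chevB2, chevD4, chevF4, chevE6, chevE7, chevE8])
  (ι : F₀ →+* F) (σ : F ≃+* F) (hfix : ∀ x : F, σ x = x ↔ x ∈ Set.range ι)

/-- the image of the Chevalley group over `F₀` -/
def img : Subgroup (GL D.Idx F) := (D.group F₀).map (bc D ι)

theorem N0_fixed (m : GL D.Idx F) (hm : m ∈ N0 D F) : bc D (σ : F →+* F) m = m := by
  have hle : N0 D F ≤ ((bc D (σ : F →+* F)).eqLocus (MonoidHom.id _)) := by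
    unfold N0
    rw [Subgroup.closure_le]
    rintro g ⟨r, _, hg⟩
    show bc D (σ : F →+* F) g = g
    apply Units.ext
    rw [coe_bc, hg]
    unfold ChevalleyDatum.nMat
    rw [wordMat_map', nWord_map]
    simp
  exact hle hm

include hD in
theorem N0_le_img : N0 D F ≤ img D ι := by
  have hadd := addOK_of_mem hD
  unfold N0
  rw [Subgroup.closure_le]
  rintro g ⟨r, _, hg⟩
  refine ⟨wordGL D hadd (D.nWord r (1 : F₀)), wordGL_mem D hadd _, ?_⟩
  apply Units.ext
  rw [coe_bc, coe_wordGL, wordMat_map', nWord_map, hg, map_one]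
  rfl

include hD hfix in
theorem pos_descent (u : GL D.Idx F) (hu : u ∈ D.posUnipotent F)
    (hfu : bc D (σ : F →+* F) u = u) : u ∈ img D ι := by
  have hadd := addOK_of_mem hD
  obtain ⟨t, ⟨ht0, hut⟩, huniq⟩ := (Cfsg.Agent.S1026.result (F := F) D hD).1 u hu
  have h2 : (fun r => σ (t r)) = t := by
    apply huniq
    refine ⟨fun r hr => by simp [ht0 r hr], ?_⟩
    have h3 := congrArg (fun g : GL D.Idx F => (g : Matrix D.Idx D.Idx F)) hfu
    simp only [coe_bc] at h3
    rw [← h3, hut, wordMat_map', List.map_map]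
    rfl
  have h4 : ∀ r, ∃ y : F₀, ι y = t r := by
    intro r
    have := (hfix (t r)).mp (congrFun h2 r)
    exact this
  choose t₀ ht₀ using h4
  refine ⟨wordGL D hadd (D.posRoots.map fun r => (r, t₀ r)), wordGL_mem D hadd _, ?_⟩
  apply Units.ext
  rw [coe_bc, coe_wordGL, wordMat_map', List.map_map, hut]
  congr 1
  apply List.map_congr_left
  intro r _
  simp [ht₀ r]

include hD hfix in
theorem diag_descent (B : List (List ℤ)) (hB : Unimod.invOK D B = true)
    (hs : ∀ j < D.rank, D.simple j < D.nroots)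
    (h : GL D.Idx F) (hh : h ∈ D.diagonalSubgroup F)
    (hfh : bc D (σ : F →+* F) h = h) : h ∈ img D ι := by
  have hadd := addOK_of_mem hD
  obtain ⟨c, hc, hhc⟩ := Cfsg.Agent.S1034.result (F := F) D hD h hh
  have hprod : (h : Matrix D.Idx D.Idx F) = Cfsg.Agent.Helper18.hProd D F c := by
    rw [hhc]
    exact Cfsg.Agent.Helper18.hProd_of_words D hD c hc
  have hent : ∀ s : Fin D.nroots,
      σ (((List.range D.rank).map fun i => c i ^ D.cartan i s.val).prod)
        = ((List.range D.rank).map fun i => c i ^ D.cartan i s.val).prod := by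
    intro s
    have h3 := congrArg
      (fun g : GL D.Idx F => (g : Matrix D.Idx D.Idx F) (Sum.inr s) (Sum.inr s)) hfh
    simp only [coe_bc, Matrix.map_apply, hprod] at h3
    unfold Cfsg.Agent.Helper18.hProd at h3
    simpa using h3
  let S : Subgroup Fˣ :=
    { carrier := {u | σ (u : F) = u}
      mul_mem' := by
        intro a b ha hb
        simp only [Set.mem_ofPred_eq] at *
        rw [Units.val_mul, map_mul, ha, hb]
      one_mem' := by simp
      inv_mem' := by
        intro a ha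
        simp only [Set.mem_ofPred_eq] at *
        rw [Units.val_inv_eq_inv_val, map_inv₀, ha] }
  let cu : ℕ → Fˣ := fun i => if hi : i < D.rank then Units.mk0 (c i) (hc i hi) else 1
  have hcu : ∀ i < D.rank, ((cu i : Fˣ) : F) = c i := by
    intro i hi
    simp [cu, hi]
  have hmem : ∀ k < D.rank, cu k ∈ S := by
    apply Unimod.mem_of_invOK D B hB S cu
    intro j hj
    have e : ((((List.range D.rank).map fun i => cu i ^ D.cartan i (D.simple j)).prod : Fˣ) : F)
        = ((List.range D.rank).map fun i => c i ^ D.cartan i (D.simple j)).prod := by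
      rw [← Units.coeHom_apply, map_list_prod, List.map_map]
      congr 1
      apply List.map_congr_left
      intro i hi
      simp [hcu i (List.mem_range.mp hi)]
    show σ ((((List.range D.rank).map fun i => cu i ^ D.cartan i (D.simple j)).prod : Fˣ) : F) = _
    rw [e]
    exact hent ⟨D.simple j, hs j hj⟩
  have h4 : ∀ i, ∃ y : F₀, i < D.rank → ι y = c i := by
    intro i
    by_cases hi : i < D.rank
    · have h5 : σ (c i) = c i := by
        have := hmem i hi
        rw [← hcu i hi]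
        exact this
      obtain ⟨y, hy⟩ := (hfix (c i)).mp h5
      exact ⟨y, fun _ => hy⟩
    · exact ⟨0, fun h => absurd h hi⟩
  choose d hd using h4
  refine ⟨wordGL D hadd ((List.range D.rank).flatMap fun i => D.hWord (D.simple i) (d i)),
    wordGL_mem D hadd _, ?_⟩
  apply Units.ext
  rw [coe_bc, coe_wordGL, wordMat_map', List.map_flatMap, hhc]
  congr 1
  apply List.flatMap_congr
  intro i hi
  rw [hWord_map, hd i (List.mem_range.mp hi)]

include hD hfix in
theorem borel_descent (B : List (List ℤ)) (hB : Unimod.invOK D B = true)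
    (hs : ∀ j < D.rank, D.simple j < D.nroots)
    (b : GL D.Idx F) (hb : b ∈ D.borelSubgroup F)
    (hfb : bc D (σ : F →+* F) b = b) : b ∈ img D ι := by
  obtain ⟨u, hu, h, hh, rfl⟩ := borel_decomp D hD b hb
  have hu' : bc D (σ : F →+* F) u ∈ D.posUnipotent F :=
    bc_pos_le D (σ : F →+* F) ⟨u, hu, rfl⟩
  have hh' : bc D (σ : F →+* F) h ∈ D.diagonalSubgroup F :=
    bc_diag_le D (σ : F →+* F) ⟨h, hh, rfl⟩
  rw [map_mul] at hfb
  -- `u⁻¹ σ(u) = h σ(h)⁻¹ ∈ U ∩ H = 1`
  have e : u⁻¹ * bc D (σ : F →+* F) u = h * (bc D (σ : F →+* F) h)⁻¹ := by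
    have : bc D (σ : F →+* F) u = u * h * (bc D (σ : F →+* F) h)⁻¹ := by
      rw [← hfb]; group
    rw [this]; group
  have hmem : u⁻¹ * bc D (σ : F →+* F) u ∈ D.posUnipotent F ⊓ D.diagonalSubgroup F := by
    refine ⟨Subgroup.mul_mem _ (Subgroup.inv_mem _ hu) hu', ?_⟩
    rw [e]
    exact Subgroup.mul_mem _ hh (Subgroup.inv_mem _ hh')
  rw [(Cfsg.Agent.S1036.result (F := F) D hD).2, Subgroup.mem_bot] at hmem
  have hfu : bc D (σ : F →+* F) u = u := by
    have := congrArg (fun z => u * z) hmem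
    simpa using this
  have hfh : bc D (σ : F →+* F) h = h := by
    rw [hfu] at hfb
    exact mul_left_cancel hfb
  exact Subgroup.mul_mem _ (pos_descent D hD ι σ hfix u hu hfu)
    (diag_descent D hD ι σ hfix B hB hs h hh hfh)

theorem Um_map (m : GL D.Idx F) (u : GL D.Idx F) (hu : u ∈ Um D F m) :
    bc D (σ : F →+* F) u ∈ Um D F m := by
  have hle : Um D F m ≤ (Um D F m).comap (bc D (σ : F →+* F)) := by
    conv_lhs => unfold Um
    rw [Subgroup.closure_le]
    rintro x ⟨r, t, hr, hcond, hx⟩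
    rw [SetLike.mem_coe, Subgroup.mem_comap]
    apply Subgroup.subset_closure
    refine ⟨r, σ t, hr, hcond, ?_⟩
    rw [coe_bc, hx, x_map']
    rfl
  exact hle hu

include hD hfix in
/-- descent: an element of the Chevalley group over `F` fixed by `σ` comes from `F₀` -/
theorem descent (B : List (List ℤ)) (hB : Unimod.invOK D B = true)
    (hs : ∀ j < D.rank, D.simple j < D.nroots)
    (g : GL D.Idx F) (hg : g ∈ D.group F)
    (hfg : bc D (σ : F →+* F) g = g) : g ∈ img D ι := by
  obtain ⟨hex, huniq⟩ := Cfsg.Agent.S1100.result (F := F) D hD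
  obtain ⟨b, hb, n, hn, u, hu, rfl⟩ := hex g hg
  obtain ⟨h, hh, m, hm, rfl⟩ := mono_decomp D hD n hn
  have hu2 : u ∈ Um D F m := Um_mul_le D hD h m hh hu
  have hHB : D.diagonalSubgroup F ≤ D.borelSubgroup F := le_sup_right
  have hb1 : b * h ∈ D.borelSubgroup F := Subgroup.mul_mem _ hb (hHB hh)
  have hmN : m ∈ D.monomialSubgroup F := by
    unfold ChevalleyDatum.monomialSubgroup
    exact (le_sup_right : N0 D F ≤ _) hm
  have hfm := N0_fixed D σ m hm
  have hb1' : bc D (σ : F →+* F) (b * h) ∈ D.borelSubgroup F :=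
    bc_borel_le D (σ : F →+* F) ⟨b * h, hb1, rfl⟩
  have hu2' := Um_map D σ m u hu2
  have heq : (b * h) * m * u = bc D (σ : F →+* F) (b * h) * m * bc D (σ : F →+* F) u := by
    have e1 : (b * h) * m * u = b * (h * m) * u := by group
    rw [e1, ← hfg, map_mul, map_mul, map_mul, map_mul, hfm]
    group
  obtain ⟨hbb, huu⟩ := (huniq (b * h) (bc D (σ : F →+* F) (b * h)) m m u
    (bc D (σ : F →+* F) u) hb1 hb1' hmN hmN hu2 hu2' heq).2 rfl
  have e1 : b * (h * m) * u = (b * h) * m * u := by group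
  rw [e1]
  refine Subgroup.mul_mem _ (Subgroup.mul_mem _ ?_ (N0_le_img D hD ι hm)) ?_
  · exact borel_descent D hD ι σ hfix B hB hs (b * h) hb1 hbb.symm
  · exact pos_descent D hD ι σ hfix u (bruhatU_le_pos D m hu2) huu.symm

end Descent

end Cfsg.Agent.Helper36.FieldFix
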