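import Cfsg.Agent.Helper36.HFusion
import Cfsg.Agent.Helper18.Borel
import Cfsg.Prelude.Def_LieExceptional

/-!
Helper36: two elements of `H` conjugate in the Chevalley group are conjugate under `N`
(from the Bruhat decomposition and the triangular shape of `U`, `H`).
-/

set_option autoImplicit false

namespace Cfsg.Agent.Helper36.HFusion

open Cfsg Cfsg.Lie Cfsg.Agent.Helper18

section Chev

variable {F : Type*} [Field F] (D : ChevalleyDatum)
  (hD : D ∈ [chevG2, chevB2, chevD4, chevF4, chevE6, chevE7, chevE8])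

/-- the Bruhat decomposition `G = B N B`, as a hypothesis -/
def BruhatHyp (F : Type*) [Field F] (D : ChevalleyDatum) : Prop :=
  ∀ g ∈ D.group F, ∃ b₁ ∈ D.borelSubgroup F, ∃ n ∈ D.monomialSubgroup F, ∃ b₂ ∈ D.borelSubgroup F,
    g = b₁ * n * b₂

theorem bruhatHyp_of_bn (P : Cfsg.BNPair ↥(D.group F))
    (hB : P.B = (D.borelSubgroup F).subgroupOf (D.group F))
    (hN : P.N = (D.monomialSubgroup F).subgroupOf (D.group F))
    (h308 : ∀ g : ↥(D.group F), ∃ n ∈ P.N, g ∈ DoubleCoset.doubleCoset n (P.B : Set ↥(D.group F)) P.B) :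
    BruhatHyp F D := by
  intro g hg
  obtain ⟨n, hn, hmem⟩ := h308 ⟨g, hg⟩
  rw [DoubleCoset.mem_doubleCoset] at hmem
  obtain ⟨x, hx, y, hy, hxy⟩ := hmem
  rw [hN, Subgroup.mem_subgroupOf] at hn
  rw [SetLike.mem_coe, hB, Subgroup.mem_subgroupOf] at hx hy
  refine ⟨x, hx, n, hn, y, hy, ?_⟩
  have := congrArg (fun a : ↥(D.group F) => (a : GL D.Idx F)) hxy
  simpa using this

include hD in
theorem chev_fusion (hBru : BruhatHyp F D)
    (hHU : D.diagonalSubgroup F ≤ Subgroup.normalizer (D.posUnipotent F : Set (GL D.Idx F)))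
    (hHN : ((D.diagonalSubgroup F).subgroupOf (D.monomialSubgroup F)).Normal)
    (h₁ h₂ g : GL D.Idx F) (h1 : h₁ ∈ D.diagonalSubgroup F) (h2 : h₂ ∈ D.diagonalSubgroup F)
    (hg : g ∈ D.group F) (hc : g * h₁ * g⁻¹ = h₂) :
    ∃ n ∈ D.monomialSubgroup F, n * h₁ * n⁻¹ = h₂ := by
  obtain ⟨b₁, hb₁, n, hn, b₂, hb₂, rfl⟩ := hBru g hg
  -- `b₁ = u₁ k₁`, `b₂ = k₂ u₂`
  have hb₁' : b₁ ∈ ((D.posUnipotent F ⊔ D.diagonalSubgroup F : Subgroup (GL D.Idx F)) : Set (GL D.Idx F)) := hb₁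
  rw [Subgroup.coe_mul_of_right_le_normalizer_left _ _ hHU] at hb₁'
  obtain ⟨u₁, hu₁, k₁, hk₁, rfl⟩ := hb₁'
  have hb₂' : b₂ ∈ ((D.diagonalSubgroup F ⊔ D.posUnipotent F : Subgroup (GL D.Idx F)) : Set (GL D.Idx F)) := by
    rw [sup_comm]; exact hb₂
  rw [Subgroup.coe_mul_of_left_le_normalizer_right _ _ hHU] at hb₂'
  obtain ⟨k₂, hk₂, u₂, hu₂, rfl⟩ := hb₂'
  have hHleN : D.diagonalSubgroup F ≤ D.monomialSubgroup F := le_sup_left
  have hn' : k₁ * n * k₂ ∈ D.monomialSubgroup F :=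
    Subgroup.mul_mem _ (Subgroup.mul_mem _ (hHleN hk₁) hn) (hHleN hk₂)
  refine ⟨k₁ * n * k₂, hn', ?_⟩
  have hdiag : ∀ k ∈ D.diagonalSubgroup F, ∀ i j : D.Idx, i ≠ j → (k : Matrix D.Idx D.Idx F) i j = 0 := by
    intro k hk i j hij
    have h := diagonalSubgroup_le D hD hk
    rw [Subgroup.mem_inf, mem_lowerGL_zero, mem_lowerGL_zero] at h
    have hne : lvl D (hlfOf D) i ≠ lvl D (hlfOf D) j := fun e => hij (lvl_injective D _ e)
    rcases lt_or_gt_of_ne hne with hlt | hgt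
    · exact h.1 i j (by omega)
    · exact h.2 i j (by rw [add_zero, lvlR_lt_iff]; exact hgt)
  have hnorm : ∀ n ∈ D.monomialSubgroup F, ∀ k ∈ D.diagonalSubgroup F,
      n⁻¹ * k * n ∈ D.diagonalSubgroup F := by
    intro n hn k hk
    have := hHN.conj_mem ⟨k, hHleN hk⟩ (by rw [Subgroup.mem_subgroupOf]; exact hk)
      ⟨n⁻¹, Subgroup.inv_mem _ hn⟩
    rw [Subgroup.mem_subgroupOf] at this
    simpa using this
  refine fusion (lvl_injective D (hlfOf D)) (hlfOf D + D.rank + D.nroots + 1)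
    (fun i => Nat.lt_succ_of_le (lvl_le D _ i)) (D.posUnipotent F) (D.diagonalSubgroup F)
    (D.monomialSubgroup F) (posUnipotent_le D hD) hdiag hHU hnorm u₁ u₂ (k₁ * n * k₂) h₁ h₂ hu₁ hu₂ hn'
    h1 h2 ?_
  rw [← hc]
  group

end Chev

end Cfsg.Agent.Helper36.HFusion
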