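import Cfsg.Agent.Helper36.Perfect

/-!
Helper36: base change of the Chevalley matrices along a homomorphism of fields
`f : F₁ →+* F₂` (entrywise application of `f`): root elements, words, and the induced
homomorphism of general linear groups.
-/

set_option autoImplicit false

namespace Cfsg.Agent.Helper36.BaseChange

open Cfsg Cfsg.Lie Cfsg.Agent.Helper40.ChevAdd Cfsg.Agent.Helper36.Perfect

variable {F₁ F₂ : Type*} [Field F₁] [Field F₂] (D : ChevalleyDatum) (f : F₁ →+* F₂)

theorem xMat_map' (r : Fin D.nroots) (t : F₁) :
    (D.xMat F₁ r t).map f = D.xMat F₂ r (f t) := by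
  ext row col
  simp only [Matrix.map_apply, ChevalleyDatum.xMat, Matrix.of_apply]
  rcases col with i | s
  · rcases row with i' | u
    · simp only [apply_ite f, map_one, map_zero]
    · simp only [apply_ite f, map_zero, map_neg, map_mul, map_intCast]
  · simp only
    split_ifs with h1 h2
    · rcases row with i' | u
      · simp
      · simp only [apply_ite f, map_one, map_zero]
    · rcases row with i' | u
      · simp only [map_mul, map_intCast]
      · simp only [apply_ite f, map_one, map_zero, map_neg, map_pow]
    · rcases row with i' | u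
      · simp
      · simp only [map_add, apply_ite f, map_one, map_zero, map_list_sum, List.map_map]
        congr 2
        ext km
        simp [map_mul, map_intCast, map_pow]

theorem x_map' (r : ℕ) (t : F₁) : (D.x F₁ r t).map f = D.x F₂ r (f t) := by
  unfold ChevalleyDatum.x
  split_ifs with h
  · exact xMat_map' D f ⟨r, h⟩ t
  · ext i j
    simp [Matrix.map_apply, Matrix.one_apply, apply_ite f]

theorem wordMat_map' (w : List (ℕ × F₁)) :
    (D.wordMat F₁ w).map f = D.wordMat F₂ (w.map fun p => (p.1, f p.2)) := by
  unfold ChevalleyDatum.wordMat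
  induction w with
  | nil =>
    ext i j
    simp [Matrix.map_apply, Matrix.one_apply, apply_ite f]
  | cons p w ih =>
    rw [List.map_cons, List.prod_cons, Matrix.map_mul, ih, x_map']
    simp only [List.map_cons, List.prod_cons]

/-- the homomorphism of general linear groups induced by `f` -/
def bc : GL D.Idx F₁ →* GL D.Idx F₂ := Matrix.GeneralLinearGroup.map f

theorem coe_bc (g : GL D.Idx F₁) :
    ((bc D f g : GL D.Idx F₂) : Matrix D.Idx D.Idx F₂) = (g : Matrix D.Idx D.Idx F₁).map f := rfl

theorem bc_injective : Function.Injective (bc D f) := by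
  intro a b h
  apply Units.ext
  have h1 := congrArg (fun g : GL D.Idx F₂ => (g : Matrix D.Idx D.Idx F₂)) h
  simp only [coe_bc] at h1
  ext i j
  have h2 := congrFun (congrFun h1 i) j
  simp only [Matrix.map_apply] at h2
  exact f.injective h2

variable (hadd : addOK D = true)

theorem bc_xGL (r : ℕ) (t : F₁) : bc D f (xGL D hadd F₁ r t) = xGL D hadd F₂ r (f t) := by
  apply Units.ext
  rw [coe_bc]
  exact x_map' D f r t

theorem bc_wordGL (w : List (ℕ × F₁)) :
    bc D f (wordGL D hadd w) = wordGL D hadd (w.map fun p => (p.1, f p.2)) := by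
  apply Units.ext
  rw [coe_bc, coe_wordGL, coe_wordGL]
  exact wordMat_map' D f w

include hadd in
theorem bc_group_le : (D.group F₁).map (bc D f) ≤ D.group F₂ := by
  rw [Subgroup.map_le_iff_le_comap]
  unfold ChevalleyDatum.group
  rw [Subgroup.closure_le]
  rintro g ⟨r, t, hg⟩
  rw [SetLike.mem_coe, Subgroup.mem_comap]
  have hg' : (g : Matrix D.Idx D.Idx F₁) = D.x F₁ r t := by
    rw [hg]
    unfold ChevalleyDatum.x
    rw [dif_pos r.2]
  have e : g = xGL D hadd F₁ r t := eq_xGL D hadd hg'
  rw [e, bc_xGL]
  exact xGL_mem D hadd r (f t)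

end Cfsg.Agent.Helper36.BaseChange
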