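import Cfsg.Prelude.Def_ChevAutomorphisms
import Cfsg.Prelude.Def_LieTypes
import Cfsg.Prelude.Def_ChevB2

/-!
Helper36: shared vocabulary for the pieces of the automorphism theorem of the Chevalley groups
(S2156): `MapsRoot`, `GraphAutFor`, `CharOK`.
-/

set_option autoImplicit false

namespace Cfsg.Agent.Helper36.ChevAut

open Cfsg Cfsg.Lie

variable {F : Type*} [Field F] (D : ChevalleyDatum)

/-- `θ` sends every root element `x_r(t)` to some root element `x_s(t')` -/
def MapsRoot (θ : ↥(D.group F) ≃* ↥(D.group F)) (r s : ℕ) : Prop :=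
  ∀ (t : F) (y : ↥(D.group F)), ((y : GL D.Idx F) : Matrix D.Idx D.Idx F) = D.x F r t →
    ∃ t' : F, ((θ y : GL D.Idx F) : Matrix D.Idx D.Idx F) = D.x F s t'

/-- `θ` permutes the fundamental root subgroups and their negatives according to `π` -/
def PermutesSimple (θ : ↥(D.group F) ≃* ↥(D.group F)) (π : Equiv.Perm (Fin D.rank)) : Prop :=
  ∀ i : Fin D.rank, MapsRoot D θ (D.simple i) (D.simple (π i)) ∧
    MapsRoot D θ (D.neg (D.simple i)) (D.neg (D.simple (π i)))

/-- `φ` is a graph automorphism for the given symmetry `π` (the body of `IsGraphAut`) -/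
def GraphAutFor (π : Equiv.Perm (Fin D.rank)) (φ : ↥(D.group F) ≃* ↥(D.group F)) : Prop :=
  ∀ (g : ↥(D.group F)) (i : Fin D.rank) (t : F),
    (((g : GL D.Idx F) : Matrix D.Idx D.Idx F) = D.x F (D.simple i) t →
      ((φ g : GL D.Idx F) : Matrix D.Idx D.Idx F) =
        D.x F (D.simple (π i)) (t ^ D.graphExp (ringChar F) i (π i))) ∧
    (((g : GL D.Idx F) : Matrix D.Idx D.Idx F) = D.x F (D.neg (D.simple i)) t →
      ((φ g : GL D.Idx F) : Matrix D.Idx D.Idx F) =
        D.x F (D.neg (D.simple (π i))) (t ^ D.graphExp (ringChar F) i (π i)))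

/-- the characteristic allows a graph automorphism for `π`: a non-trivial symmetry of a diagram with a
double (triple) bond needs characteristic 2 (3) -/
def CharOK (F : Type*) [Field F] (π : Equiv.Perm (Fin D.rank)) : Prop :=
  π ≠ 1 → ∀ i j : Fin D.rank, (D.bonds i j = 2 → ringChar F = 2) ∧ (D.bonds i j = 3 → ringChar F = 3)

theorem isGraphAut_of_graphAutFor (π : Equiv.Perm (Fin D.rank)) (hπ : D.IsDiagramSymmetry π)
    (φ : ↥(D.group F) ≃* ↥(D.group F)) (h : GraphAutFor D π φ) : D.IsGraphAut φ :=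
  ⟨π, hπ, h⟩

end Cfsg.Agent.Helper36.ChevAut
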