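import Cfsg.Agent.Helper36.B2Class

/-!
Helper36: the fixed points of the twist `x_a(s) ↦ x_b((φ s)²)`, `x_b(s) ↦ x_a(φ s)`,
`x_{a+b}(s) ↦ x_{2a+b}((φ s)²)`, `x_{2a+b}(s) ↦ x_{a+b}(φ s)` on the normal forms
`x_a(p) x_b(q) x_{a+b}(r) x_{2a+b}(s)` of a `B₂`-class in characteristic two are the elements
`β(t, u)`; and the analogous statement for an orthogonal pair.
-/

set_option autoImplicit false

namespace Cfsg.Agent.Helper36.B2Class

section NfSub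

variable {F : Type*} [Field F] {G : Type*} [Group G]
  {xa xb xc xd : F → G} (R : Rel xa xb xc xd)

include R in
theorem nf_zero : nf xa xb xc xd 0 0 0 0 = 1 := by
  unfold nf
  simp [zero_a R, zero_b R, zero_c R, zero_d R]

/-- the normal forms make up a subgroup -/
def nfSub : Subgroup G where
  carrier := {g | ∃ p q r s, g = nf xa xb xc xd p q r s}
  one_mem' := ⟨0, 0, 0, 0, (nf_zero R).symm⟩
  mul_mem' := by
    rintro _ _ ⟨p, q, r, s, rfl⟩ ⟨p', q', r', s', rfl⟩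
    exact ⟨_, _, _, _, nf_mul R p q r s p' q' r' s'⟩
  inv_mem' := by
    rintro _ ⟨p, q, r, s, rfl⟩
    refine ⟨-p, -q, -r - (-p) * q, -s - (-p) ^ 2 * q, ?_⟩
    rw [inv_eq_iff_mul_eq_one, nf_mul R]
    have e1 : p + -p = 0 := by ring
    have e2 : q + -q = 0 := by ring
    have e3 : r + (-r - -p * q) + -p * q = 0 := by ring
    have e4 : s + (-s - (-p) ^ 2 * q) + (-p) ^ 2 * q = 0 := by ring
    rw [e1, e2, e3, e4, nf_zero R]

theorem mem_nfSub (g : G) : g ∈ nfSub R ↔ ∃ p q r s, g = nf xa xb xc xd p q r s := Iff.rfl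

include R in
theorem xa_mem (t : F) : xa t ∈ nfSub R :=
  ⟨t, 0, 0, 0, by unfold nf; rw [zero_b R, zero_c R, zero_d R, mul_one, mul_one, mul_one]⟩

include R in
theorem xb_mem (t : F) : xb t ∈ nfSub R :=
  ⟨0, t, 0, 0, by unfold nf; rw [zero_a R, zero_c R, zero_d R, mul_one, mul_one, one_mul]⟩

include R in
theorem xc_mem (t : F) : xc t ∈ nfSub R :=
  ⟨0, 0, t, 0, by unfold nf; rw [zero_a R, zero_b R, zero_d R, mul_one, one_mul, one_mul]⟩

include R in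
theorem xd_mem (t : F) : xd t ∈ nfSub R :=
  ⟨0, 0, 0, t, by unfold nf; rw [zero_a R, zero_b R, zero_c R, one_mul, one_mul, one_mul]⟩

end NfSub

section Fix

variable {F : Type*} [Field F] [CharP F 2] {G : Type*} [Group G]
  {xa xb xc xd : F → G} (R : Rel xa xb xc xd) (φ : F →+* F) (hφ : ∀ t, (φ (φ t)) ^ 2 = t)

/-- the twist on a `B₂`-class -/
structure Tw (xa xb xc xd : F → G) (φ : F →+* F) (σ : G →* G) : Prop where
  a : ∀ s, σ (xa s) = xb ((φ s) ^ 2)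
  b : ∀ s, σ (xb s) = xa (φ s)
  c : ∀ s, σ (xc s) = xd ((φ s) ^ 2)
  d : ∀ s, σ (xd s) = xc (φ s)

variable {σ : G →* G}

include R in
theorem Tw.map_nf (hσ : Tw xa xb xc xd φ σ) (p q r s : F) :
    σ (nf xa xb xc xd p q r s) =
      nf xa xb xc xd (φ q) ((φ p) ^ 2) (φ q * (φ p) ^ 2 + φ s) ((φ q) ^ 2 * (φ p) ^ 2 + (φ r) ^ 2) := by
  have e1 : xb ((φ p) ^ 2) = nf xa xb xc xd 0 ((φ p) ^ 2) 0 0 := by
    unfold nf; rw [zero_a R, zero_c R, zero_d R, mul_one, mul_one, one_mul]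
  have e2 : xa (φ q) = nf xa xb xc xd (φ q) 0 0 0 := by
    unfold nf; rw [zero_b R, zero_c R, zero_d R, mul_one, mul_one, mul_one]
  have e3 : xd ((φ r) ^ 2) * xc (φ s) = nf xa xb xc xd 0 0 (φ s) ((φ r) ^ 2) := by
    unfold nf; rw [zero_a R, zero_b R, one_mul, one_mul]
    exact ((R.hcd _ _).eq).symm
  have e0 : σ (nf xa xb xc xd p q r s) = xb ((φ p) ^ 2) * xa (φ q) * (xd ((φ r) ^ 2) * xc (φ s)) := by
    unfold nf
    rw [map_mul, map_mul, map_mul, hσ.a, hσ.b, hσ.c, hσ.d, mul_assoc]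
  rw [e0, e1, e2, e3, nf_mul R, nf_mul R]
  congr 1 <;> ring

include R hφ in
/-- the elements `β(t, u)` are fixed -/
theorem Tw.map_beta (hσ : Tw xa xb xc xd φ σ) (t u : F) :
    σ (beta xa xb xc xd φ t u) = beta xa xb xc xd φ t u := by
  have h2 : (2 : F) = 0 := CharTwo.two_eq_zero
  unfold beta
  rw [hσ.map_nf R φ]
  have e2 : (φ (φ t)) ^ 2 = t := hφ t
  have e3 : φ t * t + φ ((φ u) ^ 2) = φ t * t + u := by
    rw [map_pow, hφ u]
  have e4 : (φ t) ^ 2 * t + (φ (φ t * t + u)) ^ 2 = (φ u) ^ 2 := by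
    rw [map_add, map_mul]
    linear_combination ((φ t) ^ 2 * t + φ (φ t) * φ t * φ u) * h2 + (φ t) ^ 2 * hφ t
  rw [e2, e3, e4]

include R hφ in
/-- a fixed normal form is some `β(t, u)` -/
theorem Tw.fixed (hσ : Tw xa xb xc xd φ σ)
    (hinj : ∀ p q r s p' q' r' s' : F, nf xa xb xc xd p q r s = nf xa xb xc xd p' q' r' s' →
      p = p' ∧ q = q' ∧ r = r' ∧ s = s')
    (p q r s : F) (h : σ (nf xa xb xc xd p q r s) = nf xa xb xc xd p q r s) :
    nf xa xb xc xd p q r s = beta xa xb xc xd φ q (r + φ q * q) := by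
  have h2 : (2 : F) = 0 := CharTwo.two_eq_zero
  rw [hσ.map_nf R φ] at h
  obtain ⟨h1, h3, -, h5⟩ := hinj _ _ _ _ _ _ _ _ h
  unfold beta
  have e1 : p = φ q := h1.symm
  have e3 : φ q * q + (r + φ q * q) = r := by linear_combination (φ q * q) * h2
  have e4 : (φ (r + φ q * q)) ^ 2 = s := by
    rw [map_add, map_mul]
    rw [← h5, h3]
    linear_combination (φ r * (φ (φ q) * φ q)) * h2 + (φ q) ^ 2 * hφ q
  rw [e3, e4, ← e1]

end Fix

section Pair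

variable {F : Type*} [Field F] {G : Type*} [Group G] (x₁ x₂ : F → G) (φ : F →+* F)

/-- fixed points of the twist on an orthogonal pair -/
theorem pair_fixed (hφ : ∀ t, (φ (φ t)) ^ 2 = t) (σ : G →* G)
    (h1 : ∀ s, σ (x₁ s) = x₂ ((φ s) ^ 2))
    (h2 : ∀ s, σ (x₂ s) = x₁ (φ s)) (hc : ∀ s t, Commute (x₁ s) (x₂ t))
    (hinj : ∀ s t s' t' : F, x₁ s * x₂ t = x₁ s' * x₂ t' → s = s' ∧ t = t')
    (s t : F) (h : σ (x₁ s * x₂ t) = x₁ s * x₂ t) : x₁ s * x₂ t = x₁ (φ t) * x₂ t := by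
  rw [map_mul, h1, h2, (hc _ _).eq.symm] at h
  obtain ⟨e1, -⟩ := hinj _ _ _ _ h
  rw [← e1]

theorem pair_map (hφ : ∀ t, (φ (φ t)) ^ 2 = t) (σ : G →* G)
    (h1 : ∀ s, σ (x₁ s) = x₂ ((φ s) ^ 2))
    (h2 : ∀ s, σ (x₂ s) = x₁ (φ s)) (hc : ∀ s t, Commute (x₁ s) (x₂ t)) (t : F) :
    σ (x₁ (φ t) * x₂ t) = x₁ (φ t) * x₂ t := by
  rw [map_mul, h1, h2, hφ t, (hc _ _).eq]

end Pair

section Sub

variable {F : Type*} [Field F] {G : Type*} [Group G]
  {xa xb xc xd : F → G}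

/-- the relations inside a subgroup containing the root elements -/
theorem Rel.subtype (R : Rel xa xb xc xd) (S : Subgroup G) (ha : ∀ t, xa t ∈ S) (hb : ∀ t, xb t ∈ S)
    (hc : ∀ t, xc t ∈ S) (hd : ∀ t, xd t ∈ S) :
    Rel (fun t => (⟨xa t, ha t⟩ : S)) (fun t => (⟨xb t, hb t⟩ : S)) (fun t => (⟨xc t, hc t⟩ : S))
      (fun t => (⟨xd t, hd t⟩ : S)) where
  adda s t := Subtype.ext (R.adda s t)
  addb s t := Subtype.ext (R.addb s t)
  addc s t := Subtype.ext (R.addc s t)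
  addd s t := Subtype.ext (R.addd s t)
  hab t u := Subtype.ext (R.hab t u)
  hca s t := Subtype.ext (R.hca s t).eq
  hcb s t := Subtype.ext (R.hcb s t).eq
  hcd s t := Subtype.ext (R.hcd s t).eq
  hda s t := Subtype.ext (R.hda s t).eq
  hdb s t := Subtype.ext (R.hdb s t).eq

theorem nf_subtype (S : Subgroup G) (ha : ∀ t, xa t ∈ S) (hb : ∀ t, xb t ∈ S)
    (hc : ∀ t, xc t ∈ S) (hd : ∀ t, xd t ∈ S) (p q r s : F) :
    ((nf (fun t => (⟨xa t, ha t⟩ : S)) (fun t => (⟨xb t, hb t⟩ : S)) (fun t => (⟨xc t, hc t⟩ : S))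
      (fun t => (⟨xd t, hd t⟩ : S)) p q r s : S) : G) = nf xa xb xc xd p q r s := rfl

end Sub

end Cfsg.Agent.Helper36.B2Class
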