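import Cfsg.Agent.Helper36.BaseChange
import Cfsg.Agent.S2157

/-!
Helper36: construction of the field automorphisms and of the diagonal automorphisms of a Chevalley group
`D.group F`, as group automorphisms `↥(D.group F) ≃* ↥(D.group F)` satisfying the predicates `D.IsFieldAut`,
`D.IsDiagonalAut` of `Def_ChevAutomorphisms`.

* `fieldAut D hadd σ` : entrywise application of the field automorphism `σ`; `x_r(t) ↦ x_r(σ t)`.
* `diagAut D hD χ hχ` : conjugation by the diagonal matrix `ĥ(χ)` of a character of the root lattice;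
  `x_r(t) ↦ x_r(χ(r) t)`.
-/

set_option autoImplicit false

namespace Cfsg.Agent.Helper36.ChevAut

open Cfsg Cfsg.Lie Cfsg.Agent.Helper40.ChevAdd Cfsg.Agent.Helper36.Perfect Cfsg.Agent.Helper36.BaseChange

section Field
variable {F : Type*} [Field F] (D : ChevalleyDatum) (hadd : addOK D = true)

theorem bc_bc (σ : F ≃+* F) (g : GL D.Idx F) :
    bc D (σ.symm : F →+* F) (bc D (σ : F →+* F) g) = g := by
  apply Units.ext
  rw [coe_bc, coe_bc]
  ext i j
  simp [Matrix.map_apply]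

theorem bc_bc' (σ : F ≃+* F) (g : GL D.Idx F) :
    bc D (σ : F →+* F) (bc D (σ.symm : F →+* F) g) = g := by
  apply Units.ext
  rw [coe_bc, coe_bc]
  ext i j
  simp [Matrix.map_apply]

include hadd in
theorem bc_mem (σ : F ≃+* F) (g : GL D.Idx F) (hg : g ∈ D.group F) : bc D (σ : F →+* F) g ∈ D.group F :=
  bc_group_le D (σ : F →+* F) hadd ⟨g, hg, rfl⟩

/-- the field automorphism of the Chevalley group attached to `σ` -/
def fieldAut (σ : F ≃+* F) : ↥(D.group F) ≃* ↥(D.group F) where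
  toFun g := ⟨bc D (σ : F →+* F) g, bc_mem D hadd σ g g.2⟩
  invFun g := ⟨bc D (σ.symm : F →+* F) g, bc_mem D hadd σ.symm g g.2⟩
  left_inv g := Subtype.ext (bc_bc D σ g)
  right_inv g := Subtype.ext (bc_bc' D σ g)
  map_mul' g h := Subtype.ext (map_mul (bc D (σ : F →+* F)) (g : GL D.Idx F) (h : GL D.Idx F))

theorem fieldAut_val (σ : F ≃+* F) (g : ↥(D.group F)) :
    ((fieldAut D hadd σ g : GL D.Idx F) : Matrix D.Idx D.Idx F)
      = ((g : GL D.Idx F) : Matrix D.Idx D.Idx F).map σ := rfl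

theorem fieldAut_x (σ : F ≃+* F) (g : ↥(D.group F)) (r : ℕ) (t : F)
    (hg : ((g : GL D.Idx F) : Matrix D.Idx D.Idx F) = D.x F r t) :
    ((fieldAut D hadd σ g : GL D.Idx F) : Matrix D.Idx D.Idx F) = D.x F r (σ t) := by
  rw [fieldAut_val, hg]
  exact x_map' D (σ : F →+* F) r t

theorem isFieldAut_fieldAut (σ : F ≃+* F) : D.IsFieldAut (fieldAut D hadd σ) :=
  ⟨σ, fun g r t _ hg => fieldAut_x D hadd σ g r t hg⟩

theorem fieldAut_one : fieldAut D hadd (RingEquiv.refl F) = MulEquiv.refl _ := by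
  ext g i j
  rw [fieldAut_val]
  simp [Matrix.map_apply]

theorem fieldAut_mul (σ τ : F ≃+* F) :
    fieldAut D hadd (τ.trans σ) = (fieldAut D hadd τ).trans (fieldAut D hadd σ) := by
  ext g i j
  show ((fieldAut D hadd (τ.trans σ) g : GL D.Idx F) : Matrix D.Idx D.Idx F) i j
    = ((fieldAut D hadd σ (fieldAut D hadd τ g) : GL D.Idx F) : Matrix D.Idx D.Idx F) i j
  rw [fieldAut_val, fieldAut_val, fieldAut_val]
  simp [Matrix.map_apply]

end Field

section Diag
variable {F : Type*} [Field F] (D : ChevalleyDatum)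
  (hD : D ∈ [chevG2, chevB2, chevD4, chevF4, chevE6, chevE7, chevE8])

theorem charDiag_mul_inv (χ : ℕ → Fˣ) : D.charDiag F χ * D.charDiag F (fun s => (χ s)⁻¹) = 1 := by
  unfold ChevalleyDatum.charDiag
  rw [Matrix.diagonal_mul_diagonal, ← Matrix.diagonal_one]
  congr 1
  funext j
  rcases j with a | s <;> simp

theorem charDiag_inv_mul (χ : ℕ → Fˣ) : D.charDiag F (fun s => (χ s)⁻¹) * D.charDiag F χ = 1 := by
  unfold ChevalleyDatum.charDiag
  rw [Matrix.diagonal_mul_diagonal, ← Matrix.diagonal_one]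
  congr 1
  funext j
  rcases j with a | s <;> simp

/-- the diagonal matrix of `χ` as an element of the general linear group -/
def dGL (χ : ℕ → Fˣ) : GL D.Idx F :=
  ⟨D.charDiag F χ, D.charDiag F (fun s => (χ s)⁻¹), charDiag_mul_inv D χ, charDiag_inv_mul D χ⟩

theorem isRootCharacter_inv (χ : ℕ → Fˣ) (hχ : D.IsRootCharacter χ) :
    D.IsRootCharacter (fun s => (χ s)⁻¹) := by
  obtain ⟨h1, h2⟩ := hχ
  refine ⟨fun r hr => ?_, fun r s k hr hs hk => ?_⟩
  · show (χ (D.neg r))⁻¹ = ((χ r)⁻¹)⁻¹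
    rw [h1 r hr]
  · show (χ k)⁻¹ = (χ r)⁻¹ * (χ s)⁻¹
    rw [h2 r s k hr hs hk, mul_inv]

include hD in
theorem dGL_conj_xGL (χ : ℕ → Fˣ) (hχ : D.IsRootCharacter χ) (r : ℕ) (hr : r < D.nroots) (t : F) :
    dGL D χ * xGL D (addOK_of_mem hD) F r t * (dGL D χ)⁻¹ = xGL D (addOK_of_mem hD) F r ((χ r : F) * t) := by
  apply Units.ext
  rw [Units.val_mul, Units.val_mul]
  exact Cfsg.Agent.S2157.result D hD χ hχ r hr t

include hD in
theorem dGL_conj_mem (χ : ℕ → Fˣ) (hχ : D.IsRootCharacter χ) (g : GL D.Idx F) (hg : g ∈ D.group F) :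
    dGL D χ * g * (dGL D χ)⁻¹ ∈ D.group F := by
  have hadd := addOK_of_mem hD
  have hle : D.group F ≤ (D.group F).comap (MulAut.conj (dGL D χ)).toMonoidHom := by
    unfold ChevalleyDatum.group
    rw [Subgroup.closure_le]
    rintro g ⟨r, t, hg⟩
    rw [SetLike.mem_coe, Subgroup.mem_comap]
    have hg' : (g : Matrix D.Idx D.Idx F) = D.x F r t := by
      rw [hg]
      unfold ChevalleyDatum.x
      rw [dif_pos r.2]
    have e : g = xGL D hadd F r t := eq_xGL D hadd hg'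
    show dGL D χ * g * (dGL D χ)⁻¹ ∈ Subgroup.closure _
    rw [e, dGL_conj_xGL D hD χ hχ r r.2 t]
    exact xGL_mem D hadd r _
  exact hle hg

theorem dGL_inv (χ : ℕ → Fˣ) : (dGL D χ)⁻¹ = dGL D (fun s => (χ s)⁻¹) := by
  apply Units.ext
  show D.charDiag F (fun s => (χ s)⁻¹) = D.charDiag F (fun s => (χ s)⁻¹)
  rfl

/-- the diagonal automorphism of the Chevalley group attached to the character `χ` -/
def diagAut (χ : ℕ → Fˣ) (hχ : D.IsRootCharacter χ) : ↥(D.group F) ≃* ↥(D.group F) where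
  toFun g := ⟨dGL D χ * g * (dGL D χ)⁻¹, dGL_conj_mem D hD χ hχ g g.2⟩
  invFun g := ⟨(dGL D χ)⁻¹ * g * dGL D χ, by
    have := dGL_conj_mem D hD _ (isRootCharacter_inv D χ hχ) g g.2
    rw [← dGL_inv, inv_inv] at this
    exact this⟩
  left_inv g := by
    apply Subtype.ext
    show (dGL D χ)⁻¹ * (dGL D χ * g * (dGL D χ)⁻¹) * dGL D χ = g
    group
  right_inv g := by
    apply Subtype.ext
    show dGL D χ * ((dGL D χ)⁻¹ * g * dGL D χ) * (dGL D χ)⁻¹ = g
    group
  map_mul' g h := by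
    apply Subtype.ext
    show dGL D χ * (g * h : GL D.Idx F) * (dGL D χ)⁻¹ = (dGL D χ * g * (dGL D χ)⁻¹) * (dGL D χ * h * (dGL D χ)⁻¹)
    group

theorem diagAut_val (χ : ℕ → Fˣ) (hχ : D.IsRootCharacter χ) (g : ↥(D.group F)) :
    ((diagAut D hD χ hχ g : GL D.Idx F) : Matrix D.Idx D.Idx F)
      = D.charDiag F χ * ((g : GL D.Idx F) : Matrix D.Idx D.Idx F) * D.charDiag F (fun r => (χ r)⁻¹) := rfl

theorem isDiagonalAut_diagAut (χ : ℕ → Fˣ) (hχ : D.IsRootCharacter χ) :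
    D.IsDiagonalAut (diagAut D hD χ hχ) :=
  ⟨χ, hχ, fun g => diagAut_val D hD χ hχ g⟩

theorem diagAut_x (χ : ℕ → Fˣ) (hχ : D.IsRootCharacter χ) (g : ↥(D.group F)) (r : ℕ) (hr : r < D.nroots)
    (t : F) (hg : ((g : GL D.Idx F) : Matrix D.Idx D.Idx F) = D.x F r t) :
    ((diagAut D hD χ hχ g : GL D.Idx F) : Matrix D.Idx D.Idx F) = D.x F r ((χ r : F) * t) := by
  rw [diagAut_val, hg]
  exact Cfsg.Agent.S2157.result D hD χ hχ r hr t

end Diag

end Cfsg.Agent.Helper36.ChevAut
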