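import Cfsg.Agent.Helper36.ChevConj

set_option autoImplicit false
open Cfsg Cfsg.Lie

/-!
Generation of a Chevalley group by its fundamental root elements `x_{±p_i}(t)`: every root is obtained from a
fundamental root by fundamental reflections, and `n_p x_s(t) n_p⁻¹ = x_{w_p s}(±t)`.
-/

namespace Cfsg.Agent.Helper36

variable (D : ChevalleyDatum) (F : Type*) [Field F]

/-- all abstract coordinate indices in range -/
def allIdx : List SIdx := (List.range D.rank).map Sum.inl ++ (List.range D.nroots).map Sum.inr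

theorem toS_mem_allIdx (b : D.Idx) : toS D b ∈ allIdx D := by
  unfold allIdx
  rcases b with j | s
  · apply List.mem_append_left
    exact List.mem_map.mpr ⟨j.val, List.mem_range.mpr j.isLt, rfl⟩
  · apply List.mem_append_right
    exact List.mem_map.mpr ⟨s.val, List.mem_range.mpr s.isLt, rfl⟩

/-- simulated check that `x_r(a) x_r(b) = 1` -/
def invCheck (r : ℕ) (a b : ℤ) : Bool :=
  (allIdx D).all fun c => sameVec (applyX D r a (applyX D r b [(c, 1)])) [(c, 1)]

theorem mul_eq_one_of_invCheck (r : Fin D.nroots) (a b : ℤ) (h : invCheck D r.val a b = true) :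
    D.xMat F r (a : F) * D.xMat F r (b : F) = 1 := by
  unfold invCheck at h
  rw [List.all_eq_true] at h
  ext x y
  have h1 := vecF_eq_of_sameVec D F (h (toS D y) (toS_mem_allIdx D y))
  rw [applyX_sound, applyX_sound, vecF_single, Matrix.mulVec_mulVec, Matrix.mulVec_single_one] at h1
  have h2 := congrFun h1 x
  rw [Matrix.col_apply] at h2
  rw [h2, Matrix.one_apply, Pi.single_apply]


/-- distance of a root index from the middle of the list of roots (negative roots come first) -/
def mu (r : ℕ) : ℕ := if D.nroots ≤ 2 * r then r else D.nroots - 1 - r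

/-- `r` is a fundamental root or the negative of one -/
def isFundB (r : ℕ) : Bool := (List.range D.rank).any fun j => r == D.simple j || r == D.neg (D.simple j)

/-- certificate check: `cert[r]` is a fundamental reflection moving the non-fundamental root `r` closer to the
middle -/
def genCheck (cert : List ℕ) : Bool :=
  decide (cert.length = D.nroots) &&
  cert.zipIdx.all fun ir =>
    decide (ir.1 < D.rank) && (isFundB D ir.2 || decide (mu D (D.reflectRoot ir.1 ir.2) < mu D ir.2))

theorem root_induction (cert : List ℕ) (h : genCheck D cert = true) (P : ℕ → Prop)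
    (hrefl : ∀ i < D.rank, ∀ s < D.nroots,
      D.reflectRoot i s < D.nroots ∧ D.reflectRoot i (D.reflectRoot i s) = s)
    (hfund : ∀ j < D.rank, P (D.simple j) ∧ P (D.neg (D.simple j)))
    (hstep : ∀ i < D.rank, ∀ s < D.nroots, P s → P (D.reflectRoot i s)) :
    ∀ r < D.nroots, P r := by
  unfold genCheck at h
  rw [Bool.and_eq_true, decide_eq_true_eq, List.all_eq_true] at h
  obtain ⟨hlen, hall⟩ := h
  have key : ∀ m : ℕ, ∀ r < D.nroots, mu D r = m → P r := by
    intro m
    induction m using Nat.strong_induction_on with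
    | _ m ih =>
      intro r hr hm
      have hr' : r < cert.length := by omega
      have hmem : (cert[r], r) ∈ cert.zipIdx := by
        rw [List.mem_zipIdx_iff_getElem?]
        simp
      have h1 := hall _ hmem
      simp only [Bool.and_eq_true, decide_eq_true_eq, Bool.or_eq_true] at h1
      obtain ⟨hi, h2⟩ := h1
      rcases h2 with h2 | h2
      · unfold isFundB at h2
        rw [List.any_eq_true] at h2
        obtain ⟨j, hj, hj2⟩ := h2
        rw [List.mem_range] at hj
        simp only [Bool.or_eq_true, beq_iff_eq] at hj2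
        rcases hj2 with hj2 | hj2
        · rw [hj2]
          exact (hfund j hj).1
        · rw [hj2]
          exact (hfund j hj).2
      · obtain ⟨hlt, hinv⟩ := hrefl cert[r] hi r hr
        have := ih (mu D (D.reflectRoot cert[r] r)) (by omega) (D.reflectRoot cert[r] r) hlt rfl
        have h3 := hstep cert[r] hi _ hlt this
        rw [hinv] at h3
        exact h3
  intro r hr
  exact key (mu D r) r hr rfl


open scoped MatrixGroups

theorem fund_generate_of_checks
    (hconj : ∀ i < D.rank, ∀ s < D.nroots, ∃ η : ℤ, (η = 1 ∨ η = -1) ∧ ∀ t : F,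
      D.nMat F (D.simple i) 1 * D.x F s t =
        D.x F (D.reflectRoot i s) ((η : F) * t) * D.nMat F (D.simple i) 1)
    (hrefl : ∀ i < D.rank, ∀ s < D.nroots,
      D.reflectRoot i s < D.nroots ∧ D.reflectRoot i (D.reflectRoot i s) = s)
    (hsimple : ∀ i < D.rank, D.simple i < D.nroots ∧ D.neg (D.simple i) < D.nroots)
    (hinv : ∀ i < D.rank, invCheck D (D.simple i) 1 (-1) = true ∧
      invCheck D (D.neg (D.simple i)) (-1) 1 = true)
    (cert : List ℕ) (hcert : genCheck D cert = true)
    (E : Subgroup ↥(D.group F))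
    (hE : ∀ i < D.rank, ∀ (t : F) (γ : ↥(D.group F)),
      (((γ : GL D.Idx F) : Matrix D.Idx D.Idx F) = D.x F (D.simple i) t ∨
        ((γ : GL D.Idx F) : Matrix D.Idx D.Idx F) = D.x F (D.neg (D.simple i)) t) → γ ∈ E) :
    E = ⊤ := by
  -- the property of a root index
  have hP : ∀ r < D.nroots, ∀ (t : F) (γ : ↥(D.group F)),
      ((γ : GL D.Idx F) : Matrix D.Idx D.Idx F) = D.x F r t → γ ∈ E := by
    apply root_induction D cert hcert
      (fun r => ∀ (t : F) (γ : ↥(D.group F)), ((γ : GL D.Idx F) : Matrix D.Idx D.Idx F) = D.x F r t → γ ∈ E) hrefl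
    · intro j hj
      exact ⟨fun t γ h => hE j hj t γ (Or.inl h), fun t γ h => hE j hj t γ (Or.inr h)⟩
    · intro i hi s hs hPs t γ hγ
      obtain ⟨hp, hnp⟩ := hsimple i hi
      obtain ⟨hi1, hi2⟩ := hinv i hi
      have h11 := mul_eq_one_of_invCheck D F ⟨D.simple i, hp⟩ 1 (-1) hi1
      have h22 := mul_eq_one_of_invCheck D F ⟨D.neg (D.simple i), hnp⟩ (-1) 1 hi2
      let u1 : GL D.Idx F := ⟨D.xMat F ⟨D.simple i, hp⟩ ((1 : ℤ) : F), D.xMat F ⟨D.simple i, hp⟩ ((-1 : ℤ) : F),
        h11, mul_eq_one_comm.mp h11⟩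
      let u2 : GL D.Idx F := ⟨D.xMat F ⟨D.neg (D.simple i), hnp⟩ ((-1 : ℤ) : F),
        D.xMat F ⟨D.neg (D.simple i), hnp⟩ ((1 : ℤ) : F), h22, mul_eq_one_comm.mp h22⟩
      have hu1 : u1 ∈ D.group F := Subgroup.subset_closure ⟨⟨D.simple i, hp⟩, ((1 : ℤ) : F), rfl⟩
      have hu2 : u2 ∈ D.group F := Subgroup.subset_closure ⟨⟨D.neg (D.simple i), hnp⟩, ((-1 : ℤ) : F), rfl⟩
      have hx1 : ((u1 : GL D.Idx F) : Matrix D.Idx D.Idx F) = D.x F (D.simple i) 1 := by
        show D.xMat F ⟨D.simple i, hp⟩ ((1 : ℤ) : F) = _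
        unfold ChevalleyDatum.x
        rw [dif_pos hp, Int.cast_one]
      have hx2 : ((u2 : GL D.Idx F) : Matrix D.Idx D.Idx F) = D.x F (D.neg (D.simple i)) (-1) := by
        show D.xMat F ⟨D.neg (D.simple i), hnp⟩ ((-1 : ℤ) : F) = _
        unfold ChevalleyDatum.x
        rw [dif_pos hnp, Int.cast_neg, Int.cast_one]
      have hν1 : (⟨u1, hu1⟩ : ↥(D.group F)) ∈ E := hE i hi 1 ⟨u1, hu1⟩ (Or.inl hx1)
      have hν2 : (⟨u2, hu2⟩ : ↥(D.group F)) ∈ E := hE i hi (-1) ⟨u2, hu2⟩ (Or.inr hx2)
      set ν : ↥(D.group F) := ⟨u1, hu1⟩ * ⟨u2, hu2⟩ * ⟨u1, hu1⟩ with hνdef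
      have hν : ν ∈ E := E.mul_mem (E.mul_mem hν1 hν2) hν1
      have hνmat : ((ν : GL D.Idx F) : Matrix D.Idx D.Idx F) = D.nMat F (D.simple i) 1 := by
        have : ((ν : GL D.Idx F) : Matrix D.Idx D.Idx F) =
            ((u1 : GL D.Idx F) : Matrix D.Idx D.Idx F) * ((u2 : GL D.Idx F) : Matrix D.Idx D.Idx F) *
              ((u1 : GL D.Idx F) : Matrix D.Idx D.Idx F) := rfl
        rw [this, hx1, hx2]
        unfold ChevalleyDatum.nMat ChevalleyDatum.wordMat ChevalleyDatum.nWord
        simp only [List.map_cons, List.map_nil, List.prod_cons, List.prod_nil, mul_one, inv_one, mul_assoc]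
      obtain ⟨η, hη, hc⟩ := hconj i hi s hs
      have hηη : ((η : ℤ) : F) * (((η : ℤ) : F) * t) = t := by
        rcases hη with rfl | rfl <;> simp
      have hc' := hc (((η : ℤ) : F) * t)
      rw [hηη, ← hγ, ← hνmat] at hc'
      -- the conjugate ν⁻¹ γ ν is the root element x_s(η t)
      have hγ' : (((ν⁻¹ * γ * ν : ↥(D.group F)) : GL D.Idx F) : Matrix D.Idx D.Idx F) =
          D.x F s (((η : ℤ) : F) * t) := by
        have e1 : (((ν⁻¹ * γ * ν : ↥(D.group F)) : GL D.Idx F) : Matrix D.Idx D.Idx F) =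
            (((ν : GL D.Idx F)⁻¹ : GL D.Idx F) : Matrix D.Idx D.Idx F) *
              ((γ : GL D.Idx F) : Matrix D.Idx D.Idx F) * ((ν : GL D.Idx F) : Matrix D.Idx D.Idx F) := rfl
        rw [e1, mul_assoc, ← hc', ← mul_assoc]
        have e2 : (((ν : GL D.Idx F)⁻¹ : GL D.Idx F) : Matrix D.Idx D.Idx F) *
            ((ν : GL D.Idx F) : Matrix D.Idx D.Idx F) = 1 := by
          rw [← Units.val_mul, inv_mul_cancel, Units.val_one]
        rw [e2, one_mul]
      have hmem := hPs _ _ hγ'
      have : γ = ν * (ν⁻¹ * γ * ν) * ν⁻¹ := by group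
      rw [this]
      exact E.mul_mem (E.mul_mem hν hmem) (E.inv_mem hν)
  -- every element of the group lies in E
  rw [eq_top_iff]
  rintro ⟨y, hy⟩ _
  have : ∀ (x : GL D.Idx F) (hx : x ∈ D.group F), (⟨x, hx⟩ : ↥(D.group F)) ∈ E := by
    intro x hx
    unfold ChevalleyDatum.group at hx
    induction hx using Subgroup.closure_induction with
    | mem x hx =>
      obtain ⟨r, t, hrt⟩ := hx
      apply hP r.val r.isLt t
      show (x : Matrix D.Idx D.Idx F) = D.x F r.val t
      unfold ChevalleyDatum.x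
      rw [dif_pos r.isLt]
      exact hrt
    | one => exact E.one_mem
    | mul x y hx hy ihx ihy => exact E.mul_mem ihx ihy
    | inv x hx ih => exact E.inv_mem ih
  exact this y hy

end Cfsg.Agent.Helper36
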