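import Cfsg.Agent.Helper36.ChevNAll
import Cfsg.Agent.Helper36.ChevGen

set_option autoImplicit false
set_option maxRecDepth 100000
open Cfsg Cfsg.Lie

/-! Kernel-checked certificates: root elements of fundamental roots at `±1` are invertible, and every root is reached
from a fundamental root by fundamental reflections; hence the fundamental root elements generate. -/

namespace Cfsg.Agent.Helper36

def certG2 : List ℕ := [1, 0, 0, 1, 0, 0, 0, 0, 1, 0, 0, 1]
theorem genCheckG2 : genCheck chevG2 certG2 = true := by decide +kernel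
theorem invCheckG2_0a : invCheck chevG2 (chevG2.simple 0) 1 (-1) = true := by decide +kernel
theorem invCheckG2_0b : invCheck chevG2 (chevG2.neg (chevG2.simple 0)) (-1) 1 = true := by decide +kernel
theorem invCheckG2_1a : invCheck chevG2 (chevG2.simple 1) 1 (-1) = true := by decide +kernel
theorem invCheckG2_1b : invCheck chevG2 (chevG2.neg (chevG2.simple 1)) (-1) 1 = true := by decide +kernel

def certB2 : List ℕ := [0, 1, 0, 0, 0, 0, 1, 0]
theorem genCheckB2 : genCheck chevB2 certB2 = true := by decide +kernel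
theorem invCheckB2_0a : invCheck chevB2 (chevB2.simple 0) 1 (-1) = true := by decide +kernel
theorem invCheckB2_0b : invCheck chevB2 (chevB2.neg (chevB2.simple 0)) (-1) 1 = true := by decide +kernel
theorem invCheckB2_1a : invCheck chevB2 (chevB2.simple 1) 1 (-1) = true := by decide +kernel
theorem invCheckB2_1b : invCheck chevB2 (chevB2.neg (chevB2.simple 1)) (-1) 1 = true := by decide +kernel

def certD4 : List ℕ := [1, 0, 0, 0, 0, 0, 2, 1, 1, 0, 0, 0, 0, 0, 0, 1, 1, 2, 0, 0, 0, 0, 0, 1]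
theorem genCheckD4 : genCheck chevD4 certD4 = true := by decide +kernel
theorem invCheckD4_0a : invCheck chevD4 (chevD4.simple 0) 1 (-1) = true := by decide +kernel
theorem invCheckD4_0b : invCheck chevD4 (chevD4.neg (chevD4.simple 0)) (-1) 1 = true := by decide +kernel
theorem invCheckD4_1a : invCheck chevD4 (chevD4.simple 1) 1 (-1) = true := by decide +kernel
theorem invCheckD4_1b : invCheck chevD4 (chevD4.neg (chevD4.simple 1)) (-1) 1 = true := by decide +kernel
theorem invCheckD4_2a : invCheck chevD4 (chevD4.simple 2) 1 (-1) = true := by decide +kernel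
theorem invCheckD4_2b : invCheck chevD4 (chevD4.neg (chevD4.simple 2)) (-1) 1 = true := by decide +kernel
theorem invCheckD4_3a : invCheck chevD4 (chevD4.simple 3) 1 (-1) = true := by decide +kernel
theorem invCheckD4_3b : invCheck chevD4 (chevD4.neg (chevD4.simple 3)) (-1) 1 = true := by decide +kernel

def certF4 : List ℕ := [3, 2, 1, 0, 0, 0, 0, 1, 2, 1, 1, 0, 0, 0, 0, 2, 1, 1, 3, 2, 0, 2, 0, 0, 0, 0, 2, 0, 2, 3, 1, 1, 2, 0, 0, 0, 0, 1, 1, 2, 1, 0, 0, 0, 0, 1, 2, 3]
theorem genCheckF4 : genCheck chevF4 certF4 = true := by decide +kernel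
theorem invCheckF4_0a : invCheck chevF4 (chevF4.simple 0) 1 (-1) = true := by decide +kernel
theorem invCheckF4_0b : invCheck chevF4 (chevF4.neg (chevF4.simple 0)) (-1) 1 = true := by decide +kernel
theorem invCheckF4_1a : invCheck chevF4 (chevF4.simple 1) 1 (-1) = true := by decide +kernel
theorem invCheckF4_1b : invCheck chevF4 (chevF4.neg (chevF4.simple 1)) (-1) 1 = true := by decide +kernel
theorem invCheckF4_2a : invCheck chevF4 (chevF4.simple 2) 1 (-1) = true := by decide +kernel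
theorem invCheckF4_2b : invCheck chevF4 (chevF4.neg (chevF4.simple 2)) (-1) 1 = true := by decide +kernel
theorem invCheckF4_3a : invCheck chevF4 (chevF4.simple 3) 1 (-1) = true := by decide +kernel
theorem invCheckF4_3b : invCheck chevF4 (chevF4.neg (chevF4.simple 3)) (-1) 1 = true := by decide +kernel

def certE6 : List ℕ := [1, 3, 2, 2, 2, 0, 0, 0, 0, 0, 0, 0, 0, 0, 0, 0, 4, 3, 3, 1, 1, 1, 1, 1, 1, 0, 2, 2, 2, 0, 3, 3, 0, 4, 0, 0, 0, 0, 4, 0, 3, 3, 0, 2, 2, 2, 0, 1, 1, 1, 1, 1, 1, 3, 3, 4, 0, 0, 0, 0, 0, 0, 0, 0, 0, 0, 0, 2, 2, 2, 3, 1]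
theorem genCheckE6 : genCheck chevE6 certE6 = true := by decide +kernel
theorem invCheckE6_0a : invCheck chevE6 (chevE6.simple 0) 1 (-1) = true := by decide +kernel
theorem invCheckE6_0b : invCheck chevE6 (chevE6.neg (chevE6.simple 0)) (-1) 1 = true := by decide +kernel
theorem invCheckE6_1a : invCheck chevE6 (chevE6.simple 1) 1 (-1) = true := by decide +kernel
theorem invCheckE6_1b : invCheck chevE6 (chevE6.neg (chevE6.simple 1)) (-1) 1 = true := by decide +kernel
theorem invCheckE6_2a : invCheck chevE6 (chevE6.simple 2) 1 (-1) = true := by decide +kernel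
theorem invCheckE6_2b : invCheck chevE6 (chevE6.neg (chevE6.simple 2)) (-1) 1 = true := by decide +kernel
theorem invCheckE6_3a : invCheck chevE6 (chevE6.simple 3) 1 (-1) = true := by decide +kernel
theorem invCheckE6_3b : invCheck chevE6 (chevE6.neg (chevE6.simple 3)) (-1) 1 = true := by decide +kernel
theorem invCheckE6_4a : invCheck chevE6 (chevE6.simple 4) 1 (-1) = true := by decide +kernel
theorem invCheckE6_4b : invCheck chevE6 (chevE6.neg (chevE6.simple 4)) (-1) 1 = true := by decide +kernel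
theorem invCheckE6_5a : invCheck chevE6 (chevE6.simple 5) 1 (-1) = true := by decide +kernel
theorem invCheckE6_5b : invCheck chevE6 (chevE6.neg (chevE6.simple 5)) (-1) 1 = true := by decide +kernel

def certE7 : List ℕ := [0, 2, 3, 1, 1, 1, 1, 4, 3, 3, 3, 2, 2, 2, 2, 2, 2, 0, 0, 0, 0, 0, 0, 0, 0, 0, 0, 0, 0, 0, 0, 0, 0, 5, 4, 4, 3, 3, 3, 1, 1, 1, 1, 1, 1, 1, 1, 0, 2, 2, 2, 2, 0, 3, 3, 3, 0, 4, 4, 0, 5, 0, 0, 0, 0, 5, 0, 4, 4, 0, 3, 3, 3, 0, 2, 2, 2, 2, 0, 1, 1, 1, 1, 1, 1, 1, 1, 3, 3, 3, 4, 4, 5, 0, 0, 0, 0, 0, 0, 0, 0, 0, 0, 0, 0, 0, 0, 0, 0, 2, 2, 2, 2, 2, 2, 3, 3, 3, 4, 1, 1, 1, 1, 3, 2, 0]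
theorem genCheckE7 : genCheck chevE7 certE7 = true := by decide +kernel
theorem invCheckE7_0a : invCheck chevE7 (chevE7.simple 0) 1 (-1) = true := by decide +kernel
theorem invCheckE7_0b : invCheck chevE7 (chevE7.neg (chevE7.simple 0)) (-1) 1 = true := by decide +kernel
theorem invCheckE7_1a : invCheck chevE7 (chevE7.simple 1) 1 (-1) = true := by decide +kernel
theorem invCheckE7_1b : invCheck chevE7 (chevE7.neg (chevE7.simple 1)) (-1) 1 = true := by decide +kernel
theorem invCheckE7_2a : invCheck chevE7 (chevE7.simple 2) 1 (-1) = true := by decide +kernel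
theorem invCheckE7_2b : invCheck chevE7 (chevE7.neg (chevE7.simple 2)) (-1) 1 = true := by decide +kernel
theorem invCheckE7_3a : invCheck chevE7 (chevE7.simple 3) 1 (-1) = true := by decide +kernel
theorem invCheckE7_3b : invCheck chevE7 (chevE7.neg (chevE7.simple 3)) (-1) 1 = true := by decide +kernel
theorem invCheckE7_4a : invCheck chevE7 (chevE7.simple 4) 1 (-1) = true := by decide +kernel
theorem invCheckE7_4b : invCheck chevE7 (chevE7.neg (chevE7.simple 4)) (-1) 1 = true := by decide +kernel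
theorem invCheckE7_5a : invCheck chevE7 (chevE7.simple 5) 1 (-1) = true := by decide +kernel
theorem invCheckE7_5b : invCheck chevE7 (chevE7.neg (chevE7.simple 5)) (-1) 1 = true := by decide +kernel
theorem invCheckE7_6a : invCheck chevE7 (chevE7.simple 6) 1 (-1) = true := by decide +kernel
theorem invCheckE7_6b : invCheck chevE7 (chevE7.neg (chevE7.simple 6)) (-1) 1 = true := by decide +kernel

def certE8 : List ℕ := [7, 6, 5, 4, 3, 1, 0, 2, 0, 0, 0, 0, 0, 0, 1, 3, 2, 2, 2, 2, 2, 4, 3, 3, 3, 3, 1, 1, 1, 1, 1, 1, 1, 1, 1, 1, 5, 4, 4, 4, 3, 3, 3, 3, 3, 3, 2, 2, 2, 2, 2, 2, 2, 2, 2, 2, 0, 0, 0, 0, 0, 0, 0, 0, 0, 0, 0, 0, 0, 0, 0, 0, 0, 0, 0, 0, 0, 0, 6, 5, 5, 4, 4, 4, 3, 3, 3, 3, 1, 1, 1, 1, 1, 1, 1, 1, 1, 1, 0, 2, 2, 2, 2, 2, 0, 3, 3, 3, 3, 0, 4, 4, 4, 0, 5, 5, 0, 6, 0, 0, 0, 0, 6, 0, 5, 5, 0, 4, 4, 4, 0, 3, 3, 3, 3, 0, 2, 2, 2, 2, 2, 0, 1, 1, 1, 1, 1, 1, 1, 1, 1, 1, 3, 3, 3, 3, 4, 4, 4, 5, 5, 6, 0, 0, 0, 0, 0, 0, 0, 0, 0, 0, 0, 0, 0, 0,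 0, 0, 0, 0, 0, 0, 0, 0, 2, 2, 2, 2, 2, 2, 2, 2, 2, 2, 3, 3, 3, 3, 3, 3, 4, 4, 4, 5, 1, 1, 1, 1, 1, 1, 1, 1, 1, 1, 3, 3, 3, 3, 4, 2, 2, 2, 2, 2, 3, 1, 0, 0, 0, 0, 0, 0, 2, 0, 1, 3, 4, 5, 6, 7]
theorem genCheckE8 : genCheck chevE8 certE8 = true := by decide +kernel
theorem invCheckE8_0a : invCheck chevE8 (chevE8.simple 0) 1 (-1) = true := by decide +kernel
theorem invCheckE8_0b : invCheck chevE8 (chevE8.neg (chevE8.simple 0)) (-1) 1 = true := by decide +kernel
theorem invCheckE8_1a : invCheck chevE8 (chevE8.simple 1) 1 (-1) = true := by decide +kernel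
theorem invCheckE8_1b : invCheck chevE8 (chevE8.neg (chevE8.simple 1)) (-1) 1 = true := by decide +kernel
theorem invCheckE8_2a : invCheck chevE8 (chevE8.simple 2) 1 (-1) = true := by decide +kernel
theorem invCheckE8_2b : invCheck chevE8 (chevE8.neg (chevE8.simple 2)) (-1) 1 = true := by decide +kernel
theorem invCheckE8_3a : invCheck chevE8 (chevE8.simple 3) 1 (-1) = true := by decide +kernel
theorem invCheckE8_3b : invCheck chevE8 (chevE8.neg (chevE8.simple 3)) (-1) 1 = true := by decide +kernel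
theorem invCheckE8_4a : invCheck chevE8 (chevE8.simple 4) 1 (-1) = true := by decide +kernel
theorem invCheckE8_4b : invCheck chevE8 (chevE8.neg (chevE8.simple 4)) (-1) 1 = true := by decide +kernel
theorem invCheckE8_5a : invCheck chevE8 (chevE8.simple 5) 1 (-1) = true := by decide +kernel
theorem invCheckE8_5b : invCheck chevE8 (chevE8.neg (chevE8.simple 5)) (-1) 1 = true := by decide +kernel
theorem invCheckE8_6a : invCheck chevE8 (chevE8.simple 6) 1 (-1) = true := by decide +kernel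
theorem invCheckE8_6b : invCheck chevE8 (chevE8.neg (chevE8.simple 6)) (-1) 1 = true := by decide +kernel
theorem invCheckE8_7a : invCheck chevE8 (chevE8.simple 7) 1 (-1) = true := by decide +kernel
theorem invCheckE8_7b : invCheck chevE8 (chevE8.neg (chevE8.simple 7)) (-1) 1 = true := by decide +kernel

theorem exists_gen_checks (D : ChevalleyDatum)
    (hD : D ∈ [chevG2, chevB2, chevD4, chevF4, chevE6, chevE7, chevE8]) :
    (∃ cert : List ℕ, genCheck D cert = true) ∧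
    ∀ i < D.rank, invCheck D (D.simple i) 1 (-1) = true ∧ invCheck D (D.neg (D.simple i)) (-1) 1 = true := by
  simp only [List.mem_cons, List.mem_nil_iff, or_false] at hD
  rcases hD with rfl | rfl | rfl | rfl | rfl | rfl | rfl
  · refine ⟨⟨_, genCheckG2⟩, ?_⟩
    intro i hi
    have hi' : i < 2 := hi
    interval_cases i
    · exact ⟨invCheckG2_0a, invCheckG2_0b⟩
    · exact ⟨invCheckG2_1a, invCheckG2_1b⟩
  · refine ⟨⟨_, genCheckB2⟩, ?_⟩
    intro i hi
    have hi' : i < 2 := hi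
    interval_cases i
    · exact ⟨invCheckB2_0a, invCheckB2_0b⟩
    · exact ⟨invCheckB2_1a, invCheckB2_1b⟩
  · refine ⟨⟨_, genCheckD4⟩, ?_⟩
    intro i hi
    have hi' : i < 4 := hi
    interval_cases i
    · exact ⟨invCheckD4_0a, invCheckD4_0b⟩
    · exact ⟨invCheckD4_1a, invCheckD4_1b⟩
    · exact ⟨invCheckD4_2a, invCheckD4_2b⟩
    · exact ⟨invCheckD4_3a, invCheckD4_3b⟩
  · refine ⟨⟨_, genCheckF4⟩, ?_⟩
    intro i hi
    have hi' : i < 4 := hi
    interval_cases i
    · exact ⟨invCheckF4_0a, invCheckF4_0b⟩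
    · exact ⟨invCheckF4_1a, invCheckF4_1b⟩
    · exact ⟨invCheckF4_2a, invCheckF4_2b⟩
    · exact ⟨invCheckF4_3a, invCheckF4_3b⟩
  · refine ⟨⟨_, genCheckE6⟩, ?_⟩
    intro i hi
    have hi' : i < 6 := hi
    interval_cases i
    · exact ⟨invCheckE6_0a, invCheckE6_0b⟩
    · exact ⟨invCheckE6_1a, invCheckE6_1b⟩
    · exact ⟨invCheckE6_2a, invCheckE6_2b⟩
    · exact ⟨invCheckE6_3a, invCheckE6_3b⟩
    · exact ⟨invCheckE6_4a, invCheckE6_4b⟩
    · exact ⟨invCheckE6_5a, invCheckE6_5b⟩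
  · refine ⟨⟨_, genCheckE7⟩, ?_⟩
    intro i hi
    have hi' : i < 7 := hi
    interval_cases i
    · exact ⟨invCheckE7_0a, invCheckE7_0b⟩
    · exact ⟨invCheckE7_1a, invCheckE7_1b⟩
    · exact ⟨invCheckE7_2a, invCheckE7_2b⟩
    · exact ⟨invCheckE7_3a, invCheckE7_3b⟩
    · exact ⟨invCheckE7_4a, invCheckE7_4b⟩
    · exact ⟨invCheckE7_5a, invCheckE7_5b⟩
    · exact ⟨invCheckE7_6a, invCheckE7_6b⟩
  · refine ⟨⟨_, genCheckE8⟩, ?_⟩
    intro i hi
    have hi' : i < 8 := hi
    interval_cases i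
    · exact ⟨invCheckE8_0a, invCheckE8_0b⟩
    · exact ⟨invCheckE8_1a, invCheckE8_1b⟩
    · exact ⟨invCheckE8_2a, invCheckE8_2b⟩
    · exact ⟨invCheckE8_3a, invCheckE8_3b⟩
    · exact ⟨invCheckE8_4a, invCheckE8_4b⟩
    · exact ⟨invCheckE8_5a, invCheckE8_5b⟩
    · exact ⟨invCheckE8_6a, invCheckE8_6b⟩
    · exact ⟨invCheckE8_7a, invCheckE8_7b⟩

open scoped MatrixGroups

/-- A subgroup of a Chevalley group of one of the seven tabulated types that contains all fundamental root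
elements `x_{±p_i}(t)` is the whole group. -/
theorem fund_generate {F : Type*} [Field F] (D : ChevalleyDatum)
    (hD : D ∈ [chevG2, chevB2, chevD4, chevF4, chevE6, chevE7, chevE8])
    (E : Subgroup ↥(D.group F))
    (hE : ∀ i < D.rank, ∀ (t : F) (γ : ↥(D.group F)),
      (((γ : GL D.Idx F) : Matrix D.Idx D.Idx F) = D.x F (D.simple i) t ∨
        ((γ : GL D.Idx F) : Matrix D.Idx D.Idx F) = D.x F (D.neg (D.simple i)) t) → γ ∈ E) :
    E = ⊤ := by
  obtain ⟨⟨cert, hcert⟩, hinv⟩ := exists_gen_checks D hD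
  refine fund_generate_of_checks D F (fun i hi s hs => nMat_conj D hD i s hi hs) ?_ ?_ hinv cert hcert E hE
  · intro i hi s hs
    obtain ⟨wp, ep, cP, rP, nP, _, hchk⟩ := exists_checks D hD i hi
    obtain ⟨_, _, _, _, h5, _⟩ := iCheck_unpack D hchk
    obtain ⟨a, b, c⟩ := h5 s hs
    rw [← a]
    refine ⟨b, ?_⟩
    rw [← (h5 _ b).1]
    exact c
  · intro i hi
    obtain ⟨wp, ep, cP, rP, nP, _, hchk⟩ := exists_checks D hD i hi
    obtain ⟨_, h2, h3, _⟩ := iCheck_unpack D hchk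
    exact ⟨h2, h3⟩

/-- root facts: fundamental reflections are involutions of the set of root indices -/
theorem reflectRoot_facts (D : ChevalleyDatum)
    (hD : D ∈ [chevG2, chevB2, chevD4, chevF4, chevE6, chevE7, chevE8]) (i : ℕ) (hi : i < D.rank)
    (s : ℕ) (hs : s < D.nroots) :
    D.reflectRoot i s < D.nroots ∧ D.reflectRoot i (D.reflectRoot i s) = s := by
  obtain ⟨wp, ep, cP, rP, nP, _, hchk⟩ := exists_checks D hD i hi
  obtain ⟨_, _, _, _, h5, _⟩ := iCheck_unpack D hchk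
  obtain ⟨a, b, c⟩ := h5 s hs
  rw [← a]
  refine ⟨b, ?_⟩
  rw [← (h5 _ b).1]
  exact c

/-- fundamental roots and their negatives are root indices -/
theorem simple_facts (D : ChevalleyDatum)
    (hD : D ∈ [chevG2, chevB2, chevD4, chevF4, chevE6, chevE7, chevE8]) (i : ℕ) (hi : i < D.rank) :
    D.simple i < D.nroots ∧ D.neg (D.simple i) < D.nroots := by
  obtain ⟨wp, ep, cP, rP, nP, _, hchk⟩ := exists_checks D hD i hi
  obtain ⟨_, h2, h3, _⟩ := iCheck_unpack D hchk
  exact ⟨h2, h3⟩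

end Cfsg.Agent.Helper36
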