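import Cfsg.Agent.Helper36.ChevAutDefs
import Cfsg.Agent.Helper36.ChevAut
import Cfsg.Agent.S2160
import Cfsg.Agent.S1036
import Cfsg.Agent.Helper18.Core

/-!
Helper36: assembly of the automorphism theorem of the Chevalley groups (S2156) from its pieces
(given as hypotheses): Sylow step A, opposite unipotent C, permutation D, symmetry E, graph G, tail T.
-/

set_option autoImplicit false

namespace Cfsg.Agent.Helper36.ChevAut

open Cfsg Cfsg.Lie

variable {F : Type*} [Field F] [Finite F] (D : ChevalleyDatum)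
  (hD : D ∈ [chevG2, chevB2, chevD4, chevF4, chevE6, chevE7, chevE8])

include hD in
/-- the statement of the assembly, from the seven pieces as hypotheses -/
theorem assemble
    (pieceA : ∀ θ : ↥(D.group F) ≃* ↥(D.group F),
      ∃ x : ↥(D.group F), ∀ u : ↥(D.group F), (u : GL D.Idx F) ∈ D.posUnipotent F →
        ((x * θ u * x⁻¹ : ↥(D.group F)) : GL D.Idx F) ∈ D.posUnipotent F)
    (pieceC : ∀ θ : ↥(D.group F) ≃* ↥(D.group F),
      (∀ u : ↥(D.group F), (u : GL D.Idx F) ∈ D.posUnipotent F → (θ u : GL D.Idx F) ∈ D.posUnipotent F) →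
      ∃ b : ↥(D.group F), (b : GL D.Idx F) ∈ D.borelSubgroup F ∧
        ∀ v : ↥(D.group F), (v : GL D.Idx F) ∈ D.negUnipotent F →
          ((b * θ v * b⁻¹ : ↥(D.group F)) : GL D.Idx F) ∈ D.negUnipotent F)
    (pieceD : ∀ θ : ↥(D.group F) ≃* ↥(D.group F),
      (∀ u : ↥(D.group F), (u : GL D.Idx F) ∈ D.posUnipotent F → (θ u : GL D.Idx F) ∈ D.posUnipotent F) →
      (∀ v : ↥(D.group F), (v : GL D.Idx F) ∈ D.negUnipotent F → (θ v : GL D.Idx F) ∈ D.negUnipotent F) →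
      ∃ π : Equiv.Perm (Fin D.rank), PermutesSimple D θ π)
    (pieceE : ∀ (θ : ↥(D.group F) ≃* ↥(D.group F)) (π : Equiv.Perm (Fin D.rank)),
      PermutesSimple D θ π → D.IsDiagramSymmetry π ∧ CharOK D F π)
    (pieceG : ∀ π : Equiv.Perm (Fin D.rank), D.IsDiagramSymmetry π → CharOK D F π →
      ∃ g : ↥(D.group F) ≃* ↥(D.group F), GraphAutFor D π g)
    (pieceT : ∀ θ : ↥(D.group F) ≃* ↥(D.group F), PermutesSimple D θ 1 →
      ∃ d f : ↥(D.group F) ≃* ↥(D.group F), D.IsDiagonalAut d ∧ D.IsFieldAut f ∧ ∀ y, θ y = d (f y))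
    (θ : ↥(D.group F) ≃* ↥(D.group F)) :
    ∃ (x : ↥(D.group F)) (d g f : ↥(D.group F) ≃* ↥(D.group F)),
      D.IsDiagonalAut d ∧ D.IsGraphAut g ∧ D.IsFieldAut f ∧ ∀ y : ↥(D.group F), θ y = x * d (g (f y)) * x⁻¹ := by
  classical
  have htri := Cfsg.Agent.Helper18.triOK_of_mem D hD
  obtain ⟨x₁, hx₁⟩ := pieceA θ
  -- θ₁ y = x₁ θ(y) x₁⁻¹
  let θ₁ : ↥(D.group F) ≃* ↥(D.group F) := θ.trans (MulAut.conj x₁)
  have hθ₁ : ∀ y, θ₁ y = x₁ * θ y * x₁⁻¹ := fun y => rfl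
  have hU₁ : ∀ u : ↥(D.group F), (u : GL D.Idx F) ∈ D.posUnipotent F → (θ₁ u : GL D.Idx F) ∈ D.posUnipotent F :=
    fun u hu => by rw [hθ₁]; exact hx₁ u hu
  obtain ⟨b, hb, hbV⟩ := pieceC θ₁ hU₁
  let θ₂ : ↥(D.group F) ≃* ↥(D.group F) := θ₁.trans (MulAut.conj b)
  have hθ₂ : ∀ y, θ₂ y = b * θ₁ y * b⁻¹ := fun y => rfl
  -- `B` normalises `U`
  have hBN : D.borelSubgroup F ≤ Subgroup.normalizer (D.posUnipotent F : Set (GL D.Idx F)) := by
    unfold ChevalleyDatum.borelSubgroup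
    exact sup_le Subgroup.le_normalizer (Cfsg.Agent.S1036.result (F := F) D hD).1
  have hU₂ : ∀ u : ↥(D.group F), (u : GL D.Idx F) ∈ D.posUnipotent F → (θ₂ u : GL D.Idx F) ∈ D.posUnipotent F := by
    intro u hu
    rw [hθ₂]
    have h1 := hU₁ u hu
    have h2 := (Subgroup.mem_normalizer_iff.mp (hBN hb) _).mp h1
    simpa using h2
  have hV₂ : ∀ v : ↥(D.group F), (v : GL D.Idx F) ∈ D.negUnipotent F → (θ₂ v : GL D.Idx F) ∈ D.negUnipotent F :=
    fun v hv => by rw [hθ₂]; exact hbV v hv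
  obtain ⟨π, hπ⟩ := pieceD θ₂ hU₂ hV₂
  obtain ⟨hsym, hchar⟩ := pieceE θ₂ π hπ
  obtain ⟨g, hg⟩ := pieceG π hsym hchar
  -- θ₃ y = θ₂ (g⁻¹ y)
  let θ₃ : ↥(D.group F) ≃* ↥(D.group F) := g.symm.trans θ₂
  have hθ₃ : ∀ y, θ₃ y = θ₂ (g.symm y) := fun y => rfl
  -- surjectivity of the exponent maps
  have hsurj : ∀ (i j : ℕ) (t : F), ∃ s : F, s ^ D.graphExp (ringChar F) i j = t := by
    intro i j t
    unfold ChevalleyDatum.graphExp
    split_ifs
    · have : Fact (ringChar F).Prime := ⟨CharP.char_is_prime F (ringChar F)⟩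
      obtain ⟨s, hs⟩ := (bijective_frobenius F (ringChar F)).2 t
      exact ⟨s, hs⟩
    · exact ⟨t, pow_one t⟩
  have h₃ : PermutesSimple D θ₃ 1 := by
    intro i
    have key : ∀ (r r' : ℕ → ℕ) (hr : ∀ (g' : ↥(D.group F)) (j : Fin D.rank) (t : F),
        ((g' : GL D.Idx F) : Matrix D.Idx D.Idx F) = D.x F (r j) t →
          ((g g' : GL D.Idx F) : Matrix D.Idx D.Idx F) = D.x F (r (π j)) (t ^ D.graphExp (ringChar F) j (π j)))
        (hm : ∀ j : Fin D.rank, MapsRoot D θ₂ (r j) (r (π j))), MapsRoot D θ₃ (r i) (r i) := by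
      intro r r' hr hm t y hy
      obtain ⟨s, hs⟩ := hsurj (π.symm i) (π (π.symm i)) t
      let z : ↥(D.group F) := ⟨Cfsg.Agent.Helper18.xGL D F (r (π.symm i)) s,
        Cfsg.Agent.Helper18.xGL_mem_group' D hD _ _⟩
      have hz : ((z : GL D.Idx F) : Matrix D.Idx D.Idx F) = D.x F (r (π.symm i)) s :=
        Cfsg.Agent.Helper18.xGL_val D _ htri _ _
      have h1 := hr z (π.symm i) s hz
      rw [hs, Equiv.apply_symm_apply] at h1
      have h2 : g z = y := by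
        apply Subtype.ext
        apply Units.ext
        rw [h1, hy]
      have h3 : g.symm y = z := by rw [← h2, MulEquiv.symm_apply_apply]
      have h4 := hm (π.symm i) s z hz
      rw [Equiv.apply_symm_apply] at h4
      rw [hθ₃, h3]
      exact h4
    refine ⟨?_, ?_⟩
    · exact key (fun j => D.simple j) (fun j => j) (fun g' j t h => (hg g' j t).1 h) (fun j => (hπ j).1)
    · exact key (fun j => D.neg (D.simple j)) (fun j => j) (fun g' j t h => (hg g' j t).2 h) (fun j => (hπ j).2)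
  obtain ⟨d, f, hd, hf, hdf⟩ := pieceT θ₃ h₃
  have hgI : D.IsGraphAut g := ⟨π, hsym, hg⟩
  refine ⟨(b * x₁)⁻¹, d, g, f, hd, hgI, hf, fun y => ?_⟩
  have e1 : θ₂ y = d (g (f y)) := by
    have : θ₂ y = θ₃ (g y) := by rw [hθ₃, MulEquiv.symm_apply_apply]
    rw [this, hdf, Cfsg.Agent.S2160.result D hD f g hf hgI y]
  rw [← e1, hθ₂, hθ₁]
  group

end Cfsg.Agent.Helper36.ChevAut
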