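import Cfsg.Agent.Helper36.ParaCentCert
import Cfsg.Agent.Helper36.ChevAutDefs

/-!
Helper36: a character of the root lattice with prescribed values on the fundamental roots
(for the tail of the automorphism theorem S2156).

* `rootCoordOK D T`: the table `T` gives, up to sign, the coordinates of every root on the fundamental roots:
  compatible with `neg`, additive along the first step of every chain, and the unit vectors at the fundamental roots.
* `charOf D T c`: the character `s ↦ ∏_j c_j ^ n_j(s)`.
-/

set_option autoImplicit false

namespace Cfsg.Agent.Helper36.ChevAut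

open Cfsg Cfsg.Lie Cfsg.Agent.Helper18 Cfsg.Agent.Helper36.ParaCent

/-- the coordinate of the root `s` at the fundamental root `p_j`, from a table w.r.t. the negatives -/
def nco (T : List (List ℤ)) (s j : ℕ) : ℤ := -((T.getD s []).getD j 0)

/-- additivity along the first step of every chain, read off the chain table -/
def chainAddOK (D : ChevalleyDatum) (T : List (List ℤ)) : Bool :=
  (List.range D.nroots).all fun r => (D.chain.getD r #[]).toList.all fun e =>
    match e.2.toList[0]? with
    | some km => (List.range D.rank).all fun j => decide (nco T km.1 j = nco T r j + nco T e.1 j)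
    | none => true

def negCoordOK (D : ChevalleyDatum) (T : List (List ℤ)) : Bool :=
  (List.range D.nroots).all fun r => (List.range D.rank).all fun j =>
    decide (nco T (D.neg r) j = - nco T r j)

def simpleCoordOK (D : ChevalleyDatum) (T : List (List ℤ)) : Bool :=
  (List.range D.rank).all fun i => (List.range D.rank).all fun j =>
    decide (nco T (D.simple i) j = if i = j then 1 else 0)

def rootCoordOK (D : ChevalleyDatum) (T : List (List ℤ)) : Bool :=
  negCoordOK D T && chainAddOK D T && simpleCoordOK D T

set_option maxRecDepth 100000 in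
theorem rootCoordOK_G2 : rootCoordOK chevG2 ctabG2 = true := by decide +kernel
set_option maxRecDepth 100000 in
theorem rootCoordOK_B2 : rootCoordOK chevB2 ctabB2 = true := by decide +kernel
set_option maxRecDepth 100000 in
theorem rootCoordOK_F4 : rootCoordOK chevF4 ctabF4 = true := by decide +kernel
set_option maxRecDepth 100000 in
theorem rootCoordOK_D4 : rootCoordOK chevD4 (coTab chevD4) = true := by decide +kernel
set_option maxRecDepth 100000 in
theorem rootCoordOK_E6 : rootCoordOK chevE6 (coTab chevE6) = true := by decide +kernel
set_option maxRecDepth 100000 in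
theorem rootCoordOK_E7 : rootCoordOK chevE7 (coTab chevE7) = true := by decide +kernel
set_option maxRecDepth 100000 in
theorem rootCoordOK_E8 : rootCoordOK chevE8 (coTab chevE8) = true := by decide +kernel

theorem exists_rootCoord (D : ChevalleyDatum)
    (hD : D ∈ [chevG2, chevB2, chevD4, chevF4, chevE6, chevE7, chevE8]) :
    ∃ T : List (List ℤ), rootCoordOK D T = true := by
  simp only [List.mem_cons, List.not_mem_nil, or_false] at hD
  rcases hD with rfl | rfl | rfl | rfl | rfl | rfl | rfl
  exacts [⟨_, rootCoordOK_G2⟩, ⟨_, rootCoordOK_B2⟩, ⟨_, rootCoordOK_D4⟩, ⟨_, rootCoordOK_F4⟩,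
    ⟨_, rootCoordOK_E6⟩, ⟨_, rootCoordOK_E7⟩, ⟨_, rootCoordOK_E8⟩]

/-- the coordinates are additive along `chainRoot r s 1` -/
theorem nco_chain (D : ChevalleyDatum) (T : List (List ℤ)) (hT : chainAddOK D T = true) (r s k : ℕ)
    (hr : r < D.nroots) (hk : D.chainRoot r s 1 = some k) (j : ℕ) (hj : j < D.rank) :
    nco T k j = nco T r j + nco T s j := by
  unfold chainAddOK at hT
  rw [List.all_eq_true] at hT
  have h1 := hT r (List.mem_range.mpr hr)
  rw [List.all_eq_true] at h1
  unfold ChevalleyDatum.chainRoot ChevalleyDatum.chainEntry at hk
  cases hfind : (D.chain.getD r #[]).toList.find? (fun e => e.1 = s) with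
  | none =>
    rw [hfind] at hk
    simp at hk
  | some e =>
    rw [hfind] at hk
    have hmem := List.mem_of_find?_eq_some hfind
    have he1 : e.1 = s := by simpa using List.find?_some hfind
    have h2 := h1 e hmem
    simp only [Nat.sub_self] at hk
    cases hkm : e.2.toList[0]? with
    | none =>
      rw [hkm] at hk
      simp at hk
    | some km =>
      rw [hkm] at hk h2
      simp only [Option.map_some, Option.some.injEq] at hk
      simp only [List.all_eq_true, List.mem_range, decide_eq_true_eq] at h2
      have h3 := h2 j hj
      rw [hk, he1] at h3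
      exact h3

section
variable {F : Type*} [Field F] (D : ChevalleyDatum)

/-- the character of the root lattice with the values `c j` at the fundamental roots -/
def charOf (T : List (List ℤ)) (c : ℕ → Fˣ) (s : ℕ) : Fˣ :=
  ∏ j ∈ Finset.range D.rank, c j ^ nco T s j

theorem isRootCharacter_charOf (T : List (List ℤ)) (hT : rootCoordOK D T = true) (c : ℕ → Fˣ) :
    D.IsRootCharacter (charOf D T c) := by
  unfold rootCoordOK at hT
  simp only [Bool.and_eq_true] at hT
  obtain ⟨⟨h1, h2⟩, -⟩ := hT
  unfold negCoordOK at h1
  simp only [List.all_eq_true, List.mem_range, decide_eq_true_eq] at h1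
  refine ⟨fun r hr => ?_, fun r s k hr hs hk => ?_⟩
  · unfold charOf
    rw [← Finset.prod_inv_distrib]
    apply Finset.prod_congr rfl
    intro j hj
    rw [h1 r hr j (Finset.mem_range.mp hj), zpow_neg]
  · unfold charOf
    rw [← Finset.prod_mul_distrib]
    apply Finset.prod_congr rfl
    intro j hj
    rw [nco_chain D T h2 r s k hr hk j (Finset.mem_range.mp hj), zpow_add]

theorem charOf_simple (T : List (List ℤ)) (hT : rootCoordOK D T = true) (c : ℕ → Fˣ) (i : ℕ)
    (hi : i < D.rank) : charOf D T c (D.simple i) = c i := by
  unfold rootCoordOK at hT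
  simp only [Bool.and_eq_true] at hT
  obtain ⟨-, h3⟩ := hT
  unfold simpleCoordOK at h3
  simp only [List.all_eq_true, List.mem_range, decide_eq_true_eq] at h3
  unfold charOf
  rw [Finset.prod_eq_single i]
  · rw [h3 i hi i hi, if_pos rfl, zpow_one]
  · intro j hj hne
    rw [h3 i hi j (Finset.mem_range.mp hj), if_neg (Ne.symm hne), zpow_zero]
  · intro h
    exact absurd (Finset.mem_range.mpr hi) h

end

end Cfsg.Agent.Helper36.ChevAut
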