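import Mathlib
import Cfsg.Prelude.Def_ChevStructure
import Cfsg.Agent.Helper40.ChevAdd

/-!
Helper36: the Chevalley group of a datum is perfect, from per-root certificates:
a root `r` is reached either from a pair `(a, b)` whose commutator word ends in `x_r(± (-t) u^j)`
with all earlier terms already reached, or from a fundamental root `p_i` with `A_{i,r} = ± 1`
and a field element different from `0` and `1`.
-/

set_option autoImplicit false

namespace Cfsg.Agent.Helper36.Perfect

open Cfsg Cfsg.Lie Cfsg.Agent.Helper40.ChevAdd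
open scoped commutatorElement

section Gen

variable {F : Type*} [Field F] (D : ChevalleyDatum) (hadd : addOK D = true)

/-- a word in root elements, as an element of the general linear group -/
def wordGL (w : List (ℕ × F)) : GL D.Idx F := (w.map fun p => xGL D hadd F p.1 p.2).prod

theorem coe_wordGL (w : List (ℕ × F)) :
    ((wordGL D hadd w : GL D.Idx F) : Matrix D.Idx D.Idx F) = D.wordMat F w := by
  unfold wordGL ChevalleyDatum.wordMat
  induction w with
  | nil => rfl
  | cons p w ih =>
    rw [List.map_cons, List.prod_cons, List.map_cons, List.prod_cons, Units.val_mul, ih]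
    rfl

theorem xGL_mem (r : ℕ) (t : F) : xGL D hadd F r t ∈ D.group F := by
  by_cases h : r < D.nroots
  · apply Subgroup.subset_closure
    refine ⟨⟨r, h⟩, t, ?_⟩
    show D.x F r t = _
    unfold ChevalleyDatum.x
    rw [dif_pos h]
  · have h1 : xGL D hadd F r t = 1 := by
      apply Units.ext
      show D.x F r t = 1
      unfold ChevalleyDatum.x
      rw [dif_neg h]
    rw [h1]
    exact Subgroup.one_mem _

theorem wordGL_mem (w : List (ℕ × F)) : wordGL D hadd w ∈ D.group F := by
  unfold wordGL
  apply Subgroup.list_prod_mem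
  intro g hg
  rw [List.mem_map] at hg
  obtain ⟨p, _, rfl⟩ := hg
  exact xGL_mem D hadd p.1 p.2

/-- all `x_r(t)` lie in the commutator subgroup -/
def Good (r : ℕ) : Prop := ∀ t : F, xGL D hadd F r t ∈ ⁅D.group F, D.group F⁆

/-- the commutator formula, as a hypothesis -/
def CommHyp (F : Type*) [Field F] (D : ChevalleyDatum) : Prop :=
  ∀ r s, r < D.nroots → s < D.nroots → s ≠ r → s ≠ D.neg r → ∀ t u : F,
    D.x F s u * D.x F r t = D.x F r t * D.x F s u * D.wordMat F (D.commWord F r s t u)

/-- the action of `h_p(c)` on root elements, as a hypothesis -/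
def TorHyp (F : Type*) [Field F] (D : ChevalleyDatum) : Prop :=
  ∀ i s, i < D.rank → s < D.nroots → ∀ c : F, c ≠ 0 → ∀ t : F,
    D.hMat F (D.simple i) c * D.x F s t = D.x F s (c ^ (D.cartan i s) * t) * D.hMat F (D.simple i) c

theorem good_of_pair (hcomm : CommHyp F D)
    (a b r : ℕ) (ha : a < D.nroots) (hb : b < D.nroots) (hba : b ≠ a) (hbn : b ≠ D.neg a)
    (pre : List (ℕ × ℤ × ℕ × ℕ)) (C : ℤ) (j : ℕ)
    (hL : D.commTerms a b = pre ++ [(r, C, 1, j)]) (hC : C = 1 ∨ C = -1)
    (hpre : ∀ c ∈ pre, Good (F := F) D hadd c.1) : Good (F := F) D hadd r := by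
  intro t'
  have key : ∀ t u : F, wordGL D hadd (D.commWord F a b t u) ∈ ⁅D.group F, D.group F⁆ := by
    intro t u
    have e : xGL D hadd F b u * xGL D hadd F a t
        = xGL D hadd F a t * xGL D hadd F b u * wordGL D hadd (D.commWord F a b t u) := by
      apply Units.ext
      rw [Units.val_mul, Units.val_mul, Units.val_mul, coe_wordGL]
      exact hcomm a b ha hb hba hbn t u
    have e2 : wordGL D hadd (D.commWord F a b t u)
        = ⁅(xGL D hadd F b u)⁻¹, (xGL D hadd F a t)⁻¹⁆ := by
      have e3 : wordGL D hadd (D.commWord F a b t u)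
          = (xGL D hadd F a t * xGL D hadd F b u)⁻¹ * (xGL D hadd F b u * xGL D hadd F a t) := by
        rw [e]; group
      rw [e3, commutatorElement_def]; group
    rw [e2]
    exact Subgroup.commutator_mem_commutator (Subgroup.inv_mem _ (xGL_mem D hadd b u))
      (Subgroup.inv_mem _ (xGL_mem D hadd a t))
  have h1 := key (-((C : ℤ) : F) * t') 1
  have h2 : wordGL D hadd (D.commWord F a b (-((C : ℤ) : F) * t') 1)
      = (pre.map fun c => xGL D hadd F c.1
          ((c.2.1 : F) * (-(-((C : ℤ) : F) * t')) ^ c.2.2.1 * (1 : F) ^ c.2.2.2)).prod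
        * xGL D hadd F r t' := by
    unfold wordGL ChevalleyDatum.commWord
    rw [hL, List.map_append, List.map_append, List.prod_append, List.map_map]
    congr 1
    simp only [List.map_cons, List.map_nil, List.prod_cons, List.prod_nil, mul_one]
    congr 1
    rcases hC with rfl | rfl
    · simp
    · simp
  rw [h2] at h1
  refine (mul_mem_cancel_left ?_).mp h1
  apply Subgroup.list_prod_mem
  intro g hg
  rw [List.mem_map] at hg
  obtain ⟨c, hc, rfl⟩ := hg
  exact hpre c hc _

theorem good_of_tor (htor : TorHyp F D) (hF : ∃ c : F, c ≠ 0 ∧ c ≠ 1)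
    (i r : ℕ) (hi : i < D.rank) (hr : r < D.nroots)
    (hA : D.cartan i r = 1 ∨ D.cartan i r = -1) : Good (F := F) D hadd r := by
  obtain ⟨c, hc0, hc1⟩ := hF
  intro t'
  have hd : c ^ (D.cartan i r) - 1 ≠ 0 := by
    rcases hA with h | h
    · rw [h, zpow_one]; exact sub_ne_zero.mpr hc1
    · rw [h, zpow_neg_one]
      intro h0
      apply hc1
      have : c⁻¹ = 1 := sub_eq_zero.mp h0
      rw [← inv_inv c, this, inv_one]
  set d := c ^ (D.cartan i r) - 1 with hdd
  set hG := wordGL D hadd (D.hWord (D.simple i) c) with hhG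
  have hGmem : hG ∈ D.group F := wordGL_mem D hadd _
  have e : hG * xGL D hadd F r (t' / d) = xGL D hadd F r (c ^ (D.cartan i r) * (t' / d)) * hG := by
    apply Units.ext
    rw [Units.val_mul, Units.val_mul, hhG, coe_wordGL]
    exact htor i r hi hr c hc0 (t' / d)
  have e2 : xGL D hadd F r t' = ⁅hG, xGL D hadd F r (t' / d)⁆ := by
    rw [commutatorElement_def, e, mul_inv_cancel_right, xGL_inv, xGL_add]
    congr 1
    have hcA : c ^ (D.cartan i r) = d + 1 := by rw [hdd]; ring
    rw [hcA]
    have h3 : (d + 1) * (t' / d) + -(t' / d) = d * (t' / d) := by ring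
    rw [h3, mul_div_assoc', mul_comm, mul_div_assoc, div_self hd, mul_one]
  rw [e2]
  exact Subgroup.commutator_mem_commutator hGmem (xGL_mem D hadd r _)

end Gen

/-- check of a pair certificate for the root `r` -/
def pairOK (D : ChevalleyDatum) (done : List ℕ) (r a b : ℕ) : Bool :=
  decide (a < D.nroots) && decide (b < D.nroots) && decide (b ≠ a) && decide (b ≠ D.neg a) &&
  (match (D.commTerms a b).getLast? with
   | none => false
   | some c => decide (c.1 = r) && (decide (c.2.1 = 1) || decide (c.2.1 = -1)) && decide (c.2.2.1 = 1) &&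
       (D.commTerms a b).dropLast.all (fun c' => done.contains c'.1))

/-- check of a torus certificate for the root `r` -/
def torOK (D : ChevalleyDatum) (r i : ℕ) : Bool :=
  decide (i < D.rank) && decide (r < D.nroots) && (decide (D.cartan i r = 1) || decide (D.cartan i r = -1))

/-- run a list of certificates `(r, kind, a, b)`, then check that every root has been reached -/
def run (D : ChevalleyDatum) (useTor : Bool) : List ℕ → List (ℕ × Bool × ℕ × ℕ) → Bool
  | done, [] => (List.range D.nroots).all fun r => done.contains r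
  | done, (r, k, a, b) :: rest =>
      (if k then useTor && torOK D r a else pairOK D done r a b) && run D useTor (r :: done) rest

section Sound

variable {F : Type*} [Field F] (D : ChevalleyDatum) (hadd : addOK D = true)

theorem good_of_pairOK (hcomm : CommHyp F D) (done : List ℕ)
    (hdone : ∀ s ∈ done, Good (F := F) D hadd s) (r a b : ℕ) (h : pairOK D done r a b = true) :
    Good (F := F) D hadd r := by
  unfold pairOK at h
  simp only [Bool.and_eq_true, decide_eq_true_eq] at h
  obtain ⟨⟨⟨⟨ha, hb⟩, hba⟩, hbn⟩, hm⟩ := h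
  cases hl : (D.commTerms a b).getLast? with
  | none => rw [hl] at hm; exact absurd hm (by simp)
  | some c =>
    rw [hl] at hm
    simp only [Bool.and_eq_true, Bool.or_eq_true, decide_eq_true_eq, List.all_eq_true] at hm
    obtain ⟨⟨⟨hc1, hC⟩, hi⟩, hpre⟩ := hm
    obtain ⟨r', C, i, j⟩ := c
    simp only at hc1 hC hi
    subst hc1 hi
    have hL : D.commTerms a b = (D.commTerms a b).dropLast ++ [(r', C, 1, j)] :=
      (List.dropLast_append_getLast? _ hl).symm
    refine good_of_pair D hadd hcomm a b r' ha hb hba hbn _ C j hL hC ?_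
    intro c' hc'
    have := hpre c' hc'
    exact hdone _ (by simpa using this)

theorem good_of_run (hcomm : CommHyp F D) (htor : TorHyp F D) (useTor : Bool)
    (hF : useTor = true → ∃ c : F, c ≠ 0 ∧ c ≠ 1) :
    ∀ (cert : List (ℕ × Bool × ℕ × ℕ)) (done : List ℕ), (∀ s ∈ done, Good (F := F) D hadd s) →
      run D useTor done cert = true → ∀ r < D.nroots, Good (F := F) D hadd r := by
  intro cert
  induction cert with
  | nil =>
    intro done hdone h r hr
    unfold run at h
    rw [List.all_eq_true] at h
    have := h r (List.mem_range.mpr hr)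
    exact hdone r (by simpa using this)
  | cons st rest ih =>
    intro done hdone h
    obtain ⟨r, k, a, b⟩ := st
    unfold run at h
    rw [Bool.and_eq_true] at h
    obtain ⟨h1, h2⟩ := h
    apply ih (r :: done) _ h2
    intro s hs
    rcases List.mem_cons.mp hs with rfl | hs
    · cases k with
      | true =>
        simp only [if_true, Bool.and_eq_true] at h1
        obtain ⟨hu, ht⟩ := h1
        unfold torOK at ht
        simp only [Bool.and_eq_true, Bool.or_eq_true, decide_eq_true_eq] at ht
        exact good_of_tor D hadd htor (hF hu) a s ht.1.1 ht.1.2 ht.2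
      | false =>
        simp only [Bool.false_eq_true, if_false] at h1
        exact good_of_pairOK D hadd hcomm done hdone s a b h1
    · exact hdone s hs

include hadd in
theorem perfect_of_run (hcomm : CommHyp F D) (htor : TorHyp F D) (useTor : Bool)
    (hF : useTor = true → ∃ c : F, c ≠ 0 ∧ c ≠ 1) (cert : List (ℕ × Bool × ℕ × ℕ))
    (h : run D useTor [] cert = true) : commutator ↥(D.group F) = ⊤ := by
  have hgood := good_of_run D hadd hcomm htor useTor hF cert [] (by simp) h
  have hle : D.group F ≤ ⁅D.group F, D.group F⁆ := by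
    unfold ChevalleyDatum.group
    rw [Subgroup.closure_le]
    rintro g ⟨r, t, hg⟩
    have : g = xGL D hadd F r.val t := by
      apply Units.ext
      rw [hg]
      show _ = D.x F r.val t
      unfold ChevalleyDatum.x
      rw [dif_pos r.isLt]
    rw [this]
    exact hgood r.val r.isLt t
  have heq : ⁅D.group F, D.group F⁆ = D.group F :=
    le_antisymm ((Subgroup.commutator_le).mpr (fun g₁ h₁ g₂ h₂ => by
      rw [commutatorElement_def]
      exact Subgroup.mul_mem _ (Subgroup.mul_mem _ (Subgroup.mul_mem _ h₁ h₂) (Subgroup.inv_mem _ h₁))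
        (Subgroup.inv_mem _ h₂))) hle
  apply Subgroup.map_injective (D.group F).subtype_injective
  rw [Subgroup.map_subtype_commutator, heq, ← MonoidHom.range_eq_map, Subgroup.range_subtype]

end Sound

end Cfsg.Agent.Helper36.Perfect
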