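import Cfsg.Agent.Helper36.RankOneAbs
import Cfsg.Agent.Helper36.Perfect
import Cfsg.Agent.Helper40.SL2Chev
import Cfsg.Agent.Helper18.Core
import Cfsg.Agent.S1037

/-!
Helper36: rank-one rigidity for endomorphisms of a Chevalley group (the last step of Steinberg's theorem on the
automorphisms of the Chevalley groups, Carter 12.5).

If an injective endomorphism `θ` of `D.group F` (`F` finite) maps `x_r(t)` to `x_r(f t)` and `x_{-r}(t)` to
`x_{-r}(g t)` for all `t`, then `f t = c σ(t)` and `g t = c⁻¹ σ(t)` for a unit `c` and a field automorphism `σ`.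
-/

set_option autoImplicit false

namespace Cfsg.Agent.Helper36.ChevAut

open Cfsg Cfsg.Lie Cfsg.Agent.Helper40.ChevAdd Cfsg.Agent.Helper40.SL2Hom Cfsg.Agent.Helper36.Perfect
  Cfsg.Agent.Helper18

section Sep
variable {F : Type*} [Field F] (D : ChevalleyDatum)
  (hD : D ∈ [chevG2, chevB2, chevD4, chevF4, chevE6, chevE7, chevE8])

include hD in
/-- no non-trivial element of `X_r` lies in `X_{-r}` -/
theorem x_ne_y (r : ℕ) (hr : r < D.nroots) (s t : F)
    (h : Cfsg.Agent.Helper40.ChevAdd.xGL D (addOK_of_mem hD) F r s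
      = Cfsg.Agent.Helper40.ChevAdd.xGL D (addOK_of_mem hD) F (D.neg r) t) : s = 0 := by
  have htri := triOK_of_mem D hD
  have hpos := posOK_of_mem D hD
  obtain ⟨hnr, -, h1, h2⟩ := triOK_spec D _ htri r hr
  have key : Cfsg.Agent.Helper40.ChevAdd.xGL D (addOK_of_mem hD) F r s
      ∈ D.borelSubgroup F ⊓ D.negUnipotent F := by
    rcases Nat.lt_or_ge r (hlfOf D) with hlt | hge
    · -- `r` negative, `-r` positive
      refine ⟨?_, ?_⟩
      · rw [h]
        apply (le_sup_left : D.posUnipotent F ≤ D.borelSubgroup F)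
        exact Subgroup.subset_closure ⟨D.neg r, t, (isPosRoot_iff D _ hpos _).mpr ⟨h1 hlt, hnr⟩, rfl⟩
      · exact Subgroup.subset_closure ⟨r, s, (isNegRoot_iff D _ hpos _).mpr ⟨hlt, hr⟩, rfl⟩
    · refine ⟨?_, ?_⟩
      · apply (le_sup_left : D.posUnipotent F ≤ D.borelSubgroup F)
        exact Subgroup.subset_closure ⟨r, s, (isPosRoot_iff D _ hpos _).mpr ⟨hge, hr⟩, rfl⟩
      · rw [h]
        exact Subgroup.subset_closure ⟨D.neg r, t, (isNegRoot_iff D _ hpos _).mpr ⟨h2 hge, hnr⟩, rfl⟩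
  rw [(Cfsg.Agent.S1037.result (F := F) D hD).1, Subgroup.mem_bot] at key
  have h7 : D.x F r s = 1 := by
    have := congrArg (fun g : GL D.Idx F => (g : Matrix D.Idx D.Idx F)) key
    simpa using this
  exact (Cfsg.Agent.S1024.result D hD r hr s).mp h7

end Sep

section Ring
variable {F : Type*} [Field F] [Finite F]

/-- an additive map `σ` with `σ 1 = 1` and `σ (t t u) = σ t σ t σ u` on a finite field is multiplicative -/
theorem mul_of_sq (σ : F → F) (hadd : ∀ s t, σ (s + t) = σ s + σ t) (h1 : σ 1 = 1)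
    (hsq : ∀ t u, σ (t * t * u) = σ t * σ t * σ u) (t u : F) : σ (t * u) = σ t * σ u := by
  by_cases h2 : (2 : F) = 0
  · -- characteristic two: every element is a square
    have hchar : ringChar F = 2 := CharP.ringChar_of_prime_eq_zero Nat.prime_two (by exact_mod_cast h2)
    haveI : Fintype F := Fintype.ofFinite F
    obtain ⟨s, hs⟩ := FiniteField.isSquare_of_char_two hchar t
    subst hs
    have e1 : σ (s * s) = σ s * σ s := by
      have := hsq s 1
      rw [mul_one, h1, mul_one] at this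
      exact this
    rw [hsq s u, e1]
  · have e := hsq (t + 1) u
    have e0 : (t + 1) * (t + 1) * u = t * t * u + (t * u + t * u) + u := by ring
    rw [e0, hadd, hadd, hadd, hsq, hadd, h1] at e
    have e3 : (2 : F) * σ (t * u) = 2 * (σ t * σ u) := by linear_combination e
    exact mul_left_cancel₀ h2 e3

end Ring

section Main
variable {F : Type*} [Field F] [Finite F] (D : ChevalleyDatum)
  (hD : D ∈ [chevG2, chevB2, chevD4, chevF4, chevE6, chevE7, chevE8])

include hD in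
/-- rank-one rigidity -/
theorem rank_one_rigidity (θ : ↥(D.group F) →* ↥(D.group F)) (hθ : Function.Injective θ)
    (r : ℕ) (hr : r < D.nroots) (f g : F → F)
    (hf : ∀ (t : F) (y : ↥(D.group F)), ((y : GL D.Idx F) : Matrix D.Idx D.Idx F) = D.x F r t →
      ((θ y : GL D.Idx F) : Matrix D.Idx D.Idx F) = D.x F r (f t))
    (hg : ∀ (t : F) (y : ↥(D.group F)), ((y : GL D.Idx F) : Matrix D.Idx D.Idx F) = D.x F (D.neg r) t →
      ((θ y : GL D.Idx F) : Matrix D.Idx D.Idx F) = D.x F (D.neg r) (g t)) :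
    ∃ (c : Fˣ) (σ : F ≃+* F), ∀ t, f t = (c : F) * σ t ∧ g t = ((c⁻¹ : Fˣ) : F) * σ t := by
  have hadd := addOK_of_mem hD
  have htri := triOK_of_mem D hD
  obtain ⟨hnr, -, -, -⟩ := triOK_spec D _ htri r hr
  set X : F → GL D.Idx F := Cfsg.Agent.Helper40.ChevAdd.xGL D hadd F r with hX
  set Y : F → GL D.Idx F := Cfsg.Agent.Helper40.ChevAdd.xGL D hadd F (D.neg r) with hY
  have R : Rel X Y := Cfsg.Agent.Helper40.SL2Chev.rel D hadd hD r hr
  have hsep : ∀ s t : F, X s = Y t → s = 0 := fun s t h => x_ne_y D hD r hr s t h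
  set ϑ : ↥(D.group F) →* GL D.Idx F := (D.group F).subtype.comp θ with hϑ
  have hϑinj : Function.Injective ϑ := fun a b h => hθ (Subtype.ext h)
  let Xg : F → ↥(D.group F) := fun t => ⟨X t, xGL_mem D hadd r t⟩
  let Yg : F → ↥(D.group F) := fun t => ⟨Y t, xGL_mem D hadd (D.neg r) t⟩
  have hϑX : ∀ t, ϑ (Xg t) = X (f t) := fun t => Units.ext (hf t (Xg t) rfl)
  have hϑY : ∀ t, ϑ (Yg t) = Y (g t) := fun t => Units.ext (hg t (Yg t) rfl)
  have hXinj : ∀ s t : F, X s = X t → s = t := by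
    intro s t h
    apply x_injective D hD r hr
    exact congrArg (fun g : GL D.Idx F => (g : Matrix D.Idx D.Idx F)) h
  have hYinj : ∀ s t : F, Y s = Y t → s = t := by
    intro s t h
    apply x_injective D hD (D.neg r) hnr
    exact congrArg (fun g : GL D.Idx F => (g : Matrix D.Idx D.Idx F)) h
  have hXg_add : ∀ s t, Xg (s + t) = Xg s * Xg t := fun s t => Subtype.ext (R.x_add s t)
  have hYg_add : ∀ s t, Yg (s + t) = Yg s * Yg t := fun s t => Subtype.ext (R.y_add s t)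
  have hfadd : ∀ s t, f (s + t) = f s + f t := by
    intro s t
    apply hXinj
    rw [← hϑX, hXg_add, map_mul, hϑX, hϑX, ← R.x_add]
  have hgadd : ∀ s t, g (s + t) = g s + g t := by
    intro s t
    apply hYinj
    rw [← hϑY, hYg_add, map_mul, hϑY, hϑY, ← R.y_add]
  have hf0 : f 0 = 0 := by
    have := hfadd 0 0
    rw [add_zero] at this
    exact left_eq_add.mp this
  have hg0 : g 0 = 0 := by
    have := hgadd 0 0
    rw [add_zero] at this
    exact left_eq_add.mp this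
  have hfinj : Function.Injective f := by
    intro s t h
    apply hXinj
    have h1 : ϑ (Xg s) = ϑ (Xg t) := by rw [hϑX, hϑX, h]
    exact congrArg Subtype.val (hϑinj h1)
  have hfne : ∀ t, t ≠ 0 → f t ≠ 0 := fun t ht h => ht (hfinj (h.trans hf0.symm))
  have hc0 : f 1 ≠ 0 := hfne 1 one_ne_zero
  let Wg : F → ↥(D.group F) := fun t => Xg t * Yg (-t⁻¹) * Xg t
  have hϑW : ∀ t, ϑ (Wg t) = X (f t) * Y (g (-t⁻¹)) * X (f t) := by
    intro t
    show ϑ (Xg t * Yg (-t⁻¹) * Xg t) = _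
    rw [map_mul, map_mul, hϑX, hϑY]
  have key : ∀ t, t ≠ 0 → f t * g (-t⁻¹) = -1 := by
    intro t ht
    have hrel := R.conj t 1 ht
    have hrelG : Wg t * Xg 1 = Yg (-(t⁻¹ * t⁻¹ * 1)) * Wg t := by
      apply Subtype.ext
      show w X Y t * X 1 = Y (-(t⁻¹ * t⁻¹ * 1)) * w X Y t
      rw [← hrel]
      group
    have h3 : ϑ (Wg t) * ϑ (Xg 1) = ϑ (Yg (-(t⁻¹ * t⁻¹ * 1))) * ϑ (Wg t) := by
      rw [← map_mul, ← map_mul, hrelG]
    rw [hϑW, hϑX, hϑY] at h3
    exact Cfsg.Agent.Helper36.RankOne.ab_eq_neg_one R hsep _ _ _ _ hc0 h3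
  have hϑW' : ∀ t, t ≠ 0 → ϑ (Wg t) = w X Y (f t) := by
    intro t ht
    rw [hϑW]
    unfold w
    have h1 := key t ht
    have h2 : g (-t⁻¹) = -(f t)⁻¹ := by
      have hft := hfne t ht
      have e : g (-t⁻¹) = (f t)⁻¹ * (f t * g (-t⁻¹)) := by
        rw [← mul_assoc, inv_mul_cancel₀ hft, one_mul]
      rw [e, h1, mul_neg_one]
    rw [h2]
  let Hg : F → ↥(D.group F) := fun t => Wg t * (Wg 1)⁻¹
  have hϑH : ∀ t, t ≠ 0 → ϑ (Hg t) = h X Y (f t) * (h X Y (f 1))⁻¹ := by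
    intro t ht
    have e : ϑ (Hg t) = ϑ (Wg t) * (ϑ (Wg 1))⁻¹ := by
      rw [← map_inv, ← map_mul]
    rw [e, hϑW' t ht, hϑW' 1 one_ne_zero, Cfsg.Agent.Helper36.RankOne.w_mul_w_inv]
  have hfsq : ∀ t u, t ≠ 0 → f (t * t * u) = f t * f t * ((f 1)⁻¹ * (f 1)⁻¹ * f u) := by
    intro t u ht
    have hrelG : Hg t * Xg u * (Hg t)⁻¹ = Xg (t * t * u) := Subtype.ext (R.h_x t u ht)
    have h3 : ϑ (Hg t) * ϑ (Xg u) * (ϑ (Hg t))⁻¹ = ϑ (Xg (t * t * u)) := by
      rw [← map_inv, ← map_mul, ← map_mul, hrelG]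
    rw [hϑH t ht, hϑX, hϑX] at h3
    have e1 : (h X Y (f 1))⁻¹ * X (f u) * h X Y (f 1) = X ((f 1)⁻¹ * (f 1)⁻¹ * f u) := by
      have h4 := R.h_x (f 1) ((f 1)⁻¹ * (f 1)⁻¹ * f u) hc0
      have e : f 1 * f 1 * ((f 1)⁻¹ * (f 1)⁻¹ * f u) = f u := by field_simp
      rw [e] at h4
      rw [← h4]
      group
    have e2 := R.h_x (f t) ((f 1)⁻¹ * (f 1)⁻¹ * f u) (hfne t ht)
    apply hXinj
    rw [← h3, ← e2, ← e1]
    group
  -- the field automorphism
  set σ : F → F := fun t => (f 1)⁻¹ * f t with hσ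
  have hσadd : ∀ s t, σ (s + t) = σ s + σ t := by
    intro s t
    show (f 1)⁻¹ * f (s + t) = (f 1)⁻¹ * f s + (f 1)⁻¹ * f t
    rw [hfadd, mul_add]
  have hσ1 : σ 1 = 1 := inv_mul_cancel₀ hc0
  have hσ0 : σ 0 = 0 := by
    show (f 1)⁻¹ * f 0 = 0
    rw [hf0, mul_zero]
  have hσsq : ∀ t u, σ (t * t * u) = σ t * σ t * σ u := by
    intro t u
    by_cases ht : t = 0
    · subst ht
      rw [zero_mul, zero_mul, hσ0, zero_mul, zero_mul]
    · show (f 1)⁻¹ * f (t * t * u) = (f 1)⁻¹ * f t * ((f 1)⁻¹ * f t) * ((f 1)⁻¹ * f u)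
      rw [hfsq t u ht]
      ring
  have hσmul := mul_of_sq σ hσadd hσ1 hσsq
  let σh : F →+* F :=
    { toFun := σ
      map_one' := hσ1
      map_mul' := hσmul
      map_zero' := hσ0
      map_add' := hσadd }
  have hbij : Function.Bijective σh := Finite.injective_iff_bijective.mp σh.injective
  refine ⟨Units.mk0 (f 1) hc0, RingEquiv.ofBijective σh hbij, fun t => ⟨?_, ?_⟩⟩
  · show f t = f 1 * ((f 1)⁻¹ * f t)
    field_simp
  · show g t = ((Units.mk0 (f 1) hc0)⁻¹ : Fˣ) * ((f 1)⁻¹ * f t)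
    rw [Units.val_inv_eq_inv_val, Units.val_mk0]
    by_cases ht : t = 0
    · subst ht
      rw [hg0, hf0, mul_zero, mul_zero]
    · have hs : -t⁻¹ ≠ 0 := neg_ne_zero.mpr (inv_ne_zero ht)
      have h1 := key (-t⁻¹) hs
      rw [inv_neg, inv_inv, neg_neg] at h1
      -- f (-t⁻¹) * g t = -1, and σ (-t⁻¹) = -(σ t)⁻¹
      have h2 : σh (-t⁻¹) = -(σh t)⁻¹ := by rw [map_neg, map_inv₀]
      have h3 : (f 1)⁻¹ * f (-t⁻¹) = -((f 1)⁻¹ * f t)⁻¹ := h2
      have hft := hfne t ht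
      have hfs := hfne _ hs
      generalize f (-t⁻¹) = A at h1 h3 hfs
      generalize f t = B at h3 hft ⊢
      generalize g t = G at h1 ⊢
      generalize f 1 = C at h3 hc0 ⊢
      have hA : A = -(C * C * B⁻¹) := by
        have e : A = C * (C⁻¹ * A) := by
          rw [← mul_assoc, mul_inv_cancel₀ hc0, one_mul]
        rw [e, h3, mul_inv, inv_inv]
        ring
      have hG : G = -A⁻¹ := by
        have e : G = A⁻¹ * (A * G) := by rw [← mul_assoc, inv_mul_cancel₀ hfs, one_mul]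
        rw [e, h1, mul_neg_one]
      rw [hG, hA, inv_neg, neg_neg, mul_inv, mul_inv, inv_inv]
      ring

end Main

end Cfsg.Agent.Helper36.ChevAut
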