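import Cfsg.Agent.Helper36.ChevAutChar
import Cfsg.Agent.Helper36.ChevAut
import Cfsg.Agent.Helper36.ChevAutR1
import Cfsg.Agent.Helper36.ChevGenAll
import Cfsg.Agent.Helper18.Monomial
import Cfsg.Agent.Helper18.UpStruct

/-!
Helper36: the tail of the automorphism theorem of the Chevalley groups (S2156, Carter 12.5): an automorphism
mapping every fundamental root subgroup and its negative to itself is the product of a diagonal and a field
automorphism.
-/

set_option autoImplicit false

namespace Cfsg.Agent.Helper36.ChevAut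

open Cfsg Cfsg.Lie Cfsg.Agent.Helper18

/-- adjacency of two nodes, as seen by the torus: one of the two Cartan integers is `-1` -/
def adjOK (D : ChevalleyDatum) (i j : ℕ) : Bool :=
  decide (pairing' D (D.simple i) (D.simple j) = -1)

/-- nodes reached from node `0` in `n` steps along pairs `(i, j)` with `adjOK D i j` or `adjOK D j i` -/
def reach (D : ChevalleyDatum) : ℕ → List ℕ
  | 0 => [0]
  | n + 1 => (List.range D.rank).filter fun j =>
      (reach D n).any fun i => decide (i = j) || adjOK D i j || adjOK D j i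

def connOK (D : ChevalleyDatum) : Bool :=
  decide (0 < D.rank) && (List.range D.rank).all fun j => (reach D D.rank).contains j

theorem connOK_of_mem (D : ChevalleyDatum)
    (hD : D ∈ [chevG2, chevB2, chevD4, chevF4, chevE6, chevE7, chevE8]) : connOK D = true := by
  simp only [List.mem_cons, List.not_mem_nil, or_false] at hD
  rcases hD with rfl | rfl | rfl | rfl | rfl | rfl | rfl <;> decide +kernel

/-- a relation containing the adjacency relation and closed under the obvious rules contains all pairs `(0, j)` -/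
theorem rel_of_conn (D : ChevalleyDatum) (h : connOK D = true) (R : ℕ → Prop) (h0 : R 0)
    (hadj : ∀ i j, i < D.rank → j < D.rank → R i → (adjOK D i j = true ∨ adjOK D j i = true) → R j)
    (j : ℕ) (hj : j < D.rank) : R j := by
  unfold connOK at h
  rw [Bool.and_eq_true, decide_eq_true_eq, List.all_eq_true] at h
  obtain ⟨hpos, h⟩ := h
  have key : ∀ n, ∀ k ∈ reach D n, k < D.rank ∧ R k := by
    intro n
    induction n with
    | zero =>
      intro k hk
      simp only [reach, List.mem_singleton] at hk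
      subst hk
      exact ⟨hpos, h0⟩
    | succ n ih =>
      intro k hk
      simp only [reach, List.mem_filter, List.mem_range, List.any_eq_true, Bool.or_eq_true,
        decide_eq_true_eq] at hk
      obtain ⟨hk1, i, hi, hik⟩ := hk
      obtain ⟨hi1, hRi⟩ := ih i hi
      refine ⟨hk1, ?_⟩
      rcases hik with (rfl | h1) | h1
      · exact hRi
      · exact hadj i k hi1 hk1 hRi (Or.inl h1)
      · exact hadj i k hi1 hk1 hRi (Or.inr h1)
  have := h j (List.mem_range.mpr hj)
  rw [List.contains_iff_mem] at this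
  exact (key _ j this).2

section Torus
variable {F : Type*} [Field F] (D : ChevalleyDatum)
  (hD : D ∈ [chevG2, chevB2, chevD4, chevF4, chevE6, chevE7, chevE8])

include hD in
theorem nWordGL_inv (r : ℕ) (t : F) :
    (wordGL D F (D.nWord r t))⁻¹ = wordGL D F (D.nWord r (-t)) := by
  rw [inv_eq_iff_mul_eq_one, wordGL_nWord', wordGL_nWord']
  have e1 : -(-t)⁻¹ = -(-t⁻¹) := by rw [inv_neg]
  rw [e1]
  have h1 := xGL_mul_neg (F := F) D hD r t
  have h2 := xGL_mul_neg (F := F) D hD (D.neg r) (-t⁻¹)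
  calc xGL D F r t * xGL D F (D.neg r) (-t⁻¹) * xGL D F r t *
        (xGL D F r (-t) * xGL D F (D.neg r) (-(-t⁻¹)) * xGL D F r (-t))
      = xGL D F r t * (xGL D F (D.neg r) (-t⁻¹) * ((xGL D F r t * xGL D F r (-t)) *
          xGL D F (D.neg r) (-(-t⁻¹)))) * xGL D F r (-t) := by group
    _ = 1 := by rw [h1, one_mul, h2, mul_one, h1]

include hD in
theorem nn_eq_hh (r : ℕ) (a c : F) :
    wordGL D F (D.nWord r a) * wordGL D F (D.nWord r (-c))
      = wordGL D F (D.hWord r a) * (wordGL D F (D.hWord r c))⁻¹ := by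
  rw [wordGL_hWord, wordGL_hWord, mul_inv_rev, nWordGL_inv D hD r c]
  group

include hD in
theorem hh_conj (s : ℕ) (hs : s < D.nroots) (a c : F) (ha : a ≠ 0) (hc : c ≠ 0) (r : ℕ) (hr : r < D.nroots)
    (v : F) :
    (wordGL D F (D.hWord s a) * (wordGL D F (D.hWord s c))⁻¹) * xGL D F r v
      = xGL D F r (a ^ pairing' D s r * ((c ^ pairing' D s r)⁻¹ * v)) *
        (wordGL D F (D.hWord s a) * (wordGL D F (D.hWord s c))⁻¹) := by
  have h1 := hMat_comm_xGL D hD (wordGL D F (D.hWord s a)) s hs a ha (hWordGL_val D hD s a) r hr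
    ((c ^ pairing' D s r)⁻¹ * v)
  have h2 := hMat_comm_xGL D hD (wordGL D F (D.hWord s c)) s hs c hc (hWordGL_val D hD s c) r hr
    ((c ^ pairing' D s r)⁻¹ * v)
  have hne : c ^ pairing' D s r ≠ 0 := zpow_ne_zero _ hc
  rw [mul_inv_cancel_left₀ hne] at h2
  have h3 : (wordGL D F (D.hWord s c))⁻¹ * xGL D F r v
      = xGL D F r ((c ^ pairing' D s r)⁻¹ * v) * (wordGL D F (D.hWord s c))⁻¹ := by
    rw [inv_mul_eq_iff_eq_mul, ← mul_assoc, h2]
    group
  rw [mul_assoc, h3, ← mul_assoc, h1, mul_assoc]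

/-- the root element `x_r(t)` as an element of the Chevalley group -/
noncomputable def xG (r : ℕ) (t : F) : ↥(D.group F) := ⟨xGL D F r t, xGL_mem_group' D hD r t⟩

theorem xG_val (r : ℕ) (t : F) :
    (((xG D hD r t : ↥(D.group F)) : GL D.Idx F) : Matrix D.Idx D.Idx F) = D.x F r t :=
  xGL_val D _ (triOK_of_mem D hD) r t

/-- torus comparison: adjacent nodes carry the same field automorphism -/
theorem sigma_eq (ϑ : ↥(D.group F) →* GL D.Idx F) (i j : ℕ) (hi : i < D.rank) (hj : j < D.rank)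
    (hA : pairing' D (D.simple i) (D.simple j) = -1)
    (ci cj : F) (hci : ci ≠ 0) (hcj : cj ≠ 0) (σi σj : F ≃+* F)
    (h1 : ∀ t, ϑ (xG D hD (D.simple i) t) = xGL D F (D.simple i) (ci * σi t))
    (h2 : ∀ t, ϑ (xG D hD (D.neg (D.simple i)) t) = xGL D F (D.neg (D.simple i)) (ci⁻¹ * σi t))
    (h3 : ∀ t, ϑ (xG D hD (D.simple j) t) = xGL D F (D.simple j) (cj * σj t))
    (l : F) (hl : l ≠ 0) : σi l = σj l := by
  have hs := simpleOK_of_mem D hD
  have htri := triOK_of_mem D hD
  have hp := simple_lt D hs i hi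
  have hq := simple_lt D hs j hj
  set p := D.simple i with hp_def
  set q := D.simple j with hq_def
  -- the torus element in the group
  let HG : ↥(D.group F) := xG D hD p l * xG D hD (D.neg p) (-l⁻¹) * xG D hD p l *
    (xG D hD p (-1) * xG D hD (D.neg p) (-(-1 : F)⁻¹) * xG D hD p (-1))
  have hHG : (HG : GL D.Idx F) = wordGL D F (D.hWord p l) := by
    rw [wordGL_hWord, wordGL_nWord', wordGL_nWord']
    rfl
  have hσl : σi l ≠ 0 := fun h => hl ((map_eq_zero σi).mp h)
  set a := ci * σi l with ha_def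
  have ha : a ≠ 0 := mul_ne_zero hci hσl
  have hϑH : ϑ HG = wordGL D F (D.hWord p a) * (wordGL D F (D.hWord p ci))⁻¹ := by
    rw [← nn_eq_hh D hD p a ci, wordGL_nWord', wordGL_nWord']
    show ϑ (xG D hD p l * xG D hD (D.neg p) (-l⁻¹) * xG D hD p l *
      (xG D hD p (-1) * xG D hD (D.neg p) (-(-1 : F)⁻¹) * xG D hD p (-1))) = _
    simp only [map_mul, h1, h2]
    have e1 : ci⁻¹ * σi (-l⁻¹) = -a⁻¹ := by
      rw [map_neg, map_inv₀, ha_def, mul_inv, mul_neg]
    have e2 : ci * σi (-1) = -ci := by rw [map_neg, map_one, mul_neg, mul_one]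
    have e3 : ci⁻¹ * σi (-(-1 : F)⁻¹) = -(-ci)⁻¹ := by
      rw [inv_neg, neg_neg, inv_one, map_one, mul_one, inv_neg, neg_neg]
    rw [e1, e2, e3]
  -- the relation in the group
  have hrel : HG * xG D hD q 1 = xG D hD q (l ^ pairing' D p q * 1) * HG := by
    apply Subtype.ext
    show (HG : GL D.Idx F) * xGL D F q 1 = xGL D F q (l ^ pairing' D p q * 1) * (HG : GL D.Idx F)
    rw [hHG]
    exact hMat_comm_xGL D hD _ p hp l hl (hWordGL_val D hD p l) q hq 1
  have h4 : ϑ HG * ϑ (xG D hD q 1) = ϑ (xG D hD q (l ^ pairing' D p q * 1)) * ϑ HG := by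
    rw [← map_mul, ← map_mul, hrel]
  rw [h3, h3, hϑH, hh_conj D hD p hp a ci ha hci q hq] at h4
  have h5 := mul_right_cancel h4
  have h6 : D.x F q (a ^ pairing' D p q * ((ci ^ pairing' D p q)⁻¹ * (cj * σj 1)))
      = D.x F q (cj * σj (l ^ pairing' D p q * 1)) := by
    have := congrArg (fun g : GL D.Idx F => (g : Matrix D.Idx D.Idx F)) h5
    simpa only [xGL_val D _ htri] using this
  have h7 := x_injective D hD q hq _ _ h6
  rw [hA, zpow_neg_one, zpow_neg_one, zpow_neg_one, inv_inv, map_one, mul_one, mul_one, map_inv₀, ha_def] at h7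
  -- (ci σi l)⁻¹ * (ci * cj) = cj * (σj l)⁻¹
  have hσl' : σj l ≠ 0 := fun h => hl ((map_eq_zero σj).mp h)
  field_simp at h7
  exact h7.symm

end Torus

section Main
variable {F : Type*} [Field F] [Finite F] (D : ChevalleyDatum)
  (hD : D ∈ [chevG2, chevB2, chevD4, chevF4, chevE6, chevE7, chevE8])

include hD in
/-- PIECE T of S2156: an automorphism mapping every fundamental root subgroup and its negative into itself is
the product of a diagonal and a field automorphism. -/
theorem pieceT (θ : ↥(D.group F) ≃* ↥(D.group F)) (h : PermutesSimple D θ 1) :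
    ∃ d f : ↥(D.group F) ≃* ↥(D.group F), D.IsDiagonalAut d ∧ D.IsFieldAut f ∧ ∀ y, θ y = d (f y) := by
  classical
  have hs := simpleOK_of_mem D hD
  have htri := triOK_of_mem D hD
  have hadd := Cfsg.Agent.Helper40.ChevAdd.addOK_of_mem hD
  have hconn := connOK_of_mem D hD
  have hrank : 0 < D.rank := by
    unfold connOK at hconn
    rw [Bool.and_eq_true, decide_eq_true_eq] at hconn
    exact hconn.1
  have hlt : ∀ i : Fin D.rank, D.simple i < D.nroots := fun i => simple_lt D hs i i.2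
  have hnlt : ∀ i : Fin D.rank, D.neg (D.simple i) < D.nroots :=
    fun i => (triOK_spec D _ htri _ (hlt i)).1
  -- the parameter maps
  have hpos : ∀ (i : Fin D.rank) (t : F), ∃ t' : F,
      ((θ (xG D hD (D.simple i) t) : GL D.Idx F) : Matrix D.Idx D.Idx F) = D.x F (D.simple i) t' :=
    fun i t => (h i).1 t _ (xG_val D hD _ t)
  have hneg : ∀ (i : Fin D.rank) (t : F), ∃ t' : F,
      ((θ (xG D hD (D.neg (D.simple i)) t) : GL D.Idx F) : Matrix D.Idx D.Idx F)
        = D.x F (D.neg (D.simple i)) t' :=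
    fun i t => (h i).2 t _ (xG_val D hD _ t)
  choose fp hfp using hpos
  choose gp hgp using hneg
  have huniq : ∀ (r : ℕ) (t : F) (y : ↥(D.group F)),
      ((y : GL D.Idx F) : Matrix D.Idx D.Idx F) = D.x F r t → y = xG D hD r t := by
    intro r t y hy
    apply Subtype.ext
    apply Units.ext
    rw [hy, xG_val]
  -- rank-one rigidity at every node
  have hrig : ∀ i : Fin D.rank, ∃ (c : Fˣ) (σ : F ≃+* F),
      ∀ t, fp i t = (c : F) * σ t ∧ gp i t = ((c⁻¹ : Fˣ) : F) * σ t := by
    intro i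
    refine rank_one_rigidity D hD θ.toMonoidHom θ.injective (D.simple i) (hlt i) (fp i) (gp i) ?_ ?_
    · intro t y hy
      rw [huniq _ t y hy]
      exact hfp i t
    · intro t y hy
      rw [huniq _ t y hy]
      exact hgp i t
  choose c σ hcσ using hrig
  let i0 : Fin D.rank := ⟨0, hrank⟩
  -- all field automorphisms agree
  let ϑ : ↥(D.group F) →* GL D.Idx F := (D.group F).subtype.comp θ.toMonoidHom
  have hϑ : ∀ y, ϑ y = (θ y : GL D.Idx F) := fun y => rfl
  have hϑp : ∀ (i : Fin D.rank) (t : F),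
      ϑ (xG D hD (D.simple i) t) = xGL D F (D.simple i) ((c i : F) * σ i t) := by
    intro i t
    apply Units.ext
    rw [hϑ, hfp i t, (hcσ i t).1, xGL_val D _ htri]
  have hϑn : ∀ (i : Fin D.rank) (t : F),
      ϑ (xG D hD (D.neg (D.simple i)) t) = xGL D F (D.neg (D.simple i)) ((c i : F)⁻¹ * σ i t) := by
    intro i t
    apply Units.ext
    rw [hϑ, hgp i t, (hcσ i t).2, xGL_val D _ htri, Units.val_inv_eq_inv_val]
  have hadj : ∀ i j : Fin D.rank, adjOK D i j = true → σ i = σ j := by
    intro i j hij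
    unfold adjOK at hij
    rw [decide_eq_true_eq] at hij
    apply RingEquiv.ext
    intro l
    by_cases hl : l = 0
    · rw [hl, map_zero, map_zero]
    · exact sigma_eq D hD ϑ i j i.2 j.2 hij (c i) (c j) (c i).ne_zero (c j).ne_zero (σ i) (σ j)
        (hϑp i) (hϑn i) (hϑp j) l hl
  have hall : ∀ j : Fin D.rank, σ j = σ i0 := by
    intro j
    have := rel_of_conn D hconn (fun k => ∀ hk : k < D.rank, σ ⟨k, hk⟩ = σ i0) (fun _ => rfl)
      (fun a b ha hb hRa hab hb' => by
        rcases hab with hab | hab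
        · rw [← hadj ⟨a, ha⟩ ⟨b, hb⟩ hab]
          exact hRa ha
        · rw [hadj ⟨b, hb⟩ ⟨a, ha⟩ hab]
          exact hRa ha) j j.2
    exact this j.2
  -- the character
  obtain ⟨T, hT⟩ := exists_rootCoord D hD
  let cN : ℕ → Fˣ := fun k => if hk : k < D.rank then c ⟨k, hk⟩ else 1
  have hχ := isRootCharacter_charOf (F := F) D T hT cN
  have hχs : ∀ i : Fin D.rank, charOf D T cN (D.simple i) = c i := by
    intro i
    rw [charOf_simple D T hT cN i i.2]
    show (if hk : (i : ℕ) < D.rank then c ⟨i, hk⟩ else 1) = c i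
    rw [dif_pos i.2]
  refine ⟨diagAut D hD (charOf D T cN) hχ, fieldAut D hadd (σ i0), isDiagonalAut_diagAut D hD _ hχ,
    isFieldAut_fieldAut D hadd _, ?_⟩
  -- agreement on the generators
  let Θ : ↥(D.group F) ≃* ↥(D.group F) := (fieldAut D hadd (σ i0)).trans (diagAut D hD (charOf D T cN) hχ)
  let E : Subgroup ↥(D.group F) := θ.toMonoidHom.eqLocus Θ.toMonoidHom
  have hE : E = ⊤ := by
    apply Cfsg.Agent.Helper36.fund_generate D hD E
    intro i hi t γ hγ
    show θ γ = Θ γ
    apply Subtype.ext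
    apply Units.ext
    show ((θ γ : GL D.Idx F) : Matrix D.Idx D.Idx F)
      = ((diagAut D hD (charOf D T cN) hχ (fieldAut D hadd (σ i0) γ) : GL D.Idx F) : Matrix D.Idx D.Idx F)
    rcases hγ with hγ | hγ
    · rw [diagAut_x D hD _ hχ _ _ (hlt ⟨i, hi⟩) _ (fieldAut_x D hadd (σ i0) γ _ t hγ),
        huniq _ t γ hγ, hfp ⟨i, hi⟩ t, (hcσ ⟨i, hi⟩ t).1, hχs ⟨i, hi⟩, hall ⟨i, hi⟩]
    · rw [diagAut_x D hD _ hχ _ _ (hnlt ⟨i, hi⟩) _ (fieldAut_x D hadd (σ i0) γ _ t hγ),
        huniq _ t γ hγ, hgp ⟨i, hi⟩ t, (hcσ ⟨i, hi⟩ t).2, hχ.1 _ (hlt ⟨i, hi⟩), hχs ⟨i, hi⟩,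
        hall ⟨i, hi⟩]
  intro y
  have hy : y ∈ E := by rw [hE]; trivial
  exact hy

end Main

end Cfsg.Agent.Helper36.ChevAut
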