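import Cfsg.Agent.Helper36.ChevSim

set_option autoImplicit false
open Cfsg Cfsg.Lie

/-!
The action of `n_{p_i}` on root elements: `n_p x_s(t) = x_{w_p s}(η_s t) n_p`, deduced entrywise from the signed
monomial form of `n_p` and a transport check on the chain tables. Lookup tables are packed into natural numbers.
-/

namespace Cfsg.Agent.Helper36

def wAt (wp s : ℕ) : ℕ := wp / 256 ^ s % 256
def etaAt (ep s : ℕ) : ℤ := if Nat.testBit ep s then -1 else 1
def negAt (nP s : ℕ) : ℕ := nP / 256 ^ s % 256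
def crAt (rP s i : ℕ) : ℤ := ((rP / 16 ^ (s * 8 + i) % 16 : ℕ) : ℤ) - 8
def cAt (cP j s : ℕ) : ℤ := ((cP / 8 ^ (j * 256 + s) % 8 : ℕ) : ℤ) - 4

theorem etaAt_sq (ep s : ℕ) : etaAt ep s * etaAt ep s = 1 := by
  unfold etaAt
  split_ifs <;> simp

theorem etaAt_cases (ep s : ℕ) : etaAt ep s = 1 ∨ etaAt ep s = -1 := by
  unfold etaAt
  split_ifs <;> simp

theorem getD_of_zipIdx_all {α : Type} [DecidableEq α] (arr : Array α) (d : α) (f : ℕ → α)
    (h : (arr.toList.zipIdx.all fun p => decide (f p.2 = p.1)) = true) (k : ℕ) (hk : k < arr.size) :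
    arr.getD k d = f k := by
  rw [List.all_eq_true] at h
  have hk' : k < arr.toList.length := by simpa using hk
  have hmem : (arr.toList[k], k) ∈ arr.toList.zipIdx := by
    rw [List.mem_zipIdx_iff_getElem?]
    simp
  have := h _ hmem
  simp only [decide_eq_true_eq] at this
  rw [this]
  simp [Array.getD, hk]


variable (D : ChevalleyDatum)

/-- the packed tables agree with the datum -/
def tabCheck (cP rP nP : ℕ) : Bool :=
  decide (D.negIdx.size = D.nroots) && (D.negIdx.toList.zipIdx.all fun ms => decide (negAt nP ms.2 = ms.1)) &&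
  decide (D.coroot.size = D.nroots) && (D.coroot.toList.all fun row => decide (row.size = D.rank)) &&
  (D.coroot.toList.zipIdx.all fun rs => rs.1.toList.zipIdx.all fun ci => decide (crAt rP rs.2 ci.2 = ci.1)) &&
  decide (D.cartanSR.size = D.rank) && (D.cartanSR.toList.all fun row => decide (row.size = D.nroots)) &&
  (D.cartanSR.toList.zipIdx.all fun rj => rj.1.toList.zipIdx.all fun As => decide (cAt cP rj.2 As.2 = As.1))

theorem tab_neg {cP rP nP : ℕ} (h : tabCheck D cP rP nP = true) (s : ℕ) (hs : s < D.nroots) :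
    D.neg s = negAt nP s := by
  unfold tabCheck at h
  simp only [Bool.and_eq_true, decide_eq_true_eq] at h
  obtain ⟨⟨⟨⟨⟨⟨⟨h1, h2⟩, _⟩, _⟩, _⟩, _⟩, _⟩, _⟩ := h
  unfold ChevalleyDatum.neg
  exact getD_of_zipIdx_all D.negIdx 0 (negAt nP) h2 s (by omega)

theorem tab_coroot {cP rP nP : ℕ} (h : tabCheck D cP rP nP = true) (s : ℕ) (hs : s < D.nroots)
    (i : ℕ) (hi : i < D.rank) : (D.coroot.getD s #[]).getD i 0 = crAt rP s i := by
  unfold tabCheck at h
  simp only [Bool.and_eq_true, decide_eq_true_eq] at h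
  obtain ⟨⟨⟨⟨⟨⟨⟨_, _⟩, h3⟩, h4⟩, h5⟩, _⟩, _⟩, _⟩ := h
  have hs' : s < D.coroot.size := by omega
  have hs'' : s < D.coroot.toList.length := by simpa using hs'
  rw [List.all_eq_true] at h4 h5
  have hrow : D.coroot.getD s #[] = D.coroot.toList[s] := by
    simp [Array.getD, hs']
  have hmem : (D.coroot.toList[s], s) ∈ D.coroot.toList.zipIdx := by
    rw [List.mem_zipIdx_iff_getElem?]
    simp
  have h6 := h5 _ hmem
  have h7 := h4 (D.coroot.toList[s]) (List.getElem_mem hs'')
  simp only [decide_eq_true_eq] at h7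
  rw [hrow]
  exact getD_of_zipIdx_all (D.coroot.toList[s]) 0 (crAt rP s) h6 i (by omega)

theorem tab_cartan {cP rP nP : ℕ} (h : tabCheck D cP rP nP = true) (j : ℕ) (hj : j < D.rank)
    (s : ℕ) (hs : s < D.nroots) : D.cartan j s = cAt cP j s := by
  unfold tabCheck at h
  simp only [Bool.and_eq_true, decide_eq_true_eq] at h
  obtain ⟨⟨⟨⟨⟨⟨⟨_, _⟩, _⟩, _⟩, _⟩, h6⟩, h7⟩, h8⟩ := h
  have hj' : j < D.cartanSR.size := by omega
  have hj'' : j < D.cartanSR.toList.length := by simpa using hj'
  rw [List.all_eq_true] at h7 h8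
  have hrow : D.cartanSR.getD j #[] = D.cartanSR.toList[j] := by
    simp [Array.getD, hj']
  have hmem : (D.cartanSR.toList[j], j) ∈ D.cartanSR.toList.zipIdx := by
    rw [List.mem_zipIdx_iff_getElem?]
    simp
  have h9 := h8 _ hmem
  have h10 := h7 (D.cartanSR.toList[j]) (List.getElem_mem hj'')
  simp only [decide_eq_true_eq] at h10
  unfold ChevalleyDatum.cartan
  rw [hrow]
  exact getD_of_zipIdx_all (D.cartanSR.toList[j]) 0 (cAt cP j) h9 s (by omega)


variable (F : Type*) [Field F]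

/-- the signed monomial matrix of `n_{p_i}` -/
def nTarget (i : ℕ) (w : ℕ → ℕ) (η : ℕ → ℤ) : Matrix D.Idx D.Idx F :=
  Matrix.of (fun (row col : D.Idx) =>
        Sum.elim
          (fun j' : Fin D.rank => Sum.elim
            (fun j : Fin D.rank => (if j' = j then (1 : F) else 0) - (if (j' : ℕ) = i then ((D.cartan j (D.simple i) : ℤ) : F) else 0))
            (fun _ => (0 : F)) col)
          (fun s' : Fin D.nroots => Sum.elim
            (fun _ => (0 : F))
            (fun s : Fin D.nroots => if (s' : ℕ) = w s then ((η s : ℤ) : F) else 0) col)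
          row)

abbrev Quad := ℕ × ℕ × ℕ × ℤ

/-- chain row of a root as a list -/
def rowOf (r : ℕ) : List (ℕ × Array (ℕ × ℤ)) := (D.chain.getD r #[]).toList

/-- all chain data of a row as quadruples `(s, k, u, M)`: `x_r(t) e_s` has the term `M t^k e_u` -/
def flat (R : List (ℕ × Array (ℕ × ℤ))) : List Quad :=
  R.flatMap fun e => e.2.toList.zipIdx.map fun q => (e.1, q.2 + 1, q.1.1, q.1.2)

theorem chainCoeff_eq_flat (r s u : ℕ) :
    D.chainCoeff r s u =
      ((flat (rowOf D r)).filter (fun q => q.1 = s ∧ q.2.2.1 = u)).map (fun q => (q.2.1, q.2.2.2)) := by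
  unfold ChevalleyDatum.chainCoeff flat rowOf
  generalize (D.chain.getD r #[]).toList = L
  induction L with
  | nil => simp
  | cons e L ih =>
    rw [List.flatMap_cons, List.filter_append, List.map_append, ← ih]
    by_cases h : e.1 = s
    · rw [List.filter_cons_of_pos (by simpa using h), List.flatMap_cons]
      congr 1
      rw [List.filter_map, List.map_map]
      have hf : (List.filter ((fun q : Quad => decide (q.1 = s ∧ q.2.2.1 = u)) ∘
          fun q : (ℕ × ℤ) × ℕ => (e.1, q.2 + 1, q.1.1, q.1.2)) e.2.toList.zipIdx) =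
          List.filter (fun q => decide (q.1.1 = u)) e.2.toList.zipIdx :=
        List.filter_congr (by intro q _; simp [h])
      rw [hf]
      rfl
    · rw [List.filter_cons_of_neg (by simpa using h)]
      have : (List.filter (fun q : Quad => decide (q.1 = s ∧ q.2.2.1 = u))
          (List.map (fun q : (ℕ × ℤ) × ℕ => (e.1, q.2 + 1, q.1.1, q.1.2)) e.2.toList.zipIdx)) = [] := by
        rw [List.filter_eq_nil_iff]
        intro q hq
        simp only [List.mem_map] at hq
        obtain ⟨q0, _, rfl⟩ := hq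
        simp [h]
      rw [this]
      simp


/-- transport of a chain quadruple by a reflection `w` with signs `η` -/
def transport (w : ℕ → ℕ) (η : ℕ → ℤ) (ηs : ℤ) (q : Quad) : Quad :=
  (w q.1, q.2.1, w q.2.2.1, q.2.2.2 * ηs ^ q.2.1 * η q.1 * η q.2.2.1)

theorem transport_sum (s s' : ℕ) (w : ℕ → ℕ) (η : ℕ → ℤ) (ηs : ℤ)
    (hperm : List.Perm ((flat (rowOf D s)).map (transport w η ηs)) (flat (rowOf D s')))
    (hinj : Function.Injective w) (hη : ∀ x, η x * η x = 1) (hηs : ηs * ηs = 1) (j a : ℕ) (t : F) :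
    (((D.chainCoeff s' (w j) (w a)).map fun km : ℕ × ℤ => ((km.2 : ℤ) : F) * (((ηs : ℤ) : F) * t) ^ km.1).sum) *
        ((η j : ℤ) : F) =
      ((η a : ℤ) : F) * ((D.chainCoeff s j a).map fun km : ℕ × ℤ => ((km.2 : ℤ) : F) * t ^ km.1).sum := by
  rw [chainCoeff_eq_flat, chainCoeff_eq_flat, List.map_map, List.map_map]
  have h1 : List.Perm ((flat (rowOf D s')).filter (fun q => q.1 = w j ∧ q.2.2.1 = w a))
      (((flat (rowOf D s)).filter (fun q => q.1 = j ∧ q.2.2.1 = a)).map (transport w η ηs)) := by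
    have h2 := (hperm.filter (fun q => q.1 = w j ∧ q.2.2.1 = w a)).symm
    rw [List.filter_map] at h2
    have h3 : List.filter ((fun q : Quad => decide (q.1 = w j ∧ q.2.2.1 = w a)) ∘ transport w η ηs)
        (flat (rowOf D s)) = List.filter (fun q => decide (q.1 = j ∧ q.2.2.1 = a)) (flat (rowOf D s)) := by
      apply List.filter_congr
      intro q _
      simp only [Function.comp, transport]
      apply decide_eq_decide.mpr
      constructor
      · rintro ⟨h4, h5⟩
        exact ⟨hinj h4, hinj h5⟩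
      · rintro ⟨h4, h5⟩
        rw [h4, h5]
        exact ⟨rfl, rfl⟩
    rw [h3] at h2
    exact h2
  rw [(h1.map _).sum_eq, List.map_map, ← List.sum_map_mul_right, ← List.sum_map_mul_left]
  apply congrArg
  apply List.map_congr_left
  intro q hq
  rw [List.mem_filter] at hq
  obtain ⟨_, hq2⟩ := hq
  simp only [decide_eq_true_eq] at hq2
  obtain ⟨hq1, hq3⟩ := hq2
  simp only [Function.comp, transport, hq1, hq3]
  have e1 : ((η j : ℤ) : F) * ((η j : ℤ) : F) = 1 := by
    rw [← Int.cast_mul, hη, Int.cast_one]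
  have e2 : (((ηs : ℤ) : F) ^ q.2.1) * (((ηs : ℤ) : F) ^ q.2.1) = 1 := by
    rw [← mul_pow, ← Int.cast_mul, hηs, Int.cast_one, one_pow]
  push_cast
  rw [mul_pow]
  calc (q.2.2.2 : F) * (ηs : F) ^ q.2.1 * (η j : F) * (η a : F) * ((ηs : F) ^ q.2.1 * t ^ q.2.1) * (η j : F)
      = (η a : F) * ((q.2.2.2 : F) * t ^ q.2.1) * (((η j : ℤ) : F) * ((η j : ℤ) : F)) *
          ((((ηs : ℤ) : F) ^ q.2.1) * (((ηs : ℤ) : F) ^ q.2.1)) := by ring
    _ = (η a : F) * ((q.2.2.2 : F) * t ^ q.2.1) := by rw [e1, e2, mul_one, mul_one]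


theorem xMat_ll (r : Fin D.nroots) (t : F) (i' j : Fin D.rank) :
    D.xMat F r t (Sum.inl i') (Sum.inl j) = if i' = j then 1 else 0 := rfl

theorem xMat_rl (r : Fin D.nroots) (t : F) (u : Fin D.nroots) (j : Fin D.rank) :
    D.xMat F r t (Sum.inr u) (Sum.inl j) = if u = r then - ((D.cartan j r : ℤ) : F) * t else 0 := rfl

theorem xMat_lr (r : Fin D.nroots) (t : F) (i' : Fin D.rank) (s : Fin D.nroots) :
    D.xMat F r t (Sum.inl i') (Sum.inr s) =
      if s = r then 0 else if s.val = D.neg r then (((D.coroot.getD r #[]).getD i' 0 : ℤ) : F) * t else 0 := rfl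

theorem xMat_rr (r : Fin D.nroots) (t : F) (u s : Fin D.nroots) :
    D.xMat F r t (Sum.inr u) (Sum.inr s) =
      if s = r then (if u = r then 1 else 0)
      else if s.val = D.neg r then (if u = s then 1 else if u = r then -(t ^ 2) else 0)
      else (if u = s then 1 else 0) +
        ((D.chainCoeff r.val s.val u.val).map fun km => ((km.2 : ℤ) : F) * t ^ km.1).sum := rfl

theorem nT_ll (i : ℕ) (w : ℕ → ℕ) (η : ℕ → ℤ) (j' j : Fin D.rank) :
    nTarget D F i w η (Sum.inl j') (Sum.inl j) =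
      (if j' = j then (1 : F) else 0) - (if (j' : ℕ) = i then ((D.cartan j (D.simple i) : ℤ) : F) else 0) := rfl

theorem nT_lr (i : ℕ) (w : ℕ → ℕ) (η : ℕ → ℤ) (j' : Fin D.rank) (s : Fin D.nroots) :
    nTarget D F i w η (Sum.inl j') (Sum.inr s) = 0 := rfl

theorem nT_rl (i : ℕ) (w : ℕ → ℕ) (η : ℕ → ℤ) (s' : Fin D.nroots) (j : Fin D.rank) :
    nTarget D F i w η (Sum.inr s') (Sum.inl j) = 0 := rfl

theorem nT_rr (i : ℕ) (w : ℕ → ℕ) (η : ℕ → ℤ) (s' s : Fin D.nroots) :
    nTarget D F i w η (Sum.inr s') (Sum.inr s) = if (s' : ℕ) = w s then ((η s : ℤ) : F) else 0 := rfl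


section conj

variable (i : ℕ) (w : ℕ → ℕ) (η : ℕ → ℤ)
  (hw_lt : ∀ s < D.nroots, w s < D.nroots)
  (hw_inv : ∀ s < D.nroots, w (w s) = s)

include hw_inv in
theorem sum_nT_rr_left (a' : Fin D.nroots) (f : Fin D.nroots → F) :
    ∑ u : Fin D.nroots, nTarget D F i w η (Sum.inr a') (Sum.inr u) * f u =
      ((η (w a') : ℤ) : F) * f ⟨w a', hw_lt a' a'.isLt⟩ := by
  rw [Finset.sum_eq_single ⟨w a', hw_lt a' a'.isLt⟩]
  · rw [nT_rr]
    simp only []
    rw [if_pos (hw_inv a' a'.isLt).symm]
  · intro u _ hu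
    rw [nT_rr]
    have : ¬ ((a' : ℕ) = w u) := by
      intro h
      apply hu
      apply Fin.ext
      simp only []
      rw [h, hw_inv u u.isLt]
    rw [if_neg this, zero_mul]
  · intro h
    exact absurd (Finset.mem_univ _) h

theorem sum_nT_rr_right (j : Fin D.nroots) (f : Fin D.nroots → F) :
    ∑ u : Fin D.nroots, f u * nTarget D F i w η (Sum.inr u) (Sum.inr j) =
      f ⟨w j, hw_lt j j.isLt⟩ * ((η j : ℤ) : F) := by
  rw [Finset.sum_eq_single ⟨w j, hw_lt j j.isLt⟩]
  · rw [nT_rr]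
    simp
  · intro u _ hu
    rw [nT_rr]
    have : ¬ ((u : ℕ) = w j) := by
      intro h
      apply hu
      apply Fin.ext
      exact h
    rw [if_neg this, mul_zero]
  · intro h
    exact absurd (Finset.mem_univ _) h


theorem conj_ll (r r' : Fin D.nroots) (t t' : F) (i' j : Fin D.rank) :
    (∑ j' : Fin D.rank, nTarget D F i w η (Sum.inl i') (Sum.inl j') * D.xMat F r t (Sum.inl j') (Sum.inl j)) +
      (∑ u : Fin D.nroots, nTarget D F i w η (Sum.inl i') (Sum.inr u) * D.xMat F r t (Sum.inr u) (Sum.inl j)) =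
    (∑ j' : Fin D.rank, D.xMat F r' t' (Sum.inl i') (Sum.inl j') * nTarget D F i w η (Sum.inl j') (Sum.inl j)) +
      (∑ u : Fin D.nroots, D.xMat F r' t' (Sum.inl i') (Sum.inr u) * nTarget D F i w η (Sum.inr u) (Sum.inl j)) := by
  simp only [nT_lr, nT_rl, zero_mul, mul_zero, Finset.sum_const_zero, add_zero, xMat_ll]
  simp [Finset.sum_ite_eq]


theorem sum_fin_val_eq {n : ℕ} (k : ℕ) (hk : k < n) (f : Fin n → F) :
    ∑ j' : Fin n, (if (j' : ℕ) = k then f j' else 0) = f ⟨k, hk⟩ := by
  rw [Finset.sum_eq_single ⟨k, hk⟩]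
  · simp
  · intro b _ hb
    have : ¬ ((b : ℕ) = k) := fun h => hb (Fin.ext h)
    rw [if_neg this]
  · intro h
    exact absurd (Finset.mem_univ _) h

include hw_inv in
theorem conj_rl (hi : i < D.rank)
    (hh : ∀ s < D.nroots, ∀ j < D.rank,
      D.cartan j s = D.cartan j (w s) - D.cartan i (w s) * D.cartan j (D.simple i))
    (s : ℕ) (hs : s < D.nroots) (t : F) (a' : Fin D.nroots) (j : Fin D.rank) :
    (∑ j' : Fin D.rank, nTarget D F i w η (Sum.inr a') (Sum.inl j') *
        D.xMat F ⟨s, hs⟩ t (Sum.inl j') (Sum.inl j)) +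
      (∑ u : Fin D.nroots, nTarget D F i w η (Sum.inr a') (Sum.inr u) *
        D.xMat F ⟨s, hs⟩ t (Sum.inr u) (Sum.inl j)) =
    (∑ j' : Fin D.rank, D.xMat F ⟨w s, hw_lt s hs⟩ (((η s : ℤ) : F) * t) (Sum.inr a') (Sum.inl j') *
        nTarget D F i w η (Sum.inl j') (Sum.inl j)) +
      (∑ u : Fin D.nroots, D.xMat F ⟨w s, hw_lt s hs⟩ (((η s : ℤ) : F) * t) (Sum.inr a') (Sum.inr u) *
        nTarget D F i w η (Sum.inr u) (Sum.inl j)) := by
  rw [sum_nT_rr_left D F i w η hw_lt hw_inv a' (fun u => D.xMat F ⟨s, hs⟩ t (Sum.inr u) (Sum.inl j))]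
  simp only [nT_rl, zero_mul, mul_zero, Finset.sum_const_zero, add_zero, zero_add, xMat_rl, nT_ll]
  by_cases ha : a' = ⟨w s, hw_lt s hs⟩
  · have hwa : w a' = s := by
      rw [ha]
      exact hw_inv s hs
    have h1 : (⟨w a', hw_lt a' a'.isLt⟩ : Fin D.nroots) = ⟨s, hs⟩ := Fin.ext hwa
    rw [if_pos h1]
    simp only [if_pos ha, mul_sub]
    rw [Finset.sum_sub_distrib]
    simp only [mul_ite, mul_one, mul_zero, Finset.sum_ite_eq', Finset.mem_univ, if_true]
    rw [sum_fin_val_eq F i hi (fun j' => -((D.cartan j' (⟨w s, hw_lt s hs⟩ : Fin D.nroots) : ℤ) : F) *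
      (((η s : ℤ) : F) * t) * ((D.cartan j (D.simple i) : ℤ) : F))]
    simp only []
    rw [hwa, hh s hs j j.isLt]
    push_cast
    ring
  · have h1 : ¬ ((⟨w a', hw_lt a' a'.isLt⟩ : Fin D.nroots) = ⟨s, hs⟩) := by
      intro h
      apply ha
      apply Fin.ext
      have : w a' = s := congrArg Fin.val h
      simp only []
      rw [← this, hw_inv a' a'.isLt]
    rw [if_neg h1]
    simp [ha]


theorem list_range_sum_eq (n : ℕ) (f : ℕ → ℤ) :
    (((List.range n).map f).sum : ℤ) = ∑ k : Fin n, f k := by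
  rw [Fin.sum_univ_eq_sum_range (fun k => f k) n]
  induction n with
  | zero => simp
  | succ n ih => rw [List.range_succ, List.map_append, List.sum_append, ih, Finset.sum_range_succ]; simp

theorem conj_lr (hw_inj : Function.Injective w)
    (hw_neg : ∀ s < D.nroots, w (D.neg s) = D.neg (w s))
    (hη : ∀ x, η x * η x = 1)
    (hη_neg : ∀ s < D.nroots, η (D.neg s) = η s)
    (hg : ∀ s < D.nroots, ∀ i' < D.rank, (D.coroot.getD (w s) #[]).getD i' 0 =
      (D.coroot.getD s #[]).getD i' 0 - (if i' = i then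
        ((List.range D.rank).map fun j' => D.cartan j' (D.simple i) * (D.coroot.getD s #[]).getD j' 0).sum else 0))
    (s : ℕ) (hs : s < D.nroots) (t : F) (i' : Fin D.rank) (j : Fin D.nroots) :
    (∑ j' : Fin D.rank, nTarget D F i w η (Sum.inl i') (Sum.inl j') *
        D.xMat F ⟨s, hs⟩ t (Sum.inl j') (Sum.inr j)) +
      (∑ u : Fin D.nroots, nTarget D F i w η (Sum.inl i') (Sum.inr u) *
        D.xMat F ⟨s, hs⟩ t (Sum.inr u) (Sum.inr j)) =
    (∑ j' : Fin D.rank, D.xMat F ⟨w s, hw_lt s hs⟩ (((η s : ℤ) : F) * t) (Sum.inl i') (Sum.inl j') *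
        nTarget D F i w η (Sum.inl j') (Sum.inr j)) +
      (∑ u : Fin D.nroots, D.xMat F ⟨w s, hw_lt s hs⟩ (((η s : ℤ) : F) * t) (Sum.inl i') (Sum.inr u) *
        nTarget D F i w η (Sum.inr u) (Sum.inr j)) := by
  rw [sum_nT_rr_right D F i w η hw_lt j
    (fun u => D.xMat F ⟨w s, hw_lt s hs⟩ (((η s : ℤ) : F) * t) (Sum.inl i') (Sum.inr u))]
  simp only [nT_lr, zero_mul, mul_zero, Finset.sum_const_zero, add_zero, zero_add, xMat_lr, nT_ll]
  by_cases hj : j = ⟨s, hs⟩
  · have h1 : (⟨w j, hw_lt j j.isLt⟩ : Fin D.nroots) = ⟨w s, hw_lt s hs⟩ := by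
      apply Fin.ext
      simp only []
      rw [hj]
    rw [if_pos h1]
    simp [hj]
  · have h1 : ¬ ((⟨w j, hw_lt j j.isLt⟩ : Fin D.nroots) = ⟨w s, hw_lt s hs⟩) := by
      intro h
      apply hj
      apply Fin.ext
      exact hw_inj (congrArg Fin.val h)
    rw [if_neg h1]
    simp only [if_neg hj]
    by_cases hjn : (j : ℕ) = D.neg s
    · have h2 : w j = D.neg (w s) := by rw [hjn, hw_neg s hs]
      simp only [if_pos hjn, if_pos h2]
      have hηj : η j = η s := by rw [hjn, hη_neg s hs]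
      rw [hηj]
      have e1 : ((η s : ℤ) : F) * ((η s : ℤ) : F) = 1 := by rw [← Int.cast_mul, hη, Int.cast_one]
      simp only [sub_mul, Finset.sum_sub_distrib, ite_mul, one_mul, zero_mul, Finset.sum_ite_eq,
        Finset.mem_univ, if_true]
      rw [hg s hs i' i'.isLt]
      by_cases hi' : (i' : ℕ) = i
      · simp only [if_pos hi', list_range_sum_eq]
        push_cast
        have e2 : ∑ x : Fin D.rank, ((D.cartan (x : ℕ) (D.simple i) : ℤ) : F) *
            ((((D.coroot.getD s #[]).getD (x : ℕ) 0 : ℤ) : F) * t) =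
            (∑ x : Fin D.rank, ((D.cartan (x : ℕ) (D.simple i) : ℤ) : F) *
              (((D.coroot.getD s #[]).getD (x : ℕ) 0 : ℤ) : F)) * t := by
          rw [Finset.sum_mul]
          apply Finset.sum_congr rfl
          intro x _
          ring
        rw [e2]
        have e3 : ∀ X : F, X * (((η s : ℤ) : F) * t) * ((η s : ℤ) : F) = X * t * (((η s : ℤ) : F) * ((η s : ℤ) : F)) := by
          intro X
          ring
        rw [e3, e1, mul_one]
        ring
      · simp only [if_neg hi', Finset.sum_const_zero, sub_zero]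
        calc _ = (((D.coroot.getD s #[]).getD (i' : ℕ) 0 : ℤ) : F) * t * (((η s : ℤ) : F) * ((η s : ℤ) : F)) := by
              rw [e1, mul_one]
          _ = _ := by ring
    · have h2 : ¬ (w j = D.neg (w s)) := by
        intro h
        apply hjn
        rw [← hw_neg s hs] at h
        exact hw_inj h
      simp [hjn, h2]


include hw_inv in
theorem conj_rr (hw_inj : Function.Injective w)
    (hw_neg : ∀ s < D.nroots, w (D.neg s) = D.neg (w s))
    (hη : ∀ x, η x * η x = 1)
    (hη_neg : ∀ s < D.nroots, η (D.neg s) = η s)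
    (hperm : ∀ s < D.nroots,
      List.Perm ((flat (rowOf D s)).map (transport w η (η s))) (flat (rowOf D (w s))))
    (s : ℕ) (hs : s < D.nroots) (t : F) (a' j : Fin D.nroots) :
    (∑ j' : Fin D.rank, nTarget D F i w η (Sum.inr a') (Sum.inl j') *
        D.xMat F ⟨s, hs⟩ t (Sum.inl j') (Sum.inr j)) +
      (∑ u : Fin D.nroots, nTarget D F i w η (Sum.inr a') (Sum.inr u) *
        D.xMat F ⟨s, hs⟩ t (Sum.inr u) (Sum.inr j)) =
    (∑ j' : Fin D.rank, D.xMat F ⟨w s, hw_lt s hs⟩ (((η s : ℤ) : F) * t) (Sum.inr a') (Sum.inl j') *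
        nTarget D F i w η (Sum.inl j') (Sum.inr j)) +
      (∑ u : Fin D.nroots, D.xMat F ⟨w s, hw_lt s hs⟩ (((η s : ℤ) : F) * t) (Sum.inr a') (Sum.inr u) *
        nTarget D F i w η (Sum.inr u) (Sum.inr j)) := by
  rw [sum_nT_rr_right D F i w η hw_lt j
    (fun u => D.xMat F ⟨w s, hw_lt s hs⟩ (((η s : ℤ) : F) * t) (Sum.inr a') (Sum.inr u)),
    sum_nT_rr_left D F i w η hw_lt hw_inv a' (fun u => D.xMat F ⟨s, hs⟩ t (Sum.inr u) (Sum.inr j))]
  simp only [nT_lr, nT_rl, zero_mul, mul_zero, Finset.sum_const_zero, zero_add, xMat_rr]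
  have e1 : ((η s : ℤ) : F) * ((η s : ℤ) : F) = 1 := by rw [← Int.cast_mul, hη, Int.cast_one]
  have hwa : w (w a') = a' := hw_inv a' a'.isLt
  by_cases hj : j = ⟨s, hs⟩
  · -- column s
    have h1 : (⟨w j, hw_lt j j.isLt⟩ : Fin D.nroots) = ⟨w s, hw_lt s hs⟩ := by
      apply Fin.ext
      simp only []
      rw [hj]
    rw [if_pos h1, if_pos hj]
    by_cases ha : a' = ⟨w s, hw_lt s hs⟩
    · have h2 : (⟨w a', hw_lt a' a'.isLt⟩ : Fin D.nroots) = ⟨s, hs⟩ := by
        apply Fin.ext
        simp only []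
        rw [ha]
        exact hw_inv s hs
      have h3 : w a' = s := congrArg Fin.val h2
      rw [if_pos h2, if_pos ha, h3, hj]
      ring
    · have h2 : ¬ ((⟨w a', hw_lt a' a'.isLt⟩ : Fin D.nroots) = ⟨s, hs⟩) := by
        intro h
        apply ha
        apply Fin.ext
        have : w a' = s := congrArg Fin.val h
        simp only []
        rw [← this, hwa]
      rw [if_neg h2, if_neg ha]
      ring
  · have h1 : ¬ ((⟨w j, hw_lt j j.isLt⟩ : Fin D.nroots) = ⟨w s, hw_lt s hs⟩) := by
      intro h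
      apply hj
      apply Fin.ext
      exact hw_inj (congrArg Fin.val h)
    rw [if_neg h1, if_neg hj]
    -- the row index `w a'` equals the column index `j` iff `a' = w j`
    have hrow : ((⟨w a', hw_lt a' a'.isLt⟩ : Fin D.nroots) = j) ↔ (a' = ⟨w j, hw_lt j j.isLt⟩) := by
      constructor
      · intro h
        apply Fin.ext
        have : w a' = j := congrArg Fin.val h
        simp only []
        rw [← this, hwa]
      · intro h
        apply Fin.ext
        simp only []
        rw [h]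
        exact hw_inv j j.isLt
    have hrow_s : ((⟨w a', hw_lt a' a'.isLt⟩ : Fin D.nroots) = ⟨s, hs⟩) ↔ (a' = ⟨w s, hw_lt s hs⟩) := by
      constructor
      · intro h
        apply Fin.ext
        have : w a' = s := congrArg Fin.val h
        simp only []
        rw [← this, hwa]
      · intro h
        apply Fin.ext
        simp only []
        rw [h]
        exact hw_inv s hs
    by_cases hjn : (j : ℕ) = D.neg s
    · have h2 : w j = D.neg (w s) := by rw [hjn, hw_neg s hs]
      have hηj : η j = η s := by rw [hjn, hη_neg s hs]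
      simp only [if_pos hjn, if_pos h2]
      by_cases ha1 : a' = ⟨w j, hw_lt j j.isLt⟩
      · rw [if_pos (hrow.mpr ha1), if_pos ha1]
        have : w a' = j := by
          rw [ha1]
          exact hw_inv j j.isLt
        rw [this]
        ring
      · rw [if_neg (fun h => ha1 (hrow.mp h)), if_neg ha1]
        by_cases ha2 : a' = ⟨w s, hw_lt s hs⟩
        · rw [if_pos (hrow_s.mpr ha2), if_pos ha2]
          have : w a' = s := by
            rw [ha2]
            exact hw_inv s hs
          rw [this, hηj]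
          calc ((η s : ℤ) : F) * -(t ^ 2) = -(t ^ 2 * (((η s : ℤ) : F) * ((η s : ℤ) : F))) * ((η s : ℤ) : F) := by
                rw [e1]; ring
            _ = _ := by ring
        · rw [if_neg (fun h => ha2 (hrow_s.mp h)), if_neg ha2]
          ring
    · have h2 : ¬ (w j = D.neg (w s)) := by
        intro h
        apply hjn
        rw [← hw_neg s hs] at h
        exact hw_inj h
      simp only [if_neg hjn, if_neg h2]
      have hts := transport_sum D F s (w s) w η (η s) (hperm s hs) hw_inj hη (hη s) j (w a') t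
      rw [hwa] at hts
      rw [mul_add, add_mul, hts]
      congr 1
      by_cases ha1 : a' = ⟨w j, hw_lt j j.isLt⟩
      · rw [if_pos (hrow.mpr ha1), if_pos ha1]
        have : w a' = j := by
          rw [ha1]
          exact hw_inv j j.isLt
        rw [this]
        ring
      · rw [if_neg (fun h => ha1 (hrow.mp h)), if_neg ha1]
        ring


include hw_inv in
theorem conj_of_facts (hi : i < D.rank) (hw_inj : Function.Injective w)
    (hw_neg : ∀ s < D.nroots, w (D.neg s) = D.neg (w s))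
    (hη : ∀ x, η x * η x = 1)
    (hη_neg : ∀ s < D.nroots, η (D.neg s) = η s)
    (hperm : ∀ s < D.nroots,
      List.Perm ((flat (rowOf D s)).map (transport w η (η s))) (flat (rowOf D (w s))))
    (hg : ∀ s < D.nroots, ∀ i' < D.rank, (D.coroot.getD (w s) #[]).getD i' 0 =
      (D.coroot.getD s #[]).getD i' 0 - (if i' = i then
        ((List.range D.rank).map fun j' => D.cartan j' (D.simple i) * (D.coroot.getD s #[]).getD j' 0).sum else 0))
    (hh : ∀ s < D.nroots, ∀ j < D.rank,
      D.cartan j s = D.cartan j (w s) - D.cartan i (w s) * D.cartan j (D.simple i))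
    (s : ℕ) (hs : s < D.nroots) (t : F) :
    nTarget D F i w η * D.xMat F ⟨s, hs⟩ t =
      D.xMat F ⟨w s, hw_lt s hs⟩ (((η s : ℤ) : F) * t) * nTarget D F i w η := by
  ext a b
  rw [Matrix.mul_apply, Matrix.mul_apply, Fintype.sum_sum_type, Fintype.sum_sum_type]
  rcases a with i' | a' <;> rcases b with j | j
  · exact conj_ll D F i w η _ _ _ _ i' j
  · exact conj_lr D F i w η hw_lt hw_inj hw_neg hη hη_neg hg s hs t i' j
  · exact conj_rl D F i w η hw_lt hw_inv hi hh s hs t a' j
  · exact conj_rr D F i w η hw_lt hw_inv hw_inj hw_neg hη hη_neg hperm s hs t a' j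

end conj


/-- the reflection as a function on all indices (identity out of range) -/
def wFun (wp : ℕ) (s : ℕ) : ℕ := if s < D.nroots then wAt wp s else s

/-- order on chain quadruples by `(s, k)` -/
def keyLe (q q' : Quad) : Prop := q.1 * 4 + q.2.1 ≤ q'.1 * 4 + q'.2.1

instance : DecidableRel keyLe := fun _ _ => Nat.decLe _ _

/-- the transport check: the chain row of `w s` is the sorted signed `w`-image of the chain row of `s` -/
def checkX (w : ℕ → ℕ) (η : ℕ → ℤ) : Bool :=
  (List.range D.nroots).all fun s =>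
    decide (List.insertionSort keyLe ((flat (rowOf D s)).map (transport w η (η s))) = flat (rowOf D (w s)))

theorem perm_of_checkX (w : ℕ → ℕ) (η : ℕ → ℤ) (h : checkX D w η = true) (s : ℕ) (hs : s < D.nroots) :
    List.Perm ((flat (rowOf D s)).map (transport w η (η s))) (flat (rowOf D (w s))) := by
  unfold checkX at h
  rw [List.all_eq_true] at h
  have := h s (List.mem_range.mpr hs)
  simp only [decide_eq_true_eq] at this
  rw [← this]
  exact (List.perm_insertionSort _ _).symm

/-- all checks for one fundamental reflection -/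
def iCheck (i wp ep cP rP nP : ℕ) : Bool :=
  decide (i < D.rank) && decide (D.simple i < D.nroots) && decide (D.neg (D.simple i) < D.nroots) &&
  checkN D i (wFun D wp) (etaAt ep) &&
  ((List.range D.nroots).all fun s =>
    decide (wAt wp s = D.reflectRoot i s) && decide (wAt wp s < D.nroots) && decide (wAt wp (wAt wp s) = s)) &&
  ((List.range D.nroots).all fun s =>
    decide (negAt nP s < D.nroots) && decide (wAt wp (negAt nP s) = negAt nP (wAt wp s)) &&
      decide (etaAt ep (negAt nP s) = etaAt ep s)) &&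
  checkX D (wFun D wp) (etaAt ep) &&
  ((List.range D.nroots).all fun s => (List.range D.rank).all fun i' =>
    decide (crAt rP (wAt wp s) i' = crAt rP s i' - (if i' = i then
      ((List.range D.rank).map fun j' => cAt cP j' (D.simple i) * crAt rP s j').sum else 0))) &&
  ((List.range D.nroots).all fun s => (List.range D.rank).all fun j =>
    decide (cAt cP j s = cAt cP j (wAt wp s) - cAt cP i (wAt wp s) * cAt cP j (D.simple i))) &&
  decide (etaAt ep (D.simple i) = -1) && decide (etaAt ep (D.neg (D.simple i)) = -1) &&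
  ((List.range D.nroots).all fun s =>
    decide (etaAt ep s * etaAt ep (wAt wp s) = (-1) ^ (cAt cP i s).natAbs) &&
      decide (etaAt ep s * etaAt ep (negAt nP s) = 1))


variable (F : Type*) [Field F]

theorem iCheck_unpack {i wp ep cP rP nP : ℕ} (h : iCheck D i wp ep cP rP nP = true) :
    i < D.rank ∧ D.simple i < D.nroots ∧ D.neg (D.simple i) < D.nroots ∧
    checkN D i (wFun D wp) (etaAt ep) = true ∧
    (∀ s < D.nroots, wAt wp s = D.reflectRoot i s ∧ wAt wp s < D.nroots ∧ wAt wp (wAt wp s) = s) ∧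
    (∀ s < D.nroots, negAt nP s < D.nroots ∧ wAt wp (negAt nP s) = negAt nP (wAt wp s) ∧
      etaAt ep (negAt nP s) = etaAt ep s) ∧
    checkX D (wFun D wp) (etaAt ep) = true ∧
    (∀ s < D.nroots, ∀ i' < D.rank, crAt rP (wAt wp s) i' = crAt rP s i' - (if i' = i then
      ((List.range D.rank).map fun j' => cAt cP j' (D.simple i) * crAt rP s j').sum else 0)) ∧
    (∀ s < D.nroots, ∀ j < D.rank,
      cAt cP j s = cAt cP j (wAt wp s) - cAt cP i (wAt wp s) * cAt cP j (D.simple i)) ∧
    etaAt ep (D.simple i) = -1 ∧ etaAt ep (D.neg (D.simple i)) = -1 ∧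
    (∀ s < D.nroots, etaAt ep s * etaAt ep (wAt wp s) = (-1) ^ (cAt cP i s).natAbs ∧
      etaAt ep s * etaAt ep (negAt nP s) = 1) := by
  unfold iCheck at h
  simp only [Bool.and_eq_true, decide_eq_true_eq, List.all_eq_true, List.mem_range] at h
  obtain ⟨⟨⟨⟨⟨⟨⟨⟨⟨⟨⟨h1, h2⟩, h3⟩, h4⟩, h5⟩, h6⟩, h7⟩, h8⟩, h9⟩, h10⟩, h11⟩, h12⟩ := h
  refine ⟨h1, h2, h3, h4, ?_, ?_, h7, h8, h9, h10, h11, h12⟩
  · intro s hs
    obtain ⟨⟨a, b⟩, c⟩ := h5 s hs
    exact ⟨a, b, c⟩
  · intro s hs
    obtain ⟨⟨a, b⟩, c⟩ := h6 s hs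
    exact ⟨a, b, c⟩


theorem nMat_eq_of_iCheck {i wp ep cP rP nP : ℕ} (h : iCheck D i wp ep cP rP nP = true) :
    D.nMat F (D.simple i) 1 = nTarget D F i (wFun D wp) (etaAt ep) := by
  obtain ⟨_, h2, h3, h4, _⟩ := iCheck_unpack D h
  exact nMat_eq_of_checkN D F i _ _ h4 h2 h3

theorem wFun_of_lt (wp s : ℕ) (hs : s < D.nroots) : wFun D wp s = wAt wp s := by
  unfold wFun
  rw [if_pos hs]

theorem wFun_invol {i wp ep cP rP nP : ℕ} (h : iCheck D i wp ep cP rP nP = true) (s : ℕ) :
    wFun D wp (wFun D wp s) = s := by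
  obtain ⟨_, _, _, _, h5, _⟩ := iCheck_unpack D h
  by_cases hs : s < D.nroots
  · rw [wFun_of_lt D wp s hs, wFun_of_lt D wp _ (h5 s hs).2.1]
    exact (h5 s hs).2.2
  · have : wFun D wp s = s := by
      unfold wFun
      rw [if_neg hs]
    rw [this, this]

theorem conj_of_iCheck {i wp ep cP rP nP : ℕ} (htab : tabCheck D cP rP nP = true)
    (h : iCheck D i wp ep cP rP nP = true) (s : ℕ) (hs : s < D.nroots) (t : F) :
    D.nMat F (D.simple i) 1 * D.x F s t =
      D.x F (D.reflectRoot i s) (((etaAt ep s : ℤ) : F) * t) * D.nMat F (D.simple i) 1 := by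
  have hinv := wFun_invol D h
  obtain ⟨h1, h2, h3, h4, h5, h6, h7, h8, h9, _, _, _⟩ := iCheck_unpack D h
  have hw_lt : ∀ s < D.nroots, wFun D wp s < D.nroots := by
    intro s hs
    rw [wFun_of_lt D wp s hs]
    exact (h5 s hs).2.1
  have hw_inj : Function.Injective (wFun D wp) := by
    intro a b hab
    rw [← hinv a, ← hinv b, hab]
  have hrefl : D.reflectRoot i s = wFun D wp s := by
    rw [wFun_of_lt D wp s hs]
    exact (h5 s hs).1.symm
  rw [nMat_eq_of_iCheck D F h, hrefl]
  have hx1 : D.x F s t = D.xMat F ⟨s, hs⟩ t := by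
    unfold ChevalleyDatum.x
    rw [dif_pos hs]
  have hx2 : D.x F (wFun D wp s) (((etaAt ep s : ℤ) : F) * t) =
      D.xMat F ⟨wFun D wp s, hw_lt s hs⟩ (((etaAt ep s : ℤ) : F) * t) := by
    unfold ChevalleyDatum.x
    rw [dif_pos (hw_lt s hs)]
  rw [hx1, hx2]
  apply conj_of_facts D F i (wFun D wp) (etaAt ep) hw_lt (fun s _ => hinv s) h1 hw_inj
  · -- w and neg
    intro s hs
    rw [tab_neg D htab s hs, wFun_of_lt D wp _ (h6 s hs).1, wFun_of_lt D wp s hs,
      tab_neg D htab _ (h5 s hs).2.1]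
    exact (h6 s hs).2.1
  · exact etaAt_sq ep
  · intro s hs
    rw [tab_neg D htab s hs]
    exact (h6 s hs).2.2
  · exact perm_of_checkX D _ _ h7
  · intro s hs i' hi'
    rw [wFun_of_lt D wp s hs, tab_coroot D htab _ (h5 s hs).2.1 i' hi', tab_coroot D htab s hs i' hi',
      h8 s hs i' hi']
    congr 2
    apply congrArg
    apply List.map_congr_left
    intro j' hj'
    rw [List.mem_range] at hj'
    rw [tab_cartan D htab j' hj' _ h2, tab_coroot D htab s hs j' hj']
  · intro s hs j hj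
    rw [wFun_of_lt D wp s hs, tab_cartan D htab j hj s hs, tab_cartan D htab j hj _ (h5 s hs).2.1,
      tab_cartan D htab i h1 _ (h5 s hs).2.1, tab_cartan D htab j hj _ h2]
    exact h9 s hs j hj

theorem S1095_of_iCheck {i wp ep cP rP nP : ℕ} (htab : tabCheck D cP rP nP = true)
    (h : iCheck D i wp ep cP rP nP = true) :
    ∃ η : ℕ → ℤ, (∀ s < D.nroots, η s = 1 ∨ η s = -1) ∧ η (D.simple i) = -1 ∧ η (D.neg (D.simple i)) = -1 ∧
      (∀ s < D.nroots, η s * η (D.reflectRoot i s) = (-1) ^ (D.cartan i s).natAbs ∧ η s * η (D.neg s) = 1) ∧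
      D.nMat F (D.simple i) 1 = Matrix.of (fun (row col : D.Idx) =>
        Sum.elim
          (fun j' : Fin D.rank => Sum.elim
            (fun j : Fin D.rank => (if j' = j then (1 : F) else 0) - (if (j' : ℕ) = i then ((D.cartan j (D.simple i) : ℤ) : F) else 0))
            (fun _ => (0 : F)) col)
          (fun s' : Fin D.nroots => Sum.elim
            (fun _ => (0 : F))
            (fun s : Fin D.nroots => if (s' : ℕ) = D.reflectRoot i s then ((η s : ℤ) : F) else 0) col)
          row) := by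
  obtain ⟨h1, h2, h3, h4, h5, h6, h7, h8, h9, h10, h11, h12⟩ := iCheck_unpack D h
  refine ⟨etaAt ep, fun s _ => etaAt_cases ep s, h10, h11, ?_, ?_⟩
  · intro s hs
    rw [← (h5 s hs).1, tab_cartan D htab i h1 s hs, tab_neg D htab s hs]
    exact h12 s hs
  · rw [nMat_eq_of_iCheck D F h]
    unfold nTarget
    ext a b
    rcases a with j' | s' <;> rcases b with j | s
    · rfl
    · rfl
    · rfl
    · simp only [Matrix.of_apply, Sum.elim_inr]
      rw [wFun_of_lt D wp s s.isLt, (h5 s s.isLt).1]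

end Cfsg.Agent.Helper36
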