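import Cfsg.Agent.Helper36.ChevTabs
import Cfsg.Agent.Helper36.ChevParts

set_option autoImplicit false
set_option maxRecDepth 100000
open Cfsg Cfsg.Lie

/-! Kernel-checked reflection data for type E8, fundamental reflection 6 (checked in parts). -/

namespace Cfsg.Agent.Helper36

def wpE8_6 : ℕ := 89009267348776115946259729773659820922684365030336125747795389469672832738436486560006107076294386215399861108218061426761033223202858027703265974144867968881077088308644070388014335446175521462296218898606490586008687349314690079072884976809321978274044767002146488503282587066531463532201212884356974697146753815329103501718218155712615386612077501918825553327818300954160685785812314943431026242586854979814233718477042248871847137512423246283316098823861341191045350782894843980481615436882682789356038401372194376474142161795991775560137622389820726250948292215778419212800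
def epE8_6 : ℕ := 442146608110382968443535400616058046441516637287510334612417353510815746

theorem partE8_6_rest : checkRest chevE8 6 wpE8_6 epE8_6 cPE8 rPE8 nPE8 = true := by decide +kernel
theorem partE8_6_Nh : checkNh chevE8 6 = true := by decide +kernel
theorem partE8_6_N1 : checkNr chevE8 6 (wFun chevE8 wpE8_6) (etaAt epE8_6) 0 60 = true := by decide +kernel
theorem partE8_6_N2 : checkNr chevE8 6 (wFun chevE8 wpE8_6) (etaAt epE8_6) 60 60 = true := by decide +kernel
theorem partE8_6_N3 : checkNr chevE8 6 (wFun chevE8 wpE8_6) (etaAt epE8_6) 120 60 = true := by decide +kernel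
theorem partE8_6_N4 : checkNr chevE8 6 (wFun chevE8 wpE8_6) (etaAt epE8_6) 180 60 = true := by decide +kernel
theorem partE8_6_X1 : checkXr chevE8 (wFun chevE8 wpE8_6) (etaAt epE8_6) 0 60 = true := by decide +kernel
theorem partE8_6_X2 : checkXr chevE8 (wFun chevE8 wpE8_6) (etaAt epE8_6) 60 60 = true := by decide +kernel
theorem partE8_6_X3 : checkXr chevE8 (wFun chevE8 wpE8_6) (etaAt epE8_6) 120 60 = true := by decide +kernel
theorem partE8_6_X4 : checkXr chevE8 (wFun chevE8 wpE8_6) (etaAt epE8_6) 180 60 = true := by decide +kernel

theorem iCheckE8_6 : iCheck chevE8 6 wpE8_6 epE8_6 cPE8 rPE8 nPE8 = true :=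
  iCheck_of_parts chevE8 6 wpE8_6 epE8_6 cPE8 rPE8 nPE8 60 60 60 60 rfl partE8_6_rest partE8_6_Nh
    partE8_6_N1 partE8_6_N2 partE8_6_N3 partE8_6_N4 partE8_6_X1 partE8_6_X2 partE8_6_X3 partE8_6_X4

end Cfsg.Agent.Helper36
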