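import Cfsg.Agent.Helper36.ChevTabs

set_option autoImplicit false
set_option maxRecDepth 100000
open Cfsg Cfsg.Lie

/-! Kernel-checked reflection data for type G2. -/

namespace Cfsg.Agent.Helper36

def wpG2_0 : ℕ := 3411626608196089407097472256
def epG2_0 : ℕ := 1686
theorem iCheckG2_0 : iCheck chevG2 0 wpG2_0 epG2_0 cPG2 rPG2 nPG2 = true := by decide +kernel

def wpG2_1 : ℕ := 3108190913232640688152248321
def epG2_1 : ℕ := 2409
theorem iCheckG2_1 : iCheck chevG2 1 wpG2_1 epG2_1 cPG2 rPG2 nPG2 = true := by decide +kernel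

end Cfsg.Agent.Helper36
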