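import Cfsg.Prelude.Def_ChevStructure

set_option autoImplicit false
open Cfsg Cfsg.Lie

/-!
Numeric sparse simulation of root elements `x_r(ε)` (`ε` an integer) of a Chevalley datum on sparse
integer vectors, with soundness against `ChevalleyDatum.xMat`.
-/

namespace Cfsg.Agent.Helper36

/-- abstract coordinate index: `inl i` for `h_{p_i}`, `inr s` for `e_s` -/
abbrev SIdx := ℕ ⊕ ℕ
/-- sparse integer vector -/
abbrev SVec := List (SIdx × ℤ)

/-- total coefficient of an index in a sparse vector -/
def coef (v : SVec) (a : SIdx) : ℤ := ((v.filter fun bc => bc.1 = a).map fun bc => bc.2).sum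

theorem coef_nil (a : SIdx) : coef [] a = 0 := rfl

theorem coef_cons (b : SIdx) (c : ℤ) (v : SVec) (a : SIdx) :
    coef ((b, c) :: v) a = (if b = a then c else 0) + coef v a := by
  unfold coef
  by_cases h : b = a
  · simp [h]
  · simp [h]

theorem coef_append (v v' : SVec) (a : SIdx) : coef (v ++ v') a = coef v a + coef v' a := by
  unfold coef
  simp

theorem coef_eq_zero_of_not_mem (v : SVec) (a : SIdx) (h : ∀ bc ∈ v, bc.1 ≠ a) : coef v a = 0 := by
  induction v with
  | nil => rfl
  | cons bc v ih =>
    obtain ⟨b, c⟩ := bc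
    rw [coef_cons, ih (fun x hx => h x (List.mem_cons_of_mem _ hx))]
    have : b ≠ a := h (b, c) List.mem_cons_self
    simp [this]

theorem coef_map_scale (c : ℤ) (v : SVec) (a : SIdx) :
    coef (v.map fun ac => (ac.1, c * ac.2)) a = c * coef v a := by
  induction v with
  | nil => simp [coef_nil]
  | cons bc v ih =>
    obtain ⟨b, d⟩ := bc
    rw [List.map_cons, coef_cons, coef_cons, ih]
    by_cases h : b = a
    · simp [h, mul_add]
    · simp [h]

/-- Boolean test: equal coefficient functions -/
def sameVec (v v' : SVec) : Bool := (v ++ v').all fun bc => coef v bc.1 == coef v' bc.1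

theorem coef_eq_of_sameVec {v v' : SVec} (h : sameVec v v' = true) (a : SIdx) : coef v a = coef v' a := by
  unfold sameVec at h
  rw [List.all_eq_true] at h
  by_cases ha : ∃ bc ∈ v ++ v', bc.1 = a
  · obtain ⟨bc, hbc, rfl⟩ := ha
    simpa using h bc hbc
  · have ha' : ∀ bc ∈ v ++ v', bc.1 ≠ a := fun bc hbc hEq => ha ⟨bc, hbc, hEq⟩
    rw [coef_eq_zero_of_not_mem v a (fun bc hbc => ha' bc (List.mem_append_left _ hbc)),
      coef_eq_zero_of_not_mem v' a (fun bc hbc => ha' bc (List.mem_append_right _ hbc))]

/-- column of `x_r(ε)` at an abstract basis vector -/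
def xcol (D : ChevalleyDatum) (r : ℕ) (ε : ℤ) : SIdx → SVec
  | Sum.inl i =>
    if i < D.rank then [(Sum.inl i, 1), (Sum.inr r, -((D.cartanSR.getD i #[]).getD r 0) * ε)] else []
  | Sum.inr s =>
    if s < D.nroots then
      (if s = r then [(Sum.inr r, 1)]
      else if s = D.negIdx.getD r 0 then
        (Sum.inr s, 1) :: (Sum.inr r, -(ε ^ 2)) ::
          (List.range D.rank).map fun i => (Sum.inl i, (D.coroot.getD r #[]).getD i 0 * ε)
      else
        (Sum.inr s, 1) :: ((D.chain.getD r #[]).toList.filter (fun e => e.1 = s)).flatMap fun e =>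
          e.2.toList.zipIdx.map fun q => (Sum.inr q.1.1, q.1.2 * ε ^ (q.2 + 1)))
    else []

/-- `x_r(ε)` applied to a sparse vector -/
def applyX (D : ChevalleyDatum) (r : ℕ) (ε : ℤ) (v : SVec) : SVec :=
  v.flatMap fun bc => (xcol D r ε bc.1).map fun ac => (ac.1, bc.2 * ac.2)

theorem coef_applyX_cons (D : ChevalleyDatum) (r : ℕ) (ε : ℤ) (b : SIdx) (c : ℤ) (v : SVec) (a : SIdx) :
    coef (applyX D r ε ((b, c) :: v)) a = c * coef (xcol D r ε b) a + coef (applyX D r ε v) a := by
  unfold applyX
  rw [List.flatMap_cons, coef_append, coef_map_scale]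

variable (D : ChevalleyDatum)

/-- the abstract index of a coordinate -/
def toS : D.Idx → SIdx := Sum.map Fin.val Fin.val

theorem toS_injective : Function.Injective (toS D) := by
  intro a b h
  unfold toS at h
  rcases a with a | a <;> rcases b with b | b <;> simp [Sum.map] at h
  · exact congrArg Sum.inl (Fin.ext h)
  · exact congrArg Sum.inr (Fin.ext h)

variable (F : Type*) [Field F]

/-- semantic value of a sparse vector -/
def vecF (v : SVec) : D.Idx → F := fun a => ((coef v (toS D a) : ℤ) : F)

theorem vecF_eq_of_sameVec {v v' : SVec} (h : sameVec v v' = true) : vecF D F v = vecF D F v' := by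
  funext a
  unfold vecF
  rw [coef_eq_of_sameVec h]

theorem coef_chain_inner (ε : ℤ) (u : ℕ) (Q : List ((ℕ × ℤ) × ℕ)) :
    ((coef (Q.map fun q => ((Sum.inr q.1.1 : SIdx), q.1.2 * ε ^ (q.2 + 1))) (Sum.inr u) : ℤ) : F) =
      ((((Q.filter (fun q => q.1.1 = u)).map fun q => (q.2 + 1, q.1.2)).map
        fun km : ℕ × ℤ => ((km.2 : ℤ) : F) * (ε : F) ^ km.1)).sum := by
  induction Q with
  | nil => simp [coef_nil]
  | cons q Q ih =>
    rw [List.map_cons, coef_cons]
    by_cases h : q.1.1 = u
    · rw [List.filter_cons_of_pos (by simpa using h)]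
      simp only [List.map_cons, List.sum_cons]
      rw [← ih]
      simp [h]
    · rw [List.filter_cons_of_neg (by simpa using h)]
      rw [← ih]
      simp [h]

theorem coef_chain_outer (ε : ℤ) (u : ℕ) (L : List (ℕ × Array (ℕ × ℤ))) :
    ((coef (L.flatMap fun e => e.2.toList.zipIdx.map fun q => ((Sum.inr q.1.1 : SIdx), q.1.2 * ε ^ (q.2 + 1)))
        (Sum.inr u) : ℤ) : F) =
      (((L.flatMap fun e => ((e.2.toList.zipIdx).filter (fun q => q.1.1 = u)).map fun q => (q.2 + 1, q.1.2)).map
        fun km : ℕ × ℤ => ((km.2 : ℤ) : F) * (ε : F) ^ km.1)).sum := by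
  induction L with
  | nil => simp [coef_nil]
  | cons e L ih =>
    rw [List.flatMap_cons, coef_append, List.flatMap_cons, List.map_append, List.sum_append, ← ih,
      ← coef_chain_inner]
    push_cast
    rfl

theorem coef_chain_inl (ε : ℤ) (i : ℕ) (L : List (ℕ × Array (ℕ × ℤ))) :
    coef (L.flatMap fun e => e.2.toList.zipIdx.map fun q => ((Sum.inr q.1.1 : SIdx), q.1.2 * ε ^ (q.2 + 1)))
        (Sum.inl i) = 0 := by
  apply coef_eq_zero_of_not_mem
  intro bc hbc
  simp only [List.mem_flatMap, List.mem_map] at hbc
  obtain ⟨e, _, q, _, rfl⟩ := hbc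
  simp

theorem coef_range_map (n : ℕ) (f : ℕ → ℤ) (i : ℕ) (hi : i < n) :
    coef ((List.range n).map fun k => ((Sum.inl k : SIdx), f k)) (Sum.inl i) = f i := by
  induction n with
  | zero => omega
  | succ n ih =>
    rw [List.range_succ, List.map_append, coef_append]
    by_cases h : i < n
    · rw [ih h]
      simp [coef_cons, coef_nil]
      omega
    · have : i = n := by omega
      subst this
      rw [coef_eq_zero_of_not_mem]
      · simp [coef_cons, coef_nil]
      · intro bc hbc
        simp only [List.mem_map, List.mem_range] at hbc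
        obtain ⟨k, hk, rfl⟩ := hbc
        simp
        omega

theorem coef_range_map_inr (n : ℕ) (f : ℕ → ℤ) (u : ℕ) :
    coef ((List.range n).map fun k => ((Sum.inl k : SIdx), f k)) (Sum.inr u) = 0 := by
  apply coef_eq_zero_of_not_mem
  intro bc hbc
  simp only [List.mem_map] at hbc
  obtain ⟨k, _, rfl⟩ := hbc
  simp

theorem xcol_sound (r : Fin D.nroots) (ε : ℤ) (a b : D.Idx) :
    ((coef (xcol D r.val ε (toS D b)) (toS D a) : ℤ) : F) = D.xMat F r (ε : F) a b := by
  rcases b with i | s
  · -- Cartan column
    have hi : i.val < D.rank := i.isLt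
    rcases a with i' | u
    · simp only [toS, Sum.map_inl, xcol, if_pos hi, coef_cons, coef_nil, ChevalleyDatum.xMat, Matrix.of_apply]
      by_cases h : i' = i
      · subst h
        simp
      · have : ¬ (i.val = i'.val) := fun hh => h (Fin.ext hh.symm)
        simp [h, this]
    · simp only [toS, Sum.map_inl, Sum.map_inr, xcol, if_pos hi, coef_cons, coef_nil, ChevalleyDatum.xMat,
        Matrix.of_apply]
      by_cases h : u = r
      · subst h
        simp
      · have : ¬ (r.val = u.val) := fun hh => h (Fin.ext hh.symm)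
        simp [h, this]
  · have hs : s.val < D.nroots := s.isLt
    by_cases hsr : s = r
    · subst hsr
      rcases a with i' | u
      · simp [toS, xcol, hs, coef_cons, coef_nil, ChevalleyDatum.xMat]
      · simp only [toS, Sum.map_inr, xcol, if_pos hs, if_true, coef_cons, coef_nil, ChevalleyDatum.xMat,
          Matrix.of_apply]
        by_cases h : u = s
        · subst h
          simp
        · have : ¬ (s.val = u.val) := fun hh => h (Fin.ext hh.symm)
          simp [h, this]
    · have hsr' : ¬ (s.val = r.val) := fun hh => hsr (Fin.ext hh)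
      by_cases hneg : s.val = D.negIdx.getD r.val 0
      · rcases a with i' | u
        · simp only [toS, Sum.map_inr, Sum.map_inl, xcol, if_pos hs, if_neg hsr', if_pos hneg, coef_cons,
            ChevalleyDatum.xMat, Matrix.of_apply, if_neg hsr]
          rw [coef_range_map _ _ _ i'.isLt]
          simp
        · simp only [toS, Sum.map_inr, xcol, if_pos hs, if_neg hsr', if_pos hneg, coef_cons,
            ChevalleyDatum.xMat, Matrix.of_apply, if_neg hsr]
          rw [coef_range_map_inr]
          by_cases h1 : u = s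
          · subst h1
            simp
            intro hh
            exact absurd hh.symm hsr'
          · have h1' : ¬ (s.val = u.val) := fun hh => h1 (Fin.ext hh.symm)
            by_cases h2 : u = r
            · subst h2
              simp [h1, h1']
            · have h2' : ¬ (r.val = u.val) := fun hh => h2 (Fin.ext hh.symm)
              simp [h1, h1', h2, h2']
      · rcases a with i' | u
        · simp only [toS, Sum.map_inr, Sum.map_inl, xcol, if_pos hs, if_neg hsr', if_neg hneg, coef_cons,
            ChevalleyDatum.xMat, Matrix.of_apply, if_neg hsr]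
          rw [coef_chain_inl]
          simp
        · simp only [toS, Sum.map_inr, xcol, if_pos hs, if_neg hsr', if_neg hneg, coef_cons,
            ChevalleyDatum.xMat, Matrix.of_apply, if_neg hsr]
          push_cast
          rw [coef_chain_outer]
          unfold ChevalleyDatum.chainCoeff
          by_cases h1 : u = s
          · subst h1
            simp
          · have h1' : ¬ (s.val = u.val) := fun hh => h1 (Fin.ext hh.symm)
            simp [h1, h1']


theorem xcol_out_of_range (r : ℕ) (ε : ℤ) (b : SIdx) (hb : ∀ b' : D.Idx, toS D b' ≠ b) :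
    xcol D r ε b = [] := by
  rcases b with i | s
  · have : ¬ i < D.rank := fun h => hb (Sum.inl ⟨i, h⟩) rfl
    simp [xcol, this]
  · have : ¬ s < D.nroots := fun h => hb (Sum.inr ⟨s, h⟩) rfl
    simp [xcol, this]

theorem vecF_cons_in (b' : D.Idx) (c : ℤ) (v : SVec) :
    vecF D F ((toS D b', c) :: v) = ((c : ℤ) : F) • Pi.single b' (1 : F) + vecF D F v := by
  funext a
  unfold vecF
  rw [coef_cons]
  by_cases h : b' = a
  · subst h
    simp
  · have : ¬ (toS D b' = toS D a) := fun hh => h (toS_injective D hh)
    simp [this, Ne.symm h]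

theorem vecF_cons_out (b : SIdx) (hb : ∀ b' : D.Idx, toS D b' ≠ b) (c : ℤ) (v : SVec) :
    vecF D F ((b, c) :: v) = vecF D F v := by
  funext a
  unfold vecF
  rw [coef_cons]
  have : ¬ (b = toS D a) := fun hh => hb a hh.symm
  simp [this]

theorem applyX_sound (r : Fin D.nroots) (ε : ℤ) (v : SVec) :
    vecF D F (applyX D r.val ε v) = (D.xMat F r (ε : F)).mulVec (vecF D F v) := by
  induction v with
  | nil =>
    funext a
    simp [vecF, applyX, coef_nil, Matrix.mulVec, dotProduct]
  | cons bc v ih =>
    obtain ⟨b, c⟩ := bc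
    by_cases hb : ∃ b' : D.Idx, toS D b' = b
    · obtain ⟨b', rfl⟩ := hb
      rw [vecF_cons_in, Matrix.mulVec_add, Matrix.mulVec_smul, Matrix.mulVec_single_one, ← ih]
      funext a
      simp only [vecF, coef_applyX_cons, Pi.add_apply, Pi.smul_apply, smul_eq_mul, Matrix.col_apply]
      push_cast
      rw [xcol_sound]
    · have hb' : ∀ b' : D.Idx, toS D b' ≠ b := fun b' hh => hb ⟨b', hh⟩
      rw [vecF_cons_out D F b hb', ← ih]
      funext a
      simp only [vecF, coef_applyX_cons]
      rw [xcol_out_of_range D r.val ε b hb']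
      simp [coef_nil]


/-- simulated column of `n_{p_i} = x_p(1) x_{-p}(-1) x_p(1)` -/
def ncolS (i : ℕ) (b : SIdx) : SVec :=
  applyX D (D.simple i) 1 (applyX D (D.neg (D.simple i)) (-1) (applyX D (D.simple i) 1 [(b, 1)]))

theorem vecF_single (b' : D.Idx) : vecF D F [(toS D b', 1)] = Pi.single b' (1 : F) := by
  rw [vecF_cons_in]
  funext a
  simp [vecF, coef_nil]

theorem ncolS_sound (i : ℕ) (hp : D.simple i < D.nroots) (hnp : D.neg (D.simple i) < D.nroots) (a b' : D.Idx) :
    vecF D F (ncolS D i (toS D b')) a = D.nMat F (D.simple i) 1 a b' := by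
  have h1 : D.nMat F (D.simple i) 1 =
      D.xMat F ⟨D.simple i, hp⟩ ((1 : ℤ) : F) * (D.xMat F ⟨D.neg (D.simple i), hnp⟩ ((-1 : ℤ) : F) *
        D.xMat F ⟨D.simple i, hp⟩ ((1 : ℤ) : F)) := by
    unfold ChevalleyDatum.nMat ChevalleyDatum.wordMat ChevalleyDatum.nWord
    simp only [List.map_cons, List.map_nil, List.prod_cons, List.prod_nil, mul_one, ChevalleyDatum.x, dif_pos hp,
      dif_pos hnp]
    simp
  have h2 : D.nMat F (D.simple i) 1 a b' = ((D.nMat F (D.simple i) 1).mulVec (Pi.single b' (1 : F))) a := by
    rw [Matrix.mulVec_single_one]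
    rfl
  rw [h2, h1, ← Matrix.mulVec_mulVec, ← Matrix.mulVec_mulVec, ← vecF_single]
  unfold ncolS
  rw [applyX_sound D F ⟨D.simple i, hp⟩, applyX_sound D F ⟨D.neg (D.simple i), hnp⟩,
    applyX_sound D F ⟨D.simple i, hp⟩]

/-- the Boolean check that the simulated columns of `n_{p_i}` are those of the signed monomial matrix -/
def checkN (i : ℕ) (w : ℕ → ℕ) (η : ℕ → ℤ) : Bool :=
  ((List.range D.rank).all fun j =>
    sameVec (ncolS D i (Sum.inl j)) [(Sum.inl j, 1), (Sum.inl i, - D.cartan j (D.simple i))]) &&
  ((List.range D.nroots).all fun s => sameVec (ncolS D i (Sum.inr s)) [(Sum.inr (w s), η s)])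

theorem nMat_eq_of_checkN (i : ℕ) (w : ℕ → ℕ) (η : ℕ → ℤ) (h : checkN D i w η = true)
    (hp : D.simple i < D.nroots) (hnp : D.neg (D.simple i) < D.nroots) :
    D.nMat F (D.simple i) 1 = Matrix.of (fun (row col : D.Idx) =>
        Sum.elim
          (fun j' : Fin D.rank => Sum.elim
            (fun j : Fin D.rank => (if j' = j then (1 : F) else 0) - (if (j' : ℕ) = i then ((D.cartan j (D.simple i) : ℤ) : F) else 0))
            (fun _ => (0 : F)) col)
          (fun s' : Fin D.nroots => Sum.elim
            (fun _ => (0 : F))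
            (fun s : Fin D.nroots => if (s' : ℕ) = w s then ((η s : ℤ) : F) else 0) col)
          row) := by
  unfold checkN at h
  rw [Bool.and_eq_true, List.all_eq_true, List.all_eq_true] at h
  obtain ⟨hh, he⟩ := h
  ext a b'
  rw [← ncolS_sound D F i hp hnp a b', Matrix.of_apply]
  rcases b' with j | s
  · have := hh j.val (List.mem_range.mpr j.isLt)
    have h3 : vecF D F (ncolS D i (toS D (Sum.inl j))) = _ := vecF_eq_of_sameVec D F this
    rw [h3]
    rcases a with j' | s'
    · simp only [vecF, toS, Sum.map_inl, coef_cons, coef_nil, Sum.elim_inl]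
      by_cases h1 : j' = j
      · subst h1
        by_cases h2 : j'.val = i
        · simp [h2]
          ring
        · have : ¬ (i = j'.val) := fun hh => h2 hh.symm
          simp [h2, this]
      · have h1' : ¬ (j.val = j'.val) := fun hh => h1 (Fin.ext hh.symm)
        by_cases h2 : j'.val = i
        · have h4 : ¬ (j.val = i) := fun hh => h1' (hh.trans h2.symm)
          simp [h1, h2, h4]
        · have : ¬ (i = j'.val) := fun hh => h2 hh.symm
          simp [h1, h1', h2, this]
    · simp [vecF, toS, coef_cons, coef_nil]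
  · have := he s.val (List.mem_range.mpr s.isLt)
    have h3 : vecF D F (ncolS D i (toS D (Sum.inr s))) = _ := vecF_eq_of_sameVec D F this
    rw [h3]
    rcases a with j' | s'
    · simp [vecF, toS, coef_cons, coef_nil]
    · simp only [vecF, toS, Sum.map_inr, coef_cons, coef_nil, Sum.elim_inr]
      by_cases h1 : s'.val = w s.val
      · simp [h1]
      · have : ¬ (w s.val = s'.val) := fun hh => h1 hh.symm
        simp [h1, this]

end Cfsg.Agent.Helper36
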