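import Mathlib
import Cfsg.Prelude.Def_ChevStructure
import Cfsg.Prelude.Def_LieExceptional
import Cfsg.Agent.Helper36.Perfect

/-!
Helper36: irreducibility of the (B,N)-pair of a Chevalley group (from the action of the `n_p` on
root subgroups), and simplicity from the abstract simplicity criterion for (B,N)-pairs.
-/

set_option autoImplicit false

namespace Cfsg.Agent.Helper36.ChevSimple

open Cfsg Cfsg.Lie Cfsg.Agent.Helper40.ChevAdd Cfsg.Agent.Helper36.Perfect

section Gen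

variable {F : Type*} [Field F] (D : ChevalleyDatum) (hadd : addOK D = true)

/-- `n_{p_i} = n_{p_i}(1)` as an element of the general linear group -/
def nGL (F : Type*) [Field F] (D : ChevalleyDatum) (hadd : addOK D = true) (i : ℕ) : GL D.Idx F :=
  wordGL D hadd (D.nWord (D.simple i) (1 : F))

theorem coe_nGL (i : ℕ) :
    ((nGL F D hadd i : GL D.Idx F) : Matrix D.Idx D.Idx F) = D.nMat F (D.simple i) 1 :=
  coe_wordGL D hadd _

theorem nGL_mem (i : ℕ) : nGL F D hadd i ∈ D.group F := wordGL_mem D hadd _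

/-- the action of `n_p` on root elements, as a hypothesis -/
def NConjHyp (F : Type*) [Field F] (D : ChevalleyDatum) : Prop :=
  ∀ i s, i < D.rank → s < D.nroots → ∃ η : ℤ, (η = 1 ∨ η = -1) ∧
    ∀ t : F, D.nMat F (D.simple i) 1 * D.x F s t
      = D.x F (D.reflectRoot i s) ((η : F) * t) * D.nMat F (D.simple i) 1

/-- `(i, j, m)`: the root `w_j w_i m` is positive and the root `w_i w_j m` is negative -/
def wit (D : ChevalleyDatum) (e : ℕ × ℕ × ℕ) : Bool :=
  decide (e.1 < D.rank) && decide (e.2.1 < D.rank) && decide (e.2.2 < D.nroots) &&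
  decide (D.reflectRoot e.1 e.2.2 < D.nroots) && decide (D.reflectRoot e.2.1 e.2.2 < D.nroots) &&
  decide (D.IsPosRoot (D.reflectRoot e.2.1 (D.reflectRoot e.1 e.2.2))) &&
  decide (D.IsNegRoot (D.reflectRoot e.1 (D.reflectRoot e.2.1 e.2.2)))

theorem intCast_ne_zero_of_pm (η : ℤ) (h : η = 1 ∨ η = -1) : ((η : ℤ) : F) ≠ 0 := by
  rcases h with rfl | rfl
  · simp
  · simp

include hadd in
theorem comm_not_mem_borel (hn : NConjHyp F D)
    (hBV : D.borelSubgroup F ⊓ D.negUnipotent F = ⊥)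
    (hinj : ∀ r, r < D.nroots → ∀ t : F, D.x F r t = 1 → t = 0)
    (i j m : ℕ) (hw : wit D (i, j, m) = true) (Ni Nj : GL D.Idx F)
    (hNi : (Ni : Matrix D.Idx D.Idx F) = D.nMat F (D.simple i) 1)
    (hNj : (Nj : Matrix D.Idx D.Idx F) = D.nMat F (D.simple j) 1) :
    Ni * Nj * Ni⁻¹ * Nj⁻¹ ∉ D.borelSubgroup F := by
  unfold wit at hw
  simp only [Bool.and_eq_true, decide_eq_true_eq] at hw
  obtain ⟨⟨⟨⟨⟨⟨hi, hj⟩, hm⟩, him⟩, hjm⟩, hpos⟩, hneg⟩ := hw
  obtain ⟨η1, h1, e1⟩ := hn i m hi hm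
  obtain ⟨η2, h2, e2⟩ := hn j _ hj him
  obtain ⟨η3, h3, e3⟩ := hn j m hj hm
  obtain ⟨η4, h4, e4⟩ := hn i _ hi hjm
  have E1 : ∀ t : F, Ni * xGL D hadd F m t = xGL D hadd F (D.reflectRoot i m) ((η1 : F) * t) * Ni := by
    intro t; apply Units.ext; rw [Units.val_mul, Units.val_mul, hNi]; exact e1 t
  have E2 : ∀ t : F, Nj * xGL D hadd F (D.reflectRoot i m) t
      = xGL D hadd F (D.reflectRoot j (D.reflectRoot i m)) ((η2 : F) * t) * Nj := by
    intro t; apply Units.ext; rw [Units.val_mul, Units.val_mul, hNj]; exact e2 t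
  have E3 : ∀ t : F, Nj * xGL D hadd F m t = xGL D hadd F (D.reflectRoot j m) ((η3 : F) * t) * Nj := by
    intro t; apply Units.ext; rw [Units.val_mul, Units.val_mul, hNj]; exact e3 t
  have E4 : ∀ t : F, Ni * xGL D hadd F (D.reflectRoot j m) t
      = xGL D hadd F (D.reflectRoot i (D.reflectRoot j m)) ((η4 : F) * t) * Ni := by
    intro t; apply Units.ext; rw [Units.val_mul, Units.val_mul, hNi]; exact e4 t
  set r := D.reflectRoot j (D.reflectRoot i m) with hr
  set r' := D.reflectRoot i (D.reflectRoot j m) with hr'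
  have A : Nj * Ni * xGL D hadd F m 1 = xGL D hadd F r ((η2 : F) * ((η1 : F) * 1)) * (Nj * Ni) := by
    rw [mul_assoc, E1, ← mul_assoc, E2, mul_assoc]
  have B : Ni * Nj * xGL D hadd F m 1 = xGL D hadd F r' ((η4 : F) * ((η3 : F) * 1)) * (Ni * Nj) := by
    rw [mul_assoc, E3, ← mul_assoc, E4, mul_assoc]
  intro hg
  have hA : xGL D hadd F m 1 = (Nj * Ni)⁻¹ * xGL D hadd F r ((η2 : F) * ((η1 : F) * 1)) * (Nj * Ni) := by
    rw [mul_assoc, ← A]; group
  have hB : xGL D hadd F r' ((η4 : F) * ((η3 : F) * 1)) = (Ni * Nj) * xGL D hadd F m 1 * (Ni * Nj)⁻¹ := by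
    rw [B]; group
  have hC : xGL D hadd F r' ((η4 : F) * ((η3 : F) * 1))
      = (Ni * Nj * Ni⁻¹ * Nj⁻¹) * xGL D hadd F r ((η2 : F) * ((η1 : F) * 1)) * (Ni * Nj * Ni⁻¹ * Nj⁻¹)⁻¹ := by
    rw [hB, hA]; group
  have hU : xGL D hadd F r ((η2 : F) * ((η1 : F) * 1)) ∈ D.borelSubgroup F := by
    apply (le_sup_left : D.posUnipotent F ≤ D.borelSubgroup F)
    exact Subgroup.subset_closure ⟨r, _, hpos, rfl⟩
  have hV : xGL D hadd F r' ((η4 : F) * ((η3 : F) * 1)) ∈ D.negUnipotent F :=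
    Subgroup.subset_closure ⟨r', _, hneg, rfl⟩
  have hBm : xGL D hadd F r' ((η4 : F) * ((η3 : F) * 1)) ∈ D.borelSubgroup F := by
    rw [hC]
    exact Subgroup.mul_mem _ (Subgroup.mul_mem _ hg hU) (Subgroup.inv_mem _ hg)
  have h1' : xGL D hadd F r' ((η4 : F) * ((η3 : F) * 1)) = 1 := by
    have : xGL D hadd F r' ((η4 : F) * ((η3 : F) * 1)) ∈ D.borelSubgroup F ⊓ D.negUnipotent F := ⟨hBm, hV⟩
    rw [hBV] at this
    exact Subgroup.mem_bot.mp this
  have h0 : (η4 : F) * ((η3 : F) * 1) = 0 := by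
    apply hinj r' hneg.1
    have := congrArg (fun g : GL D.Idx F => (g : Matrix D.Idx D.Idx F)) h1'
    simpa using this
  rw [mul_one] at h0
  rcases mul_eq_zero.mp h0 with h | h
  · exact intCast_ne_zero_of_pm η4 h4 h
  · exact intCast_ne_zero_of_pm η3 h3 h

end Gen

/-- one step of the reachability computation along the edges `E` -/
def grow (E : List (ℕ × ℕ × ℕ)) (L : List ℕ) : List ℕ :=
  L ++ (E.filter fun e => L.contains e.1).map fun e => e.2.1

/-- all edges are witnessed and every node reaches every node -/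
def connOK (D : ChevalleyDatum) (E : List (ℕ × ℕ × ℕ)) : Bool :=
  E.all (wit D) && (List.range D.rank).all fun a => (List.range D.rank).all fun y =>
    ((grow E)^[D.rank] [a]).contains y

theorem grow_subset (E : List (ℕ × ℕ × ℕ)) (I : Set ℕ)
    (hcl : ∀ e ∈ E, e.1 ∈ I → e.2.1 ∈ I) (L : List ℕ) (hL : ∀ x ∈ L, x ∈ I) :
    ∀ x ∈ grow E L, x ∈ I := by
  intro x hx
  unfold grow at hx
  rcases List.mem_append.mp hx with h | h
  · exact hL x h
  · rw [List.mem_map] at h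
    obtain ⟨e, he, rfl⟩ := h
    rw [List.mem_filter] at he
    refine hcl e he.1 (hL _ ?_)
    simpa using he.2

theorem iterate_grow_subset (E : List (ℕ × ℕ × ℕ)) (I : Set ℕ)
    (hcl : ∀ e ∈ E, e.1 ∈ I → e.2.1 ∈ I) (k : ℕ) (L : List ℕ) (hL : ∀ x ∈ L, x ∈ I) :
    ∀ x ∈ (grow E)^[k] L, x ∈ I := by
  induction k generalizing L with
  | zero => simpa using hL
  | succ k ih =>
    rw [Function.iterate_succ_apply]
    exact ih _ (grow_subset E I hcl L hL)

section Irr

variable {F : Type*} [Field F] (D : ChevalleyDatum) (hadd : addOK D = true)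

include hadd in
theorem irreducible_of_connOK (hn : NConjHyp F D)
    (hBV : D.borelSubgroup F ⊓ D.negUnipotent F = ⊥)
    (hinj : ∀ r, r < D.nroots → ∀ t : F, D.x F r t = 1 → t = 0)
    (E : List (ℕ × ℕ × ℕ)) (hE : connOK D E = true)
    (P : Cfsg.BNPair ↥(D.group F))
    (hB : P.B = (D.borelSubgroup F).subgroupOf (D.group F))
    (hS : P.S = {n : ↥(D.group F) | ∃ i < D.rank,
      ((n : GL D.Idx F) : Matrix D.Idx D.Idx F) = D.nMat F (D.simple i) 1}) :
    P.Irreducible := by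
  unfold connOK at hE
  rw [Bool.and_eq_true, List.all_eq_true, List.all_eq_true] at hE
  obtain ⟨hwit, hreach⟩ := hE
  intro J hJS hJne hcne
  by_contra hno
  have hno' : ∀ s ∈ J, ∀ s' ∈ P.S \ J, s * s' * s⁻¹ * s'⁻¹ ∈ P.B := by
    intro s hs s' hs'
    by_contra h
    exact hno ⟨s, hs, s', hs', h⟩
  set I : Set ℕ := {i | i < D.rank ∧ ∃ n ∈ J,
    ((n : GL D.Idx F) : Matrix D.Idx D.Idx F) = D.nMat F (D.simple i) 1} with hI
  have hcl : ∀ e ∈ E, e.1 ∈ I → e.2.1 ∈ I := by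
    intro e he hx
    obtain ⟨i, j, m⟩ := e
    obtain ⟨hi, n, hnJ, hnm⟩ := hx
    have hw := hwit _ he
    have hj : j < D.rank := by
      unfold wit at hw
      simp only [Bool.and_eq_true, decide_eq_true_eq] at hw
      exact hw.1.1.1.1.1.2
    by_contra hy
    set ny : ↥(D.group F) := ⟨nGL F D hadd j, nGL_mem D hadd j⟩ with hny
    have hnyS : ny ∈ P.S := by
      rw [hS]
      exact ⟨j, hj, coe_nGL D hadd j⟩
    have hnyJ : ny ∉ J := by
      intro h
      exact hy ⟨hj, ny, h, coe_nGL D hadd j⟩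
    have hmem := hno' n hnJ ny ⟨hnyS, hnyJ⟩
    rw [hB, Subgroup.mem_subgroupOf] at hmem
    refine comm_not_mem_borel D hadd hn hBV hinj i j m hw (n : GL D.Idx F) (nGL F D hadd j) hnm
      (coe_nGL D hadd j) ?_
    simpa using hmem
  obtain ⟨n0, hn0⟩ := hJne
  obtain ⟨a, ha, hn0m⟩ : ∃ i < D.rank,
      ((n0 : GL D.Idx F) : Matrix D.Idx D.Idx F) = D.nMat F (D.simple i) 1 := by
    have := hJS hn0
    rw [hS] at this
    exact this
  have haI : a ∈ I := ⟨ha, n0, hn0, hn0m⟩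
  obtain ⟨n1, hn1S, hn1J⟩ := hcne
  obtain ⟨y, hy, hn1m⟩ : ∃ i < D.rank,
      ((n1 : GL D.Idx F) : Matrix D.Idx D.Idx F) = D.nMat F (D.simple i) 1 := by
    rw [hS] at hn1S
    exact hn1S
  have hyI : y ∈ I := by
    have h1 := hreach a (List.mem_range.mpr ha)
    rw [List.all_eq_true] at h1
    have h2 := h1 y (List.mem_range.mpr hy)
    refine iterate_grow_subset E I hcl D.rank [a] ?_ y (by simpa using h2)
    intro x hx
    rw [List.mem_singleton] at hx
    rw [hx]; exact haI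
  obtain ⟨_, n2, hn2J, hn2m⟩ := hyI
  apply hn1J
  have : n1 = n2 := by
    apply Subtype.ext
    apply Units.ext
    rw [hn1m, hn2m]
  rw [this]; exact hn2J

end Irr

end Cfsg.Agent.Helper36.ChevSimple
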