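import Cfsg.Agent.Helper36.ChevSimple
import Cfsg.Prelude.Def_ChevG2
import Cfsg.Prelude.Def_ChevB2
import Cfsg.Prelude.Def_ChevD4
import Cfsg.Prelude.Def_ChevF4
import Cfsg.Prelude.Def_ChevE6
import Cfsg.Prelude.Def_ChevE7
import Cfsg.Prelude.Def_ChevE8

/-!
Helper36: connectivity certificates of the Dynkin diagrams of the seven tabulated types and the
simplicity of the Chevalley groups from the (B,N)-pair simplicity criterion, with all the
ingredients as hypotheses.
-/

set_option autoImplicit false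

namespace Cfsg.Agent.Helper36.ChevSimple

open Cfsg Cfsg.Lie Cfsg.Agent.Helper40.ChevAdd Cfsg.Agent.Helper36.Perfect

def edgesG2 : List (ℕ × ℕ × ℕ) := [(0, 1, 1), (1, 0, 3)]
def edgesB2 : List (ℕ × ℕ × ℕ) := [(0, 1, 0), (1, 0, 1)]
def edgesD4 : List (ℕ × ℕ × ℕ) := [(0, 1, 5), (1, 0, 9), (1, 2, 9), (1, 3, 9), (2, 1, 10), (3, 1, 11)]
def edgesF4 : List (ℕ × ℕ × ℕ) := [(0, 1, 14), (1, 0, 20), (1, 2, 17), (2, 1, 19), (2, 3, 22), (3, 2, 23)]
def edgesE6 : List (ℕ × ℕ × ℕ) :=
  [(0, 2, 15), (1, 3, 25), (2, 0, 29), (2, 3, 29), (3, 1, 32), (3, 2, 32), (3, 4, 32), (4, 3, 34), (4, 5, 34),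
    (5, 4, 35)]
def edgesE7 : List (ℕ × ℕ × ℕ) :=
  [(0, 2, 32), (1, 3, 47), (2, 0, 52), (2, 3, 52), (3, 1, 56), (3, 2, 56), (3, 4, 56), (4, 3, 59), (4, 5, 59),
    (5, 4, 61), (5, 6, 61), (6, 5, 62)]
def edgesE8 : List (ℕ × ℕ × ℕ) :=
  [(0, 2, 77), (1, 3, 98), (2, 0, 104), (2, 3, 104), (3, 1, 109), (3, 2, 109), (3, 4, 109), (4, 3, 113), (4, 5, 113),
    (5, 4, 116), (5, 6, 116), (6, 5, 118), (6, 7, 118), (7, 6, 119)]

theorem connOK_G2 : connOK chevG2 edgesG2 = true := by decide +kernel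
theorem connOK_B2 : connOK chevB2 edgesB2 = true := by decide +kernel
theorem connOK_D4 : connOK chevD4 edgesD4 = true := by decide +kernel
theorem connOK_F4 : connOK chevF4 edgesF4 = true := by decide +kernel
theorem connOK_E6 : connOK chevE6 edgesE6 = true := by decide +kernel
theorem connOK_E7 : connOK chevE7 edgesE7 = true := by decide +kernel
theorem connOK_E8 : connOK chevE8 edgesE8 = true := by decide +kernel

theorem exists_edges (D : ChevalleyDatum)
    (hD : D ∈ [chevG2, chevB2, chevD4, chevF4, chevE6, chevE7, chevE8]) :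
    ∃ E, connOK D E = true := by
  simp only [List.mem_cons, List.not_mem_nil, or_false] at hD
  rcases hD with rfl | rfl | rfl | rfl | rfl | rfl | rfl
  · exact ⟨_, connOK_G2⟩
  · exact ⟨_, connOK_B2⟩
  · exact ⟨_, connOK_D4⟩
  · exact ⟨_, connOK_F4⟩
  · exact ⟨_, connOK_E6⟩
  · exact ⟨_, connOK_E7⟩
  · exact ⟨_, connOK_E8⟩

theorem nroots_pos (D : ChevalleyDatum)
    (hD : D ∈ [chevG2, chevB2, chevD4, chevF4, chevE6, chevE7, chevE8]) : 0 < D.nroots := by
  simp only [List.mem_cons, List.not_mem_nil, or_false] at hD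
  rcases hD with rfl | rfl | rfl | rfl | rfl | rfl | rfl <;> decide

/-- simplicity of the Chevalley group from its (B,N)-pair, perfectness, solvability of `B` and
triviality of the core of `B` -/
theorem simple_of_facts {F : Type*} [Field F] (D : ChevalleyDatum)
    (hD : D ∈ [chevG2, chevB2, chevD4, chevF4, chevE6, chevE7, chevE8])
    (hn : NConjHyp F D)
    (hBV : D.borelSubgroup F ⊓ D.negUnipotent F = ⊥)
    (hinj : ∀ r, r < D.nroots → ∀ t : F, D.x F r t = 1 → t = 0)
    (hBN : ∃ P : Cfsg.BNPair ↥(D.group F),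
      P.B = (D.borelSubgroup F).subgroupOf (D.group F) ∧
      P.N = (D.monomialSubgroup F).subgroupOf (D.group F) ∧
      P.S = {n : ↥(D.group F) | ∃ i < D.rank,
        ((n : GL D.Idx F) : Matrix D.Idx D.Idx F) = D.nMat F (D.simple i) 1})
    (hperf : commutator ↥(D.group F) = ⊤)
    (hsolv : Group.IsSolvable ↥(D.borelSubgroup F))
    (hcore : ((D.borelSubgroup F).subgroupOf (D.group F)).normalCore = ⊥)
    (hcrit : ∀ (P : Cfsg.BNPair ↥(D.group F)), Nontrivial ↥(D.group F) → P.Irreducible →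
      Group.IsSolvable P.B → commutator ↥(D.group F) = ⊤ → P.B.normalCore = ⊥ →
      IsSimpleGroup ↥(D.group F)) :
    IsSimpleGroup ↥(D.group F) ∧ ¬ IsMulCommutative ↥(D.group F) := by
  have hadd : addOK D = true := addOK_of_mem hD
  obtain ⟨E, hE⟩ := exists_edges D hD
  obtain ⟨P, hB, _, hS⟩ := hBN
  have hirr : P.Irreducible := irreducible_of_connOK D hadd hn hBV hinj E hE P hB hS
  -- nontriviality
  have hnt : Nontrivial ↥(D.group F) := by
    refine ⟨⟨⟨xGL D hadd F 0 1, xGL_mem D hadd 0 1⟩, 1, ?_⟩⟩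
    intro h
    have h1 : D.x F 0 (1 : F) = 1 := by
      have := congrArg (fun g : ↥(D.group F) => ((g : GL D.Idx F) : Matrix D.Idx D.Idx F)) h
      simpa using this
    exact one_ne_zero (hinj 0 (nroots_pos D hD) 1 h1)
  have hsolvB : Group.IsSolvable P.B := by
    rw [hB]
    have hf : Function.Injective ((D.group F).subtype.subgroupComap (D.borelSubgroup F)) := by
      intro a b h
      apply Subtype.ext
      apply Subtype.ext
      have := congrArg (fun g : ↥(D.borelSubgroup F) => (g : GL D.Idx F)) h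
      exact this
    exact @Group.isSolvable_of_isSolvable_injective _ _ _ _ _ hf hsolv
  refine ⟨hcrit P hnt hirr hsolvB hperf (by rw [hB]; exact hcore), ?_⟩
  intro hcomm
  obtain ⟨a, b, hab⟩ := hnt
  have hbot : commutator ↥(D.group F) = ⊥ := by
    rw [commutator_def, Subgroup.commutator_eq_bot_iff_le_centralizer]
    intro g _
    rw [Subgroup.mem_centralizer_iff]
    intro h _
    exact hcomm.is_comm.comm h g
  rw [hbot] at hperf
  have ha : a ∈ (⊤ : Subgroup ↥(D.group F)) := Subgroup.mem_top a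
  have hb : b ∈ (⊤ : Subgroup ↥(D.group F)) := Subgroup.mem_top b
  rw [← hperf, Subgroup.mem_bot] at ha hb
  exact hab (ha.trans hb.symm)

end Cfsg.Agent.Helper36.ChevSimple
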