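import Cfsg.Agent.Helper36.G2Short
import Cfsg.Agent.Helper18.Tw.D4Defs

/-!
Helper36: the relations among the positive root elements of `D₄` in characteristic two, oriented as a collection process
(the order of the roots is `18, 13, 12, 14, 19, 16, 15, 21, 20, 17, 22, 23`, increasing height).
-/

set_option autoImplicit false
set_option maxRecDepth 100000

namespace Cfsg.Agent.Helper36.D4Rel

open Cfsg Cfsg.Lie Cfsg.Agent.Helper18 Cfsg.Agent.Helper19.Twist

variable {K : Type*} [Field K] [CharP K 2]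

local notation "x" => Cfsg.Agent.Helper18.xGL chevD4 K

theorem x_zero (r : ℕ) (hr : r < chevD4.nroots) : x r 0 = 1 := by
  have h := Cfsg.Agent.Helper19.Poinc.xGL_mul chevD4 memD4 (F := K) r hr 0 0
  rw [add_zero] at h
  exact (mul_eq_left (a := x r 0) (b := x r 0)).mp h

theorem add_18 (p q : K) : x 18 p * x 18 q = x 18 (p + q) :=
  Cfsg.Agent.Helper19.Poinc.xGL_mul chevD4 memD4 18 (by decide) p q
theorem add_18' (p q : K) (w : GL chevD4.Idx K) : x 18 p * (x 18 q * w) = x 18 (p + q) * w := by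
  rw [← mul_assoc, add_18]
theorem zero_18 : x 18 (0 : K) = 1 := x_zero 18 (by decide)
theorem sq_18 (p : K) : x 18 p * x 18 p = 1 := by
  rw [add_18, CharTwo.add_self_eq_zero, zero_18]
theorem sq_18' (p : K) (w : GL chevD4.Idx K) : x 18 p * (x 18 p * w) = w := by
  rw [← mul_assoc, sq_18, one_mul]
theorem inv_18 (p : K) : (x 18 p)⁻¹ = x 18 p := inv_eq_of_mul_eq_one_right (sq_18 p)

theorem add_13 (p q : K) : x 13 p * x 13 q = x 13 (p + q) :=
  Cfsg.Agent.Helper19.Poinc.xGL_mul chevD4 memD4 13 (by decide) p q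
theorem add_13' (p q : K) (w : GL chevD4.Idx K) : x 13 p * (x 13 q * w) = x 13 (p + q) * w := by
  rw [← mul_assoc, add_13]
theorem zero_13 : x 13 (0 : K) = 1 := x_zero 13 (by decide)
theorem sq_13 (p : K) : x 13 p * x 13 p = 1 := by
  rw [add_13, CharTwo.add_self_eq_zero, zero_13]
theorem sq_13' (p : K) (w : GL chevD4.Idx K) : x 13 p * (x 13 p * w) = w := by
  rw [← mul_assoc, sq_13, one_mul]
theorem inv_13 (p : K) : (x 13 p)⁻¹ = x 13 p := inv_eq_of_mul_eq_one_right (sq_13 p)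

theorem add_12 (p q : K) : x 12 p * x 12 q = x 12 (p + q) :=
  Cfsg.Agent.Helper19.Poinc.xGL_mul chevD4 memD4 12 (by decide) p q
theorem add_12' (p q : K) (w : GL chevD4.Idx K) : x 12 p * (x 12 q * w) = x 12 (p + q) * w := by
  rw [← mul_assoc, add_12]
theorem zero_12 : x 12 (0 : K) = 1 := x_zero 12 (by decide)
theorem sq_12 (p : K) : x 12 p * x 12 p = 1 := by
  rw [add_12, CharTwo.add_self_eq_zero, zero_12]
theorem sq_12' (p : K) (w : GL chevD4.Idx K) : x 12 p * (x 12 p * w) = w := by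
  rw [← mul_assoc, sq_12, one_mul]
theorem inv_12 (p : K) : (x 12 p)⁻¹ = x 12 p := inv_eq_of_mul_eq_one_right (sq_12 p)

theorem add_14 (p q : K) : x 14 p * x 14 q = x 14 (p + q) :=
  Cfsg.Agent.Helper19.Poinc.xGL_mul chevD4 memD4 14 (by decide) p q
theorem add_14' (p q : K) (w : GL chevD4.Idx K) : x 14 p * (x 14 q * w) = x 14 (p + q) * w := by
  rw [← mul_assoc, add_14]
theorem zero_14 : x 14 (0 : K) = 1 := x_zero 14 (by decide)
theorem sq_14 (p : K) : x 14 p * x 14 p = 1 := by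
  rw [add_14, CharTwo.add_self_eq_zero, zero_14]
theorem sq_14' (p : K) (w : GL chevD4.Idx K) : x 14 p * (x 14 p * w) = w := by
  rw [← mul_assoc, sq_14, one_mul]
theorem inv_14 (p : K) : (x 14 p)⁻¹ = x 14 p := inv_eq_of_mul_eq_one_right (sq_14 p)

theorem add_19 (p q : K) : x 19 p * x 19 q = x 19 (p + q) :=
  Cfsg.Agent.Helper19.Poinc.xGL_mul chevD4 memD4 19 (by decide) p q
theorem add_19' (p q : K) (w : GL chevD4.Idx K) : x 19 p * (x 19 q * w) = x 19 (p + q) * w := by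
  rw [← mul_assoc, add_19]
theorem zero_19 : x 19 (0 : K) = 1 := x_zero 19 (by decide)
theorem sq_19 (p : K) : x 19 p * x 19 p = 1 := by
  rw [add_19, CharTwo.add_self_eq_zero, zero_19]
theorem sq_19' (p : K) (w : GL chevD4.Idx K) : x 19 p * (x 19 p * w) = w := by
  rw [← mul_assoc, sq_19, one_mul]
theorem inv_19 (p : K) : (x 19 p)⁻¹ = x 19 p := inv_eq_of_mul_eq_one_right (sq_19 p)

theorem add_16 (p q : K) : x 16 p * x 16 q = x 16 (p + q) :=
  Cfsg.Agent.Helper19.Poinc.xGL_mul chevD4 memD4 16 (by decide) p q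
theorem add_16' (p q : K) (w : GL chevD4.Idx K) : x 16 p * (x 16 q * w) = x 16 (p + q) * w := by
  rw [← mul_assoc, add_16]
theorem zero_16 : x 16 (0 : K) = 1 := x_zero 16 (by decide)
theorem sq_16 (p : K) : x 16 p * x 16 p = 1 := by
  rw [add_16, CharTwo.add_self_eq_zero, zero_16]
theorem sq_16' (p : K) (w : GL chevD4.Idx K) : x 16 p * (x 16 p * w) = w := by
  rw [← mul_assoc, sq_16, one_mul]
theorem inv_16 (p : K) : (x 16 p)⁻¹ = x 16 p := inv_eq_of_mul_eq_one_right (sq_16 p)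

theorem add_15 (p q : K) : x 15 p * x 15 q = x 15 (p + q) :=
  Cfsg.Agent.Helper19.Poinc.xGL_mul chevD4 memD4 15 (by decide) p q
theorem add_15' (p q : K) (w : GL chevD4.Idx K) : x 15 p * (x 15 q * w) = x 15 (p + q) * w := by
  rw [← mul_assoc, add_15]
theorem zero_15 : x 15 (0 : K) = 1 := x_zero 15 (by decide)
theorem sq_15 (p : K) : x 15 p * x 15 p = 1 := by
  rw [add_15, CharTwo.add_self_eq_zero, zero_15]
theorem sq_15' (p : K) (w : GL chevD4.Idx K) : x 15 p * (x 15 p * w) = w := by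
  rw [← mul_assoc, sq_15, one_mul]
theorem inv_15 (p : K) : (x 15 p)⁻¹ = x 15 p := inv_eq_of_mul_eq_one_right (sq_15 p)

theorem add_21 (p q : K) : x 21 p * x 21 q = x 21 (p + q) :=
  Cfsg.Agent.Helper19.Poinc.xGL_mul chevD4 memD4 21 (by decide) p q
theorem add_21' (p q : K) (w : GL chevD4.Idx K) : x 21 p * (x 21 q * w) = x 21 (p + q) * w := by
  rw [← mul_assoc, add_21]
theorem zero_21 : x 21 (0 : K) = 1 := x_zero 21 (by decide)
theorem sq_21 (p : K) : x 21 p * x 21 p = 1 := by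
  rw [add_21, CharTwo.add_self_eq_zero, zero_21]
theorem sq_21' (p : K) (w : GL chevD4.Idx K) : x 21 p * (x 21 p * w) = w := by
  rw [← mul_assoc, sq_21, one_mul]
theorem inv_21 (p : K) : (x 21 p)⁻¹ = x 21 p := inv_eq_of_mul_eq_one_right (sq_21 p)

theorem add_20 (p q : K) : x 20 p * x 20 q = x 20 (p + q) :=
  Cfsg.Agent.Helper19.Poinc.xGL_mul chevD4 memD4 20 (by decide) p q
theorem add_20' (p q : K) (w : GL chevD4.Idx K) : x 20 p * (x 20 q * w) = x 20 (p + q) * w := by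
  rw [← mul_assoc, add_20]
theorem zero_20 : x 20 (0 : K) = 1 := x_zero 20 (by decide)
theorem sq_20 (p : K) : x 20 p * x 20 p = 1 := by
  rw [add_20, CharTwo.add_self_eq_zero, zero_20]
theorem sq_20' (p : K) (w : GL chevD4.Idx K) : x 20 p * (x 20 p * w) = w := by
  rw [← mul_assoc, sq_20, one_mul]
theorem inv_20 (p : K) : (x 20 p)⁻¹ = x 20 p := inv_eq_of_mul_eq_one_right (sq_20 p)

theorem add_17 (p q : K) : x 17 p * x 17 q = x 17 (p + q) :=
  Cfsg.Agent.Helper19.Poinc.xGL_mul chevD4 memD4 17 (by decide) p q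
theorem add_17' (p q : K) (w : GL chevD4.Idx K) : x 17 p * (x 17 q * w) = x 17 (p + q) * w := by
  rw [← mul_assoc, add_17]
theorem zero_17 : x 17 (0 : K) = 1 := x_zero 17 (by decide)
theorem sq_17 (p : K) : x 17 p * x 17 p = 1 := by
  rw [add_17, CharTwo.add_self_eq_zero, zero_17]
theorem sq_17' (p : K) (w : GL chevD4.Idx K) : x 17 p * (x 17 p * w) = w := by
  rw [← mul_assoc, sq_17, one_mul]
theorem inv_17 (p : K) : (x 17 p)⁻¹ = x 17 p := inv_eq_of_mul_eq_one_right (sq_17 p)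

theorem add_22 (p q : K) : x 22 p * x 22 q = x 22 (p + q) :=
  Cfsg.Agent.Helper19.Poinc.xGL_mul chevD4 memD4 22 (by decide) p q
theorem add_22' (p q : K) (w : GL chevD4.Idx K) : x 22 p * (x 22 q * w) = x 22 (p + q) * w := by
  rw [← mul_assoc, add_22]
theorem zero_22 : x 22 (0 : K) = 1 := x_zero 22 (by decide)
theorem sq_22 (p : K) : x 22 p * x 22 p = 1 := by
  rw [add_22, CharTwo.add_self_eq_zero, zero_22]
theorem sq_22' (p : K) (w : GL chevD4.Idx K) : x 22 p * (x 22 p * w) = w := by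
  rw [← mul_assoc, sq_22, one_mul]
theorem inv_22 (p : K) : (x 22 p)⁻¹ = x 22 p := inv_eq_of_mul_eq_one_right (sq_22 p)

theorem add_23 (p q : K) : x 23 p * x 23 q = x 23 (p + q) :=
  Cfsg.Agent.Helper19.Poinc.xGL_mul chevD4 memD4 23 (by decide) p q
theorem add_23' (p q : K) (w : GL chevD4.Idx K) : x 23 p * (x 23 q * w) = x 23 (p + q) * w := by
  rw [← mul_assoc, add_23]
theorem zero_23 : x 23 (0 : K) = 1 := x_zero 23 (by decide)
theorem sq_23 (p : K) : x 23 p * x 23 p = 1 := by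
  rw [add_23, CharTwo.add_self_eq_zero, zero_23]
theorem sq_23' (p : K) (w : GL chevD4.Idx K) : x 23 p * (x 23 p * w) = w := by
  rw [← mul_assoc, sq_23, one_mul]
theorem inv_23 (p : K) : (x 23 p)⁻¹ = x 23 p := inv_eq_of_mul_eq_one_right (sq_23 p)

theorem sw_13_18 (p q : K) : x 13 p * x 18 q = x 18 q * x 13 p :=
  (Cfsg.Agent.Helper36.RootCent.xGL_commute2 chevD4 memD4 18 13 (by decide) q p).eq
theorem sw_13_18' (p q : K) (w : GL chevD4.Idx K) : x 13 p * (x 18 q * w) = x 18 q * (x 13 p * w) := by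
  rw [← mul_assoc, sw_13_18, mul_assoc]

theorem sw_12_18 (p q : K) : x 12 p * x 18 q = x 18 q * x 12 p :=
  (Cfsg.Agent.Helper36.RootCent.xGL_commute2 chevD4 memD4 18 12 (by decide) q p).eq
theorem sw_12_18' (p q : K) (w : GL chevD4.Idx K) : x 12 p * (x 18 q * w) = x 18 q * (x 12 p * w) := by
  rw [← mul_assoc, sw_12_18, mul_assoc]

theorem sw_12_13 (p q : K) : x 12 p * x 13 q = x 13 q * x 12 p :=
  (Cfsg.Agent.Helper36.RootCent.xGL_commute2 chevD4 memD4 13 12 (by decide) q p).eq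
theorem sw_12_13' (p q : K) (w : GL chevD4.Idx K) : x 12 p * (x 13 q * w) = x 13 q * (x 12 p * w) := by
  rw [← mul_assoc, sw_12_13, mul_assoc]

theorem sw_14_18 (p q : K) : x 14 p * x 18 q = x 18 q * (x 14 p * x 19 (q * p)) := by
  rw [Cfsg.Agent.Helper36.G2Short.comm1 chevD4 memD4 18 14 19 (-1) (by decide) (by decide) (by decide) (by decide)
    (by decide) (by decide) q p,
    mul_assoc]
theorem sw_14_18' (p q : K) (w : GL chevD4.Idx K) :
    x 14 p * (x 18 q * w) = x 18 q * (x 14 p * (x 19 (q * p) * w)) := by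
  rw [← mul_assoc, sw_14_18, mul_assoc, mul_assoc]

theorem sw_14_13 (p q : K) : x 14 p * x 13 q = x 13 q * (x 14 p * x 16 (q * p)) := by
  rw [Cfsg.Agent.Helper36.G2Short.comm1 chevD4 memD4 13 14 16 (1) (by decide) (by decide) (by decide) (by decide)
    (by decide) (by decide) q p,
    mul_assoc]
theorem sw_14_13' (p q : K) (w : GL chevD4.Idx K) :
    x 14 p * (x 13 q * w) = x 13 q * (x 14 p * (x 16 (q * p) * w)) := by
  rw [← mul_assoc, sw_14_13, mul_assoc, mul_assoc]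

theorem sw_14_12 (p q : K) : x 14 p * x 12 q = x 12 q * (x 14 p * x 15 (q * p)) := by
  rw [Cfsg.Agent.Helper36.G2Short.comm1 chevD4 memD4 12 14 15 (1) (by decide) (by decide) (by decide) (by decide)
    (by decide) (by decide) q p,
    mul_assoc]
theorem sw_14_12' (p q : K) (w : GL chevD4.Idx K) :
    x 14 p * (x 12 q * w) = x 12 q * (x 14 p * (x 15 (q * p) * w)) := by
  rw [← mul_assoc, sw_14_12, mul_assoc, mul_assoc]

theorem sw_19_18 (p q : K) : x 19 p * x 18 q = x 18 q * x 19 p :=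
  (Cfsg.Agent.Helper36.RootCent.xGL_commute2 chevD4 memD4 18 19 (by decide) q p).eq
theorem sw_19_18' (p q : K) (w : GL chevD4.Idx K) : x 19 p * (x 18 q * w) = x 18 q * (x 19 p * w) := by
  rw [← mul_assoc, sw_19_18, mul_assoc]

theorem sw_19_13 (p q : K) : x 19 p * x 13 q = x 13 q * (x 19 p * x 21 (q * p)) := by
  rw [Cfsg.Agent.Helper36.G2Short.comm1 chevD4 memD4 13 19 21 (1) (by decide) (by decide) (by decide) (by decide)
    (by decide) (by decide) q p,
    mul_assoc]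
theorem sw_19_13' (p q : K) (w : GL chevD4.Idx K) :
    x 19 p * (x 13 q * w) = x 13 q * (x 19 p * (x 21 (q * p) * w)) := by
  rw [← mul_assoc, sw_19_13, mul_assoc, mul_assoc]

theorem sw_19_12 (p q : K) : x 19 p * x 12 q = x 12 q * (x 19 p * x 20 (q * p)) := by
  rw [Cfsg.Agent.Helper36.G2Short.comm1 chevD4 memD4 12 19 20 (1) (by decide) (by decide) (by decide) (by decide)
    (by decide) (by decide) q p,
    mul_assoc]
theorem sw_19_12' (p q : K) (w : GL chevD4.Idx K) :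
    x 19 p * (x 12 q * w) = x 12 q * (x 19 p * (x 20 (q * p) * w)) := by
  rw [← mul_assoc, sw_19_12, mul_assoc, mul_assoc]

theorem sw_19_14 (p q : K) : x 19 p * x 14 q = x 14 q * x 19 p :=
  (Cfsg.Agent.Helper36.RootCent.xGL_commute2 chevD4 memD4 14 19 (by decide) q p).eq
theorem sw_19_14' (p q : K) (w : GL chevD4.Idx K) : x 19 p * (x 14 q * w) = x 14 q * (x 19 p * w) := by
  rw [← mul_assoc, sw_19_14, mul_assoc]

theorem sw_16_18 (p q : K) : x 16 p * x 18 q = x 18 q * (x 16 p * x 21 (q * p)) := by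
  rw [Cfsg.Agent.Helper36.G2Short.comm1 chevD4 memD4 18 16 21 (-1) (by decide) (by decide) (by decide) (by decide)
    (by decide) (by decide) q p,
    mul_assoc]
theorem sw_16_18' (p q : K) (w : GL chevD4.Idx K) :
    x 16 p * (x 18 q * w) = x 18 q * (x 16 p * (x 21 (q * p) * w)) := by
  rw [← mul_assoc, sw_16_18, mul_assoc, mul_assoc]

theorem sw_16_13 (p q : K) : x 16 p * x 13 q = x 13 q * x 16 p :=
  (Cfsg.Agent.Helper36.RootCent.xGL_commute2 chevD4 memD4 13 16 (by decide) q p).eq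
theorem sw_16_13' (p q : K) (w : GL chevD4.Idx K) : x 16 p * (x 13 q * w) = x 13 q * (x 16 p * w) := by
  rw [← mul_assoc, sw_16_13, mul_assoc]

theorem sw_16_12 (p q : K) : x 16 p * x 12 q = x 12 q * (x 16 p * x 17 (q * p)) := by
  rw [Cfsg.Agent.Helper36.G2Short.comm1 chevD4 memD4 12 16 17 (1) (by decide) (by decide) (by decide) (by decide)
    (by decide) (by decide) q p,
    mul_assoc]
theorem sw_16_12' (p q : K) (w : GL chevD4.Idx K) :
    x 16 p * (x 12 q * w) = x 12 q * (x 16 p * (x 17 (q * p) * w)) := by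
  rw [← mul_assoc, sw_16_12, mul_assoc, mul_assoc]

theorem sw_16_14 (p q : K) : x 16 p * x 14 q = x 14 q * x 16 p :=
  (Cfsg.Agent.Helper36.RootCent.xGL_commute2 chevD4 memD4 14 16 (by decide) q p).eq
theorem sw_16_14' (p q : K) (w : GL chevD4.Idx K) : x 16 p * (x 14 q * w) = x 14 q * (x 16 p * w) := by
  rw [← mul_assoc, sw_16_14, mul_assoc]

theorem sw_16_19 (p q : K) : x 16 p * x 19 q = x 19 q * x 16 p :=
  (Cfsg.Agent.Helper36.RootCent.xGL_commute2 chevD4 memD4 19 16 (by decide) q p).eq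
theorem sw_16_19' (p q : K) (w : GL chevD4.Idx K) : x 16 p * (x 19 q * w) = x 19 q * (x 16 p * w) := by
  rw [← mul_assoc, sw_16_19, mul_assoc]

theorem sw_15_18 (p q : K) : x 15 p * x 18 q = x 18 q * (x 15 p * x 20 (q * p)) := by
  rw [Cfsg.Agent.Helper36.G2Short.comm1 chevD4 memD4 18 15 20 (-1) (by decide) (by decide) (by decide) (by decide)
    (by decide) (by decide) q p,
    mul_assoc]
theorem sw_15_18' (p q : K) (w : GL chevD4.Idx K) :
    x 15 p * (x 18 q * w) = x 18 q * (x 15 p * (x 20 (q * p) * w)) := by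
  rw [← mul_assoc, sw_15_18, mul_assoc, mul_assoc]

theorem sw_15_13 (p q : K) : x 15 p * x 13 q = x 13 q * (x 15 p * x 17 (q * p)) := by
  rw [Cfsg.Agent.Helper36.G2Short.comm1 chevD4 memD4 13 15 17 (1) (by decide) (by decide) (by decide) (by decide)
    (by decide) (by decide) q p,
    mul_assoc]
theorem sw_15_13' (p q : K) (w : GL chevD4.Idx K) :
    x 15 p * (x 13 q * w) = x 13 q * (x 15 p * (x 17 (q * p) * w)) := by
  rw [← mul_assoc, sw_15_13, mul_assoc, mul_assoc]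

theorem sw_15_12 (p q : K) : x 15 p * x 12 q = x 12 q * x 15 p :=
  (Cfsg.Agent.Helper36.RootCent.xGL_commute2 chevD4 memD4 12 15 (by decide) q p).eq
theorem sw_15_12' (p q : K) (w : GL chevD4.Idx K) : x 15 p * (x 12 q * w) = x 12 q * (x 15 p * w) := by
  rw [← mul_assoc, sw_15_12, mul_assoc]

theorem sw_15_14 (p q : K) : x 15 p * x 14 q = x 14 q * x 15 p :=
  (Cfsg.Agent.Helper36.RootCent.xGL_commute2 chevD4 memD4 14 15 (by decide) q p).eq
theorem sw_15_14' (p q : K) (w : GL chevD4.Idx K) : x 15 p * (x 14 q * w) = x 14 q * (x 15 p * w) := by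
  rw [← mul_assoc, sw_15_14, mul_assoc]

theorem sw_15_19 (p q : K) : x 15 p * x 19 q = x 19 q * x 15 p :=
  (Cfsg.Agent.Helper36.RootCent.xGL_commute2 chevD4 memD4 19 15 (by decide) q p).eq
theorem sw_15_19' (p q : K) (w : GL chevD4.Idx K) : x 15 p * (x 19 q * w) = x 19 q * (x 15 p * w) := by
  rw [← mul_assoc, sw_15_19, mul_assoc]

theorem sw_15_16 (p q : K) : x 15 p * x 16 q = x 16 q * x 15 p :=
  (Cfsg.Agent.Helper36.RootCent.xGL_commute2 chevD4 memD4 16 15 (by decide) q p).eq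
theorem sw_15_16' (p q : K) (w : GL chevD4.Idx K) : x 15 p * (x 16 q * w) = x 16 q * (x 15 p * w) := by
  rw [← mul_assoc, sw_15_16, mul_assoc]

theorem sw_21_18 (p q : K) : x 21 p * x 18 q = x 18 q * x 21 p :=
  (Cfsg.Agent.Helper36.RootCent.xGL_commute2 chevD4 memD4 18 21 (by decide) q p).eq
theorem sw_21_18' (p q : K) (w : GL chevD4.Idx K) : x 21 p * (x 18 q * w) = x 18 q * (x 21 p * w) := by
  rw [← mul_assoc, sw_21_18, mul_assoc]

theorem sw_21_13 (p q : K) : x 21 p * x 13 q = x 13 q * x 21 p :=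
  (Cfsg.Agent.Helper36.RootCent.xGL_commute2 chevD4 memD4 13 21 (by decide) q p).eq
theorem sw_21_13' (p q : K) (w : GL chevD4.Idx K) : x 21 p * (x 13 q * w) = x 13 q * (x 21 p * w) := by
  rw [← mul_assoc, sw_21_13, mul_assoc]

theorem sw_21_12 (p q : K) : x 21 p * x 12 q = x 12 q * (x 21 p * x 22 (q * p)) := by
  rw [Cfsg.Agent.Helper36.G2Short.comm1 chevD4 memD4 12 21 22 (1) (by decide) (by decide) (by decide) (by decide)
    (by decide) (by decide) q p,
    mul_assoc]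
theorem sw_21_12' (p q : K) (w : GL chevD4.Idx K) :
    x 21 p * (x 12 q * w) = x 12 q * (x 21 p * (x 22 (q * p) * w)) := by
  rw [← mul_assoc, sw_21_12, mul_assoc, mul_assoc]

theorem sw_21_14 (p q : K) : x 21 p * x 14 q = x 14 q * x 21 p :=
  (Cfsg.Agent.Helper36.RootCent.xGL_commute2 chevD4 memD4 14 21 (by decide) q p).eq
theorem sw_21_14' (p q : K) (w : GL chevD4.Idx K) : x 21 p * (x 14 q * w) = x 14 q * (x 21 p * w) := by
  rw [← mul_assoc, sw_21_14, mul_assoc]

theorem sw_21_19 (p q : K) : x 21 p * x 19 q = x 19 q * x 21 p :=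
  (Cfsg.Agent.Helper36.RootCent.xGL_commute2 chevD4 memD4 19 21 (by decide) q p).eq
theorem sw_21_19' (p q : K) (w : GL chevD4.Idx K) : x 21 p * (x 19 q * w) = x 19 q * (x 21 p * w) := by
  rw [← mul_assoc, sw_21_19, mul_assoc]

theorem sw_21_16 (p q : K) : x 21 p * x 16 q = x 16 q * x 21 p :=
  (Cfsg.Agent.Helper36.RootCent.xGL_commute2 chevD4 memD4 16 21 (by decide) q p).eq
theorem sw_21_16' (p q : K) (w : GL chevD4.Idx K) : x 21 p * (x 16 q * w) = x 16 q * (x 21 p * w) := by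
  rw [← mul_assoc, sw_21_16, mul_assoc]

theorem sw_21_15 (p q : K) : x 21 p * x 15 q = x 15 q * (x 21 p * x 23 (q * p)) := by
  rw [Cfsg.Agent.Helper36.G2Short.comm1 chevD4 memD4 15 21 23 (-1) (by decide) (by decide) (by decide) (by decide)
    (by decide) (by decide) q p,
    mul_assoc]
theorem sw_21_15' (p q : K) (w : GL chevD4.Idx K) :
    x 21 p * (x 15 q * w) = x 15 q * (x 21 p * (x 23 (q * p) * w)) := by
  rw [← mul_assoc, sw_21_15, mul_assoc, mul_assoc]

theorem sw_20_18 (p q : K) : x 20 p * x 18 q = x 18 q * x 20 p :=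
  (Cfsg.Agent.Helper36.RootCent.xGL_commute2 chevD4 memD4 18 20 (by decide) q p).eq
theorem sw_20_18' (p q : K) (w : GL chevD4.Idx K) : x 20 p * (x 18 q * w) = x 18 q * (x 20 p * w) := by
  rw [← mul_assoc, sw_20_18, mul_assoc]

theorem sw_20_13 (p q : K) : x 20 p * x 13 q = x 13 q * (x 20 p * x 22 (q * p)) := by
  rw [Cfsg.Agent.Helper36.G2Short.comm1 chevD4 memD4 13 20 22 (1) (by decide) (by decide) (by decide) (by decide)
    (by decide) (by decide) q p,
    mul_assoc]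
theorem sw_20_13' (p q : K) (w : GL chevD4.Idx K) :
    x 20 p * (x 13 q * w) = x 13 q * (x 20 p * (x 22 (q * p) * w)) := by
  rw [← mul_assoc, sw_20_13, mul_assoc, mul_assoc]

theorem sw_20_12 (p q : K) : x 20 p * x 12 q = x 12 q * x 20 p :=
  (Cfsg.Agent.Helper36.RootCent.xGL_commute2 chevD4 memD4 12 20 (by decide) q p).eq
theorem sw_20_12' (p q : K) (w : GL chevD4.Idx K) : x 20 p * (x 12 q * w) = x 12 q * (x 20 p * w) := by
  rw [← mul_assoc, sw_20_12, mul_assoc]

theorem sw_20_14 (p q : K) : x 20 p * x 14 q = x 14 q * x 20 p :=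
  (Cfsg.Agent.Helper36.RootCent.xGL_commute2 chevD4 memD4 14 20 (by decide) q p).eq
theorem sw_20_14' (p q : K) (w : GL chevD4.Idx K) : x 20 p * (x 14 q * w) = x 14 q * (x 20 p * w) := by
  rw [← mul_assoc, sw_20_14, mul_assoc]

theorem sw_20_19 (p q : K) : x 20 p * x 19 q = x 19 q * x 20 p :=
  (Cfsg.Agent.Helper36.RootCent.xGL_commute2 chevD4 memD4 19 20 (by decide) q p).eq
theorem sw_20_19' (p q : K) (w : GL chevD4.Idx K) : x 20 p * (x 19 q * w) = x 19 q * (x 20 p * w) := by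
  rw [← mul_assoc, sw_20_19, mul_assoc]

theorem sw_20_16 (p q : K) : x 20 p * x 16 q = x 16 q * (x 20 p * x 23 (q * p)) := by
  rw [Cfsg.Agent.Helper36.G2Short.comm1 chevD4 memD4 16 20 23 (-1) (by decide) (by decide) (by decide) (by decide)
    (by decide) (by decide) q p,
    mul_assoc]
theorem sw_20_16' (p q : K) (w : GL chevD4.Idx K) :
    x 20 p * (x 16 q * w) = x 16 q * (x 20 p * (x 23 (q * p) * w)) := by
  rw [← mul_assoc, sw_20_16, mul_assoc, mul_assoc]

theorem sw_20_15 (p q : K) : x 20 p * x 15 q = x 15 q * x 20 p :=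
  (Cfsg.Agent.Helper36.RootCent.xGL_commute2 chevD4 memD4 15 20 (by decide) q p).eq
theorem sw_20_15' (p q : K) (w : GL chevD4.Idx K) : x 20 p * (x 15 q * w) = x 15 q * (x 20 p * w) := by
  rw [← mul_assoc, sw_20_15, mul_assoc]

theorem sw_20_21 (p q : K) : x 20 p * x 21 q = x 21 q * x 20 p :=
  (Cfsg.Agent.Helper36.RootCent.xGL_commute2 chevD4 memD4 21 20 (by decide) q p).eq
theorem sw_20_21' (p q : K) (w : GL chevD4.Idx K) : x 20 p * (x 21 q * w) = x 21 q * (x 20 p * w) := by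
  rw [← mul_assoc, sw_20_21, mul_assoc]

theorem sw_17_18 (p q : K) : x 17 p * x 18 q = x 18 q * (x 17 p * x 22 (q * p)) := by
  rw [Cfsg.Agent.Helper36.G2Short.comm1 chevD4 memD4 18 17 22 (-1) (by decide) (by decide) (by decide) (by decide)
    (by decide) (by decide) q p,
    mul_assoc]
theorem sw_17_18' (p q : K) (w : GL chevD4.Idx K) :
    x 17 p * (x 18 q * w) = x 18 q * (x 17 p * (x 22 (q * p) * w)) := by
  rw [← mul_assoc, sw_17_18, mul_assoc, mul_assoc]

theorem sw_17_13 (p q : K) : x 17 p * x 13 q = x 13 q * x 17 p :=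
  (Cfsg.Agent.Helper36.RootCent.xGL_commute2 chevD4 memD4 13 17 (by decide) q p).eq
theorem sw_17_13' (p q : K) (w : GL chevD4.Idx K) : x 17 p * (x 13 q * w) = x 13 q * (x 17 p * w) := by
  rw [← mul_assoc, sw_17_13, mul_assoc]

theorem sw_17_12 (p q : K) : x 17 p * x 12 q = x 12 q * x 17 p :=
  (Cfsg.Agent.Helper36.RootCent.xGL_commute2 chevD4 memD4 12 17 (by decide) q p).eq
theorem sw_17_12' (p q : K) (w : GL chevD4.Idx K) : x 17 p * (x 12 q * w) = x 12 q * (x 17 p * w) := by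
  rw [← mul_assoc, sw_17_12, mul_assoc]

theorem sw_17_14 (p q : K) : x 17 p * x 14 q = x 14 q * x 17 p :=
  (Cfsg.Agent.Helper36.RootCent.xGL_commute2 chevD4 memD4 14 17 (by decide) q p).eq
theorem sw_17_14' (p q : K) (w : GL chevD4.Idx K) : x 17 p * (x 14 q * w) = x 14 q * (x 17 p * w) := by
  rw [← mul_assoc, sw_17_14, mul_assoc]

theorem sw_17_19 (p q : K) : x 17 p * x 19 q = x 19 q * (x 17 p * x 23 (q * p)) := by
  rw [Cfsg.Agent.Helper36.G2Short.comm1 chevD4 memD4 19 17 23 (-1) (by decide) (by decide) (by decide) (by decide)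
    (by decide) (by decide) q p,
    mul_assoc]
theorem sw_17_19' (p q : K) (w : GL chevD4.Idx K) :
    x 17 p * (x 19 q * w) = x 19 q * (x 17 p * (x 23 (q * p) * w)) := by
  rw [← mul_assoc, sw_17_19, mul_assoc, mul_assoc]

theorem sw_17_16 (p q : K) : x 17 p * x 16 q = x 16 q * x 17 p :=
  (Cfsg.Agent.Helper36.RootCent.xGL_commute2 chevD4 memD4 16 17 (by decide) q p).eq
theorem sw_17_16' (p q : K) (w : GL chevD4.Idx K) : x 17 p * (x 16 q * w) = x 16 q * (x 17 p * w) := by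
  rw [← mul_assoc, sw_17_16, mul_assoc]

theorem sw_17_15 (p q : K) : x 17 p * x 15 q = x 15 q * x 17 p :=
  (Cfsg.Agent.Helper36.RootCent.xGL_commute2 chevD4 memD4 15 17 (by decide) q p).eq
theorem sw_17_15' (p q : K) (w : GL chevD4.Idx K) : x 17 p * (x 15 q * w) = x 15 q * (x 17 p * w) := by
  rw [← mul_assoc, sw_17_15, mul_assoc]

theorem sw_17_21 (p q : K) : x 17 p * x 21 q = x 21 q * x 17 p :=
  (Cfsg.Agent.Helper36.RootCent.xGL_commute2 chevD4 memD4 21 17 (by decide) q p).eq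
theorem sw_17_21' (p q : K) (w : GL chevD4.Idx K) : x 17 p * (x 21 q * w) = x 21 q * (x 17 p * w) := by
  rw [← mul_assoc, sw_17_21, mul_assoc]

theorem sw_17_20 (p q : K) : x 17 p * x 20 q = x 20 q * x 17 p :=
  (Cfsg.Agent.Helper36.RootCent.xGL_commute2 chevD4 memD4 20 17 (by decide) q p).eq
theorem sw_17_20' (p q : K) (w : GL chevD4.Idx K) : x 17 p * (x 20 q * w) = x 20 q * (x 17 p * w) := by
  rw [← mul_assoc, sw_17_20, mul_assoc]

theorem sw_22_18 (p q : K) : x 22 p * x 18 q = x 18 q * x 22 p :=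
  (Cfsg.Agent.Helper36.RootCent.xGL_commute2 chevD4 memD4 18 22 (by decide) q p).eq
theorem sw_22_18' (p q : K) (w : GL chevD4.Idx K) : x 22 p * (x 18 q * w) = x 18 q * (x 22 p * w) := by
  rw [← mul_assoc, sw_22_18, mul_assoc]

theorem sw_22_13 (p q : K) : x 22 p * x 13 q = x 13 q * x 22 p :=
  (Cfsg.Agent.Helper36.RootCent.xGL_commute2 chevD4 memD4 13 22 (by decide) q p).eq
theorem sw_22_13' (p q : K) (w : GL chevD4.Idx K) : x 22 p * (x 13 q * w) = x 13 q * (x 22 p * w) := by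
  rw [← mul_assoc, sw_22_13, mul_assoc]

theorem sw_22_12 (p q : K) : x 22 p * x 12 q = x 12 q * x 22 p :=
  (Cfsg.Agent.Helper36.RootCent.xGL_commute2 chevD4 memD4 12 22 (by decide) q p).eq
theorem sw_22_12' (p q : K) (w : GL chevD4.Idx K) : x 22 p * (x 12 q * w) = x 12 q * (x 22 p * w) := by
  rw [← mul_assoc, sw_22_12, mul_assoc]

theorem sw_22_14 (p q : K) : x 22 p * x 14 q = x 14 q * (x 22 p * x 23 (q * p)) := by
  rw [Cfsg.Agent.Helper36.G2Short.comm1 chevD4 memD4 14 22 23 (1) (by decide) (by decide) (by decide) (by decide)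
    (by decide) (by decide) q p,
    mul_assoc]
theorem sw_22_14' (p q : K) (w : GL chevD4.Idx K) :
    x 22 p * (x 14 q * w) = x 14 q * (x 22 p * (x 23 (q * p) * w)) := by
  rw [← mul_assoc, sw_22_14, mul_assoc, mul_assoc]

theorem sw_22_19 (p q : K) : x 22 p * x 19 q = x 19 q * x 22 p :=
  (Cfsg.Agent.Helper36.RootCent.xGL_commute2 chevD4 memD4 19 22 (by decide) q p).eq
theorem sw_22_19' (p q : K) (w : GL chevD4.Idx K) : x 22 p * (x 19 q * w) = x 19 q * (x 22 p * w) := by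
  rw [← mul_assoc, sw_22_19, mul_assoc]

theorem sw_22_16 (p q : K) : x 22 p * x 16 q = x 16 q * x 22 p :=
  (Cfsg.Agent.Helper36.RootCent.xGL_commute2 chevD4 memD4 16 22 (by decide) q p).eq
theorem sw_22_16' (p q : K) (w : GL chevD4.Idx K) : x 22 p * (x 16 q * w) = x 16 q * (x 22 p * w) := by
  rw [← mul_assoc, sw_22_16, mul_assoc]

theorem sw_22_15 (p q : K) : x 22 p * x 15 q = x 15 q * x 22 p :=
  (Cfsg.Agent.Helper36.RootCent.xGL_commute2 chevD4 memD4 15 22 (by decide) q p).eq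
theorem sw_22_15' (p q : K) (w : GL chevD4.Idx K) : x 22 p * (x 15 q * w) = x 15 q * (x 22 p * w) := by
  rw [← mul_assoc, sw_22_15, mul_assoc]

theorem sw_22_21 (p q : K) : x 22 p * x 21 q = x 21 q * x 22 p :=
  (Cfsg.Agent.Helper36.RootCent.xGL_commute2 chevD4 memD4 21 22 (by decide) q p).eq
theorem sw_22_21' (p q : K) (w : GL chevD4.Idx K) : x 22 p * (x 21 q * w) = x 21 q * (x 22 p * w) := by
  rw [← mul_assoc, sw_22_21, mul_assoc]

theorem sw_22_20 (p q : K) : x 22 p * x 20 q = x 20 q * x 22 p :=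
  (Cfsg.Agent.Helper36.RootCent.xGL_commute2 chevD4 memD4 20 22 (by decide) q p).eq
theorem sw_22_20' (p q : K) (w : GL chevD4.Idx K) : x 22 p * (x 20 q * w) = x 20 q * (x 22 p * w) := by
  rw [← mul_assoc, sw_22_20, mul_assoc]

theorem sw_22_17 (p q : K) : x 22 p * x 17 q = x 17 q * x 22 p :=
  (Cfsg.Agent.Helper36.RootCent.xGL_commute2 chevD4 memD4 17 22 (by decide) q p).eq
theorem sw_22_17' (p q : K) (w : GL chevD4.Idx K) : x 22 p * (x 17 q * w) = x 17 q * (x 22 p * w) := by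
  rw [← mul_assoc, sw_22_17, mul_assoc]

theorem sw_23_18 (p q : K) : x 23 p * x 18 q = x 18 q * x 23 p :=
  (Cfsg.Agent.Helper36.RootCent.xGL_commute2 chevD4 memD4 18 23 (by decide) q p).eq
theorem sw_23_18' (p q : K) (w : GL chevD4.Idx K) : x 23 p * (x 18 q * w) = x 18 q * (x 23 p * w) := by
  rw [← mul_assoc, sw_23_18, mul_assoc]

theorem sw_23_13 (p q : K) : x 23 p * x 13 q = x 13 q * x 23 p :=
  (Cfsg.Agent.Helper36.RootCent.xGL_commute2 chevD4 memD4 13 23 (by decide) q p).eq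
theorem sw_23_13' (p q : K) (w : GL chevD4.Idx K) : x 23 p * (x 13 q * w) = x 13 q * (x 23 p * w) := by
  rw [← mul_assoc, sw_23_13, mul_assoc]

theorem sw_23_12 (p q : K) : x 23 p * x 12 q = x 12 q * x 23 p :=
  (Cfsg.Agent.Helper36.RootCent.xGL_commute2 chevD4 memD4 12 23 (by decide) q p).eq
theorem sw_23_12' (p q : K) (w : GL chevD4.Idx K) : x 23 p * (x 12 q * w) = x 12 q * (x 23 p * w) := by
  rw [← mul_assoc, sw_23_12, mul_assoc]

theorem sw_23_14 (p q : K) : x 23 p * x 14 q = x 14 q * x 23 p :=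
  (Cfsg.Agent.Helper36.RootCent.xGL_commute2 chevD4 memD4 14 23 (by decide) q p).eq
theorem sw_23_14' (p q : K) (w : GL chevD4.Idx K) : x 23 p * (x 14 q * w) = x 14 q * (x 23 p * w) := by
  rw [← mul_assoc, sw_23_14, mul_assoc]

theorem sw_23_19 (p q : K) : x 23 p * x 19 q = x 19 q * x 23 p :=
  (Cfsg.Agent.Helper36.RootCent.xGL_commute2 chevD4 memD4 19 23 (by decide) q p).eq
theorem sw_23_19' (p q : K) (w : GL chevD4.Idx K) : x 23 p * (x 19 q * w) = x 19 q * (x 23 p * w) := by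
  rw [← mul_assoc, sw_23_19, mul_assoc]

theorem sw_23_16 (p q : K) : x 23 p * x 16 q = x 16 q * x 23 p :=
  (Cfsg.Agent.Helper36.RootCent.xGL_commute2 chevD4 memD4 16 23 (by decide) q p).eq
theorem sw_23_16' (p q : K) (w : GL chevD4.Idx K) : x 23 p * (x 16 q * w) = x 16 q * (x 23 p * w) := by
  rw [← mul_assoc, sw_23_16, mul_assoc]

theorem sw_23_15 (p q : K) : x 23 p * x 15 q = x 15 q * x 23 p :=
  (Cfsg.Agent.Helper36.RootCent.xGL_commute2 chevD4 memD4 15 23 (by decide) q p).eq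
theorem sw_23_15' (p q : K) (w : GL chevD4.Idx K) : x 23 p * (x 15 q * w) = x 15 q * (x 23 p * w) := by
  rw [← mul_assoc, sw_23_15, mul_assoc]

theorem sw_23_21 (p q : K) : x 23 p * x 21 q = x 21 q * x 23 p :=
  (Cfsg.Agent.Helper36.RootCent.xGL_commute2 chevD4 memD4 21 23 (by decide) q p).eq
theorem sw_23_21' (p q : K) (w : GL chevD4.Idx K) : x 23 p * (x 21 q * w) = x 21 q * (x 23 p * w) := by
  rw [← mul_assoc, sw_23_21, mul_assoc]

theorem sw_23_20 (p q : K) : x 23 p * x 20 q = x 20 q * x 23 p :=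
  (Cfsg.Agent.Helper36.RootCent.xGL_commute2 chevD4 memD4 20 23 (by decide) q p).eq
theorem sw_23_20' (p q : K) (w : GL chevD4.Idx K) : x 23 p * (x 20 q * w) = x 20 q * (x 23 p * w) := by
  rw [← mul_assoc, sw_23_20, mul_assoc]

theorem sw_23_17 (p q : K) : x 23 p * x 17 q = x 17 q * x 23 p :=
  (Cfsg.Agent.Helper36.RootCent.xGL_commute2 chevD4 memD4 17 23 (by decide) q p).eq
theorem sw_23_17' (p q : K) (w : GL chevD4.Idx K) : x 23 p * (x 17 q * w) = x 17 q * (x 23 p * w) := by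
  rw [← mul_assoc, sw_23_17, mul_assoc]

theorem sw_23_22 (p q : K) : x 23 p * x 22 q = x 22 q * x 23 p :=
  (Cfsg.Agent.Helper36.RootCent.xGL_commute2 chevD4 memD4 22 23 (by decide) q p).eq
theorem sw_23_22' (p q : K) (w : GL chevD4.Idx K) : x 23 p * (x 22 q * w) = x 22 q * (x 23 p * w) := by
  rw [← mul_assoc, sw_23_22, mul_assoc]

end Cfsg.Agent.Helper36.D4Rel
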