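import Cfsg.Agent.Helper18.Borel
import Cfsg.Prelude.Def_ChevAutomorphisms
import Cfsg.Prelude.Def_LieExceptional

/-!
Helper36: an element of the Chevalley group whose matrix is the diagonal matrix of a character of
the root lattice lies in `H` (given that `B` is its own normaliser in the group).
-/

set_option autoImplicit false

namespace Cfsg.Agent.Helper36.DiagInt

open Cfsg Cfsg.Lie Cfsg.Agent.Helper18

section

variable {F : Type*} [Field F] (D : ChevalleyDatum)

theorem charDiag_mul_inv (χ : ℕ → Fˣ) :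
    D.charDiag F χ * D.charDiag F (fun s => (χ s)⁻¹) = 1 := by
  unfold ChevalleyDatum.charDiag
  rw [Matrix.diagonal_mul_diagonal, ← Matrix.diagonal_one]
  congr 1
  funext i
  rcases i with i | r
  · simp
  · simp

theorem isRootCharacter_inv (χ : ℕ → Fˣ) (hχ : D.IsRootCharacter χ) :
    D.IsRootCharacter (fun s => (χ s)⁻¹) := by
  refine ⟨fun r hr => ?_, fun r s k hr hs hk => ?_⟩
  · show (χ (D.neg r))⁻¹ = ((χ r)⁻¹)⁻¹
    rw [hχ.1 r hr]
  · show (χ k)⁻¹ = (χ r)⁻¹ * (χ s)⁻¹
    rw [hχ.2 r s k hr hs hk, mul_inv]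

/-- the conjugation hypothesis (statement S2157) -/
def ConjHyp (F : Type*) [Field F] (D : ChevalleyDatum) : Prop :=
  ∀ (χ : ℕ → Fˣ), D.IsRootCharacter χ → ∀ r, r < D.nroots → ∀ t : F,
    D.charDiag F χ * D.x F r t * D.charDiag F (fun s => (χ s)⁻¹) = D.x F r ((χ r : F) * t)

variable (hD : D ∈ [chevG2, chevB2, chevD4, chevF4, chevE6, chevE7, chevE8])

include hD in
theorem mem_diagonal_of_charDiag (hconj : ConjHyp F D)
    (hHU : D.diagonalSubgroup F ≤ Subgroup.normalizer (D.posUnipotent F : Set (GL D.Idx F)))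
    (hNB : ∀ g ∈ D.group F, g ∈ Subgroup.normalizer (D.borelSubgroup F : Set (GL D.Idx F)) →
      g ∈ D.borelSubgroup F)
    (χ : ℕ → Fˣ) (hχ : D.IsRootCharacter χ) (g : GL D.Idx F) (hg : g ∈ D.group F)
    (hgχ : (g : Matrix D.Idx D.Idx F) = D.charDiag F χ) : g ∈ D.diagonalSubgroup F := by
  have hχ' := isRootCharacter_inv D χ hχ
  -- the inverse of `g`
  have hginv : ((g⁻¹ : GL D.Idx F) : Matrix D.Idx D.Idx F) = D.charDiag F (fun s => (χ s)⁻¹) := by
    have h1 : ((g⁻¹ : GL D.Idx F) : Matrix D.Idx D.Idx F) * (g : Matrix D.Idx D.Idx F) = 1 := by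
      rw [← Units.val_mul, inv_mul_cancel, Units.val_one]
    calc ((g⁻¹ : GL D.Idx F) : Matrix D.Idx D.Idx F)
        = ((g⁻¹ : GL D.Idx F) : Matrix D.Idx D.Idx F) * (D.charDiag F χ * D.charDiag F (fun s => (χ s)⁻¹)) := by
          rw [charDiag_mul_inv, mul_one]
      _ = D.charDiag F (fun s => (χ s)⁻¹) := by
          rw [← mul_assoc, ← hgχ, h1, one_mul]
  have hdiag_g : ∀ i j : D.Idx, i ≠ j → (g : Matrix D.Idx D.Idx F) i j = 0 := by
    intro i j hij
    rw [hgχ]
    unfold ChevalleyDatum.charDiag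
    exact Matrix.diagonal_apply_ne _ hij
  have hdiag : ∀ k ∈ D.diagonalSubgroup F, ∀ i j : D.Idx, i ≠ j → (k : Matrix D.Idx D.Idx F) i j = 0 := by
    intro k hk i j hij
    have h := diagonalSubgroup_le D hD hk
    rw [Subgroup.mem_inf, mem_lowerGL_zero, mem_lowerGL_zero] at h
    have hne : lvl D (hlfOf D) i ≠ lvl D (hlfOf D) j := fun e => hij (lvl_injective D _ e)
    rcases lt_or_gt_of_ne hne with hlt | hgt
    · exact h.1 i j (by omega)
    · exact h.2 i j (by rw [add_zero, lvlR_lt_iff]; exact hgt)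
  -- `g` normalises `U`
  have hgU : g ∈ Subgroup.normalizer (D.posUnipotent F : Set (GL D.Idx F)) := by
    unfold ChevalleyDatum.posUnipotent
    apply mem_normalizer_closure_of
    · rintro x ⟨r, t, hr, hx⟩
      refine ⟨r, (χ r : F) * t, hr, ?_⟩
      rw [Units.val_mul, Units.val_mul, hgχ, hginv, hx]
      exact hconj χ hχ r hr.1 t
    · rintro x ⟨r, t, hr, hx⟩
      refine ⟨r, (((χ r)⁻¹ : Fˣ) : F) * t, hr, ?_⟩
      rw [Units.val_mul, Units.val_mul, hgχ, hginv, hx]
      have := hconj (fun s => (χ s)⁻¹) hχ' r hr.1 t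
      simpa using this
  -- `g` centralises `H`
  have hgH : g ∈ Subgroup.normalizer (D.diagonalSubgroup F : Set (GL D.Idx F)) := by
    rw [Subgroup.mem_normalizer_iff]
    intro k
    have hcomm : ∀ k ∈ D.diagonalSubgroup F, g * k * g⁻¹ = k := by
      intro k hk
      rw [mul_inv_eq_iff_eq_mul]
      apply Units.ext
      rw [Units.val_mul, Units.val_mul]
      ext i j
      rw [Matrix.mul_apply, Matrix.mul_apply, Finset.sum_eq_single i, Finset.sum_eq_single j]
      · by_cases hij : i = j
        · subst hij; exact mul_comm _ _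
        · rw [hdiag k hk i j hij, mul_zero, zero_mul]
      · intro b _ hb
        rw [hdiag_g b j hb, mul_zero]
      · intro h; exact absurd (Finset.mem_univ _) h
      · intro b _ hb
        rw [hdiag_g i b (Ne.symm hb), zero_mul]
      · intro h; exact absurd (Finset.mem_univ _) h
    constructor
    · intro hk
      rw [hcomm k hk]; exact hk
    · intro hk
      have h2 := hcomm _ hk
      have h3 : g * k * g⁻¹ = k := by
        have : g * (g * k * g⁻¹) * g⁻¹ = g * k * g⁻¹ := h2
        have h4 := congrArg (fun y => g⁻¹ * y * g) this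
        simp only [mul_assoc, inv_mul_cancel_left, inv_mul_cancel, mul_one] at h4
        rw [mul_assoc]
        have h5 : g⁻¹ * (g * (k * g⁻¹)) * g = k := by group
        rw [← h5] at h4 ⊢
        simpa [mul_assoc] using h4
      rw [← h3]; exact hk
  have hgB : g ∈ Subgroup.normalizer (D.borelSubgroup F : Set (GL D.Idx F)) :=
    Subgroup.normalizer_inf_normalizer_le_normalizer_sup _ _ ⟨hgU, hgH⟩
  have hmemB := hNB g hg hgB
  have hmemB' : g ∈ ((D.posUnipotent F ⊔ D.diagonalSubgroup F : Subgroup (GL D.Idx F)) : Set (GL D.Idx F)) :=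
    hmemB
  rw [Subgroup.coe_mul_of_right_le_normalizer_left _ _ hHU] at hmemB'
  obtain ⟨u, hu, k, hk, huk⟩ := hmemB'
  have huk' : g = u * k := huk.symm
  subst huk'
  -- `u` is diagonal and unitriangular, so `u = 1`
  have hu1 : u = 1 := by
    have huL := posUnipotent_le D hD hu
    have hk' : ((k⁻¹ : GL D.Idx F)) ∈ D.diagonalSubgroup F := Subgroup.inv_mem _ hk
    have hu_eq : u = (u * k) * k⁻¹ := by group
    apply Units.ext
    ext i j
    by_cases hij : i = j
    · subst hij
      have := huL.2 i i (by omega)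
      rw [Matrix.sub_apply, sub_eq_zero] at this
      rw [this]; rfl
    · rw [Units.val_one, Matrix.one_apply_ne hij, hu_eq, Units.val_mul, Matrix.mul_apply]
      apply Finset.sum_eq_zero
      intro b _
      by_cases hb : i = b
      · subst hb
        rw [hdiag _ hk' i j hij, mul_zero]
      · rw [hdiag_g i b hb, zero_mul]
  rw [hu1, one_mul]
  exact hk

end

end Cfsg.Agent.Helper36.DiagInt
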