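import Cfsg.Agent.Helper36.SigmaFix
import Cfsg.Agent.Helper36.BNPair
import Cfsg.Agent.S0309
import Cfsg.Agent.S0310
import Cfsg.Agent.S1048
import Cfsg.Agent.S1024
import Cfsg.Agent.S1037
import Cfsg.Agent.S1040

/-!
Helper36: the Bruhat normal form `x = u h n v` of an element `x` of a Levi subgroup `L_J`:
`u`, `v` lie in `U_J' = ⟨X_r : r ∈ Φ_J⁺⟩`, and `n ∈ ⟨n_j : j ∈ J⟩ H`.
-/

set_option autoImplicit false

namespace Cfsg.Agent.Helper36.LeviBruhat

open Cfsg Cfsg.Lie Cfsg.Agent.Helper18 Cfsg.Agent.Helper36.FieldFix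

section

variable {K : Type*} [Field K] (D : ChevalleyDatum)
  (hD : D ∈ [chevG2, chevB2, chevD4, chevF4, chevE6, chevE7, chevE8])

/-- the unipotent subgroup of the Levi subgroup: generated by the `X_r`, `r ∈ Φ_J⁺` -/
def US (K : Type*) [Field K] (J : Set ℕ) : Subgroup (GL D.Idx K) :=
  Subgroup.closure {g | ∃ (r : ℕ) (t : K), D.IsPosRoot r ∧ D.InRootSub J r ∧
    (g : Matrix D.Idx D.Idx K) = D.x K r t}

/-- the subgroup generated by the `n_j`, `j ∈ J` -/
def NJ (K : Type*) [Field K] (J : Set ℕ) : Subgroup (GL D.Idx K) :=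
  Subgroup.closure {g | ∃ j ∈ J, j < D.rank ∧ (g : Matrix D.Idx D.Idx K) = D.nMat K (D.simple j) 1}

theorem US_le_levi (J : Set ℕ) : US D K J ≤ D.leviSubgroup K J := by
  unfold US ChevalleyDatum.leviSubgroup
  refine le_trans ?_ le_sup_right
  apply Subgroup.closure_mono
  rintro g ⟨r, t, -, hr, hg⟩
  exact ⟨r, t, hr, hg⟩

theorem US_le_pos (J : Set ℕ) : US D K J ≤ D.posUnipotent K := by
  unfold US ChevalleyDatum.posUnipotent
  apply Subgroup.closure_mono
  rintro g ⟨r, t, hr, -, hg⟩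
  exact ⟨r, t, hr, hg⟩

theorem radical_le_pos (J : Set ℕ) : D.unipotentRadical K J ≤ D.posUnipotent K := by
  unfold ChevalleyDatum.unipotentRadical ChevalleyDatum.posUnipotent
  apply Subgroup.closure_mono
  rintro g ⟨r, t, hr, -, hg⟩
  exact ⟨r, t, hr, hg⟩

include hD in
theorem levi_le_parabolic (J : Set ℕ) : D.leviSubgroup K J ≤ D.parabolicSubgroup K J := by
  rw [← (Cfsg.Agent.S1048.result (F := K) D hD J).2.1]
  exact le_sup_right

include hD in
theorem pos_inf_neg : D.posUnipotent K ⊓ D.negUnipotent K = ⊥ := by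
  rw [eq_bot_iff, ← (Cfsg.Agent.S1037.result (F := K) D hD).1]
  exact inf_le_inf_right _ le_sup_left

include hD in
/-- `U = U_J · U_J'` -/
theorem pos_decomp (J : Set ℕ) (u : GL D.Idx K) (hu : u ∈ D.posUnipotent K) :
    ∃ z ∈ D.unipotentRadical K J, ∃ y ∈ US D K J, u = z * y := by
  classical
  have hnorm := (Cfsg.Agent.S1048.result (F := K) D hD J).1
  have hle : US D K J ≤ Subgroup.normalizer (D.unipotentRadical K J : Set (GL D.Idx K)) :=
    le_trans (US_le_levi D J) (le_trans (levi_le_parabolic D hD J) hnorm)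
  have hset := Subgroup.coe_mul_of_right_le_normalizer_left (D.unipotentRadical K J) (US D K J) hle
  have hU : D.posUnipotent K ≤ D.unipotentRadical K J ⊔ US D K J := by
    conv_lhs => unfold ChevalleyDatum.posUnipotent
    rw [Subgroup.closure_le]
    rintro g ⟨r, t, hr, hg⟩
    by_cases hJ : D.InRootSub J r
    · exact Subgroup.mem_sup_right (Subgroup.subset_closure ⟨r, t, hr, hJ, hg⟩)
    · exact Subgroup.mem_sup_left (Subgroup.subset_closure ⟨r, t, hr, hJ, hg⟩)
  have hmem : u ∈ ((D.unipotentRadical K J ⊔ US D K J : Subgroup (GL D.Idx K)) : Set (GL D.Idx K)) := hU hu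
  rw [hset] at hmem
  obtain ⟨z, hz, y, hy, rfl⟩ := hmem
  exact ⟨z, hz, y, hy, rfl⟩

include hD in
/-- the Bruhat cell of an element of `N ∩ P_J` lies in `U_J'` -/
theorem Um_le_US (J : Set ℕ) (n : GL D.Idx K) (hn : n ∈ D.parabolicSubgroup K J) :
    Um D K n ≤ US D K J := by
  have htri := triOK_of_mem D hD
  have hnorm := (Cfsg.Agent.S1048.result (F := K) D hD J).1 hn
  unfold Um US
  apply Subgroup.closure_mono
  rintro g ⟨r, t, hr, hcond, hg⟩
  refine ⟨r, t, hr, ?_, hg⟩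
  by_contra hJ
  have h1 : xGL D K r 1 ∈ D.unipotentRadical K J :=
    Subgroup.subset_closure ⟨r, 1, hr, hJ, xGL_val D _ htri r 1⟩
  have h2 : n * xGL D K r 1 * n⁻¹ ∈ D.unipotentRadical K J :=
    (Subgroup.mem_normalizer_iff.mp hnorm _).mp h1
  have h3 : n * xGL D K r 1 * n⁻¹ ∈ D.negUnipotent K := by
    apply hcond
    refine ⟨xGL D K r 1, Subgroup.subset_closure ⟨1, xGL_val D _ htri r 1⟩, ?_⟩
    simp [MulAut.conj_apply]
  have h4 : n * xGL D K r 1 * n⁻¹ ∈ D.posUnipotent K ⊓ D.negUnipotent K :=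
    Subgroup.mem_inf.mpr ⟨radical_le_pos D J h2, h3⟩
  rw [pos_inf_neg D hD, Subgroup.mem_bot] at h4
  have h5 : xGL D K r (1 : K) = 1 := by
    have : xGL D K r (1 : K) = n⁻¹ * (n * xGL D K r 1 * n⁻¹) * n := by group
    rw [this, h4]
    group
  have h6 := congrArg (fun g : GL D.Idx K => (g : Matrix D.Idx D.Idx K)) h5
  simp only [xGL_val D _ htri, Units.val_one] at h6
  exact one_ne_zero ((Cfsg.Agent.S1024.result D hD r hr.1 (1 : K)).mp h6)

include hD in
/-- an element of `N ∩ P_J` lies in `⟨n_j : j ∈ J⟩ H` -/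
theorem mono_parabolic (J : Set ℕ) (n : GL D.Idx K) (hn : n ∈ D.monomialSubgroup K)
    (hnP : n ∈ D.parabolicSubgroup K J) :
    ∃ n' ∈ NJ D K J, n'⁻¹ * n ∈ D.diagonalSubgroup K := by
  obtain ⟨P, hPB, hPN, hPS⟩ := Cfsg.Agent.Helper36.chev_bnPair (F := K) D hD
  obtain ⟨hBG, hNG, -⟩ := Cfsg.Agent.S1043.result (F := K) D hD
  set J' : Set ↥(D.group K) := {k | ∃ j ∈ J, j < D.rank ∧
    ((k : GL D.Idx K) : Matrix D.Idx D.Idx K) = D.nMat K (D.simple j) 1} with hJ'
  have hJS : J' ⊆ P.S := by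
    rintro k ⟨j, -, hj, hk⟩
    rw [hPS]
    exact ⟨j, hj, hk⟩
  -- `P_J` inside the abstract parabolic subgroup
  have hpar : ∀ g ∈ D.parabolicSubgroup K J, ∃ hg : g ∈ D.group K, (⟨g, hg⟩ : ↥(D.group K)) ∈ P.parabolic J' := by
    have hP : D.parabolicSubgroup K J = Subgroup.closure ((D.borelSubgroup K : Set (GL D.Idx K)) ∪
        {g | ∃ j ∈ J, j < D.rank ∧ (g : Matrix D.Idx D.Idx K) = D.nMat K (D.simple j) 1}) := by
      rw [Subgroup.closure_union, Subgroup.closure_eq]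
      rfl
    intro g hg
    rw [hP] at hg
    induction hg using Subgroup.closure_induction with
    | mem x hx =>
      rcases hx with hx | ⟨j, hj, hjr, hx⟩
      · refine ⟨hBG hx, ?_⟩
        unfold BNPair.parabolic
        apply Subgroup.mem_sup_left
        rw [hPB, Subgroup.mem_subgroupOf]
        exact hx
      · have hxN : x ∈ D.monomialSubgroup K := by
          unfold ChevalleyDatum.monomialSubgroup
          apply Subgroup.mem_sup_right
          apply Subgroup.subset_closure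
          exact ⟨D.simple j, simple_lt D (simpleOK_of_mem D hD) j hjr, hx⟩
        refine ⟨hNG hxN, ?_⟩
        unfold BNPair.parabolic
        apply Subgroup.mem_sup_right
        apply Subgroup.subset_closure
        exact ⟨j, hj, hjr, hx⟩
    | one => exact ⟨one_mem _, one_mem _⟩
    | mul x y _ _ hx hy =>
      obtain ⟨hx1, hx2⟩ := hx
      obtain ⟨hy1, hy2⟩ := hy
      exact ⟨mul_mem hx1 hy1, mul_mem hx2 hy2⟩
    | inv x _ hx =>
      obtain ⟨hx1, hx2⟩ := hx
      exact ⟨inv_mem hx1, inv_mem hx2⟩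
  obtain ⟨hnG, hnP'⟩ := hpar n hnP
  obtain ⟨n', hn'J, hdc⟩ := (Cfsg.Agent.S0310.result P hJS ⟨n, hnG⟩).mp hnP'
  have hcl : ∀ k ∈ Subgroup.closure J', (k : GL D.Idx K) ∈ NJ D K J ∧ (k : GL D.Idx K) ∈ D.monomialSubgroup K := by
    intro k hk
    induction hk using Subgroup.closure_induction with
    | mem x hx =>
      obtain ⟨j, hj, hjr, hx⟩ := hx
      refine ⟨Subgroup.subset_closure ⟨j, hj, hjr, hx⟩, ?_⟩
      unfold ChevalleyDatum.monomialSubgroup
      apply Subgroup.mem_sup_right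
      apply Subgroup.subset_closure
      exact ⟨D.simple j, simple_lt D (simpleOK_of_mem D hD) j hjr, hx⟩
    | one => exact ⟨one_mem _, one_mem _⟩
    | mul x y _ _ hx hy => exact ⟨mul_mem hx.1 hy.1, mul_mem hx.2 hy.2⟩
    | inv x _ hx => exact ⟨inv_mem hx.1, inv_mem hx.2⟩
  obtain ⟨hn'1, hn'2⟩ := hcl n' hn'J
  have hnN : (⟨n, hnG⟩ : ↥(D.group K)) ∈ P.N := by
    rw [hPN, Subgroup.mem_subgroupOf]
    exact hn
  have hn'N : n' ∈ P.N := by
    rw [hPN, Subgroup.mem_subgroupOf]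
    exact hn'2
  have heq := DoubleCoset.doubleCoset_eq_of_mem hdc
  have hB := (Cfsg.Agent.S0309.result P hn'N hnN).mp heq.symm
  rw [hPB, Subgroup.mem_subgroupOf] at hB
  refine ⟨n', hn'1, ?_⟩
  have hmem : (n' : GL D.Idx K)⁻¹ * n ∈ D.borelSubgroup K ⊓ D.monomialSubgroup K := by
    refine Subgroup.mem_inf.mpr ⟨?_, mul_mem (inv_mem hn'2) hn⟩
    simpa using hB
  rwa [(Cfsg.Agent.S1040.result (F := K) D hD).2] at hmem

include hD in
/-- the Bruhat normal form of an element of the Levi subgroup `L_J` -/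
theorem levi_factors (J : Set ℕ) (hNL : NJ D K J ≤ D.leviSubgroup K J)
    (x u h n v : GL D.Idx K) (hx : x ∈ D.leviSubgroup K J)
    (hu : u ∈ D.posUnipotent K) (hh : h ∈ D.diagonalSubgroup K) (hn : n ∈ D.monomialSubgroup K)
    (hv : v ∈ Um D K n) (e : x = u * h * n * v) :
    u ∈ US D K J ∧ v ∈ US D K J ∧ ∃ n' ∈ NJ D K J, n'⁻¹ * n ∈ D.diagonalSubgroup K := by
  have hLP := levi_le_parabolic (K := K) D hD J
  have hBP : D.borelSubgroup K ≤ D.parabolicSubgroup K J := le_sup_left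
  have hUB : D.posUnipotent K ≤ D.borelSubgroup K := le_sup_left
  have hHB : D.diagonalSubgroup K ≤ D.borelSubgroup K := le_sup_right
  have hHL : D.diagonalSubgroup K ≤ D.leviSubgroup K J := le_sup_left
  have hvU : v ∈ D.posUnipotent K := bruhatU_le_pos D n hv
  have hnP : n ∈ D.parabolicSubgroup K J := by
    have : n = h⁻¹ * u⁻¹ * x * v⁻¹ := by rw [e]; group
    rw [this]
    exact mul_mem (mul_mem (mul_mem (inv_mem (hBP (hHB hh))) (inv_mem (hBP (hUB hu)))) (hLP hx))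
      (inv_mem (hBP (hUB hvU)))
  have hvS : v ∈ US D K J := Um_le_US D hD J n hnP hv
  obtain ⟨n', hn'1, hn'2⟩ := mono_parabolic D hD J n hn hnP
  have hnL : n ∈ D.leviSubgroup K J := by
    have : n = n' * (n'⁻¹ * n) := by group
    rw [this]
    exact mul_mem (hNL hn'1) (hHL hn'2)
  obtain ⟨z, hz, y, hy, rfl⟩ := pos_decomp D hD J u hu
  have hzL : z ∈ D.leviSubgroup K J := by
    have : z = x * (y * h * n * v)⁻¹ := by rw [e]; group
    rw [this]
    exact mul_mem hx (inv_mem (mul_mem (mul_mem (mul_mem (US_le_levi D J hy) (hHL hh)) hnL)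
      (US_le_levi D J hvS)))
  have hz1 : z ∈ D.unipotentRadical K J ⊓ D.leviSubgroup K J := Subgroup.mem_inf.mpr ⟨hz, hzL⟩
  rw [(Cfsg.Agent.S1048.result (F := K) D hD J).2.2, Subgroup.mem_bot] at hz1
  rw [hz1, one_mul]
  exact ⟨hy, hvS, n', hn'1, hn'2⟩

end

end Cfsg.Agent.Helper36.LeviBruhat
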