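import Cfsg.Agent.Helper40.UFinal
import Cfsg.Agent.Helper40.UDataAll
import Cfsg.Agent.Helper18.Core
import Cfsg.Agent.S1037

/-!
Helper36: distinct root subgroups meet trivially (one of the two roots being positive):
if `x_r(c) = x_s(c')` with `s` positive and `r ≠ s` then `c = 0`.
-/

set_option autoImplicit false

namespace Cfsg.Agent.Helper36.RootSep

open Cfsg Cfsg.Lie Cfsg.Agent.Helper40.UProd Cfsg.Agent.Helper40.UData

variable {F : Type*} [Field F] (D : ChevalleyDatum)

theorem pw_eq_one (L : List ℕ) (t : ℕ → F) (h : ∀ s ∈ L, t s = 0) : pw D L t = 1 := by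
  induction L with
  | nil => exact pw_nil D t
  | cons s L ih =>
    rw [pw_cons, h s List.mem_cons_self, Cfsg.Agent.S1024.x_zero, one_mul]
    exact ih (fun s' hs' => h s' (List.mem_cons_of_mem _ hs'))

theorem pw_single (L : List ℕ) (hnd : L.Nodup) (r : ℕ) (hr : r ∈ L) (c : F) :
    pw D L (fun s => if s = r then c else 0) = D.x F r c := by
  induction L with
  | nil => simp at hr
  | cons s L ih =>
    rw [pw_cons]
    rw [List.nodup_cons] at hnd
    by_cases hsr : s = r
    · subst hsr
      rw [if_pos rfl, pw_eq_one, mul_one]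
      intro s' hs'
      have : s' ≠ s := fun h => hnd.1 (h ▸ hs')
      rw [if_neg this]
    · rw [if_neg hsr, Cfsg.Agent.S1024.x_zero, one_mul]
      have hr' : r ∈ L := by
        rcases List.mem_cons.mp hr with h | h
        · exact absurd h.symm hsr
        · exact h
      exact ih hnd.2 hr'

theorem eq_zero_of_x_eq (hD : D ∈ [chevG2, chevB2, chevD4, chevF4, chevE6, chevE7, chevE8])
    (r s : ℕ) (hr : r < D.nroots) (hs : D.IsPosRoot s) (hrs : r ≠ s) (c c' : F)
    (h : D.x F r c = D.x F s c') : c = 0 := by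
  classical
  have hadd := Cfsg.Agent.Helper40.ChevAdd.addOK_of_mem hD
  by_cases hpos : D.IsPosRoot r
  · obtain ⟨φ, wit, hg, -⟩ := exists_grade D hD
    have hnd : D.posRoots.Nodup := by
      unfold ChevalleyDatum.posRoots
      exact List.Nodup.filter _ List.nodup_range
    have e1 := pw_single (F := F) D D.posRoots hnd r ((Cfsg.Agent.Helper40.UProd.mem_posRoots D r).mpr hpos) c
    have e2 := pw_single (F := F) D D.posRoots hnd s ((Cfsg.Agent.Helper40.UProd.mem_posRoots D s).mpr hs) c'
    have e3 := Cfsg.Agent.Helper40.UProd.pw_unique (F := F) hD hg (fun u => if u = r then c else 0)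
      (fun u => if u = s then c' else 0)
      (by intro u hu; rw [if_neg]; rintro rfl; exact hu hpos)
      (by intro u hu; rw [if_neg]; rintro rfl; exact hu hs)
      (by rw [e1, e2, h])
    have := congrFun e3 r
    simp only [if_neg hrs] at this
    exact this
  · -- `r` is a negative root
    have hneg : D.IsNegRoot r := by
      have hposOK := Cfsg.Agent.Helper18.posOK_of_mem D hD
      rw [Cfsg.Agent.Helper18.isNegRoot_iff D _ hposOK]
      rw [Cfsg.Agent.Helper18.isPosRoot_iff D _ hposOK] at hpos
      exact ⟨by omega, hr⟩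
    let g : GL D.Idx F := Cfsg.Agent.Helper40.ChevAdd.xGL D hadd F r c
    have hgV : g ∈ D.negUnipotent F :=
      Subgroup.subset_closure ⟨r, c, hneg, rfl⟩
    have hgU : g ∈ D.posUnipotent F :=
      Subgroup.subset_closure ⟨s, c', hs, h⟩
    have hmem : g ∈ D.borelSubgroup F ⊓ D.negUnipotent F :=
      ⟨(le_sup_left : D.posUnipotent F ≤ _) hgU, hgV⟩
    rw [(Cfsg.Agent.S1037.result (F := F) D hD).1, Subgroup.mem_bot] at hmem
    have h1 : D.x F r c = 1 := by
      have := congrArg (fun z : GL D.Idx F => (z : Matrix D.Idx D.Idx F)) hmem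
      exact this
    exact (Cfsg.Agent.S1024.result D hD r hr c).mp h1

end Cfsg.Agent.Helper36.RootSep
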