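import Cfsg.Agent.Helper36.SigmaF4
import Cfsg.Agent.Helper36.LeviBruhat
import Cfsg.Agent.Helper36.B2Fix
import Cfsg.Agent.Helper36.TwistF4
import Cfsg.Agent.Helper36.TwistCore
import Cfsg.Agent.Helper36.RootSep
import Cfsg.Agent.S1025
import Cfsg.Agent.S1032

/-!
Helper36: the two simple classes `{p₁, p₄}` and `{p₂, p₃, p₂+p₃, 2p₂+p₃}` of `²F₄`: relations,
the twist on them, normal forms and their fixed points.
-/

set_option autoImplicit false

namespace Cfsg.Agent.Helper36.F4Class

open Cfsg Cfsg.Lie Cfsg.Agent.Helper36.Perfect Cfsg.Agent.Helper36.ChevSimple Cfsg.Agent.Helper36.Twist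
  Cfsg.Agent.Helper36.TwistF4 Cfsg.Agent.Helper36.B2Class Cfsg.Agent.Helper36.SigmaF4
  Cfsg.Agent.Helper36.SigmaChev Cfsg.Agent.Helper36.LeviBruhat

/-- the class `S` -/
def JS : Set ℕ := {1, 2}
/-- the class `P` -/
def JP : Set ℕ := {0, 3}

/-- the coefficient of the coroot of `r` on the `i`-th fundamental coroot -/
def coef (r i : ℕ) : ℤ := (chevF4.coroot.getD r #[]).getD i 0

set_option maxRecDepth 100000 in
theorem coef_JS_aux : (List.range 48).all (fun r => !(decide (24 ≤ r) && decide (coef r 0 = 0) &&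
    decide (coef r 3 = 0)) || decide (r = 25 ∨ r = 27 ∨ r = 28 ∨ r = 30)) = true := by decide +kernel

set_option maxRecDepth 100000 in
theorem coef_JP_aux : (List.range 48).all (fun r => !(decide (24 ≤ r) && decide (coef r 1 = 0) &&
    decide (coef r 2 = 0)) || decide (r = 24 ∨ r = 33)) = true := by decide +kernel

theorem coef_JS (r : ℕ) (hr : r < 48) (hpos : 24 ≤ r) (h0 : coef r 0 = 0) (h3 : coef r 3 = 0) :
    r = 25 ∨ r = 27 ∨ r = 28 ∨ r = 30 := by
  have h := List.all_eq_true.mp coef_JS_aux r (List.mem_range.mpr hr)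
  simp only [Bool.or_eq_true, Bool.not_eq_true', Bool.and_eq_false_iff, decide_eq_false_iff_not,
    decide_eq_true_eq] at h
  rcases h with ((h | h) | h) | h
  · exact absurd hpos h
  · exact absurd h0 h
  · exact absurd h3 h
  · exact h

theorem coef_JP (r : ℕ) (hr : r < 48) (hpos : 24 ≤ r) (h1 : coef r 1 = 0) (h2 : coef r 2 = 0) :
    r = 24 ∨ r = 33 := by
  have h := List.all_eq_true.mp coef_JP_aux r (List.mem_range.mpr hr)
  simp only [Bool.or_eq_true, Bool.not_eq_true', Bool.and_eq_false_iff, decide_eq_false_iff_not,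
    decide_eq_true_eq] at h
  rcases h with ((h | h) | h) | h
  · exact absurd hpos h
  · exact absurd h1 h
  · exact absurd h2 h
  · exact h

theorem inRootSub_JS (r : ℕ) (h : chevF4.InRootSub JS r) (hpos : 24 ≤ r) :
    r = 25 ∨ r = 27 ∨ r = 28 ∨ r = 30 := by
  obtain ⟨hr, h0⟩ := h
  exact coef_JS r hr hpos (h0 0 (by decide) (by simp [JS])) (h0 3 (by decide) (by simp [JS]))

theorem inRootSub_JP (r : ℕ) (h : chevF4.InRootSub JP r) (hpos : 24 ≤ r) : r = 24 ∨ r = 33 := by
  obtain ⟨hr, h0⟩ := h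
  exact coef_JP r hr hpos (h0 1 (by decide) (by simp [JP])) (h0 2 (by decide) (by simp [JP]))

theorem inRootSub_JS_of (r : ℕ) (hr : r < 48) (h0 : coef r 0 = 0)
    (h3 : coef r 3 = 0) : chevF4.InRootSub JS r := by
  refine ⟨hr, ?_⟩
  intro i hi hiJ
  have hi4 : i < 4 := hi
  simp only [JS, Set.mem_insert_iff, Set.mem_singleton_iff, not_or] at hiJ
  have : i = 0 ∨ i = 3 := by omega
  rcases this with rfl | rfl
  · exact h0
  · exact h3

theorem inRootSub_JP_of (r : ℕ) (hr : r < 48) (h1 : coef r 1 = 0)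
    (h2 : coef r 2 = 0) : chevF4.InRootSub JP r := by
  refine ⟨hr, ?_⟩
  intro i hi hiJ
  have hi4 : i < 4 := hi
  simp only [JP, Set.mem_insert_iff, Set.mem_singleton_iff, not_or] at hiJ
  have : i = 1 ∨ i = 2 := by omega
  rcases this with rfl | rfl
  · exact h1
  · exact h2

section

variable {K : Type*} [Field K]

local notation "x18" => Cfsg.Agent.Helper18.xGL chevF4 K
local notation "xA" => Cfsg.Agent.Helper40.ChevAdd.xGL chevF4 haddF4 K

theorem x18_eq (r : ℕ) : x18 r = xA r :=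
  funext fun t => xGL18_eq chevF4 hF4 haddF4 r t

theorem hcommF4 : CommHyp K chevF4 := fun r s hr hs hsr hsn t u =>
  Cfsg.Agent.S1025.result chevF4 hF4 r s hr hs hsr hsn t u

theorem htorF4 : TorHyp K chevF4 := fun i s hi hs c hc t =>
  Cfsg.Agent.S1032.result chevF4 hF4 i s hi hs c hc t

/-- root elements in the Chevalley group -/
noncomputable def XG (r : ℕ) (t : K) : ↥(chevF4.group K) :=
  ⟨x18 r t, Cfsg.Agent.Helper18.xGL_mem_group' chevF4 hF4 r t⟩

theorem XG_val (r : ℕ) (t : K) : ((XG r t : ↥(chevF4.group K)) : GL chevF4.Idx K) = x18 r t := rfl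

variable [CharP K 2]

theorem relP18 : Rel (x18 27) (x18 25) (x18 28) (x18 30) := by
  rw [x18_eq, x18_eq, x18_eq, x18_eq]
  exact relP hcommF4

theorem relM18 : Rel (x18 20) (x18 22) (x18 19) (x18 17) := by
  rw [x18_eq, x18_eq, x18_eq, x18_eq]
  exact relM hcommF4

theorem relPG : Rel (XG (K := K) 27) (XG 25) (XG 28) (XG 30) :=
  relP18.subtype (chevF4.group K) _ _ _ _

theorem relMG : Rel (XG (K := K) 20) (XG 22) (XG 19) (XG 17) :=
  relM18.subtype (chevF4.group K) _ _ _ _

/-- `θ = (·)^(2^m)` -/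
noncomputable def phi (m : ℕ) : K →+* K := iterateFrobenius K 2 m

theorem phi_apply (m : ℕ) (t : K) : phi m t = t ^ (2 ^ m) := iterateFrobenius_def 2 m t

theorem cF_long' (m r : ℕ) (h : sh r = 0) (t : K) : cF m r t = phi m t := by
  rw [cF_long m r h, phi_apply]

theorem cF_short' (m r : ℕ) (h : sh r = 1) (t : K) : cF m r t = (phi m t) ^ 2 := by
  rw [cF_short m r h, phi_apply]

theorem phi_phi [Fintype K] {m : ℕ} (hK : Fintype.card K = 2 ^ (2 * m + 1)) (t : K) :
    (phi m (phi m t)) ^ 2 = t := by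
  rw [phi_apply, phi_apply, ← pow_mul, ← pow_mul]
  have : 2 ^ m * (2 ^ m * 2) = Fintype.card K := by
    rw [hK]; ring
  rw [this, FiniteField.pow_card]

variable {m : ℕ} {σ : ↥(chevF4.group K) ≃* ↥(chevF4.group K)}

theorem map_XG (hσ : Spec chevF4 σ rho (cF m)) (r : ℕ) (hr : r < 48) (t : K) :
    σ (XG r t) = XG (rho r) (cF m r t) := by
  apply Subtype.ext
  exact hσ.map_x r hr t _

/-- the twist on the positive class `S` -/
theorem twP (hσ : Spec chevF4 σ rho (cF m)) :
    Tw (XG (K := K) 27) (XG 25) (XG 28) (XG 30) (phi m) σ.toMonoidHom where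
  a s := by
    show σ (XG 27 s) = _
    rw [map_XG hσ 27 (by norm_num), cF_short' m 27 (by decide)]
    rfl
  b s := by
    show σ (XG 25 s) = _
    rw [map_XG hσ 25 (by norm_num), cF_long' m 25 (by decide)]
    rfl
  c s := by
    show σ (XG 28 s) = _
    rw [map_XG hσ 28 (by norm_num), cF_short' m 28 (by decide)]
    rfl
  d s := by
    show σ (XG 30 s) = _
    rw [map_XG hσ 30 (by norm_num), cF_long' m 30 (by decide)]
    rfl

/-- the twist on the negative class `S` -/
theorem twM (hσ : Spec chevF4 σ rho (cF m)) :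
    Tw (XG (K := K) 20) (XG 22) (XG 19) (XG 17) (phi m) σ.toMonoidHom where
  a s := by
    show σ (XG 20 s) = _
    rw [map_XG hσ 20 (by norm_num), cF_short' m 20 (by decide)]
    rfl
  b s := by
    show σ (XG 22 s) = _
    rw [map_XG hσ 22 (by norm_num), cF_long' m 22 (by decide)]
    rfl
  c s := by
    show σ (XG 19 s) = _
    rw [map_XG hσ 19 (by norm_num), cF_short' m 19 (by decide)]
    rfl
  d s := by
    show σ (XG 17 s) = _
    rw [map_XG hσ 17 (by norm_num), cF_long' m 17 (by decide)]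
    rfl

end

end Cfsg.Agent.Helper36.F4Class
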