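import Cfsg.Agent.Helper36.HeightNil
import Cfsg.Agent.Helper36.F4Order
import Cfsg.Agent.Helper36.F4UFinal
import Cfsg.Agent.Helper18.TriAll

/-!
Helper36: the elements of `2`-power order of `²F₄(2^(2m+1))` have order at most `32`.

The subgroup `U¹ = G¹ ∩ U` has order `q^12` and odd index, hence is a Sylow `2`-subgroup; and in the adjoint module
of dimension `52`, graded by the height (`23` levels), every element of `U` is the identity plus a matrix strictly
raising the height, so that `u ^ 32 = 1` in characteristic `2`.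
-/

set_option autoImplicit false
set_option maxRecDepth 100000

namespace Cfsg.Agent.Helper36.F4Exp

open Cfsg Cfsg.Lie Cfsg.Agent.Helper18 Cfsg.Agent.Helper36.HeightNil

/-- a bound for the exponent of a Sylow subgroup bounds the order of all the elements of prime power order -/
theorem pow_eq_one_of_sylow {G : Type*} [Group G] [Finite G] (p : ℕ) [Fact p.Prime] (U : Subgroup G)
    (hU : IsPGroup p U) (hidx : ¬ p ∣ U.index) (N : ℕ) (hexp : ∀ u ∈ U, u ^ N = 1) (x : G) (j : ℕ)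
    (hx : orderOf x = p ^ j) : x ^ N = 1 := by
  have hz : IsPGroup p (Subgroup.zpowers x) := IsPGroup.of_card (n := j) (by rw [Nat.card_zpowers, hx])
  obtain ⟨Q, hQ⟩ := hz.exists_le_sylow
  obtain ⟨g, hg⟩ := MulAction.exists_smul_eq G Q (hU.toSylow hidx)
  have hxQ : x ∈ (Q : Subgroup G) := hQ (Subgroup.mem_zpowers x)
  have h1 : g * x * g⁻¹ ∈ ((g • Q : Sylow p G) : Subgroup G) := by
    rw [Sylow.coe_subgroup_smul]
    have := Subgroup.smul_mem_pointwise_smul x (MulAut.conj g) (Q : Subgroup G) hxQ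
    simpa [MulAut.smul_def] using this
  rw [hg] at h1
  have h2 := hexp _ ((IsPGroup.mem_toSylow hU hidx).mp h1)
  rw [conj_pow] at h2
  have h3 : g⁻¹ * (g * x ^ N * g⁻¹) * g = x ^ N := by group
  rw [← h3, h2]
  group

/-- the heights of the roots of type `F₄`, shifted by `11` -/
def hgtF4 (r : ℕ) : ℕ :=
  [0, 1, 2, 3, 4, 5, 6, 4, 5, 6, 7, 7, 8, 9, 10, 6, 7, 8, 8, 9, 10, 9, 10, 10, 12, 12, 13, 12, 13, 14, 14, 15, 16, 12,
    13, 14, 15, 15, 16, 17, 18, 16, 17, 18, 19, 20, 21, 22].getD r 0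

theorem hgtOK_F4 : hgtOK chevF4 (hlfOf chevF4) hgtF4 11 = true := by decide +kernel

theorem lvH_le (i : chevF4.Idx) : lvH chevF4 hgtF4 11 i ≤ 22 := by
  rcases i with a | s
  · simp [lvH]
  · simp only [lvH, Sum.elim_inr]
    have h : ∀ r : Fin 48, hgtF4 r.val ≤ 22 := by decide +kernel
    exact h s

theorem pow_eq_one_of_mem_pos {K : Type*} [Field K] [Fintype K] [CharP K 2] (u : GL chevF4.Idx K)
    (hu : u ∈ chevF4.posUnipotent K) : u ^ 32 = 1 := by
  haveI : Nonempty chevF4.Idx := ⟨Sum.inl ⟨0, by decide⟩⟩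
  have h := posUnipotent_le_strictSub (F := K) chevF4 (hlfOf chevF4) triOK_F4 posOK_F4 hgtF4 11 hgtOK_F4 u hu
  exact pow_two_pow_eq_one (k := 5) (B := 22) lvH_le (by norm_num) u h

theorem odd_pred_of_even {a : ℕ} (ha : Even a) (hpos : 0 < a) : Odd (a - 1) := by
  obtain ⟨b, hb⟩ := ha
  exact ⟨b - 1, by omega⟩

/-- the elements of `2`-power order of `²F₄(2^(2m+1))` have order at most `32` -/
theorem orderOf_le {K : Type*} [Field K] [Fintype K] {m : ℕ} (hK : Fintype.card K = 2 ^ (2 * m + 1))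
    (x : ↥(twistedF4 K (2 ^ m))) (hx : ∃ j : ℕ, orderOf x = 2 ^ j) : orderOf x ≤ 32 := by
  haveI := Cfsg.Agent.Helper36.SigmaF4.charP_two hK
  obtain ⟨σ, hσ⟩ := Cfsg.Agent.Helper36.SigmaF4.exists_sigma hK
  haveI : Fact (Nat.Prime 2) := ⟨Nat.prime_two⟩
  obtain ⟨j, hj⟩ := hx
  obtain ⟨U, hUdef⟩ : ∃ U : Subgroup ↥(twistedF4 K (2 ^ m)),
      U = (chevF4.posUnipotent K ⊓ twistedF4 K (2 ^ m)).subgroupOf (twistedF4 K (2 ^ m)) := ⟨_, rfl⟩
  have hcardU : Nat.card ↥U = (2 ^ (2 * m + 1)) ^ 12 := by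
    rw [← Cfsg.Agent.Helper36.F4Class.card_pos hK hσ, hUdef]
    exact Nat.card_congr (Subgroup.subgroupOfEquivOfLe inf_le_right).toEquiv
  have hU : IsPGroup 2 U := IsPGroup.of_card (n := (2 * m + 1) * 12) (by rw [hcardU, pow_mul])
  have hcardG := Cfsg.Agent.Helper36.F4Class.card_twisted hK hσ
  have hq : Even (2 ^ (2 * m + 1)) := ⟨2 ^ (2 * m), by ring⟩
  have hqpos : 0 < 2 ^ (2 * m + 1) := by positivity
  have hidx : ¬ 2 ∣ U.index := by
    have h1 := U.card_mul_index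
    rw [hcardU, hcardG, mul_assoc, mul_assoc, mul_assoc] at h1
    have h2 := Nat.eq_of_mul_eq_mul_left (by positivity) h1
    rw [h2, ← even_iff_two_dvd, Nat.not_even_iff_odd]
    refine Odd.mul (odd_pred_of_even hq hqpos) (Odd.mul ?_ (Odd.mul ?_ ?_))
    · exact Even.add_one (hq.pow_of_ne_zero (by norm_num))
    · exact odd_pred_of_even (hq.pow_of_ne_zero (by norm_num)) (by positivity)
    · exact Even.add_one (hq.pow_of_ne_zero (by norm_num))
  have hexp : ∀ u ∈ U, u ^ 32 = 1 := by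
    intro u hu
    rw [hUdef] at hu
    have hu' : (u : GL chevF4.Idx K) ∈ chevF4.posUnipotent K ⊓ twistedF4 K (2 ^ m) := Subgroup.mem_subgroupOf.mp hu
    apply Subtype.ext
    rw [Subgroup.coe_pow, Subgroup.coe_one]
    exact pow_eq_one_of_mem_pos _ hu'.1
  have h32 := pow_eq_one_of_sylow 2 U hU hidx 32 hexp x j hj
  exact Nat.le_of_dvd (by norm_num) (orderOf_dvd_of_pow_eq_one h32)

end Cfsg.Agent.Helper36.F4Exp
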