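import Cfsg.Agent.Helper36.F4Class
import Cfsg.Agent.S1112

/-!
Helper36: `²F₄ ≤ Fix σ`; the `σ`-fixed points of the unipotent subgroups of the two simple classes
lie in `²F₄`.
-/

set_option autoImplicit false

namespace Cfsg.Agent.Helper36.F4Class

open Cfsg Cfsg.Lie Cfsg.Agent.Helper36.Perfect Cfsg.Agent.Helper36.ChevSimple Cfsg.Agent.Helper36.Twist
  Cfsg.Agent.Helper36.TwistF4 Cfsg.Agent.Helper36.B2Class Cfsg.Agent.Helper36.SigmaF4
  Cfsg.Agent.Helper36.SigmaChev Cfsg.Agent.Helper36.LeviBruhat Cfsg.Agent.Helper40.UProd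
  Cfsg.Agent.Helper40.UData

set_option maxRecDepth 100000 in
theorem posRoots_F4 : chevF4.posRoots = [24, 25, 26, 27, 28, 29, 30, 31, 32, 33, 34, 35, 36, 37, 38, 39, 40,
    41, 42, 43, 44, 45, 46, 47] := by decide +kernel

section

variable {K : Type*} [Field K]

local notation "x18" => Cfsg.Agent.Helper18.xGL chevF4 K

theorem pw_four (a b c d : K) :
    pw chevF4 chevF4.posRoots (fun u => if u = 25 then a else if u = 27 then b else if u = 28 then c
      else if u = 30 then d else 0)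
      = chevF4.x K 25 a * chevF4.x K 27 b * chevF4.x K 28 c * chevF4.x K 30 d := by
  rw [posRoots_F4]
  simp [pw_cons, pw_nil, Cfsg.Agent.S1024.x_zero, mul_assoc]

theorem pw_two (a b : K) :
    pw chevF4 chevF4.posRoots (fun u => if u = 24 then a else if u = 33 then b else 0)
      = chevF4.x K 24 a * chevF4.x K 33 b := by
  rw [posRoots_F4]
  simp [pw_cons, pw_nil, Cfsg.Agent.S1024.x_zero, mul_assoc]

/-- uniqueness of sorted products over the class `S` -/
theorem four_inj (a b c d a' b' c' d' : K)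
    (h : x18 25 a * x18 27 b * x18 28 c * x18 30 d = x18 25 a' * x18 27 b' * x18 28 c' * x18 30 d') :
    a = a' ∧ b = b' ∧ c = c' ∧ d = d' := by
  have htri := Cfsg.Agent.Helper18.triOK_of_mem chevF4 hF4
  obtain ⟨φ, wit, hg, -⟩ := exists_grade chevF4 hF4
  have h' := congrArg (fun g : GL chevF4.Idx K => (g : Matrix chevF4.Idx chevF4.Idx K)) h
  simp only [Units.val_mul, Cfsg.Agent.Helper18.xGL_val chevF4 _ htri] at h'
  rw [← pw_four, ← pw_four] at h'
  have key := pw_unique (F := K) hF4 hg _ _ ?_ ?_ h'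
  · have e25 := congrFun key 25
    have e27 := congrFun key 27
    have e28 := congrFun key 28
    have e30 := congrFun key 30
    simp at e25 e27 e28 e30
    exact ⟨e25, e27, e28, e30⟩
  · intro r hr
    have : r ≠ 25 ∧ r ≠ 27 ∧ r ≠ 28 ∧ r ≠ 30 := by
      refine ⟨?_, ?_, ?_, ?_⟩ <;> (rintro rfl; exact hr ((isPosRoot_iff _).mpr (by norm_num)))
    simp [this.1, this.2.1, this.2.2.1, this.2.2.2]
  · intro r hr
    have : r ≠ 25 ∧ r ≠ 27 ∧ r ≠ 28 ∧ r ≠ 30 := by
      refine ⟨?_, ?_, ?_, ?_⟩ <;> (rintro rfl; exact hr ((isPosRoot_iff _).mpr (by norm_num)))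
    simp [this.1, this.2.1, this.2.2.1, this.2.2.2]

/-- uniqueness of products over the class `P` -/
theorem two_inj (a b a' b' : K) (h : x18 24 a * x18 33 b = x18 24 a' * x18 33 b') : a = a' ∧ b = b' := by
  have htri := Cfsg.Agent.Helper18.triOK_of_mem chevF4 hF4
  obtain ⟨φ, wit, hg, -⟩ := exists_grade chevF4 hF4
  have h' := congrArg (fun g : GL chevF4.Idx K => (g : Matrix chevF4.Idx chevF4.Idx K)) h
  simp only [Units.val_mul, Cfsg.Agent.Helper18.xGL_val chevF4 _ htri] at h'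
  rw [← pw_two, ← pw_two] at h'
  have key := pw_unique (F := K) hF4 hg _ _ ?_ ?_ h'
  · have e24 := congrFun key 24
    have e33 := congrFun key 33
    simp at e24 e33
    exact ⟨e24, e33⟩
  · intro r hr
    have : r ≠ 24 ∧ r ≠ 33 := by
      refine ⟨?_, ?_⟩ <;> (rintro rfl; exact hr ((isPosRoot_iff _).mpr (by norm_num)))
    simp [this.1, this.2]
  · intro r hr
    have : r ≠ 24 ∧ r ≠ 33 := by
      refine ⟨?_, ?_⟩ <;> (rintro rfl; exact hr ((isPosRoot_iff _).mpr (by norm_num)))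
    simp [this.1, this.2]

variable [CharP K 2]

/-- the normal form in sorted order -/
theorem nf_sorted (p q r s : K) :
    nf (x18 27) (x18 25) (x18 28) (x18 30) p q r s =
      x18 25 q * x18 27 p * x18 28 (r - p * q) * x18 30 (s - p ^ 2 * q) := by
  have R := relP18 (K := K)
  have e1 : x18 25 q * x18 27 p = nf (x18 27) (x18 25) (x18 28) (x18 30) p q (p * q) (p ^ 2 * q) := by
    have ea : x18 27 p = nf (x18 27) (x18 25) (x18 28) (x18 30) p 0 0 0 := by
      unfold nf; rw [zero_b R, zero_c R, zero_d R, mul_one, mul_one, mul_one]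
    have eb : x18 25 q = nf (x18 27) (x18 25) (x18 28) (x18 30) 0 q 0 0 := by
      unfold nf; rw [zero_a R, zero_c R, zero_d R, mul_one, mul_one, one_mul]
    rw [ea, eb, nf_mul R]
    congr 1 <;> ring
  have e2 : x18 28 (r - p * q) * x18 30 (s - p ^ 2 * q) =
      nf (x18 27) (x18 25) (x18 28) (x18 30) 0 0 (r - p * q) (s - p ^ 2 * q) := by
    unfold nf; rw [zero_a R, zero_b R, one_mul, one_mul]
  rw [mul_assoc (x18 25 q * x18 27 p), e1, e2, nf_mul R]
  congr 1 <;> ring

/-- uniqueness of the normal form of the class `S` -/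
theorem nf_inj (p q r s p' q' r' s' : K)
    (h : nf (x18 27) (x18 25) (x18 28) (x18 30) p q r s = nf (x18 27) (x18 25) (x18 28) (x18 30) p' q' r' s') :
    p = p' ∧ q = q' ∧ r = r' ∧ s = s' := by
  rw [nf_sorted, nf_sorted] at h
  obtain ⟨h1, h2, h3, h4⟩ := four_inj _ _ _ _ _ _ _ _ h
  subst h1 h2
  refine ⟨rfl, rfl, ?_, ?_⟩
  · linear_combination h3
  · linear_combination h4

theorem nfG_inj (p q r s p' q' r' s' : K)
    (h : nf (XG (K := K) 27) (XG 25) (XG 28) (XG 30) p q r s = nf (XG 27) (XG 25) (XG 28) (XG 30) p' q' r' s') :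
    p = p' ∧ q = q' ∧ r = r' ∧ s = s' :=
  nf_inj _ _ _ _ _ _ _ _ (congrArg Subtype.val h)

/-- `U_S` consists of normal forms -/
theorem US_JS_le : US chevF4 K JS ≤ nfSub (relP18 (K := K)) := by
  have htri := Cfsg.Agent.Helper18.triOK_of_mem chevF4 hF4
  unfold US
  rw [Subgroup.closure_le]
  rintro g ⟨r, t, hr, hJ, hg⟩
  have e : g = x18 r t := Units.ext (by rw [hg, Cfsg.Agent.Helper18.xGL_val chevF4 _ htri])
  subst e
  rcases inRootSub_JS r hJ ((isPosRoot_iff r).mp hr).1 with rfl | rfl | rfl | rfl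
  · exact xb_mem relP18 t
  · exact xa_mem relP18 t
  · exact xc_mem relP18 t
  · exact xd_mem relP18 t

end

end Cfsg.Agent.Helper36.F4Class
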