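import Cfsg.Agent.Helper36.F4Tw

/-!
Helper36: an element `m_S ∈ N ∩ ²F₄` representing the class `S`, from the Bruhat normal form of the
`σ`-fixed element `x_{-a-b}(1) x_{-2a-b}(1)`.
-/

set_option autoImplicit false

namespace Cfsg.Agent.Helper36.F4Class

open Cfsg Cfsg.Lie Cfsg.Agent.Helper36.Perfect Cfsg.Agent.Helper36.ChevSimple Cfsg.Agent.Helper36.Twist
  Cfsg.Agent.Helper36.TwistF4 Cfsg.Agent.Helper36.B2Class Cfsg.Agent.Helper36.SigmaF4
  Cfsg.Agent.Helper36.SigmaChev Cfsg.Agent.Helper36.LeviBruhat Cfsg.Agent.Helper36.FieldFix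

section

variable {K : Type*} [Field K]

local notation "x18" => Cfsg.Agent.Helper18.xGL chevF4 K

theorem x18_mem_neg (r : ℕ) (hr : r < 24) (t : K) : x18 r t ∈ chevF4.negUnipotent K :=
  Subgroup.subset_closure ⟨r, t, (isNegRoot_iff r).mpr hr,
    Cfsg.Agent.Helper18.xGL_val chevF4 _ (Cfsg.Agent.Helper18.triOK_of_mem chevF4 hF4) r t⟩

theorem x18_mem_levi (J : Set ℕ) (r : ℕ) (hr : chevF4.InRootSub J r) (t : K) :
    x18 r t ∈ chevF4.leviSubgroup K J := by
  unfold ChevalleyDatum.leviSubgroup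
  apply Subgroup.mem_sup_right
  exact Subgroup.subset_closure ⟨r, t, hr,
    Cfsg.Agent.Helper18.xGL_val chevF4 _ (Cfsg.Agent.Helper18.triOK_of_mem chevF4 hF4) r t⟩

theorem inJS_17 : chevF4.InRootSub JS 17 := inRootSub_JS_of 17 (by norm_num) (by decide) (by decide)
theorem inJS_19 : chevF4.InRootSub JS 19 := inRootSub_JS_of 19 (by norm_num) (by decide) (by decide)
theorem inJS_20 : chevF4.InRootSub JS 20 := inRootSub_JS_of 20 (by norm_num) (by decide) (by decide)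
theorem inJS_22 : chevF4.InRootSub JS 22 := inRootSub_JS_of 22 (by norm_num) (by decide) (by decide)
theorem inJS_25 : chevF4.InRootSub JS 25 := inRootSub_JS_of 25 (by norm_num) (by decide) (by decide)
theorem inJS_27 : chevF4.InRootSub JS 27 := inRootSub_JS_of 27 (by norm_num) (by decide) (by decide)

/-- `⟨n_{p₂}, n_{p₃}⟩ ≤ L_S` -/
theorem NJ_JS_le : NJ chevF4 K JS ≤ chevF4.leviSubgroup K JS := by
  unfold NJ
  rw [Subgroup.closure_le]
  rintro g ⟨j, hj, -, hg⟩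
  have e : g = Cfsg.Agent.Helper18.wordGL chevF4 K (chevF4.nWord (chevF4.simple j) (1 : K)) :=
    Units.ext (by rw [hg, Cfsg.Agent.Helper18.nWordGL_val chevF4 hF4])
  rw [SetLike.mem_coe, e, Cfsg.Agent.Helper18.wordGL_nWord']
  simp only [JS, Set.mem_insert_iff, Set.mem_singleton_iff] at hj
  rcases hj with rfl | rfl
  · have e1 : chevF4.simple 1 = 27 := by decide
    have e2 : chevF4.neg 27 = 20 := by decide
    rw [e1, e2]
    exact mul_mem (mul_mem (x18_mem_levi JS 27 inJS_27 _) (x18_mem_levi JS 20 inJS_20 _))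
      (x18_mem_levi JS 27 inJS_27 _)
  · have e1 : chevF4.simple 2 = 25 := by decide
    have e2 : chevF4.neg 25 = 22 := by decide
    rw [e1, e2]
    exact mul_mem (mul_mem (x18_mem_levi JS 25 inJS_25 _) (x18_mem_levi JS 22 inJS_22 _))
      (x18_mem_levi JS 25 inJS_25 _)

/-- `x_{-a-b}(1) x_{-2a-b}(1) ≠ 1` -/
theorem x0_ne_one : x18 19 1 * x18 17 1 ≠ 1 := by
  intro h
  have htri := Cfsg.Agent.Helper18.triOK_of_mem chevF4 hF4
  have e1 : x18 19 1 = x18 17 (-1) := by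
    rw [← Cfsg.Agent.Helper19.Poinc.xGL_inv' chevF4 hF4 17 (by decide)]
    exact eq_inv_of_mul_eq_one_left h
  have hw : ∀ i ∈ [1, 2, 1], i < chevF4.rank := by decide
  obtain ⟨-, η, hη, h1⟩ := Cfsg.Agent.Helper18.nWordsGL_conj_xGL (F := K) chevF4 hF4
    (Cfsg.Agent.Helper18.nConjHyp chevF4 hF4)
    (fun i s hi hs => Cfsg.Agent.Helper18.reflectRoot_lt chevF4 hF4 i s hi hs) [1, 2, 1] hw 19 (by decide)
  obtain ⟨-, η', hη', h2⟩ := Cfsg.Agent.Helper18.nWordsGL_conj_xGL (F := K) chevF4 hF4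
    (Cfsg.Agent.Helper18.nConjHyp chevF4 hF4)
    (fun i s hi hs => Cfsg.Agent.Helper18.reflectRoot_lt chevF4 hF4 i s hi hs) [1, 2, 1] hw 17 (by decide)
  have r1 : Cfsg.Agent.Helper18.rho chevF4 [1, 2, 1] 19 = 27 := by decide
  have r2 : Cfsg.Agent.Helper18.rho chevF4 [1, 2, 1] 17 = 30 := by decide
  rw [r1] at h1
  rw [r2] at h2
  have e2 := h1 1
  rw [e1, h2 (-1)] at e2
  have e3 : x18 30 ((η' : K) * -1) = x18 27 ((η : K) * 1) := mul_right_cancel e2
  have e4 := congrArg (fun g : GL chevF4.Idx K => (g : Matrix chevF4.Idx chevF4.Idx K)) e3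
  simp only [Cfsg.Agent.Helper18.xGL_val chevF4 _ htri] at e4
  have h0 := Cfsg.Agent.Helper36.RootSep.eq_zero_of_x_eq chevF4 hF4 27 30 (by decide)
    ((isPosRoot_iff 30).mpr (by norm_num)) (by norm_num) _ _ e4.symm
  rcases hη with rfl | rfl <;> simp at h0

variable [CharP K 2] [Fintype K] {m : ℕ} (hK : Fintype.card K = 2 ^ (2 * m + 1))
  {σ : ↥(chevF4.group K) ≃* ↥(chevF4.group K)} (hσ : Spec chevF4 σ rho (cF m))

omit [Fintype K] in
theorem BmG_zero_one : ((BmG m (0 : K) 1 : ↥(chevF4.group K)) : GL chevF4.Idx K) = x18 19 1 * x18 17 1 := by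
  have R := relM18 (K := K)
  unfold BmG beta nf
  simp only [Subgroup.coe_mul, XG_val, map_zero, map_one, zero_mul, zero_add, one_pow]
  rw [zero_a R, zero_b R, one_mul, one_mul]

include hK hσ in
/-- a representative of the class `S` in `N ∩ ²F₄` -/
theorem exists_mS : ∃ mS : GL chevF4.Idx K, mS ∈ chevF4.monomialSubgroup K ∧ mS ∈ twistedF4 K (2 ^ m) ∧
    mS ∉ chevF4.diagonalSubgroup K ∧ ∃ n' ∈ NJ chevF4 K JS, n'⁻¹ * mS ∈ chevF4.diagonalSubgroup K := by
  have hHN : chevF4.diagonalSubgroup K ≤ chevF4.monomialSubgroup K := le_sup_left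
  have hUB : chevF4.posUnipotent K ≤ chevF4.borelSubgroup K := le_sup_left
  have hHB : chevF4.diagonalSubgroup K ≤ chevF4.borelSubgroup K := le_sup_right
  set x0 : ↥(chevF4.group K) := BmG m 0 1 with hx0
  have hx0val : (x0 : GL chevF4.Idx K) = x18 19 1 * x18 17 1 := BmG_zero_one
  obtain ⟨u, h, n, v, hu, hh, hn, hv, e, hfu, hfv⟩ := hσ.fixed_bruhat hF4 x0 (sigma_BmG hK hσ 0 1)
  have e' : (x0 : GL chevF4.Idx K) = (u : GL chevF4.Idx K) * h * n * v := by
    rw [e]; simp only [Subgroup.coe_mul]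
  have hx0L : (x0 : GL chevF4.Idx K) ∈ chevF4.leviSubgroup K JS := by
    rw [hx0val]
    exact mul_mem (x18_mem_levi JS 19 inJS_19 _) (x18_mem_levi JS 17 inJS_17 _)
  obtain ⟨huS, hvS, n', hn'1, hn'2⟩ := levi_factors chevF4 hF4 JS NJ_JS_le _ _ _ _ _ hx0L hu hh hn hv e'
  obtain ⟨t1, v1, hu1⟩ := US_JS_fixed hK hσ u huS hfu
  obtain ⟨t2, v2, hv1⟩ := US_JS_fixed hK hσ v hvS hfv
  have huG : (u : GL chevF4.Idx K) ∈ twistedF4 K (2 ^ m) := by rw [hu1]; exact BpG_mem _ _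
  have hvG : (v : GL chevF4.Idx K) ∈ twistedF4 K (2 ^ m) := by rw [hv1]; exact BpG_mem _ _
  have hxG : (u : GL chevF4.Idx K) * h * n * v ∈ twistedF4 K (2 ^ m) := by
    rw [← e']; exact BmG_mem _ _
  have hn'N : n' ∈ chevF4.monomialSubgroup K := by
    have hle : NJ chevF4 K JS ≤ chevF4.monomialSubgroup K := by
      unfold NJ ChevalleyDatum.monomialSubgroup
      refine le_trans ?_ le_sup_right
      apply Subgroup.closure_mono
      rintro g ⟨j, -, hj, hg⟩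
      exact ⟨chevF4.simple j, Cfsg.Agent.Helper18.simple_lt chevF4
        (Cfsg.Agent.Helper18.simpleOK_of_mem chevF4 hF4) j hj, hg⟩
    exact hle hn'1
  refine ⟨(h : GL chevF4.Idx K) * n, mul_mem (hHN hh) hn,
    Cfsg.Agent.Helper36.SigmaBruhat.monomial_mem _ _ _ _ _ hxG huG hvG, ?_, n', hn'1, ?_⟩
  · intro hmem
    -- then `x0 ∈ B ∩ V = 1`
    have hvU : (v : GL chevF4.Idx K) ∈ chevF4.posUnipotent K :=
      Cfsg.Agent.Helper36.bruhatU_le_pos chevF4 _ hv
    have hxB : (x0 : GL chevF4.Idx K) ∈ chevF4.borelSubgroup K := by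
      rw [e', mul_assoc (u : GL chevF4.Idx K)]
      exact mul_mem (mul_mem (hUB hu) (hHB hmem)) (hUB hvU)
    have hxV : (x0 : GL chevF4.Idx K) ∈ chevF4.negUnipotent K := by
      rw [hx0val]
      exact mul_mem (x18_mem_neg 19 (by norm_num) _) (x18_mem_neg 17 (by norm_num) _)
    have hmem2 : (x0 : GL chevF4.Idx K) ∈ chevF4.borelSubgroup K ⊓ chevF4.negUnipotent K :=
      Subgroup.mem_inf.mpr ⟨hxB, hxV⟩
    rw [(Cfsg.Agent.S1037.result (F := K) chevF4 hF4).1, Subgroup.mem_bot, hx0val] at hmem2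
    exact x0_ne_one hmem2
  · have hnorm := mono_le_normalizer_diag (F := K) chevF4 hF4 (inv_mem hn'N)
    rw [Subgroup.mem_normalizer_iff] at hnorm
    have e3 : n'⁻¹ * ((h : GL chevF4.Idx K) * n) = (n'⁻¹ * h * n'⁻¹⁻¹) * (n'⁻¹ * n) := by group
    rw [e3]
    exact mul_mem ((hnorm _).mp hh) hn'2

end

end Cfsg.Agent.Helper36.F4Class
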