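import Cfsg.Agent.Helper36.SigmaFix
import Cfsg.Agent.Helper18.GraphAut.Types
import Cfsg.Agent.S1054
import Cfsg.Agent.S1080

/-!
Helper36: the twisting automorphism `σ` of `F₄(K)`, `|K| = 2^(2m+1)`: the exceptional graph
automorphism composed with `t ↦ t^(2^m)`; `σ(x_r(t)) = x_{ρ r}(t^(2^m λ_r))`.
-/

set_option autoImplicit false

namespace Cfsg.Agent.Helper36.SigmaF4

open Cfsg Cfsg.Lie Cfsg.Agent.Helper18 Cfsg.Agent.Helper18.GraphAut Cfsg.Agent.Helper36.SigmaChev

/-- the root permutation of the twist -/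
def rho (r : ℕ) : ℕ := gdF4.rho.getD r 0

/-- `1` on short roots, `0` on long roots -/
def sh (r : ℕ) : ℕ := if gdF4.shortR.getD r false then 1 else 0

theorem hF4 : chevF4 ∈ [chevG2, chevB2, chevD4, chevF4, chevE6, chevE7, chevE8] := by simp

set_option maxRecDepth 100000 in
theorem rho_lt : ∀ r < 48, rho r < 48 := by decide +kernel
set_option maxRecDepth 100000 in
theorem rho_rho : ∀ r < 48, rho (rho r) = r := by decide +kernel
set_option maxRecDepth 100000 in
theorem rho_pos : ∀ r < 48, 24 ≤ r → 24 ≤ rho r := by decide +kernel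
set_option maxRecDepth 100000 in
theorem rho_negR : ∀ r < 48, r < 24 → rho r < 24 := by decide +kernel
set_option maxRecDepth 100000 in
theorem rho_neg : ∀ r < 48, rho (chevF4.neg r) = chevF4.neg (rho r) := by decide +kernel
set_option maxRecDepth 100000 in
theorem sh_neg : ∀ r < 48, sh (chevF4.neg r) = sh r := by decide +kernel
set_option maxRecDepth 100000 in
theorem sh_rho : ∀ r < 48, sh (rho r) + sh r = 1 := by decide +kernel
set_option maxRecDepth 100000 in
theorem isPosRoot_F4 : ∀ r < 48, (chevF4.IsPosRoot r ↔ 24 ≤ r) := by decide +kernel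
set_option maxRecDepth 100000 in
theorem isNegRoot_F4 : ∀ r < 48, (chevF4.IsNegRoot r ↔ r < 24) := by decide +kernel

theorem isPosRoot_iff (r : ℕ) : chevF4.IsPosRoot r ↔ 24 ≤ r ∧ r < 48 := by
  constructor
  · intro h
    have h1 : r < 48 := h.1
    exact ⟨(isPosRoot_F4 r h1).mp h, h1⟩
  · rintro ⟨h1, h2⟩
    exact (isPosRoot_F4 r h2).mpr h1

theorem isNegRoot_iff (r : ℕ) : chevF4.IsNegRoot r ↔ r < 24 := by
  constructor
  · intro h
    have h1 : r < 48 := h.1
    exact (isNegRoot_F4 r h1).mp h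
  · intro h
    exact (isNegRoot_F4 r (by omega)).mpr h

section

variable {K : Type*} [Field K] [Fintype K]

theorem charP_two {m : ℕ} (hK : Fintype.card K = 2 ^ (2 * m + 1)) : CharP K 2 := by
  obtain ⟨r, hr⟩ := CharP.exists K
  have := hr
  obtain ⟨n, hrp, hn⟩ := FiniteField.card K r
  have h1 : r ∣ 2 ^ (2 * m + 1) := by
    rw [← hK, hn]
    exact dvd_pow_self r n.ne_zero
  have h2 : r ∣ 2 := hrp.dvd_of_dvd_pow h1
  have h3 : r = 2 := (Nat.prime_dvd_prime_iff_eq hrp Nat.prime_two).mp h2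
  rw [← h3]
  exact hr

/-- `t ^ (2^(2m+1)) = t` -/
theorem pow_card_eq {m : ℕ} (hK : Fintype.card K = 2 ^ (2 * m + 1)) (t : K) : t ^ (2 ^ (2 * m + 1)) = t := by
  rw [← hK]
  exact FiniteField.pow_card t

variable [CharP K 2]

/-- the field endomorphism of the twist on the root `r`: `t ↦ t^(2^m)` on long roots, `t ↦ t^(2^(m+1))`
on short roots -/
noncomputable def cF (m r : ℕ) : K →+* K := iterateFrobenius K 2 (m + sh r)

omit [Fintype K] in
theorem cF_apply (m r : ℕ) (t : K) : cF m r t = t ^ (2 ^ (m + sh r)) := by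
  unfold cF
  rw [iterateFrobenius_def]

omit [Fintype K] in
theorem cF_long (m r : ℕ) (h : sh r = 0) (t : K) : cF m r t = t ^ (2 ^ m) := by
  rw [cF_apply, h, add_zero]

omit [Fintype K] in
theorem cF_short (m r : ℕ) (h : sh r = 1) (t : K) : cF m r t = (t ^ (2 ^ m)) ^ 2 := by
  rw [cF_apply, h, pow_succ, pow_mul]

theorem cF_surj (m r : ℕ) : Function.Surjective (cF (K := K) m r) := by
  have h : Function.Injective (cF (K := K) m r) := RingHom.injective _
  exact Finite.injective_iff_surjective.mp h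

theorem exists_sigma {m : ℕ} (hK : Fintype.card K = 2 ^ (2 * m + 1)) :
    ∃ σ : ↥(chevF4.group K) ≃* ↥(chevF4.group K), Spec chevF4 σ rho (cF m) := by
  haveI : Fact (Nat.Prime 2) := ⟨Nat.prime_two⟩
  haveI : PerfectRing K 2 := inferInstance
  have htri := triOK_of_mem chevF4 hF4
  have hperf : ∀ x : K, ∃ y : K, y ^ 2 = x := by
    intro x
    obtain ⟨y, hy⟩ := (frobeniusEquiv K 2).surjective x
    exact ⟨y, by rw [← hy, frobeniusEquiv_apply, frobenius_def]⟩
  obtain ⟨hsimple, -⟩ := Cfsg.Agent.S1054.result (F := K) chevF4 (by simp)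
  obtain ⟨α, hα⟩ := graphAut_F4 hperf (normalHyp_of_isSimpleGroup _)
  obtain ⟨φ, hφ⟩ := Cfsg.Agent.S1080.result (F := K) chevF4 hF4 (iterateFrobeniusEquiv K 2 m)
  refine ⟨φ.trans α, ?_⟩
  refine
    { map_x := ?_
      pi_lt := rho_lt
      pi_pos := ?_
      pi_negR := ?_
      pi_neg := rho_neg
      c_neg := ?_
      c_surj := fun r _ => cF_surj m r }
  · intro r hr t hx
    have h1 := hφ ⟨xGL chevF4 K r t, hx⟩ r t hr (xGL_val chevF4 _ htri r t)
    have h2 := hα (φ ⟨xGL chevF4 K r t, hx⟩) r _ hr h1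
    apply Units.ext
    rw [MulEquiv.trans_apply, h2, xGL_val chevF4 _ htri, iterateFrobeniusEquiv_def, cF_apply]
    congr 1
    rw [← pow_mul, pow_add]
    unfold GData.lam sh
    show _ ^ (_ * (if gdF4.shortR.getD r false = true then 2 else 1)) = _
    split_ifs <;> simp
  · intro r hr
    rw [isPosRoot_iff] at hr ⊢
    exact ⟨rho_pos r hr.2 hr.1, rho_lt r hr.2⟩
  · intro r hr
    rw [isNegRoot_iff] at hr ⊢
    exact rho_negR r (by omega) hr
  · intro r hr
    unfold cF
    rw [sh_neg r hr]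

end

end Cfsg.Agent.Helper36.SigmaF4
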