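import Cfsg.Agent.Helper36.SigmaWeyl
import Cfsg.Agent.Helper36.SigmaF4
import Cfsg.Agent.Helper19.Twist.OrdD4

/-!
Helper36: the parabolic subgroup `⟨s_{p₂}, s_{p₃}⟩` of the Weyl group of `F₄`: its eight elements,
and those commuting with the root permutation of the twist (`1` and `(s_{p₂} s_{p₃})²`).
-/

set_option autoImplicit false
set_option maxRecDepth 100000

namespace Cfsg.Agent.Helper36.F4Weyl

open Cfsg Cfsg.Lie Cfsg.Agent.Helper18 Cfsg.Agent.Helper19.Cox Cfsg.Agent.Helper19.Poinc
  Cfsg.Agent.Helper19.Twist Cfsg.Agent.Helper36.SigmaF4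

/-- words for the eight elements of `⟨s_{p₂}, s_{p₃}⟩` -/
def L8 : List (List ℕ) := [[], [1], [2], [1, 2], [2, 1], [1, 2, 1], [2, 1, 2], [1, 2, 1, 2]]

/-- the eight elements are closed under multiplication -/
def closedL8 : Bool :=
  L8.all fun a => L8.all fun b => L8.any fun c =>
    (List.range 48).all fun x => actW reflTabsF4 4 48 (a ++ b) x == actW reflTabsF4 4 48 c x

theorem closedL8_ok : closedL8 = true := by decide +kernel

/-- closed under inverses -/
def invL8 : Bool :=
  L8.all fun a => L8.any fun c =>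
    (List.range 48).all fun x => actW reflTabsF4 4 48 a.reverse x == actW reflTabsF4 4 48 c x

theorem invL8_ok : invL8 = true := by decide +kernel

/-- the elements commuting with the root permutation -/
def fixL8 : Bool :=
  L8.all fun a => (a == [] || a == [1, 2, 1, 2]) ||
    (List.range 48).any fun r => actW reflTabsF4 4 48 a (rho r) != rho (actW reflTabsF4 4 48 a r)

theorem fixL8_ok : fixL8 = true := by decide +kernel

theorem mem_L8 (w : certF4.M.Group)
    (hw : w ∈ Subgroup.closure ({sg certF4.M 1, sg certF4.M 2} : Set certF4.M.Group)) :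
    ∃ a ∈ L8, w = gp certF4.M a := by
  induction hw using Subgroup.closure_induction with
  | mem x hx =>
    rcases hx with rfl | rfl
    · exact ⟨[1], by decide, (gp_singleton _ 1).symm⟩
    · exact ⟨[2], by decide, (gp_singleton _ 2).symm⟩
  | one => exact ⟨[], by decide, (gp_nil _).symm⟩
  | mul x y _ _ hx hy =>
    obtain ⟨a, ha, rfl⟩ := hx
    obtain ⟨b, hb, rfl⟩ := hy
    have h1 := closedL8_ok
    unfold closedL8 at h1
    rw [List.all_eq_true] at h1
    have h2 := h1 a ha
    rw [List.all_eq_true] at h2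
    have h3 := h2 b hb
    rw [List.any_eq_true] at h3
    obtain ⟨c, hc, h4⟩ := h3
    rw [List.all_eq_true] at h4
    refine ⟨c, hc, ?_⟩
    rw [← gp_append]
    apply gp_eq_of_actW certF4
    intro x hx
    exact beq_iff_eq.mp (h4 x (List.mem_range.mpr hx))
  | inv x _ hx =>
    obtain ⟨a, ha, rfl⟩ := hx
    have h1 := invL8_ok
    unfold invL8 at h1
    rw [List.all_eq_true] at h1
    have h2 := h1 a ha
    rw [List.any_eq_true] at h2
    obtain ⟨c, hc, h4⟩ := h2
    rw [List.all_eq_true] at h4
    refine ⟨c, hc, ?_⟩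
    rw [← gp_reverse]
    apply gp_eq_of_actW certF4
    intro x hx
    exact beq_iff_eq.mp (h4 x (List.mem_range.mpr hx))

/-- the elements of the parabolic subgroup `⟨s_{p₂}, s_{p₃}⟩` commuting with the root permutation -/
theorem isFix_parabolic_S (w : certF4.M.Group) (hw : IsFix certF4 rho w)
    (hJ : w ∈ Subgroup.closure ({sg certF4.M 1, sg certF4.M 2} : Set certF4.M.Group)) :
    w = 1 ∨ w = gp certF4.M [1, 2, 1, 2] := by
  obtain ⟨a, ha, rfl⟩ := mem_L8 w hJ
  have h1 := fixL8_ok
  unfold fixL8 at h1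
  rw [List.all_eq_true] at h1
  have h2 := h1 a ha
  rw [Bool.or_eq_true, Bool.or_eq_true, beq_iff_eq, beq_iff_eq, List.any_eq_true] at h2
  rcases h2 with (h2 | h2) | ⟨r, hr, h3⟩
  · left; rw [h2, gp_nil]
  · right; rw [h2]
  · exfalso
    have hr' : r < 48 := List.mem_range.mp hr
    have := hw r hr'
    rw [phi_gp, phi_gp] at this
    exact (bne_iff_ne.mp h3) this

end Cfsg.Agent.Helper36.F4Weyl
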