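import Cfsg.Agent.Helper36.F4MS
import Cfsg.Agent.Helper36.F4Weyl

/-!
Helper36: representatives `m_P`, `m_S` in `N ∩ ²F₄` of the two generators of the twisted Weyl group,
and a representative `n₀ = (m_P m_S)⁴` of the longest element.
-/

set_option autoImplicit false
set_option maxRecDepth 100000

namespace Cfsg.Agent.Helper36.F4Class

open Cfsg Cfsg.Lie Cfsg.Agent.Helper36.Perfect Cfsg.Agent.Helper36.Twist
  Cfsg.Agent.Helper36.TwistF4 Cfsg.Agent.Helper36.B2Class Cfsg.Agent.Helper36.SigmaF4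
  Cfsg.Agent.Helper36.SigmaChev Cfsg.Agent.Helper36.LeviBruhat Cfsg.Agent.Helper36.FieldFix
  Cfsg.Agent.Helper36.F4Weyl Cfsg.Agent.Helper19.Cox Cfsg.Agent.Helper19.Poinc Cfsg.Agent.Helper19.Twist

section

variable {K : Type*} [Field K]

instance instHN : (Cfsg.Agent.Helper18.HN chevF4 K).Normal := Cfsg.Agent.S1038.result chevF4 hF4

/-- the homomorphism `N → W(F₄)` -/
noncomputable abbrev thetaF4 : ↥(chevF4.monomialSubgroup K) →* certF4.M.Group :=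
  theta chevF4 hF4 certF4 (Cfsg.Agent.Helper18.nConjHyp chevF4 hF4)

/-- the image of `n_{p_j}` -/
theorem theta_of_nMat (j : ℕ) (hj : j < 4) (g : GL chevF4.Idx K)
    (hg : (g : Matrix chevF4.Idx chevF4.Idx K) = chevF4.nMat K (chevF4.simple j) 1) :
    ∃ hN : g ∈ chevF4.monomialSubgroup K, thetaF4 ⟨g, hN⟩ = sg certF4.M j := by
  have hs : chevF4.simple j < chevF4.nroots :=
    Cfsg.Agent.Helper18.simple_lt chevF4 (Cfsg.Agent.Helper18.simpleOK_of_mem chevF4 hF4) j hj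
  have e : g = ((Cfsg.Agent.Helper18.nN chevF4 K (chevF4.simple j) : ↥(chevF4.monomialSubgroup K)) :
      GL chevF4.Idx K) := by
    apply Units.ext
    rw [hg, Cfsg.Agent.Helper18.nN_val chevF4 hF4 _ hs, Cfsg.Agent.Helper18.nWordGL_val chevF4 hF4]
  subst e
  exact ⟨Subtype.property _, theta_nN chevF4 hF4 certF4 _ j hj⟩

/-- the image of `⟨n_{p₂}, n_{p₃}⟩` -/
theorem theta_NJ (n' : GL chevF4.Idx K) (hn' : n' ∈ NJ chevF4 K JS) :
    ∃ hN : n' ∈ chevF4.monomialSubgroup K,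
      thetaF4 ⟨n', hN⟩ ∈ Subgroup.closure ({sg certF4.M 1, sg certF4.M 2} : Set certF4.M.Group) := by
  unfold NJ at hn'
  induction hn' using Subgroup.closure_induction with
  | mem x hx =>
    obtain ⟨j, hj, hjr, hx⟩ := hx
    obtain ⟨hN, e⟩ := theta_of_nMat j hjr x hx
    refine ⟨hN, ?_⟩
    rw [e]
    simp only [JS, Set.mem_insert_iff, Set.mem_singleton_iff] at hj
    rcases hj with rfl | rfl
    · exact Subgroup.subset_closure (Or.inl rfl)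
    · exact Subgroup.subset_closure (Or.inr rfl)
  | one =>
    refine ⟨one_mem _, ?_⟩
    have : (⟨1, one_mem _⟩ : ↥(chevF4.monomialSubgroup K)) = 1 := rfl
    rw [this, map_one]
    exact one_mem _
  | mul x y _ _ hx hy =>
    obtain ⟨hx1, hx2⟩ := hx
    obtain ⟨hy1, hy2⟩ := hy
    refine ⟨mul_mem hx1 hy1, ?_⟩
    have : (⟨x * y, mul_mem hx1 hy1⟩ : ↥(chevF4.monomialSubgroup K)) = ⟨x, hx1⟩ * ⟨y, hy1⟩ := rfl
    rw [this, map_mul]
    exact mul_mem hx2 hy2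
  | inv x _ hx =>
    obtain ⟨hx1, hx2⟩ := hx
    refine ⟨inv_mem hx1, ?_⟩
    have : (⟨x⁻¹, inv_mem hx1⟩ : ↥(chevF4.monomialSubgroup K)) = (⟨x, hx1⟩ : ↥(chevF4.monomialSubgroup K))⁻¹ := rfl
    rw [this, map_inv]
    exact inv_mem hx2

variable [CharP K 2]

/-- the representative `n_{p₄} n_{p₁}` of the class `P` -/
noncomputable def mP (m : ℕ) : GL chevF4.Idx K := nP chevF4 haddF4 (phi (K := K) m) 24 33 1

theorem mP_mem_twisted (m : ℕ) : mP (K := K) m ∈ twistedF4 K (2 ^ m) := by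
  rw [twisted_eq]
  unfold mP
  rw [nP_eq chevF4 haddF4 (phi m) pairF4 hcommF4]
  have h1 : ∀ t : K, P2 chevF4 haddF4 (phi m) 24 33 t ∈ G₁ (phi (K := K) m) := by
    intro t
    rw [← Pp_eq (phi m) hcommF4]
    exact Pp_mem _ t
  have h2 : ∀ t : K, P2 chevF4 haddF4 (phi m) 23 14 t ∈ G₁ (phi (K := K) m) := by
    intro t
    rw [← Pm_eq (phi m) hcommF4]
    exact Pm_mem _ t
  exact mul_mem (mul_mem (h1 _) (h2 _)) (h1 _)

theorem mP_theta (m : ℕ) : ∃ hN : mP (K := K) m ∈ chevF4.monomialSubgroup K,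
    thetaF4 ⟨mP m, hN⟩ = gp certF4.M [3, 0] := by
  have e1 : ((nEl chevF4 haddF4 24 (1 : K) : GL chevF4.Idx K) : Matrix chevF4.Idx chevF4.Idx K) =
      chevF4.nMat K (chevF4.simple 3) 1 := Cfsg.Agent.Helper36.Perfect.coe_wordGL chevF4 haddF4 _
  have e2 : ((nEl chevF4 haddF4 33 (1 : K) : GL chevF4.Idx K) : Matrix chevF4.Idx chevF4.Idx K) =
      chevF4.nMat K (chevF4.simple 0) 1 := Cfsg.Agent.Helper36.Perfect.coe_wordGL chevF4 haddF4 _
  obtain ⟨h1, t1⟩ := theta_of_nMat 3 (by norm_num) _ e1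
  obtain ⟨h2, t2⟩ := theta_of_nMat 0 (by norm_num) _ e2
  have e : mP (K := K) m = nEl chevF4 haddF4 24 (1 : K) * nEl chevF4 haddF4 33 (1 : K) := by
    unfold mP nP
    rw [map_one]
  refine ⟨by rw [e]; exact mul_mem h1 h2, ?_⟩
  have e' : (⟨mP (K := K) m, by rw [e]; exact mul_mem h1 h2⟩ : ↥(chevF4.monomialSubgroup K)) =
      ⟨_, h1⟩ * ⟨_, h2⟩ := Subtype.ext e
  rw [e', map_mul, t1, t2]
  simp [gp]

variable [Fintype K] {m : ℕ} (hK : Fintype.card K = 2 ^ (2 * m + 1))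
  {σ : ↥(chevF4.group K) ≃* ↥(chevF4.group K)} (hσ : Spec chevF4 σ rho (cF m))

include hK hσ in
/-- a representative of the class `S` in `N ∩ ²F₄` with image `(s_{p₂} s_{p₃})²` -/
theorem exists_mS_theta : ∃ mS : GL chevF4.Idx K, mS ∈ twistedF4 K (2 ^ m) ∧
    ∃ hN : mS ∈ chevF4.monomialSubgroup K, thetaF4 ⟨mS, hN⟩ = gp certF4.M [1, 2, 1, 2] := by
  obtain ⟨mS, hN, hG, hnH, n', hn'1, hn'2⟩ := exists_mS hK hσ
  refine ⟨mS, hG, hN, ?_⟩
  obtain ⟨hn'N, hcl⟩ := theta_NJ n' hn'1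
  have hHN : chevF4.diagonalSubgroup K ≤ chevF4.monomialSubgroup K := le_sup_left
  have e : (⟨mS, hN⟩ : ↥(chevF4.monomialSubgroup K)) = ⟨n', hn'N⟩ * ⟨n'⁻¹ * mS, hHN hn'2⟩ := by
    apply Subtype.ext
    simp
  have e1 : thetaF4 (⟨n'⁻¹ * mS, hHN hn'2⟩ : ↥(chevF4.monomialSubgroup K)) = 1 :=
    (theta_eq_one_iff chevF4 hF4 certF4 _ _).mpr hn'2
  have e2 : thetaF4 ⟨mS, hN⟩ = thetaF4 ⟨n', hn'N⟩ := by
    rw [e, map_mul, e1, mul_one]
  obtain ⟨hGG, hfix⟩ := twisted_le_FixG hK hσ hG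
  have hfixW := hσ.theta_isFix hF4 certF4 (Cfsg.Agent.Helper18.nConjHyp chevF4 hF4) rootInjOK_F4
    ⟨mS, hN⟩ hGG hfix
  have hne : thetaF4 ⟨mS, hN⟩ ≠ 1 := by
    intro h1
    exact hnH ((theta_eq_one_iff chevF4 hF4 certF4 _ _).mp h1)
  rcases isFix_parabolic_S _ hfixW (by rw [e2]; exact hcl) with h | h
  · exact absurd h hne
  · exact h

end

end Cfsg.Agent.Helper36.F4Class
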