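import Cfsg.Agent.Helper36.F4Fix

/-!
Helper36: `²F₄ ≤ Fix σ`, and the `σ`-fixed points of `U_S`, `U_P` lie in `²F₄`.
-/

set_option autoImplicit false

namespace Cfsg.Agent.Helper36.F4Class

open Cfsg Cfsg.Lie Cfsg.Agent.Helper36.Perfect Cfsg.Agent.Helper36.ChevSimple Cfsg.Agent.Helper36.Twist
  Cfsg.Agent.Helper36.TwistF4 Cfsg.Agent.Helper36.B2Class Cfsg.Agent.Helper36.SigmaF4
  Cfsg.Agent.Helper36.SigmaChev Cfsg.Agent.Helper36.LeviBruhat

section

variable {K : Type*} [Field K]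

local notation "x18" => Cfsg.Agent.Helper18.xGL chevF4 K
local notation "xA" => Cfsg.Agent.Helper40.ChevAdd.xGL chevF4 haddF4 K

/-- the fixed points of `σ`, as a subgroup of the general linear group -/
def FixG (σ : ↥(chevF4.group K) ≃* ↥(chevF4.group K)) : Subgroup (GL chevF4.Idx K) where
  carrier := {g | ∃ hg : g ∈ chevF4.group K, σ ⟨g, hg⟩ = ⟨g, hg⟩}
  one_mem' := ⟨one_mem _, map_one σ⟩
  mul_mem' := by
    rintro a b ⟨ha, ha'⟩ ⟨hb, hb'⟩
    refine ⟨mul_mem ha hb, ?_⟩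
    have : (⟨a * b, mul_mem ha hb⟩ : ↥(chevF4.group K)) = ⟨a, ha⟩ * ⟨b, hb⟩ := rfl
    rw [this, map_mul, ha', hb']
  inv_mem' := by
    rintro a ⟨ha, ha'⟩
    refine ⟨inv_mem ha, ?_⟩
    have : (⟨a⁻¹, inv_mem ha⟩ : ↥(chevF4.group K)) = (⟨a, ha⟩ : ↥(chevF4.group K))⁻¹ := rfl
    rw [this, map_inv, ha']

theorem mem_FixG {σ : ↥(chevF4.group K) ≃* ↥(chevF4.group K)} (g : ↥(chevF4.group K)) :
    (g : GL chevF4.Idx K) ∈ FixG σ ↔ σ g = g := by
  constructor
  · rintro ⟨hg, h⟩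
    exact h
  · intro h
    exact ⟨g.2, h⟩

variable [CharP K 2]

theorem commute_P (s t : K) : Commute (XG (K := K) 33 s) (XG 24 t) := by
  have := xGL_commute chevF4 haddF4 (hcommF4 (K := K)) 33 24 (by decide) s t
  have h2 : Commute (x18 24 t) (x18 33 s) := by
    rw [x18_eq, x18_eq]; exact this
  exact (Subtype.ext h2.eq : XG 24 t * XG 33 s = XG 33 s * XG 24 t).symm

theorem commute_Pm (s t : K) : Commute (XG (K := K) 14 s) (XG 23 t) := by
  have := xGL_commute chevF4 haddF4 (hcommF4 (K := K)) 14 23 (by decide) s t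
  have h2 : Commute (x18 23 t) (x18 14 s) := by
    rw [x18_eq, x18_eq]; exact this
  exact (Subtype.ext h2.eq : XG 23 t * XG 14 s = XG 14 s * XG 23 t).symm

variable (m : ℕ)

/-- the generators, in the Chevalley group -/
noncomputable def PpG (t : K) : ↥(chevF4.group K) := XG 33 (phi m t) * XG 24 t
noncomputable def PmG (t : K) : ↥(chevF4.group K) := XG 14 (phi m t) * XG 23 t
noncomputable def BpG (t u : K) : ↥(chevF4.group K) := beta (XG 27) (XG 25) (XG 28) (XG 30) (phi m) t u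
noncomputable def BmG (t u : K) : ↥(chevF4.group K) := beta (XG 20) (XG 22) (XG 19) (XG 17) (phi m) t u

theorem PpG_val (t : K) : ((PpG m t : ↥(chevF4.group K)) : GL chevF4.Idx K) = Pp (phi m) t := by
  unfold PpG Pp
  rw [Subgroup.coe_mul, XG_val, XG_val, x18_eq, x18_eq]

theorem PmG_val (t : K) : ((PmG m t : ↥(chevF4.group K)) : GL chevF4.Idx K) = Pm (phi m) t := by
  unfold PmG Pm
  rw [Subgroup.coe_mul, XG_val, XG_val, x18_eq, x18_eq]

theorem BpG_val (t u : K) : ((BpG m t u : ↥(chevF4.group K)) : GL chevF4.Idx K) = Bp (phi m) t u := by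
  unfold BpG Bp beta nf
  simp only [Subgroup.coe_mul, XG_val, x18_eq]

theorem BmG_val (t u : K) : ((BmG m t u : ↥(chevF4.group K)) : GL chevF4.Idx K) = Bm (phi m) t u := by
  unfold BmG Bm beta nf
  simp only [Subgroup.coe_mul, XG_val, x18_eq]

theorem twisted_eq : twistedF4 K (2 ^ m) = G₁ (phi (K := K) m) := by
  unfold twistedF4 ChevalleyDatum.genSubgroup G₁
  rw [Cfsg.Agent.S1112.gens_eq (2 ^ m) (phi m) (phi_apply m)]

variable [Fintype K] {m} (hK : Fintype.card K = 2 ^ (2 * m + 1))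
  {σ : ↥(chevF4.group K) ≃* ↥(chevF4.group K)} (hσ : Spec chevF4 σ rho (cF m))

include hK hσ in
theorem sigma_PpG (t : K) : σ (PpG m t) = PpG m t := by
  have := pair_map (XG (K := K) 33) (XG 24) (phi m) (phi_phi hK) σ.toMonoidHom
    (fun s => by
      show σ (XG 33 s) = _
      rw [map_XG hσ 33 (by norm_num), cF_short' m 33 (by decide)]; rfl)
    (fun s => by
      show σ (XG 24 s) = _
      rw [map_XG hσ 24 (by norm_num), cF_long' m 24 (by decide)]; rfl)
    commute_P t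
  exact this

include hK hσ in
theorem sigma_PmG (t : K) : σ (PmG m t) = PmG m t := by
  have := pair_map (XG (K := K) 14) (XG 23) (phi m) (phi_phi hK) σ.toMonoidHom
    (fun s => by
      show σ (XG 14 s) = _
      rw [map_XG hσ 14 (by norm_num), cF_short' m 14 (by decide)]; rfl)
    (fun s => by
      show σ (XG 23 s) = _
      rw [map_XG hσ 23 (by norm_num), cF_long' m 23 (by decide)]; rfl)
    commute_Pm t
  exact this

include hK hσ in
theorem sigma_BpG (t u : K) : σ (BpG m t u) = BpG m t u :=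
  (twP hσ).map_beta relPG (phi m) (phi_phi hK) t u

include hK hσ in
theorem sigma_BmG (t u : K) : σ (BmG m t u) = BmG m t u :=
  (twM hσ).map_beta relMG (phi m) (phi_phi hK) t u

include hK hσ in
/-- the twisted group is fixed by `σ` -/
theorem twisted_le_FixG : twistedF4 K (2 ^ m) ≤ FixG σ := by
  rw [twisted_eq, G₁, Subgroup.closure_le]
  rintro g (⟨t, rfl | rfl⟩ | ⟨t, u, rfl | rfl⟩)
  · rw [← PpG_val, SetLike.mem_coe, mem_FixG]
    exact sigma_PpG hK hσ t
  · rw [← PmG_val, SetLike.mem_coe, mem_FixG]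
    exact sigma_PmG hK hσ t
  · rw [← BpG_val, SetLike.mem_coe, mem_FixG]
    exact sigma_BpG hK hσ t u
  · rw [← BmG_val, SetLike.mem_coe, mem_FixG]
    exact sigma_BmG hK hσ t u

include hK hσ in
/-- the `σ`-fixed points of `U_S` lie in the twisted group -/
theorem US_JS_fixed (u : ↥(chevF4.group K)) (hu : (u : GL chevF4.Idx K) ∈ US chevF4 K JS)
    (hfix : σ u = u) : ∃ t v : K, u = BpG m t v := by
  obtain ⟨p, q, r, s, e⟩ := US_JS_le hu
  have e' : u = nf (XG 27) (XG 25) (XG 28) (XG 30) p q r s := Subtype.ext e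
  rw [e'] at hfix ⊢
  exact ⟨q, r + phi m q * q, (twP hσ).fixed relPG (phi m) (phi_phi hK) nfG_inj p q r s hfix⟩

theorem BpG_mem (t u : K) : ((BpG m t u : ↥(chevF4.group K)) : GL chevF4.Idx K) ∈ twistedF4 K (2 ^ m) := by
  rw [BpG_val, twisted_eq]
  exact Bp_mem _ t u

theorem BmG_mem (t u : K) : ((BmG m t u : ↥(chevF4.group K)) : GL chevF4.Idx K) ∈ twistedF4 K (2 ^ m) := by
  rw [BmG_val, twisted_eq]
  exact Bm_mem _ t u

theorem PpG_mem (t : K) : ((PpG m t : ↥(chevF4.group K)) : GL chevF4.Idx K) ∈ twistedF4 K (2 ^ m) := by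
  rw [PpG_val, twisted_eq]
  exact Pp_mem _ t

theorem PmG_mem (t : K) : ((PmG m t : ↥(chevF4.group K)) : GL chevF4.Idx K) ∈ twistedF4 K (2 ^ m) := by
  rw [PmG_val, twisted_eq]
  exact Pm_mem _ t

end

end Cfsg.Agent.Helper36.F4Class
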