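import Cfsg.Agent.Helper36.F4UStep
import Cfsg.Agent.Helper40.UDataF4

/-!
Helper36: two gradings of the roots of `F₄` (in which the roots of the class `P`, resp. `S`, come
first), and the fixed points of the twist on the root subgroups of the two simple classes.
-/

set_option autoImplicit false
set_option maxRecDepth 100000
set_option linter.unusedSectionVars false

namespace Cfsg.Agent.Helper36.F4Class

open Cfsg Cfsg.Lie Cfsg.Agent.Helper36.SigmaF4 Cfsg.Agent.Helper36.SigmaChev
  Cfsg.Agent.Helper36.USplit Cfsg.Agent.Helper19.Cox Cfsg.Agent.Helper19.Poinc Cfsg.Agent.Helper19.Twist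
  Cfsg.Agent.Helper40.UProd Cfsg.Agent.Helper36.B2Class Cfsg.Agent.Helper36.LeviBruhat
  Cfsg.Agent.Helper36.TwistF4

/-- the grading with values `1, 100, 1000, 10` on the fundamental roots -/
def phiP (r : ℕ) : ℤ :=
  2312 * chevF4.cartan 0 r + 4623 * chevF4.cartan 1 r + 6834 * chevF4.cartan 2 r + 3422 * chevF4.cartan 3 r

/-- the grading with values `100, 1, 10, 1000` on the fundamental roots -/
def phiS (r : ℕ) : ℤ :=
  1223 * chevF4.cartan 0 r + 2346 * chevF4.cartan 1 r + 3468 * chevF4.cartan 2 r + 2234 * chevF4.cartan 3 r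

theorem gradeOK_P : gradeOK' chevF4 phiP Cfsg.Agent.Helper40.UData.witF4 = true := by decide +kernel

theorem gradeOK_S : gradeOK' chevF4 phiS Cfsg.Agent.Helper40.UData.witF4 = true := by decide +kernel

theorem closed_AP : ClosedList chevF4 phiP [33, 24] := closedOK_spec (by decide +kernel)

theorem closed_AS : ClosedList chevF4 phiS [27, 25, 28, 30] := closedOK_spec (by decide +kernel)

section

variable {K : Type*} [Field K] [CharP K 2] [Fintype K] {m : ℕ}
  {σ : ↥(chevF4.group K) ≃* ↥(chevF4.group K)}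
  (hK : Fintype.card K = 2 ^ (2 * m + 1)) (hσ : Spec chevF4 σ rho (cF m))

local notation "x18" => Cfsg.Agent.Helper18.xGL chevF4 K

theorem listSubgroup_AS_le : listSubgroup chevF4 K [27, 25, 28, 30] ≤ US chevF4 K JS := by
  unfold listSubgroup US
  apply Subgroup.closure_mono
  rintro g ⟨r, t, hr, hg⟩
  simp only [List.mem_cons, List.not_mem_nil, or_false] at hr
  refine ⟨r, t, ?_, ?_, hg⟩
  · rw [isPosRoot_iff]
    rcases hr with rfl | rfl | rfl | rfl <;> norm_num
  · rcases hr with rfl | rfl | rfl | rfl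
    · exact inRootSub_JS_of 27 (by norm_num) (by decide) (by decide)
    · exact inRootSub_JS_of 25 (by norm_num) (by decide) (by decide)
    · exact inRootSub_JS_of 28 (by norm_num) (by decide) (by decide)
    · exact inRootSub_JS_of 30 (by norm_num) (by decide) (by decide)

theorem x18_mem_list (P : List ℕ) (r : ℕ) (hr : r ∈ P) (t : K) : x18 r t ∈ listSubgroup chevF4 K P :=
  Subgroup.subset_closure ⟨r, t, hr,
    Cfsg.Agent.Helper18.xGL_val chevF4 _ (Cfsg.Agent.Helper18.triOK_of_mem chevF4 hF4) r t⟩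

theorem BpG_mem_list (t u : K) :
    ((BpG m t u : ↥(chevF4.group K)) : GL chevF4.Idx K) ∈ listSubgroup chevF4 K [27, 25, 28, 30] := by
  unfold BpG beta nf
  simp only [Subgroup.coe_mul, XG_val]
  exact mul_mem (mul_mem (mul_mem (x18_mem_list _ 27 (by simp) _) (x18_mem_list _ 25 (by simp) _))
    (x18_mem_list _ 28 (by simp) _)) (x18_mem_list _ 30 (by simp) _)

theorem PpG_mem_list (t : K) :
    ((PpG m t : ↥(chevF4.group K)) : GL chevF4.Idx K) ∈ listSubgroup chevF4 K [33, 24] := by
  unfold PpG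
  simp only [Subgroup.coe_mul, XG_val]
  exact mul_mem (x18_mem_list _ 33 (by simp) _) (x18_mem_list _ 24 (by simp) _)

include hK hσ in
/-- the class `S` -/
theorem goodL_AS : GoodL σ m [27, 25, 28, 30] 2 := by
  have hsurj : ∀ u ∈ listSubgroup chevF4 K [27, 25, 28, 30] ⊓ FixS σ,
      ∃ t v : K, u = ((BpG m t v : ↥(chevF4.group K)) : GL chevF4.Idx K) := by
    rintro u ⟨hu1, hu2, hu3⟩
    obtain ⟨t, v, e⟩ := US_JS_fixed hK hσ ⟨u, hu2⟩ (listSubgroup_AS_le hu1) hu3
    exact ⟨t, v, congrArg Subtype.val e⟩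
  constructor
  · intro u hu
    obtain ⟨t, v, rfl⟩ := hsurj u hu
    exact BpG_mem t v
  · have hcard : Nat.card (K × K) = (2 ^ (2 * m + 1)) ^ 2 := by
      rw [Nat.card_prod, Nat.card_eq_fintype_card, hK, pow_two]
    rw [← hcard]
    symm
    apply Nat.card_congr
    refine Equiv.ofBijective (fun p : K × K =>
      (⟨((BpG m p.1 p.2 : ↥(chevF4.group K)) : GL chevF4.Idx K),
        ⟨BpG_mem_list p.1 p.2, (BpG m p.1 p.2).2, sigma_BpG hK hσ p.1 p.2⟩⟩ :
        ↥(listSubgroup chevF4 K [27, 25, 28, 30] ⊓ FixS σ))) ⟨?_, ?_⟩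
    · rintro ⟨t, v⟩ ⟨t', v'⟩ h
      have h0 : ((BpG m t v : ↥(chevF4.group K)) : GL chevF4.Idx K) = (BpG m t' v' : ↥(chevF4.group K)) :=
        congrArg (fun z : ↥(listSubgroup chevF4 K [27, 25, 28, 30] ⊓ FixS σ) => (z : GL chevF4.Idx K)) h
      have h1 : (BpG m t v : ↥(chevF4.group K)) = BpG m t' v' := Subtype.ext h0
      unfold BpG beta at h1
      obtain ⟨-, e2, e3, -⟩ := nfG_inj _ _ _ _ _ _ _ _ h1
      subst e2
      have e4 : v = v' := add_left_cancel e3
      rw [e4]
    · rintro ⟨u, hu⟩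
      obtain ⟨t, v, rfl⟩ := hsurj u hu
      exact ⟨(t, v), rfl⟩

include hK hσ in
/-- the class `P` -/
theorem goodL_AP : GoodL σ m [33, 24] 1 := by
  have hsurj : ∀ u ∈ listSubgroup chevF4 K [33, 24] ⊓ FixS σ,
      ∃ t : K, u = ((PpG m t : ↥(chevF4.group K)) : GL chevF4.Idx K) := by
    rintro u ⟨hu1, hu2, hu3⟩
    obtain ⟨t, -, hut⟩ := exists_pwG hF4 gradeOK_P _ closed_AP u hu1
    have e1 : (⟨u, hu2⟩ : ↥(chevF4.group K)) = XG 33 (t 33) * XG 24 (t 24) := by
      apply Subtype.ext
      show u = _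
      rw [hut]
      simp [pwG, XG_val]
    rw [e1] at hu3
    have := pair_fixed (XG (K := K) 33) (XG 24) (phi m) (phi_phi hK) σ.toMonoidHom
      (fun s => by
        show σ (XG 33 s) = _
        rw [map_XG hσ 33 (by norm_num), cF_short' m 33 (by decide)]; rfl)
      (fun s => by
        show σ (XG 24 s) = _
        rw [map_XG hσ 24 (by norm_num), cF_long' m 24 (by decide)]; rfl)
      commute_P
      (fun s t s' t' h => by
        have h' : x18 33 s * x18 24 t = x18 33 s' * x18 24 t' := congrArg Subtype.val h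
        have hcm : ∀ a b : K, x18 33 a * x18 24 b = x18 24 b * x18 33 a := fun a b =>
          congrArg Subtype.val (commute_P (K := K) a b).eq
        rw [hcm, hcm] at h'
        obtain ⟨e1, e2⟩ := two_inj _ _ _ _ h'
        exact ⟨e2, e1⟩)
      (t 33) (t 24) hu3
    refine ⟨t 24, ?_⟩
    have e2 := congrArg Subtype.val (e1.trans this)
    exact e2
  constructor
  · intro u hu
    obtain ⟨t, rfl⟩ := hsurj u hu
    exact PpG_mem t
  · have hcard : Nat.card K = (2 ^ (2 * m + 1)) ^ 1 := by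
      rw [Nat.card_eq_fintype_card, hK, pow_one]
    rw [← hcard]
    symm
    apply Nat.card_congr
    refine Equiv.ofBijective (fun t : K =>
      (⟨((PpG m t : ↥(chevF4.group K)) : GL chevF4.Idx K),
        ⟨PpG_mem_list t, (PpG m t).2, sigma_PpG hK hσ t⟩⟩ :
        ↥(listSubgroup chevF4 K [33, 24] ⊓ FixS σ))) ⟨?_, ?_⟩
    · intro t t' h
      have h1 : x18 33 (phi m t) * x18 24 t = x18 33 (phi m t') * x18 24 t' :=
        congrArg (fun z : ↥(listSubgroup chevF4 K [33, 24] ⊓ FixS σ) => (z : GL chevF4.Idx K)) h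
      have hcm : ∀ a b : K, x18 33 a * x18 24 b = x18 24 b * x18 33 a := fun a b =>
        congrArg Subtype.val (commute_P (K := K) a b).eq
      rw [hcm, hcm] at h1
      exact (two_inj _ _ _ _ h1).1
    · rintro ⟨u, hu⟩
      obtain ⟨t, rfl⟩ := hsurj u hu
      exact ⟨t, rfl⟩

end

end Cfsg.Agent.Helper36.F4Class
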