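import Cfsg.Agent.Helper36.F4UBase

/-!
Helper36: the chain of subgroups `U_w⁻`, `w` in the twisted Weyl group of `²F₄`: their fixed points
under the twist lie in `²F₄` and are counted.
-/

set_option autoImplicit false
set_option maxRecDepth 100000
set_option linter.unusedSectionVars false

namespace Cfsg.Agent.Helper36.F4Class

open Cfsg Cfsg.Lie Cfsg.Agent.Helper36.SigmaF4 Cfsg.Agent.Helper36.SigmaChev
  Cfsg.Agent.Helper36.USplit Cfsg.Agent.Helper19.Cox Cfsg.Agent.Helper19.Poinc Cfsg.Agent.Helper19.Twist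
  Cfsg.Agent.Helper40.UProd

/-- the checks for one step of the chain -/
def stepOK (φ : ℕ → ℤ) (A R prev word : List ℕ) : Bool :=
  closedOK chevF4 φ (A ++ R) && closedOK chevF4 φ R && R.all (fun r => R.contains (rho r)) &&
  prev.all (fun r => decide (r < 48)) &&
  R.all (fun r => prev.contains (actW Cfsg.Agent.Helper18.reflTabsF4 4 48 word r)) &&
  prev.all (fun r => R.any (fun r' => actW Cfsg.Agent.Helper18.reflTabsF4 4 48 word r' == r))

section

variable {K : Type*} [Field K] [CharP K 2] [Fintype K] {m : ℕ}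
  {σ : ↥(chevF4.group K) ≃* ↥(chevF4.group K)}
  (hK : Fintype.card K = 2 ^ (2 * m + 1)) (hσ : Spec chevF4 σ rho (cF m))

include hK hσ in
theorem GoodL.step {φ : ℕ → ℤ} {wit : ℕ → ℕ × ℕ} (hg : gradeOK' chevF4 φ wit = true)
    {A R prev word : List ℕ} {eA e : ℕ} (hA : ClosedList chevF4 φ A) (hπA : ∀ r ∈ A, rho r ∈ A)
    (hAgood : GoodL σ m A eA) (hok : stepOK φ A R prev word = true)
    (n : GL chevF4.Idx K) (hnN : n ∈ chevF4.monomialSubgroup K) (hnG : n ∈ twistedF4 K (2 ^ m))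
    (hθ : thetaF4 ⟨n, hnN⟩ = gp certF4.M word) (hprev : GoodL σ m prev e) :
    GoodL σ m (A ++ R) (eA + e) := by
  unfold stepOK at hok
  simp only [Bool.and_eq_true, List.all_eq_true, List.contains_iff_mem, decide_eq_true_eq,
    List.any_eq_true, beq_iff_eq] at hok
  obtain ⟨⟨⟨⟨⟨h1, h2⟩, h3⟩, h4⟩, h5⟩, h6⟩ := hok
  have hAR := closedOK_spec h1
  have hR := closedOK_spec h2
  have hRgood : GoodL σ m R e :=
    GoodL.conj hK hσ word h4 (fun r hr => (hR.pos r hr).1) h5 h6 n hnN hnG hθ hprev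
  exact GoodL.split hσ hg hAR hA hR hπA h3 hAgood hRgood

include hK hσ in
theorem GoodL.stepP {R prev : List ℕ} {e : ℕ} (hok : stepOK phiP [33, 24] R prev [3, 0] = true)
    (hprev : GoodL σ m prev e) : GoodL σ m ([33, 24] ++ R) (1 + e) := by
  obtain ⟨hP2, hP3⟩ := mP_theta (K := K) m
  exact GoodL.step hK hσ gradeOK_P closed_AP (by decide) (goodL_AP hK hσ) hok (mP m) hP2
    (mP_mem_twisted m) hP3 hprev

include hK hσ in
theorem GoodL.stepS {R prev : List ℕ} {e : ℕ} (hok : stepOK phiS [27, 25, 28, 30] R prev [1, 2, 1, 2] = true)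
    (hprev : GoodL σ m prev e) : GoodL σ m ([27, 25, 28, 30] ++ R) (2 + e) := by
  obtain ⟨mS, hS1, hS2, hS3⟩ := exists_mS_theta hK hσ
  exact GoodL.step hK hσ gradeOK_S closed_AS (by decide) (goodL_AS hK hσ) hok mS hS2 hS1 hS3 hprev

/-! the chain starting with `P` -/

def La1 : List ℕ := [33, 24]
def La2 : List ℕ := [27, 25, 28, 30, 37, 32]
def La3 : List ℕ := [33, 24, 34, 26, 36, 38, 42, 43]
def La4 : List ℕ := [27, 25, 28, 30, 35, 37, 31, 32, 39, 40, 45, 46]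
def La5 : List ℕ := [33, 24, 34, 26, 29, 36, 41, 38, 42, 39, 43, 44, 45, 47]
def La6 : List ℕ := [27, 25, 28, 30, 35, 37, 41, 29, 31, 32, 38, 39, 40, 43, 44, 45, 46, 47]
def La7 : List ℕ := [33, 24, 34, 26, 35, 29, 36, 37, 41, 31, 38, 42, 32, 39, 43, 40, 44, 45, 46, 47]
def La8 : List ℕ := [27, 25, 28, 30, 33, 34, 35, 37, 41, 24, 26, 29, 31, 32, 36, 38, 39, 40, 42, 43, 44, 45, 46, 47]

/-! the chain starting with `S` -/

def Lb1 : List ℕ := [27, 25, 28, 30]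
def Lb2 : List ℕ := [33, 24, 34, 26, 36, 42]
def Lb3 : List ℕ := [27, 25, 28, 30, 35, 37, 31, 32, 40, 46]
def Lb4 : List ℕ := [33, 24, 34, 26, 29, 36, 41, 38, 42, 43, 44, 47]
def Lb5 : List ℕ := [27, 25, 28, 30, 35, 37, 41, 29, 31, 32, 39, 40, 44, 45, 46, 47]
def Lb6 : List ℕ := [33, 24, 34, 26, 35, 29, 36, 41, 31, 38, 42, 39, 43, 40, 44, 45, 46, 47]
def Lb7 : List ℕ := [27, 25, 28, 30, 34, 35, 37, 41, 26, 29, 31, 32, 36, 38, 39, 40, 42, 43, 44, 45, 46, 47]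

include hK hσ in
theorem goodL_a1 : GoodL σ m La1 1 := goodL_AP hK hσ

include hK hσ in
theorem goodL_a2 : GoodL σ m La2 3 :=
  GoodL.stepS hK hσ (R := [37, 32]) (by decide +kernel) (goodL_a1 hK hσ)

include hK hσ in
theorem goodL_a3 : GoodL σ m La3 4 :=
  GoodL.stepP hK hσ (R := [34, 26, 36, 38, 42, 43]) (by decide +kernel) (goodL_a2 hK hσ)

include hK hσ in
theorem goodL_a4 : GoodL σ m La4 6 :=
  GoodL.stepS hK hσ (R := [35, 37, 31, 32, 39, 40, 45, 46]) (by decide +kernel) (goodL_a3 hK hσ)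

include hK hσ in
theorem goodL_a5 : GoodL σ m La5 7 :=
  GoodL.stepP hK hσ (R := [34, 26, 29, 36, 41, 38, 42, 39, 43, 44, 45, 47]) (by decide +kernel)
    (goodL_a4 hK hσ)

include hK hσ in
theorem goodL_a6 : GoodL σ m La6 9 :=
  GoodL.stepS hK hσ (R := [35, 37, 41, 29, 31, 32, 38, 39, 40, 43, 44, 45, 46, 47]) (by decide +kernel)
    (goodL_a5 hK hσ)

include hK hσ in
theorem goodL_a7 : GoodL σ m La7 10 :=
  GoodL.stepP hK hσ (R := [34, 26, 35, 29, 36, 37, 41, 31, 38, 42, 32, 39, 43, 40, 44, 45, 46, 47])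
    (by decide +kernel) (goodL_a6 hK hσ)

include hK hσ in
theorem goodL_a8 : GoodL σ m La8 12 :=
  GoodL.stepS hK hσ
    (R := [33, 34, 35, 37, 41, 24, 26, 29, 31, 32, 36, 38, 39, 40, 42, 43, 44, 45, 46, 47])
    (by decide +kernel) (goodL_a7 hK hσ)

include hK hσ in
theorem goodL_b1 : GoodL σ m Lb1 2 := goodL_AS hK hσ

include hK hσ in
theorem goodL_b2 : GoodL σ m Lb2 3 :=
  GoodL.stepP hK hσ (R := [34, 26, 36, 42]) (by decide +kernel) (goodL_b1 hK hσ)

include hK hσ in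
theorem goodL_b3 : GoodL σ m Lb3 5 :=
  GoodL.stepS hK hσ (R := [35, 37, 31, 32, 40, 46]) (by decide +kernel) (goodL_b2 hK hσ)

include hK hσ in
theorem goodL_b4 : GoodL σ m Lb4 6 :=
  GoodL.stepP hK hσ (R := [34, 26, 29, 36, 41, 38, 42, 43, 44, 47]) (by decide +kernel)
    (goodL_b3 hK hσ)

include hK hσ in
theorem goodL_b5 : GoodL σ m Lb5 8 :=
  GoodL.stepS hK hσ (R := [35, 37, 41, 29, 31, 32, 39, 40, 44, 45, 46, 47]) (by decide +kernel)
    (goodL_b4 hK hσ)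

include hK hσ in
theorem goodL_b6 : GoodL σ m Lb6 9 :=
  GoodL.stepP hK hσ (R := [34, 26, 35, 29, 36, 41, 31, 38, 42, 39, 43, 40, 44, 45, 46, 47])
    (by decide +kernel) (goodL_b5 hK hσ)

include hK hσ in
theorem goodL_b7 : GoodL σ m Lb7 11 :=
  GoodL.stepS hK hσ
    (R := [34, 35, 37, 41, 26, 29, 31, 32, 36, 38, 39, 40, 42, 43, 44, 45, 46, 47])
    (by decide +kernel) (goodL_b6 hK hσ)

end

end Cfsg.Agent.Helper36.F4Class
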