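import Cfsg.Agent.Helper36.USplit
import Cfsg.Agent.Helper36.F4Core

/-!
Helper36: one step of the chain computing the fixed points of the twist on the subgroups
`U_w⁻` of `F₄`, for `w` in the twisted Weyl group.
-/

set_option autoImplicit false
set_option maxRecDepth 100000
set_option linter.unusedSectionVars false

namespace Cfsg.Agent.Helper36.F4Class

open Cfsg Cfsg.Lie Cfsg.Agent.Helper36.SigmaF4 Cfsg.Agent.Helper36.SigmaChev
  Cfsg.Agent.Helper36.USplit Cfsg.Agent.Helper19.Cox Cfsg.Agent.Helper19.Poinc Cfsg.Agent.Helper19.Twist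
  Cfsg.Agent.Helper40.UProd

section

variable {K : Type*} [Field K] [CharP K 2] [Fintype K] {m : ℕ}
  {σ : ↥(chevF4.group K) ≃* ↥(chevF4.group K)}

/-- the property carried along the chain: the fixed points on the subgroup of the list lie in `²F₄`,
and there are `q ^ e` of them -/
def GoodL (σ : ↥(chevF4.group K) ≃* ↥(chevF4.group K)) (m : ℕ) (Ψ : List ℕ) (e : ℕ) : Prop :=
  listSubgroup chevF4 K Ψ ⊓ FixS σ ≤ twistedF4 K (2 ^ m) ∧
  Nat.card ↥(listSubgroup chevF4 K Ψ ⊓ FixS σ) = (2 ^ (2 * m + 1)) ^ e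

theorem listSubgroup_congr {P Q : List ℕ} (h : ∀ r, r ∈ P ↔ r ∈ Q) :
    listSubgroup chevF4 K P = listSubgroup chevF4 K Q :=
  le_antisymm (listSubgroup_mono fun r hr => (h r).mp hr) (listSubgroup_mono fun r hr => (h r).mpr hr)

theorem GoodL.congr {P Q : List ℕ} {e : ℕ} (h : ∀ r, r ∈ P ↔ r ∈ Q) (hP : GoodL σ m P e) :
    GoodL σ m Q e := by
  unfold GoodL at hP ⊢
  rw [← listSubgroup_congr (K := K) h]
  exact hP

theorem goodL_nil : GoodL σ m [] 0 := by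
  have e : listSubgroup chevF4 K [] = ⊥ := by
    unfold listSubgroup
    rw [Subgroup.closure_eq_bot_iff]
    rintro g ⟨r, t, hr, -⟩
    cases hr
  unfold GoodL
  rw [e, bot_inf_eq]
  refine ⟨bot_le, ?_⟩
  rw [pow_zero]
  exact Nat.card_unique

variable (hK : Fintype.card K = 2 ^ (2 * m + 1)) (hσ : Spec chevF4 σ rho (cF m))

include hK hσ in
/-- transport along conjugation by an element of `N ∩ ²F₄` -/
theorem GoodL.conj {prev R : List ℕ} {e : ℕ} (word : List ℕ) (hprev : ∀ r ∈ prev, r < 48)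
    (hR : ∀ r ∈ R, r < 48)
    (hmap1 : ∀ r ∈ R, actW Cfsg.Agent.Helper18.reflTabsF4 4 48 word r ∈ prev)
    (hmap2 : ∀ r ∈ prev, ∃ r' ∈ R, actW Cfsg.Agent.Helper18.reflTabsF4 4 48 word r' = r)
    (n : GL chevF4.Idx K) (hnN : n ∈ chevF4.monomialSubgroup K) (hnG : n ∈ twistedF4 K (2 ^ m))
    (hθ : thetaF4 ⟨n, hnN⟩ = gp certF4.M word) (hgood : GoodL σ m prev e) : GoodL σ m R e := by
  have hnF : n ∈ FixS σ := twisted_le_FixG hK hσ hnG
  have e2 : theta chevF4 hF4 certF4 (Cfsg.Agent.Helper18.nConjHyp chevF4 hF4) ⟨n, hnN⟩ =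
      gp certF4.M word := hθ
  have h1 : (listSubgroup chevF4 K R).map (MulAut.conj n).toMonoidHom ≤ listSubgroup chevF4 K prev := by
    apply conj_listSubgroup_le hF4 certF4 (Cfsg.Agent.Helper18.nConjHyp chevF4 hF4) ⟨n, hnN⟩ R prev hR
    intro r hr
    rw [e2, phi_gp]
    exact hmap1 r hr
  have h2 : (listSubgroup chevF4 K prev).map (MulAut.conj n⁻¹).toMonoidHom ≤ listSubgroup chevF4 K R := by
    have := conj_listSubgroup_le hF4 certF4 (Cfsg.Agent.Helper18.nConjHyp chevF4 hF4)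
      (⟨n, hnN⟩⁻¹ : ↥(chevF4.monomialSubgroup K)) prev R hprev (by
        intro r hr
        obtain ⟨r', hr', e3⟩ := hmap2 r hr
        rw [map_inv, e2, map_inv, Equiv.Perm.inv_eq_iff_eq.mpr]
        · exact hr'
        · rw [phi_gp]; exact e3.symm)
    exact this
  have hmapeq : (listSubgroup chevF4 K R ⊓ FixS σ).map (MulAut.conj n).toMonoidHom =
      listSubgroup chevF4 K prev ⊓ FixS σ := by
    apply le_antisymm
    · rintro y ⟨x, ⟨hx1, hx2⟩, rfl⟩
      refine ⟨h1 ⟨x, hx1, rfl⟩, ?_⟩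
      show n * x * n⁻¹ ∈ FixS σ
      exact Subgroup.mul_mem _ (Subgroup.mul_mem _ hnF hx2) (Subgroup.inv_mem _ hnF)
    · rintro y ⟨hy1, hy2⟩
      refine ⟨n⁻¹ * y * n, ⟨?_, ?_⟩, ?_⟩
      · have := h2 ⟨y, hy1, rfl⟩
        simpa using this
      · exact Subgroup.mul_mem _ (Subgroup.mul_mem _ (Subgroup.inv_mem _ hnF) hy2) hnF
      · show n * (n⁻¹ * y * n) * n⁻¹ = y
        group
  obtain ⟨hg1, hg2⟩ := hgood
  constructor
  · intro x hx
    have : n * x * n⁻¹ ∈ listSubgroup chevF4 K prev ⊓ FixS σ := by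
      rw [← hmapeq]
      exact ⟨x, hx, rfl⟩
    have h3 := hg1 this
    have e4 : x = n⁻¹ * (n * x * n⁻¹) * n := by group
    rw [e4]
    exact Subgroup.mul_mem _ (Subgroup.mul_mem _ (Subgroup.inv_mem _ hnG) h3) hnG
  · rw [← hg2, ← hmapeq]
    exact (Subgroup.card_map_of_injective (MulAut.conj n).injective).symm

variable {φ : ℕ → ℤ} {wit : ℕ → ℕ × ℕ} (hg : gradeOK' chevF4 φ wit = true)

include hg hσ in
/-- the splitting step -/
theorem GoodL.split {A R : List ℕ} {eA e : ℕ} (hAR : ClosedList chevF4 φ (A ++ R))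
    (hA : ClosedList chevF4 φ A) (hR : ClosedList chevF4 φ R) (hπA : ∀ r ∈ A, rho r ∈ A)
    (hπR : ∀ r ∈ R, rho r ∈ R) (hAgood : GoodL σ m A eA) (hRgood : GoodL σ m R e) :
    GoodL σ m (A ++ R) (eA + e) := by
  obtain ⟨ha1, ha2⟩ := hAgood
  obtain ⟨hr1, hr2⟩ := hRgood
  have hAle : listSubgroup chevF4 K A ≤ listSubgroup chevF4 K (A ++ R) :=
    listSubgroup_mono fun r hr => List.mem_append_left _ hr
  have hRle : listSubgroup chevF4 K R ≤ listSubgroup chevF4 K (A ++ R) :=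
    listSubgroup_mono fun r hr => List.mem_append_right _ hr
  constructor
  · rintro u ⟨hu1, hu2⟩
    obtain ⟨x, hx, r, hr, rfl⟩ := split_fix hF4 hg hσ A R hAR hA hR hπA hπR u hu1 hu2
    exact Subgroup.mul_mem _ (ha1 hx) (hr1 hr)
  · rw [pow_add, ← ha2, ← hr2, ← Nat.card_prod]
    symm
    apply Nat.card_congr
    refine Equiv.ofBijective (fun p => ⟨(p.1 : GL chevF4.Idx K) * (p.2 : GL chevF4.Idx K),
      ⟨Subgroup.mul_mem _ (hAle p.1.2.1) (hRle p.2.2.1), Subgroup.mul_mem _ p.1.2.2 p.2.2.2⟩⟩) ⟨?_, ?_⟩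
    · rintro ⟨x, r⟩ ⟨x', r'⟩ h
      have h' : (x : GL chevF4.Idx K) * (r : GL chevF4.Idx K) = (x' : GL chevF4.Idx K) * (r' : GL chevF4.Idx K) :=
        congrArg Subtype.val h
      obtain ⟨e1, e2⟩ := split_unique hF4 hg A R hAR hA hR _ _ _ _ x.2.1 x'.2.1 r.2.1 r'.2.1 h'
      exact Prod.ext (Subtype.ext e1) (Subtype.ext e2)
    · rintro ⟨u, hu1, hu2⟩
      obtain ⟨x, hx, r, hr, rfl⟩ := split_fix hF4 hg hσ A R hAR hA hR hπA hπR u hu1 hu2
      exact ⟨(⟨x, hx⟩, ⟨r, hr⟩), rfl⟩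

end

end Cfsg.Agent.Helper36.F4Class
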