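import Mathlib

/-!
Helper36: the `q`-power map of a finite field of order a power of the prime power `q` is a ring
endomorphism; a field with more than three elements has a non-zero element whose square is not `1`.
-/

set_option autoImplicit false

namespace Cfsg.Agent.Helper36

theorem exists_frobHom {K : Type*} [Field K] [Fintype K] {q n : ℕ} (hq : IsPrimePow q) (hn : n ≠ 0)
    (hK : Fintype.card K = q ^ n) : ∃ φ : K →+* K, ∀ x, φ x = x ^ q := by
  obtain ⟨p, k, hp, hk, rfl⟩ := (isPrimePow_nat_iff q).mp hq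
  obtain ⟨p', hp'⟩ := CharP.exists K
  obtain ⟨m, hp'prime, hm⟩ := FiniteField.card K p'
  have hpp : p = p' := by
    have h1 : p ∣ p' ^ (m : ℕ) := by
      rw [← hm, hK, ← pow_mul]
      exact dvd_pow_self p (Nat.mul_ne_zero hk.ne' hn)
    exact (Nat.prime_dvd_prime_iff_eq hp hp'prime).mp (hp.dvd_of_dvd_pow h1)
  subst hpp
  have : ExpChar K p := ExpChar.prime hp
  exact ⟨iterateFrobenius K p k, fun x => iterateFrobenius_def p k x⟩

theorem exists_sq_ne_one {K : Type*} [Field K] [Fintype K] (h : 3 < Fintype.card K) :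
    ∃ l : K, l ≠ 0 ∧ l ^ 2 ≠ 1 := by
  classical
  have hc : (({0, 1, -1} : Finset K)).card < (Finset.univ : Finset K).card := by
    rw [Finset.card_univ]
    exact lt_of_le_of_lt (Finset.card_le_three) h
  obtain ⟨l, -, hl⟩ := Finset.exists_mem_notMem_of_card_lt_card hc
  simp only [Finset.mem_insert, Finset.mem_singleton, not_or] at hl
  refine ⟨l, hl.1, fun h2 => ?_⟩
  rw [pow_two, mul_self_eq_one_iff] at h2
  rcases h2 with h2 | h2
  · exact hl.2.1 h2
  · exact hl.2.2 h2

end Cfsg.Agent.Helper36
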