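import Cfsg.Agent.Helper36.RootCent
import Cfsg.Agent.S1048

/-!
Helper36: the centralizer of a short root element `x_{2a+b}(1)` of `G₂` in characteristic two,
general lemmas (commutators with a single odd term, conjugation modulo a normal subgroup).
-/

set_option autoImplicit false

namespace Cfsg.Agent.Helper36.G2Short

open Cfsg Cfsg.Lie Cfsg.Agent.Helper18 Cfsg.Agent.Helper36.HighRoot
  Cfsg.Agent.Helper36.RootCent

section Grp

variable {G : Type*} [Group G]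

theorem mem_cj (a x : G) (K : Subgroup G) : x ∈ cj a K ↔ a⁻¹ * x * a ∈ K := by
  unfold cj
  constructor
  · rintro ⟨y, hy, rfl⟩
    have : a⁻¹ * ((MulAut.conj a).toMonoidHom y) * a = y := by
      simp [MulAut.conj_apply, mul_assoc]
    rw [this]
    exact hy
  · intro h
    refine ⟨a⁻¹ * x * a, h, ?_⟩
    simp [MulAut.conj_apply, mul_assoc]

theorem conj_mem_cj (a x : G) (K : Subgroup G) (hx : x ∈ K) : a * x * a⁻¹ ∈ cj a K :=
  ⟨x, hx, rfl⟩

theorem cj_one (K : Subgroup G) : cj (1 : G) K = K := by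
  ext x
  rw [mem_cj]
  simp

theorem cj_eq_of_le (a : G) (K : Subgroup G) (h1 : cj a K ≤ K) (h2 : cj a⁻¹ K ≤ K) : cj a K = K := by
  apply le_antisymm h1
  have h3 := cj_mono a h2
  have h4 : cj a (cj a⁻¹ K) = K := by
    have := cj_inv_cj a⁻¹ K
    rwa [inv_inv] at this
  rwa [h4] at h3

theorem cj_closure_le (a : G) (S : Set G) (K : Subgroup G) (h : ∀ x ∈ S, a * x * a⁻¹ ∈ K) :
    cj a (Subgroup.closure S) ≤ K := by
  unfold cj
  rw [Subgroup.map_le_iff_le_comap, Subgroup.closure_le]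
  intro x hx
  rw [SetLike.mem_coe, Subgroup.mem_comap]
  exact h x hx

/-- the elements normalizing `M` and centralizing the elements of `S` modulo `M` -/
def modCent (M : Subgroup G) (S : Set G) : Subgroup G where
  carrier := {u | cj u M = M ∧ ∀ x ∈ S, x⁻¹ * (u * x * u⁻¹) ∈ M}
  one_mem' := ⟨cj_one M, fun x _ => by simp⟩
  mul_mem' := by
    rintro u v ⟨hu, hu'⟩ ⟨hv, hv'⟩
    refine ⟨by rw [cj_mul, hv, hu], ?_⟩
    intro x hx
    have e : x⁻¹ * (u * v * x * (u * v)⁻¹) =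
        (x⁻¹ * (u * x * u⁻¹)) * (u * (x⁻¹ * (v * x * v⁻¹)) * u⁻¹) := by
      group
    rw [e]
    apply Subgroup.mul_mem _ (hu' x hx)
    rw [← hu]
    exact conj_mem_cj u _ M (hv' x hx)
  inv_mem' := by
    rintro u ⟨hu, hu'⟩
    have hui : cj u⁻¹ M = M := by
      conv_lhs => rw [← hu]
      exact cj_inv_cj u M
    refine ⟨hui, ?_⟩
    intro x hx
    have e : x⁻¹ * (u⁻¹ * x * u⁻¹⁻¹) = u⁻¹ * (x⁻¹ * (u * x * u⁻¹))⁻¹ * u⁻¹⁻¹ := by group
    rw [e, ← hui]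
    exact conj_mem_cj u⁻¹ _ M (Subgroup.inv_mem _ (hu' x hx))

theorem mem_modCent (M : Subgroup G) (S : Set G) (u : G) :
    u ∈ modCent M S ↔ cj u M = M ∧ ∀ x ∈ S, x⁻¹ * (u * x * u⁻¹) ∈ M := Iff.rfl

/-- elements of a join of two elementwise commuting subgroups -/
theorem mem_sup_of_commute (A B : Subgroup G) (h : ∀ a ∈ A, ∀ b ∈ B, Commute a b) (g : G)
    (hg : g ∈ A ⊔ B) : ∃ a ∈ A, ∃ b ∈ B, g = a * b := by
  have hle : B ≤ Subgroup.normalizer (A : Set G) := by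
    intro b hb
    rw [Subgroup.mem_normalizer_iff]
    intro a
    constructor
    · intro ha
      have := (h a ha b hb).eq
      rw [← this, mul_inv_cancel_right]
      exact ha
    · intro ha
      have h2 := (h _ ha b hb).eq
      have h3 : a = b * a * b⁻¹ :=
        calc a = b⁻¹ * ((b * a * b⁻¹) * b) := by group
          _ = b⁻¹ * (b * (b * a * b⁻¹)) := by rw [h2]
          _ = b * a * b⁻¹ := by group
      rw [h3]
      exact ha
  have h4 : g ∈ ((A ⊔ B : Subgroup G) : Set G) := hg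
  rw [Subgroup.coe_mul_of_right_le_normalizer_left _ _ hle] at h4
  obtain ⟨a, ha, b, hb, rfl⟩ := Set.mem_mul.mp h4
  exact ⟨a, ha, b, hb, rfl⟩

end Grp

section Gen

variable {F : Type*} [Field F] (D : ChevalleyDatum)
  (hD : D ∈ [chevG2, chevB2, chevD4, chevF4, chevE6, chevE7, chevE8])

include hD in
/-- the commutator formula with a single term, odd constant, in characteristic two -/
theorem comm1 [CharP F 2] (r s k : ℕ) (C : ℤ) (hr : r < D.nroots) (hs : s < D.nroots)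
    (hsr : s ≠ r) (hsn : s ≠ D.neg r) (hL : D.commTerms r s = [(k, C, 1, 1)]) (hC : C % 2 = 1)
    (t u : F) :
    xGL D F s u * xGL D F r t = xGL D F r t * xGL D F s u * xGL D F k (t * u) := by
  have htri := triOK_of_mem D hD
  have h20 : (2 : F) = 0 := CharTwo.two_eq_zero
  have hodd : ((C : ℤ) : F) = 1 := by
    obtain ⟨m, hm⟩ : ∃ m : ℤ, C = 2 * m + 1 := ⟨C / 2, by omega⟩
    rw [hm]
    push_cast
    rw [h20, zero_mul, zero_add]
  apply Units.ext
  simp only [Units.val_mul, xGL_val D _ htri]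
  rw [Cfsg.Agent.S1025.result D hD r s hr hs hsr hsn t u]
  unfold ChevalleyDatum.commWord
  rw [hL]
  simp only [List.map_cons, List.map_nil, ChevalleyDatum.wordMat, List.prod_cons, List.prod_nil,
    mul_one]
  rw [hodd]
  have e1 : (1 : F) * (-t) ^ 1 * u ^ 1 = t * u := by
    rw [CharTwo.neg_eq]; ring
  rw [e1]

include hD in
theorem conj1 [CharP F 2] (r s k : ℕ) (C : ℤ) (hr : r < D.nroots) (hs : s < D.nroots)
    (hsr : s ≠ r) (hsn : s ≠ D.neg r) (hL : D.commTerms r s = [(k, C, 1, 1)]) (hC : C % 2 = 1)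
    (hsk : ∀ a b : F, Commute (xGL D F s a) (xGL D F k b)) (t u : F) :
    xGL D F s u * xGL D F r t * (xGL D F s u)⁻¹ = xGL D F r t * xGL D F k (t * u) := by
  rw [comm1 D hD r s k C hr hs hsr hsn hL hC t u, mul_assoc (xGL D F r t), (hsk u (t * u)).eq,
    ← mul_assoc, mul_inv_cancel_right]

include hD in
theorem commute_same (r : ℕ) (hr : r < D.nroots) (t u : F) :
    Commute (xGL D F r u) (xGL D F r t) := by
  show _ * _ = _ * _
  rw [Cfsg.Agent.Helper19.Poinc.xGL_mul D hD _ hr, Cfsg.Agent.Helper19.Poinc.xGL_mul D hD _ hr,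
    add_comm]

include hD in
theorem commute_or [CharP F 2] (r s : ℕ) (hr : r < D.nroots)
    (h : s = r ∨ commPairOK2 D r s = true) (t u : F) :
    Commute (xGL D F s u) (xGL D F r t) := by
  rcases h with rfl | h
  · exact commute_same D hD _ hr t u
  · exact xGL_commute2 D hD r s h t u

include hD in
/-- root subgroups commute elementwise as soon as the root elements do -/
theorem rootSubgroup_commute (r s : ℕ) (h : ∀ t u : F, Commute (xGL D F r t) (xGL D F s u))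
    (x y : GL D.Idx F) (hx : x ∈ D.rootSubgroup F r) (hy : y ∈ D.rootSubgroup F s) :
    Commute x y := by
  have htri := triOK_of_mem D hD
  unfold ChevalleyDatum.rootSubgroup at hx hy
  refine Cfsg.Agent.Helper36.Twist.commute_of_mem_closure ?_ hx hy
  rintro g₁ ⟨t, hg₁⟩ g₂ ⟨u, hg₂⟩
  have e1 : g₁ = xGL D F r t := Units.ext (by rw [hg₁, xGL_val D _ htri])
  have e2 : g₂ = xGL D F s u := Units.ext (by rw [hg₂, xGL_val D _ htri])
  rw [e1, e2]
  exact h t u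

include hD in
/-- elements of a join of three pairwise commuting root subgroups -/
theorem mem_sup3 (r₁ r₂ r₃ : ℕ) (h₁ : r₁ < D.nroots) (h₂ : r₂ < D.nroots) (h₃ : r₃ < D.nroots)
    (c₁₂ : ∀ t u : F, Commute (xGL D F r₁ t) (xGL D F r₂ u))
    (c₁₃ : ∀ t u : F, Commute (xGL D F r₁ t) (xGL D F r₃ u))
    (c₂₃ : ∀ t u : F, Commute (xGL D F r₂ t) (xGL D F r₃ u)) (g : GL D.Idx F)
    (hg : g ∈ D.rootSubgroup F r₁ ⊔ D.rootSubgroup F r₂ ⊔ D.rootSubgroup F r₃) :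
    ∃ a b c : F, g = xGL D F r₁ a * xGL D F r₂ b * xGL D F r₃ c := by
  have hform : ∀ y ∈ D.rootSubgroup F r₁ ⊔ D.rootSubgroup F r₂,
      ∃ a b : F, y = xGL D F r₁ a * xGL D F r₂ b := by
    intro y hy
    obtain ⟨x₁, hx₁, x₂, hx₂, rfl⟩ := mem_sup_of_commute _ _
      (fun a ha b hb => rootSubgroup_commute D hD r₁ r₂ c₁₂ a b ha hb) y hy
    obtain ⟨a, rfl⟩ := (Cfsg.Agent.Helper19.Poinc.mem_rootSubgroup_iff D hD r₁ h₁ _).mp hx₁
    obtain ⟨b, rfl⟩ := (Cfsg.Agent.Helper19.Poinc.mem_rootSubgroup_iff D hD r₂ h₂ _).mp hx₂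
    exact ⟨a, b, rfl⟩
  obtain ⟨y, hy, x₃, hx₃, rfl⟩ := mem_sup_of_commute _ _ (by
    intro y hy x₃ hx₃
    obtain ⟨a, b, rfl⟩ := hform y hy
    obtain ⟨c, rfl⟩ := (Cfsg.Agent.Helper19.Poinc.mem_rootSubgroup_iff D hD r₃ h₃ _).mp hx₃
    exact (c₁₃ a c).mul_left (c₂₃ b c)) g hg
  obtain ⟨a, b, rfl⟩ := hform y hy
  obtain ⟨c, rfl⟩ := (Cfsg.Agent.Helper19.Poinc.mem_rootSubgroup_iff D hD r₃ h₃ _).mp hx₃
  exact ⟨a, b, c, rfl⟩

/-- the column of `h_i` of a product of three isolated root elements -/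
theorem mulVec_triple (r₁ r₂ r₃ : ℕ) (h₁ : r₁ < D.nroots) (h₂ : r₂ < D.nroots) (h₃ : r₃ < D.nroots)
    (i₁₂ : r₂ ≠ r₁ ∧ r₂ ≠ D.neg r₁ ∧ colEntries D r₁ r₂ = [])
    (i₁₃ : r₃ ≠ r₁ ∧ r₃ ≠ D.neg r₁ ∧ colEntries D r₁ r₃ = [])
    (i₂₃ : r₃ ≠ r₂ ∧ r₃ ≠ D.neg r₂ ∧ colEntries D r₂ r₃ = []) (i : Fin D.rank) (a b c : F) :
    (D.x F r₁ a * D.x F r₂ b * D.x F r₃ c).mulVec (bI D i) =
      bI D i - ((((D.cartanSR.getD i #[]).getD r₁ 0 : ℤ) : F) * a) • bR D r₁ h₁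
        - ((((D.cartanSR.getD i #[]).getD r₂ 0 : ℤ) : F) * b) • bR D r₂ h₂
        - ((((D.cartanSR.getD i #[]).getD r₃ 0 : ℤ) : F) * c) • bR D r₃ h₃ := by
  rw [← Matrix.mulVec_mulVec, ← Matrix.mulVec_mulVec, x_cartan D r₃ h₃, Matrix.mulVec_sub,
    Matrix.mulVec_smul, x_cartan D r₂ h₂, x_isolated D r₂ r₃ h₂ h₃ i₂₃.1 i₂₃.2.1 i₂₃.2.2,
    Matrix.mulVec_sub, Matrix.mulVec_sub, Matrix.mulVec_smul, Matrix.mulVec_smul,
    x_cartan D r₁ h₁, x_isolated D r₁ r₂ h₁ h₂ i₁₂.1 i₁₂.2.1 i₁₂.2.2,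
    x_isolated D r₁ r₃ h₁ h₃ i₁₃.1 i₁₃.2.1 i₁₃.2.2]

theorem bR_apply (s r : ℕ) (hs : s < D.nroots) (hr : r < D.nroots) :
    (bR D s hs : D.Idx → F) (Sum.inr ⟨r, hr⟩) = if r = s then 1 else 0 := by
  unfold bR
  rw [Pi.single_apply]
  by_cases h : r = s
  · subst h; simp
  · rw [if_neg h, if_neg]
    intro e
    exact h (congrArg Fin.val (Sum.inr.inj e))

theorem bI_apply_inr (i : Fin D.rank) (r : ℕ) (hr : r < D.nroots) :
    (bI D i : D.Idx → F) (Sum.inr ⟨r, hr⟩) = 0 := by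
  unfold bI
  rw [Pi.single_apply, if_neg]
  intro e
  cases e

end Gen

end Cfsg.Agent.Helper36.G2Short
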