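import Cfsg.Agent.Helper36.G2ShortMain

/-!
Helper36: the centralizer of the short root element `x_{2a+b}(1)` of `G₂` in characteristic two
(final assembly).
-/

set_option autoImplicit false

namespace Cfsg.Agent.Helper36.G2Short

open Cfsg Cfsg.Lie Cfsg.Agent.Helper18 Cfsg.Agent.Helper36.HighRoot
  Cfsg.Agent.Helper36.RootCent Cfsg.Agent.Helper36.LongRootCent

section G2

variable {F : Type*} [Field F] [CharP F 2]

/-- the set of the fundamental roots other than `a` -/
def J₁ : Set ℕ := {j | j < chevG2.rank ∧ j ≠ 0}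

/-- `⟨X_b, X_{-b}⟩` -/
def L₀ (F : Type*) [Field F] : Subgroup (GL chevG2.Idx F) :=
  chevG2.rootSubgroup F 6 ⊔ chevG2.rootSubgroup F 5

/-- the right hand side -/
def R (F : Type*) [Field F] : Subgroup (GL chevG2.Idx F) :=
  chevG2.rootSubgroup F 9 ⊔ chevG2.rootSubgroup F 10 ⊔ chevG2.rootSubgroup F 11 ⊔
    chevG2.rootSubgroup F 6 ⊔ chevG2.rootSubgroup F 5

omit [CharP F 2] in
theorem N₃_le_R : N₃ F ≤ R F := le_sup_of_le_left le_sup_left

omit [CharP F 2] in
theorem L₀_le_R : L₀ F ≤ R F := by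
  unfold L₀ R
  apply sup_le
  · exact le_sup_of_le_left le_sup_right
  · exact le_sup_right

theorem normalizer_le_parabolic (g : GL chevG2.Idx F) (hg : g ∈ chevG2.group F)
    (hgn : cj g (N₃ F) = N₃ F) : g ∈ chevG2.parabolicSubgroup F J₁ := by
  have hBG := (Cfsg.Agent.S1043.result (F := F) chevG2 hG2).1
  have hM : chevG2.group F ⊓ Subgroup.normalizer (N₃ F : Set (GL chevG2.Idx F)) ≤
      chevG2.parabolicSubgroup F J₁ := by
    apply le_parabolic_of chevG2 hG2 _ inf_le_left
    · apply le_inf hBG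
      intro b hb
      rw [Subgroup.mem_normalizer_iff_map_conj_eq]
      exact borel_cj_N₃ b hb
    · intro i hi k hk hkM
      refine ⟨hi, ?_⟩
      rintro rfl
      have hkn := (Subgroup.mem_inf.mp hkM).2
      rw [Subgroup.mem_normalizer_iff_map_conj_eq] at hkn
      exact n_not_normalize k hk hkn
  apply hM
  refine Subgroup.mem_inf.mpr ⟨hg, ?_⟩
  rw [Subgroup.mem_normalizer_iff_map_conj_eq]
  exact hgn

omit [CharP F 2] in
theorem inRootSub_J₁ (r : ℕ) (h : chevG2.InRootSub J₁ r) : r = 5 ∨ r = 6 := by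
  obtain ⟨hr, h0⟩ := h
  have h1 := h0 0 (by decide) (by
    intro h2
    exact h2.2 rfl)
  have hr' : r < 12 := hr
  interval_cases r <;> first | exact Or.inl rfl | exact Or.inr rfl | (exfalso; revert h1; decide +kernel)

/-- the root elements of the Levi factor -/
def Lc (F : Type*) [Field F] : Subgroup (GL chevG2.Idx F) :=
  Subgroup.closure {g | ∃ (r : ℕ) (t : F), chevG2.InRootSub J₁ r ∧
    (g : Matrix chevG2.Idx chevG2.Idx F) = chevG2.x F r t}

omit [CharP F 2] in
theorem Lc_le_L₀ : Lc F ≤ L₀ F := by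
  have htri := triOK_of_mem chevG2 hG2
  unfold Lc
  rw [Subgroup.closure_le]
  rintro g ⟨r, c, hr, hg⟩
  have hgx : g = xGL chevG2 F r c := Units.ext (by rw [hg, xGL_val _ _ htri])
  rw [SetLike.mem_coe, hgx]
  rcases inRootSub_J₁ r hr with rfl | rfl
  · exact Subgroup.mem_sup_right (Cfsg.Agent.Helper19.Poinc.xGL_mem_rootSubgroup chevG2 hG2 5 c)
  · exact Subgroup.mem_sup_left (Cfsg.Agent.Helper19.Poinc.xGL_mem_rootSubgroup chevG2 hG2 6 c)

theorem tab_t (s : ℕ) (hs : s = 9 ∨ s = 10 ∨ s = 11 ∨ s = 6 ∨ s = 5) :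
    s = 9 ∨ commPairOK2 chevG2 9 s = true := by
  rcases hs with rfl | rfl | rfl | rfl | rfl <;>
    first
    | exact Or.inl rfl
    | exact Or.inr (by decide +kernel)

theorem root_commute_t (t : GL chevG2.Idx F)
    (ht : (t : Matrix chevG2.Idx chevG2.Idx F) = chevG2.x F 9 1) (s : ℕ)
    (hs : s = 9 ∨ s = 10 ∨ s = 11 ∨ s = 6 ∨ s = 5) (x : GL chevG2.Idx F)
    (hx : x ∈ chevG2.rootSubgroup F s) : x * t = t * x := by
  have h9 : t ∈ chevG2.rootSubgroup F 9 := by
    rw [t_eq t ht]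
    exact Cfsg.Agent.Helper19.Poinc.xGL_mem_rootSubgroup chevG2 hG2 9 1
  exact (rootSubgroup_commute chevG2 hG2 s 9
    (fun a b => cm 9 s (by decide) (tab_t s hs) b a) x t hx h9).eq

theorem R_le (t : GL chevG2.Idx F) (ht : (t : Matrix chevG2.Idx chevG2.Idx F) = chevG2.x F 9 1) :
    R F ≤ chevG2.group F ⊓ Subgroup.centralizer {t} := by
  have htri := triOK_of_mem chevG2 hG2
  have key : ∀ s : ℕ, (s = 9 ∨ s = 10 ∨ s = 11 ∨ s = 6 ∨ s = 5) →
      chevG2.rootSubgroup F s ≤ chevG2.group F ⊓ Subgroup.centralizer {t} := by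
    intro s hs
    apply le_inf
    · unfold ChevalleyDatum.rootSubgroup
      rw [Subgroup.closure_le]
      rintro g ⟨c, hg⟩
      have hgx : g = xGL chevG2 F s c := Units.ext (by rw [hg, xGL_val _ _ htri])
      rw [SetLike.mem_coe, hgx]
      exact xGL_mem_group' chevG2 hG2 s c
    · intro x hx
      rw [Subgroup.mem_centralizer_iff]
      intro y hy
      rw [Set.mem_singleton_iff] at hy
      rw [hy]
      exact (root_commute_t t ht s hs x hx).symm
  unfold R
  refine sup_le (sup_le (sup_le (sup_le ?_ ?_) ?_) ?_) ?_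
  · exact key 9 (by simp)
  · exact key 10 (by simp)
  · exact key 11 (by simp)
  · exact key 6 (by simp)
  · exact key 5 (by simp)

theorem L₀_commute_t (t : GL chevG2.Idx F)
    (ht : (t : Matrix chevG2.Idx chevG2.Idx F) = chevG2.x F 9 1) (l : GL chevG2.Idx F)
    (hl : l ∈ L₀ F) : l * t = t * l := by
  have h1 := (Subgroup.mem_inf.mp (R_le t ht (L₀_le_R hl))).2
  rw [Subgroup.mem_centralizer_iff] at h1
  exact (h1 t (Set.mem_singleton t)).symm

theorem N₃_commute_t (t : GL chevG2.Idx F)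
    (ht : (t : Matrix chevG2.Idx chevG2.Idx F) = chevG2.x F 9 1) (l : GL chevG2.Idx F)
    (hl : l ∈ N₃ F) : l * t = t * l := by
  have h1 := (Subgroup.mem_inf.mp (R_le t ht (N₃_le_R hl))).2
  rw [Subgroup.mem_centralizer_iff] at h1
  exact (h1 t (Set.mem_singleton t)).symm

omit [CharP F 2] in
theorem diagonal_le_normalizer_Lc :
    chevG2.diagonalSubgroup F ≤ Subgroup.normalizer (Lc F : Set (GL chevG2.Idx F)) := by
  have htri := triOK_of_mem chevG2 hG2
  have key : ∀ h ∈ chevG2.diagonalSubgroup F, ∀ x ∈ {g : GL chevG2.Idx F | ∃ (r : ℕ) (t : F),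
      chevG2.InRootSub J₁ r ∧ (g : Matrix chevG2.Idx chevG2.Idx F) = chevG2.x F r t},
      h * x * h⁻¹ ∈ {g : GL chevG2.Idx F | ∃ (r : ℕ) (t : F),
      chevG2.InRootSub J₁ r ∧ (g : Matrix chevG2.Idx chevG2.Idx F) = chevG2.x F r t} := by
    rintro h hh x ⟨r, c, hr, hx⟩
    have hxx : x = xGL chevG2 F r c := Units.ext (by rw [hx, xGL_val _ _ htri])
    obtain ⟨χ, -, -, hcj⟩ := diagonalSubgroup_char chevG2 hG2 h hh
    refine ⟨r, χ r * c, hr, ?_⟩
    rw [hxx, hcj r hr.1 c, mul_inv_cancel_right, xGL_val _ _ htri]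
  intro h hh
  unfold Lc
  apply mem_normalizer_closure_of
  · exact key h hh
  · intro x hx
    have := key h⁻¹ (Subgroup.inv_mem _ hh) x hx
    rwa [inv_inv] at this

/-- an element of `H` centralizing `t` lies in `⟨X_b, X_{-b}⟩` -/
theorem diagonal_mem_L₀ (t : GL chevG2.Idx F)
    (ht : (t : Matrix chevG2.Idx chevG2.Idx F) = chevG2.x F 9 1)
    (h : GL chevG2.Idx F) (hh : h ∈ chevG2.diagonalSubgroup F) (hht : h * t = t * h) :
    h ∈ L₀ F := by
  have htri := triOK_of_mem chevG2 hG2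
  have hs := simpleOK_of_mem chevG2 hG2
  have hlt : 9 < chevG2.nroots := by decide
  obtain ⟨χ, -, hdiag, hcj⟩ := diagonalSubgroup_char chevG2 hG2 h hh
  obtain ⟨c, hc0, hhc⟩ := diagonalSubgroup_le_hProdSubgroup chevG2 hG2 hh
  have htx := t_eq t ht
  have hχ1 : χ 9 = 1 := by
    have e1 := hcj _ hlt (1 : F)
    rw [← htx, hht] at e1
    have e2 : t = xGL chevG2 F 9 (χ 9 * 1) := mul_right_cancel e1
    have e3 := congrArg (fun g : GL chevG2.Idx F => (g : Matrix chevG2.Idx chevG2.Idx F)) e2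
    simp only [xGL_val _ _ htri] at e3
    rw [ht] at e3
    have := x_injective chevG2 hG2 _ hlt _ _ e3
    rw [mul_one] at this
    exact this.symm
  have hcart : ∀ i < chevG2.rank, chevG2.cartan i 9 = if i = 0 then 1 else 0 := by
    intro i hi
    have hi' : i < 2 := hi
    interval_cases i <;> decide +kernel
  have hχc : χ 9 = c 0 := by
    have e1 : Matrix.diagonal (Sum.elim (fun _ => (1 : F)) (fun s : Fin chevG2.nroots => χ s.val)) =
        hProd chevG2 F c := by rw [← hdiag, hhc]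
    unfold hProd at e1
    have e2 := congrFun (Matrix.diagonal_injective e1) (Sum.inr ⟨9, hlt⟩)
    simp only [Sum.elim_inr] at e2
    rw [e2, range_map_prod]
    rw [Finset.prod_eq_single 0]
    · rw [hcart 0 (by decide), if_pos rfl, zpow_one]
    · intro b hb hne
      rw [hcart b (Finset.mem_range.mp hb), if_neg hne, zpow_zero]
    · intro hni
      exact absurd (Finset.mem_range.mpr (by decide)) hni
  have hc₀ : c 0 = 1 := by rw [← hχc, hχ1]
  have hw : h = wordGL chevG2 F
      ((List.range chevG2.rank).flatMap fun i => chevG2.hWord (chevG2.simple i) (c i)) := by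
    apply Units.ext
    rw [wordGL_val _ _ htri, hhc, hProd_of_words chevG2 hG2 c (fun i _ => hc0 i)]
  rw [hw]
  apply wordGL_flatMap_mem
  intro i hi
  rw [List.mem_range] at hi
  by_cases hii : i = 0
  · rw [hii, hc₀, hWordGL_one chevG2 hG2 _ (simple_lt chevG2 hs 0 (by decide))]
    exact Subgroup.one_mem _
  · have hi1 : i = 1 := by
      have : i < 2 := hi
      omega
    subst hi1
    apply wordGL_mem_of
    intro p hp
    have hp' : p.1 = 6 ∨ p.1 = 5 := by
      have e6 : chevG2.simple 1 = 6 := by decide +kernel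
      have e5 : chevG2.neg 6 = 5 := by decide +kernel
      simp only [ChevalleyDatum.hWord, ChevalleyDatum.nWord, List.cons_append, List.nil_append,
        List.mem_cons, List.not_mem_nil, or_false, e6, e5] at hp
      rcases hp with rfl | rfl | rfl | rfl | rfl | rfl <;> simp
    rcases hp' with h1 | h1
    · rw [h1]
      exact Subgroup.mem_sup_left (Cfsg.Agent.Helper19.Poinc.xGL_mem_rootSubgroup chevG2 hG2 6 _)
    · rw [h1]
      exact Subgroup.mem_sup_right (Cfsg.Agent.Helper19.Poinc.xGL_mem_rootSubgroup chevG2 hG2 5 _)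

omit [CharP F 2] in
theorem ent_one (i : Fin chevG2.rank) (s : ℕ) (hs : s < chevG2.nroots) :
    ent (1 : Matrix chevG2.Idx chevG2.Idx F) i s hs = 0 := by
  unfold ent
  rw [Matrix.one_mulVec, bI_apply_inr]

/-- `x_{3a+b}(α) x_{3a+2b}(γ) = 1` only for `α = γ = 0` -/
theorem eq_zero_of_prod_eq_one (α γ : F)
    (h : xGL chevG2 F 10 α * xGL chevG2 F 11 γ = 1) : α = 0 ∧ γ = 0 := by
  have htri := triOK_of_mem chevG2 hG2
  have h1 : chevG2.x F 9 0 * chevG2.x F 10 α * chevG2.x F 11 γ = 1 := by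
    have := congrArg (fun g : GL chevG2.Idx F => (g : Matrix chevG2.Idx chevG2.Idx F)) h
    simp only [Units.val_mul, xGL_val _ _ htri, Units.val_one] at this
    rw [x_zero, one_mul]
    exact this
  have e10 := ent_trip (F := F) (9, 10, 11) std_trip ⟨1, by decide⟩ 10 (by decide) 0 α γ
  have e11 := ent_trip (F := F) (9, 10, 11) std_trip ⟨1, by decide⟩ 11 (by decide) 0 α γ
  rw [h1, ent_one] at e10 e11
  have c10 : ((chevG2.cartanSR.getD (⟨1, by decide⟩ : Fin chevG2.rank).val #[]).getD 10 0 : ℤ) = -1 := by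
    decide +kernel
  have c11 : ((chevG2.cartanSR.getD (⟨1, by decide⟩ : Fin chevG2.rank).val #[]).getD 11 0 : ℤ) = 1 := by
    decide +kernel
  simp only [c10, c11] at e10 e11
  simp at e10 e11
  exact ⟨e10.symm, e11⟩

theorem posRoots_G2 : chevG2.posRoots = [6, 7, 8, 9, 10, 11] := by decide +kernel

/-- an element of `U` centralizing `t` lies in `X_b N₃` -/
theorem pos_mem_R (t : GL chevG2.Idx F)
    (ht : (t : Matrix chevG2.Idx chevG2.Idx F) = chevG2.x F 9 1)
    (v : GL chevG2.Idx F) (hv : v ∈ chevG2.posUnipotent F) (hvt : v * t = t * v) : v ∈ R F := by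
  have htri := triOK_of_mem chevG2 hG2
  obtain ⟨φ, wit, hgr, -⟩ := Cfsg.Agent.Helper40.UData.exists_grade chevG2 hG2
  obtain ⟨c, hc⟩ := Cfsg.Agent.Helper40.UProd.exists_pw (F := F) hG2 hgr v hv
  rw [posRoots_G2] at hc
  simp only [Cfsg.Agent.Helper40.UProd.pw_cons, Cfsg.Agent.Helper40.UProd.pw_nil, mul_one] at hc
  have hv' : v = xGL chevG2 F 6 (c 6) * ((xGL chevG2 F 7 (c 7) * xGL chevG2 F 8 (c 8)) *
      (xGL chevG2 F 9 (c 9) * xGL chevG2 F 10 (c 10) * xGL chevG2 F 11 (c 11))) := by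
    apply Units.ext
    simp only [Units.val_mul, xGL_val _ _ htri]
    rw [hc]
    simp only [mul_assoc]
  set x6 := xGL chevG2 F 6 (c 6) with hx6
  set y := xGL chevG2 F 7 (c 7) * xGL chevG2 F 8 (c 8) with hy
  set n₃ := xGL chevG2 F 9 (c 9) * xGL chevG2 F 10 (c 10) * xGL chevG2 F 11 (c 11) with hn₃
  have hn₃N : n₃ ∈ N₃ F := by
    rw [hn₃]
    exact Subgroup.mul_mem _ (Subgroup.mul_mem _ (x9_mem _) (M₂_le_N₃ (x10_mem _)))
      (M₂_le_N₃ (x11_mem _))
  have hx6R : x6 ∈ R F :=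
    Subgroup.mem_sup_left (Subgroup.mem_sup_right
      (Cfsg.Agent.Helper19.Poinc.xGL_mem_rootSubgroup chevG2 hG2 6 _))
  have c6 : Commute x6 t := root_commute_t t ht 6 (by simp)
    _ (Cfsg.Agent.Helper19.Poinc.xGL_mem_rootSubgroup chevG2 hG2 6 _)
  have cn : Commute n₃ t := N₃_commute_t t ht n₃ hn₃N
  have cv : Commute v t := hvt
  have hyv : y = x6⁻¹ * v * n₃⁻¹ := by
    rw [hv']
    group
  have cy : Commute y t := by
    rw [hyv]
    exact (c6.inv_left.mul_left cv).mul_left cn.inv_left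
  have htx := t_eq t ht
  -- the commutators
  have k8 := comm1 chevG2 hG2 9 8 11 (-3) (by decide) (by decide) (by decide) (by decide)
      (by decide +kernel) (by decide) (1 : F) (c 8)
  have k7 := comm1 chevG2 hG2 9 7 10 (-3) (by decide) (by decide) (by decide) (by decide)
      (by decide +kernel) (by decide) (1 : F) (c 7)
  rw [one_mul, ← htx] at k8 k7
  have c108 : Commute (xGL chevG2 F 10 (c 7)) (xGL chevG2 F 8 (c 8)) :=
    cm 8 10 (by decide) (Or.inr (by decide +kernel)) _ _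
  have e1 : y * t = t * y * (xGL chevG2 F 10 (c 7) * xGL chevG2 F 11 (c 8)) := by
    calc y * t = xGL chevG2 F 7 (c 7) * (xGL chevG2 F 8 (c 8) * t) := by rw [hy, mul_assoc]
      _ = xGL chevG2 F 7 (c 7) * (t * xGL chevG2 F 8 (c 8) * xGL chevG2 F 11 (c 8)) := by rw [k8]
      _ = (xGL chevG2 F 7 (c 7) * t) * xGL chevG2 F 8 (c 8) * xGL chevG2 F 11 (c 8) := by
        simp only [mul_assoc]
      _ = t * xGL chevG2 F 7 (c 7) * (xGL chevG2 F 10 (c 7) * xGL chevG2 F 8 (c 8)) *
          xGL chevG2 F 11 (c 8) := by rw [k7]; simp only [mul_assoc]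
      _ = t * xGL chevG2 F 7 (c 7) * (xGL chevG2 F 8 (c 8) * xGL chevG2 F 10 (c 7)) *
          xGL chevG2 F 11 (c 8) := by rw [c108.eq]
      _ = t * y * (xGL chevG2 F 10 (c 7) * xGL chevG2 F 11 (c 8)) := by
        rw [hy]; simp only [mul_assoc]
  have e2 : xGL chevG2 F 10 (c 7) * xGL chevG2 F 11 (c 8) = 1 := by
    have e3 : t * y * (xGL chevG2 F 10 (c 7) * xGL chevG2 F 11 (c 8)) = t * y * 1 := by
      rw [← e1, cy.eq, mul_one]
    exact mul_left_cancel e3
  obtain ⟨h7, h8⟩ := eq_zero_of_prod_eq_one _ _ e2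
  have hy1 : y = 1 := by
    rw [hy, h7, h8, Cfsg.Agent.Helper19.Poinc.xGL_zero' chevG2 hG2,
      Cfsg.Agent.Helper19.Poinc.xGL_zero' chevG2 hG2, one_mul]
  rw [hv', hy1, one_mul]
  exact Subgroup.mul_mem _ hx6R (N₃_le_R hn₃N)

omit [CharP F 2] in
theorem unipotentRadical_le_pos (J : Set ℕ) : chevG2.unipotentRadical F J ≤ chevG2.posUnipotent F := by
  unfold ChevalleyDatum.unipotentRadical ChevalleyDatum.posUnipotent
  apply Subgroup.closure_mono
  rintro g ⟨r, t, hr, -, hg⟩
  exact ⟨r, t, hr, hg⟩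

/-- the centralizer of the short root element `x_{2a+b}(1)` -/
theorem cent_eq (t : GL chevG2.Idx F)
    (ht : (t : Matrix chevG2.Idx chevG2.Idx F) = chevG2.x F 9 1) :
    chevG2.group F ⊓ Subgroup.centralizer {t} = R F := by
  have htri := triOK_of_mem chevG2 hG2
  have hle := R_le t ht
  have htx := t_eq t ht
  apply le_antisymm
  · intro g hg
    obtain ⟨hgG, hgC⟩ := Subgroup.mem_inf.mp hg
    have hgt : g * t = t * g := by
      rw [Subgroup.mem_centralizer_iff] at hgC
      exact (hgC t (Set.mem_singleton t)).symm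
    have h1 := cj_N₃_of_commute t ht g hgG hgt
    have h2 := normalizer_le_parabolic g hgG h1
    obtain ⟨hPN, hUL, -⟩ := Cfsg.Agent.S1048.result (F := F) chevG2 hG2 J₁
    have hLN : chevG2.leviSubgroup F J₁ ≤
        Subgroup.normalizer (chevG2.unipotentRadical F J₁ : Set (GL chevG2.Idx F)) := by
      refine le_trans ?_ hPN
      rw [← hUL]
      exact le_sup_right
    have h3 : g ∈ ((chevG2.unipotentRadical F J₁ ⊔ chevG2.leviSubgroup F J₁ :
        Subgroup (GL chevG2.Idx F)) : Set (GL chevG2.Idx F)) := by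
      rw [hUL]
      exact h2
    rw [Subgroup.coe_mul_of_right_le_normalizer_left _ _ hLN] at h3
    obtain ⟨v, hv, l', hl', rfl⟩ := Set.mem_mul.mp h3
    have h4 : l' ∈ ((chevG2.diagonalSubgroup F ⊔ Lc F : Subgroup (GL chevG2.Idx F)) :
        Set (GL chevG2.Idx F)) := hl'
    rw [Subgroup.coe_mul_of_left_le_normalizer_right _ _ diagonal_le_normalizer_Lc] at h4
    obtain ⟨h, hh, l, hl, rfl⟩ := Set.mem_mul.mp h4
    have hlL : l ∈ L₀ F := Lc_le_L₀ hl
    have hvU : v ∈ chevG2.posUnipotent F := unipotentRadical_le_pos J₁ hv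
    have clt : Commute l t := L₀_commute_t t ht l hlL
    have cvh : Commute (v * h) t := by
      have e : v * h = (v * (h * l)) * l⁻¹ := by group
      rw [e]
      exact Commute.mul_left hgt clt.inv_left
    obtain ⟨χ, -, -, hcj⟩ := diagonalSubgroup_char chevG2 hG2 h hh
    have e1 := hcj 9 (by decide) (1 : F)
    rw [mul_one, ← htx] at e1
    obtain ⟨m, hm, e2⟩ := pos_conj_x9 v hvU (χ 9)
    -- `t = x_9(χ) m`
    have e3 : t = xGL chevG2 F 9 (χ 9) * m := by
      rw [← e2]
      have e4 : v * xGL chevG2 F 9 (χ 9) * h = t * v * h := by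
        rw [mul_assoc, ← e1, ← mul_assoc, cvh.eq, mul_assoc]
      have e5 : v * xGL chevG2 F 9 (χ 9) = t * v := mul_right_cancel e4
      rw [e5, mul_inv_cancel_right]
    have e6 : m = xGL chevG2 F 9 (1 + χ 9) := by
      have : m = (xGL chevG2 F 9 (χ 9))⁻¹ * t := by rw [e3, inv_mul_cancel_left]
      rw [this, htx, Cfsg.Agent.Helper19.Poinc.xGL_inv' chevG2 hG2 9 (by decide),
        Cfsg.Agent.Helper19.Poinc.xGL_mul chevG2 hG2 9 (by decide), CharTwo.neg_eq, add_comm]
    have e7 := ent_M₂ m hm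
    rw [e6, xGL_val _ _ htri] at e7
    have e8 := ent_std_9 (F := F) (1 + χ 9) 0 0
    rw [x_zero, x_zero, mul_one, mul_one, e7] at e8
    have hχ : χ 9 = 1 := by
      have h0 : 1 + χ 9 = 0 := by
        have := e8.symm
        rwa [neg_eq_zero] at this
      have := CharTwo.add_eq_zero.mp h0
      exact this.symm
    rw [hχ] at e1
    rw [← htx] at e1
    have cht : h * t = t * h := e1
    have cvt : v * t = t * v := by
      have e : v = (v * h) * h⁻¹ := by group
      rw [e]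
      exact (Commute.mul_left cvh (Commute.inv_left cht)).eq
    have hvR := pos_mem_R t ht v hvU cvt
    have hhR := L₀_le_R (diagonal_mem_L₀ t ht h hh cht)
    exact Subgroup.mul_mem _ hvR (Subgroup.mul_mem _ hhR (L₀_le_R hlL))
  · exact hle

end G2

end Cfsg.Agent.Helper36.G2Short
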