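import Cfsg.Agent.Helper36.G2Short
import Cfsg.Agent.S1100
import Cfsg.Agent.Helper40.UDataAll

/-!
Helper36: the centralizer of the short root element `x_{2a+b}(1)` of `G₂` in characteristic two:
`C_G(t) = (X_{2a+b} X_{3a+b} X_{3a+2b}) ⟨X_b, X_{-b}⟩`.
-/

set_option autoImplicit false

namespace Cfsg.Agent.Helper36.G2Short

open Cfsg Cfsg.Lie Cfsg.Agent.Helper18 Cfsg.Agent.Helper36.HighRoot
  Cfsg.Agent.Helper36.RootCent

/-! ### triples of isolated, commuting roots -/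

def isoOK (D : ChevalleyDatum) (r s : ℕ) : Bool :=
  decide (s ≠ r) && decide (s ≠ D.neg r) && decide (colEntries D r s = [])

def tripOK (D : ChevalleyDatum) (tr : ℕ × ℕ × ℕ) : Bool :=
  decide (tr.1 < D.nroots) && decide (tr.2.1 < D.nroots) && decide (tr.2.2 < D.nroots) &&
  isoOK D tr.1 tr.2.1 && isoOK D tr.1 tr.2.2 && isoOK D tr.2.1 tr.2.2 &&
  commPairOK2 D tr.2.1 tr.1 && commPairOK2 D tr.2.2 tr.1 && commPairOK2 D tr.2.2 tr.2.1

theorem isoOK_spec {D : ChevalleyDatum} {r s : ℕ} (h : isoOK D r s = true) :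
    s ≠ r ∧ s ≠ D.neg r ∧ colEntries D r s = [] := by
  unfold isoOK at h
  simp only [Bool.and_eq_true, decide_eq_true_eq] at h
  exact ⟨h.1.1, h.1.2, h.2⟩

section Trip

variable {F : Type*} [Field F] (D : ChevalleyDatum)
  (hD : D ∈ [chevG2, chevB2, chevD4, chevF4, chevE6, chevE7, chevE8])

include hD in
theorem trip_form [CharP F 2] (tr : ℕ × ℕ × ℕ) (h : tripOK D tr = true) (g : GL D.Idx F)
    (hg : g ∈ D.rootSubgroup F tr.1 ⊔ D.rootSubgroup F tr.2.1 ⊔ D.rootSubgroup F tr.2.2) :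
    ∃ a b c : F, g = xGL D F tr.1 a * xGL D F tr.2.1 b * xGL D F tr.2.2 c := by
  unfold tripOK at h
  simp only [Bool.and_eq_true, decide_eq_true_eq] at h
  obtain ⟨⟨⟨⟨⟨⟨⟨⟨h1, h2⟩, h3⟩, -⟩, -⟩, -⟩, c12⟩, c13⟩, c23⟩ := h
  exact mem_sup3 D hD _ _ _ h1 h2 h3 (fun t u => xGL_commute2 D hD _ _ c12 u t)
    (fun t u => xGL_commute2 D hD _ _ c13 u t) (fun t u => xGL_commute2 D hD _ _ c23 u t) g hg

theorem trip_lt (tr : ℕ × ℕ × ℕ) (h : tripOK D tr = true) :
    tr.1 < D.nroots ∧ tr.2.1 < D.nroots ∧ tr.2.2 < D.nroots := by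
  unfold tripOK at h
  simp only [Bool.and_eq_true, decide_eq_true_eq] at h
  exact ⟨h.1.1.1.1.1.1.1.1, h.1.1.1.1.1.1.1.2, h.1.1.1.1.1.1.2⟩

theorem trip_col (tr : ℕ × ℕ × ℕ) (h : tripOK D tr = true) (i : Fin D.rank) (a b c : F) :
    (D.x F tr.1 a * D.x F tr.2.1 b * D.x F tr.2.2 c).mulVec (bI D i) =
      bI D i - ((((D.cartanSR.getD i #[]).getD tr.1 0 : ℤ) : F) * a) • bR D tr.1 (trip_lt D tr h).1
        - ((((D.cartanSR.getD i #[]).getD tr.2.1 0 : ℤ) : F) * b) • bR D tr.2.1 (trip_lt D tr h).2.1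
        - ((((D.cartanSR.getD i #[]).getD tr.2.2 0 : ℤ) : F) * c) • bR D tr.2.2 (trip_lt D tr h).2.2 := by
  have h' := h
  unfold tripOK at h'
  simp only [Bool.and_eq_true, decide_eq_true_eq] at h'
  obtain ⟨⟨⟨⟨⟨⟨⟨⟨h1, h2⟩, h3⟩, i12⟩, i13⟩, i23⟩, -⟩, -⟩, -⟩ := h'
  exact mulVec_triple D _ _ _ h1 h2 h3 (isoOK_spec i12) (isoOK_spec i13) (isoOK_spec i23) i a b c

end Trip

/-! ### the data for `G₂` -/

theorem hG2 : chevG2 ∈ [chevG2, chevB2, chevD4, chevF4, chevE6, chevE7, chevE8] := by simp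

/-- the orbit of the triple of roots `(2a+b, 3a+b, 3a+2b)` under the Weyl group -/
def orbit : List (ℕ × ℕ × ℕ) :=
  [(9,10,11),(8,6,11),(9,11,10),(7,5,10),(8,11,6),(4,1,6),(7,10,5),(3,0,5),(4,6,1),(2,0,1),(3,5,0),(2,1,0)]

theorem orbit_trip : orbit.all (tripOK chevG2) = true := by decide +kernel

theorem orbit_closed : orbit.all (fun tr => [0, 1].all fun i => orbit.contains
    (chevG2.reflectRoot i tr.1, chevG2.reflectRoot i tr.2.1, chevG2.reflectRoot i tr.2.2)) = true := by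
  decide +kernel

theorem orbit_first : orbit.all (fun tr => decide (tr.1 = 9 → (tr = (9,10,11) ∨ tr = (9,11,10)))) = true := by
  decide +kernel

theorem orbit_not9 : orbit.all (fun tr => decide (tr.1 ≠ 9 → (tr.2.1 ≠ 9 ∧ tr.2.2 ≠ 9))) = true := by
  decide +kernel

theorem rho_mem_orbit (w : List ℕ) (hw : ∀ i ∈ w, i < chevG2.rank) :
    (rho chevG2 w 9, rho chevG2 w 10, rho chevG2 w 11) ∈ orbit := by
  induction w with
  | nil => decide
  | cons i w ih =>
    have h1 := ih (fun j hj => hw j (List.mem_cons_of_mem _ hj))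
    have hi : i < 2 := hw i List.mem_cons_self
    have h2 := List.all_eq_true.mp orbit_closed _ h1
    have h3 : i ∈ [0, 1] := by
      interval_cases i <;> simp
    have h4 := List.all_eq_true.mp h2 i h3
    simp only [List.contains_iff_mem] at h4
    exact h4

section G2

variable {F : Type*} [Field F]

/-- `X_{3a+b} X_{3a+2b}` -/
def M₂ (F : Type*) [Field F] : Subgroup (GL chevG2.Idx F) :=
  chevG2.rootSubgroup F 10 ⊔ chevG2.rootSubgroup F 11

/-- `X_{2a+b} X_{3a+b} X_{3a+2b}` -/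
def N₃ (F : Type*) [Field F] : Subgroup (GL chevG2.Idx F) :=
  chevG2.rootSubgroup F 9 ⊔ chevG2.rootSubgroup F 10 ⊔ chevG2.rootSubgroup F 11

theorem N₃_eq : N₃ F = chevG2.rootSubgroup F 9 ⊔ M₂ F := sup_assoc _ _ _

theorem M₂_le_N₃ : M₂ F ≤ N₃ F := by
  rw [N₃_eq]
  exact le_sup_right

theorem x10_mem (c : F) : xGL chevG2 F 10 c ∈ M₂ F :=
  Subgroup.mem_sup_left (Cfsg.Agent.Helper19.Poinc.xGL_mem_rootSubgroup chevG2 hG2 10 c)

theorem x11_mem (c : F) : xGL chevG2 F 11 c ∈ M₂ F :=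
  Subgroup.mem_sup_right (Cfsg.Agent.Helper19.Poinc.xGL_mem_rootSubgroup chevG2 hG2 11 c)

theorem x9_mem (c : F) : xGL chevG2 F 9 c ∈ N₃ F :=
  Subgroup.mem_sup_left (Subgroup.mem_sup_left
    (Cfsg.Agent.Helper19.Poinc.xGL_mem_rootSubgroup chevG2 hG2 9 c))

variable [CharP F 2]

theorem cm (r s : ℕ) (hr : r < chevG2.nroots) (h : s = r ∨ commPairOK2 chevG2 r s = true) (t u : F) :
    Commute (xGL chevG2 F s u) (xGL chevG2 F r t) :=
  commute_or chevG2 hG2 r s hr h t u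

theorem tab_M (r : ℕ) (h6 : 6 ≤ r) (h12 : r < 12) (s : ℕ) (hs : s = 10 ∨ s = 11)
    (hne : ¬ (r = 6 ∧ s = 10)) : r = s ∨ commPairOK2 chevG2 s r = true := by
  rcases hs with rfl | rfl <;> interval_cases r <;>
    first
    | exact Or.inl rfl
    | exact Or.inr (by decide +kernel)
    | exact absurd ⟨rfl, rfl⟩ hne

theorem conj_mem_M₂ (r : ℕ) (h6 : 6 ≤ r) (h12 : r < 12) (s : ℕ) (hs : s = 10 ∨ s = 11) (α c : F) :
    xGL chevG2 F r α * xGL chevG2 F s c * (xGL chevG2 F r α)⁻¹ ∈ M₂ F := by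
  by_cases hne : r = 6 ∧ s = 10
  · obtain ⟨rfl, rfl⟩ := hne
    rw [conj1 chevG2 hG2 10 6 11 (-1) (by decide) (by decide) (by decide) (by decide)
      (by decide +kernel) (by decide) (fun a b => cm 11 6 (by decide) (Or.inr (by decide +kernel)) b a)]
    exact Subgroup.mul_mem _ (x10_mem c) (x11_mem _)
  · have hs12 : s < chevG2.nroots := by
      rcases hs with rfl | rfl <;> decide
    have hc := cm s r hs12 (tab_M r h6 h12 s hs hne) c α
    rw [hc.eq, mul_inv_cancel_right]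
    rcases hs with rfl | rfl
    · exact x10_mem c
    · exact x11_mem c

theorem cj_xGL_M₂_le (r : ℕ) (h6 : 6 ≤ r) (h12 : r < 12) (α : F) :
    cj (xGL chevG2 F r α) (M₂ F) ≤ M₂ F := by
  have htri := triOK_of_mem chevG2 hG2
  unfold M₂
  rw [cj_sup]
  apply sup_le
  · unfold ChevalleyDatum.rootSubgroup
    apply cj_closure_le
    rintro x ⟨c, hx⟩
    have hxx : x = xGL chevG2 F 10 c := Units.ext (by rw [hx, xGL_val _ _ htri])
    rw [hxx]
    exact conj_mem_M₂ r h6 h12 10 (Or.inl rfl) α c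
  · unfold ChevalleyDatum.rootSubgroup
    apply cj_closure_le
    rintro x ⟨c, hx⟩
    have hxx : x = xGL chevG2 F 11 c := Units.ext (by rw [hx, xGL_val _ _ htri])
    rw [hxx]
    exact conj_mem_M₂ r h6 h12 11 (Or.inr rfl) α c

theorem tab_9 (r : ℕ) (h6 : 6 ≤ r) (h12 : r < 12) (h7 : r ≠ 7) (h8 : r ≠ 8) :
    r = 9 ∨ commPairOK2 chevG2 9 r = true := by
  interval_cases r <;>
    first
    | exact Or.inl rfl
    | exact Or.inr (by decide +kernel)
    | exact absurd rfl h7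
    | exact absurd rfl h8

theorem conj_x9 (r : ℕ) (h6 : 6 ≤ r) (h12 : r < 12) (α c : F) :
    (xGL chevG2 F 9 c)⁻¹ * (xGL chevG2 F r α * xGL chevG2 F 9 c * (xGL chevG2 F r α)⁻¹) ∈ M₂ F := by
  by_cases h7 : r = 7
  · subst h7
    rw [conj1 chevG2 hG2 9 7 10 (-3) (by decide) (by decide) (by decide) (by decide)
      (by decide +kernel) (by decide) (fun a b => cm 10 7 (by decide) (Or.inr (by decide +kernel)) b a),
      inv_mul_cancel_left]
    exact x10_mem _
  by_cases h8 : r = 8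
  · subst h8
    rw [conj1 chevG2 hG2 9 8 11 (-3) (by decide) (by decide) (by decide) (by decide)
      (by decide +kernel) (by decide) (fun a b => cm 11 8 (by decide) (Or.inr (by decide +kernel)) b a),
      inv_mul_cancel_left]
    exact x11_mem _
  have hc := cm 9 r (by decide) (tab_9 r h6 h12 h7 h8) c α
  rw [hc.eq, mul_inv_cancel_right, inv_mul_cancel]
  exact Subgroup.one_mem _

theorem pos_le_modCent :
    chevG2.posUnipotent F ≤ modCent (M₂ F) (Set.range (xGL chevG2 F 9)) := by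
  have htri := triOK_of_mem chevG2 hG2
  have hpos := posOK_of_mem chevG2 hG2
  unfold ChevalleyDatum.posUnipotent
  rw [Subgroup.closure_le]
  rintro g ⟨r, α, hr, hg⟩
  have hgx : g = xGL chevG2 F r α := Units.ext (by rw [hg, xGL_val _ _ htri])
  obtain ⟨h6, h12⟩ := (isPosRoot_iff chevG2 _ hpos r).mp hr
  have h6' : 6 ≤ r := h6
  have h12' : r < 12 := h12
  rw [SetLike.mem_coe, mem_modCent, hgx]
  constructor
  · apply cj_eq_of_le
    · exact cj_xGL_M₂_le r h6' h12' α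
    · rw [Cfsg.Agent.Helper19.Poinc.xGL_inv' chevG2 hG2 r h12]
      exact cj_xGL_M₂_le r h6' h12' (-α)
  · rintro x ⟨c, rfl⟩
    exact conj_x9 r h6' h12' α c

theorem pos_cj_M₂ (u : GL chevG2.Idx F) (hu : u ∈ chevG2.posUnipotent F) : cj u (M₂ F) = M₂ F :=
  ((mem_modCent _ _ _).mp (pos_le_modCent hu)).1

theorem pos_conj_x9 (u : GL chevG2.Idx F) (hu : u ∈ chevG2.posUnipotent F) (c : F) :
    ∃ m ∈ M₂ F, u * xGL chevG2 F 9 c * u⁻¹ = xGL chevG2 F 9 c * m := by
  have := ((mem_modCent _ _ _).mp (pos_le_modCent hu)).2 _ ⟨c, rfl⟩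
  exact ⟨_, this, by rw [mul_inv_cancel_left]⟩

theorem pos_cj_N₃ (u : GL chevG2.Idx F) (hu : u ∈ chevG2.posUnipotent F) : cj u (N₃ F) = N₃ F := by
  have htri := triOK_of_mem chevG2 hG2
  have key : ∀ v ∈ chevG2.posUnipotent F, cj v (N₃ F) ≤ N₃ F := by
    intro v hv
    rw [N₃_eq, cj_sup]
    apply sup_le
    · unfold ChevalleyDatum.rootSubgroup
      apply cj_closure_le
      rintro x ⟨c, hx⟩
      have hxx : x = xGL chevG2 F 9 c := Units.ext (by rw [hx, xGL_val _ _ htri])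
      obtain ⟨m, hm, e⟩ := pos_conj_x9 v hv c
      rw [hxx, e]
      apply Subgroup.mul_mem
      · exact Subgroup.mem_sup_left (Cfsg.Agent.Helper19.Poinc.xGL_mem_rootSubgroup chevG2 hG2 9 c)
      · exact Subgroup.mem_sup_right hm
    · rw [pos_cj_M₂ v hv]
      exact le_sup_right
  exact cj_eq_of_le u _ (key u hu) (key u⁻¹ (Subgroup.inv_mem _ hu))

omit [CharP F 2] in
theorem diag_cj_root (h : GL chevG2.Idx F) (hh : h ∈ chevG2.diagonalSubgroup F) (s : ℕ)
    (hs : s < chevG2.nroots) : cj h (chevG2.rootSubgroup F s) = chevG2.rootSubgroup F s :=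
  rootSubgroup_conj_diag chevG2 hG2 h hh s hs

omit [CharP F 2] in
theorem diag_cj_M₂ (h : GL chevG2.Idx F) (hh : h ∈ chevG2.diagonalSubgroup F) :
    cj h (M₂ F) = M₂ F := by
  unfold M₂
  rw [cj_sup, diag_cj_root h hh 10 (by decide), diag_cj_root h hh 11 (by decide)]

omit [CharP F 2] in
theorem diag_cj_N₃ (h : GL chevG2.Idx F) (hh : h ∈ chevG2.diagonalSubgroup F) :
    cj h (N₃ F) = N₃ F := by
  unfold N₃
  rw [cj_sup, cj_sup, diag_cj_root h hh 9 (by decide), diag_cj_root h hh 10 (by decide),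
    diag_cj_root h hh 11 (by decide)]

theorem borel_cj (K : Subgroup (GL chevG2.Idx F))
    (hU : ∀ u ∈ chevG2.posUnipotent F, cj u K = K) (hH : ∀ h ∈ chevG2.diagonalSubgroup F, cj h K = K)
    (b : GL chevG2.Idx F) (hb : b ∈ chevG2.borelSubgroup F) : cj b K = K := by
  have hle : chevG2.borelSubgroup F ≤ Subgroup.normalizer (K : Set (GL chevG2.Idx F)) := by
    unfold ChevalleyDatum.borelSubgroup
    apply sup_le
    · intro u hu
      rw [Subgroup.mem_normalizer_iff_map_conj_eq]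
      exact hU u hu
    · intro h hh
      rw [Subgroup.mem_normalizer_iff_map_conj_eq]
      exact hH h hh
  have := hle hb
  rw [Subgroup.mem_normalizer_iff_map_conj_eq] at this
  exact this

theorem borel_cj_M₂ (b : GL chevG2.Idx F) (hb : b ∈ chevG2.borelSubgroup F) : cj b (M₂ F) = M₂ F :=
  borel_cj _ pos_cj_M₂ diag_cj_M₂ b hb

theorem borel_cj_N₃ (b : GL chevG2.Idx F) (hb : b ∈ chevG2.borelSubgroup F) : cj b (N₃ F) = N₃ F :=
  borel_cj _ pos_cj_N₃ diag_cj_N₃ b hb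

/-! ### the coordinate functional -/

/-- the coefficient of `e_s` in the image of `h_i` -/
def ent (m : Matrix chevG2.Idx chevG2.Idx F) (i : Fin chevG2.rank) (s : ℕ) (hs : s < chevG2.nroots) : F :=
  (m.mulVec (bI chevG2 i)) (Sum.inr ⟨s, hs⟩)

omit [CharP F 2] in
theorem ent_trip (tr : ℕ × ℕ × ℕ) (h : tripOK chevG2 tr = true) (i : Fin chevG2.rank) (s : ℕ)
    (hs : s < chevG2.nroots) (a b c : F) :
    ent (chevG2.x F tr.1 a * chevG2.x F tr.2.1 b * chevG2.x F tr.2.2 c) i s hs =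
      - ((((chevG2.cartanSR.getD i #[]).getD tr.1 0 : ℤ) : F) * a) * (if s = tr.1 then 1 else 0)
      - ((((chevG2.cartanSR.getD i #[]).getD tr.2.1 0 : ℤ) : F) * b) * (if s = tr.2.1 then 1 else 0)
      - ((((chevG2.cartanSR.getD i #[]).getD tr.2.2 0 : ℤ) : F) * c) * (if s = tr.2.2 then 1 else 0) := by
  unfold ent
  rw [trip_col chevG2 tr h]
  simp only [Pi.sub_apply, Pi.smul_apply, smul_eq_mul, bR_apply, bI_apply_inr, zero_sub]
  ring

theorem std_trip : tripOK chevG2 (9, 10, 11) = true := by decide +kernel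

omit [CharP F 2] in
theorem ent_std_9 (a b c : F) :
    ent (chevG2.x F 9 a * chevG2.x F 10 b * chevG2.x F 11 c) ⟨0, by decide⟩ 9 (by decide) = -a := by
  have := ent_trip (F := F) (9, 10, 11) std_trip ⟨0, by decide⟩ 9 (by decide) a b c
  rw [this]
  have e1 : ((chevG2.cartanSR.getD (⟨0, by decide⟩ : Fin chevG2.rank).val #[]).getD 9 0 : ℤ) = 1 := by
    decide +kernel
  simp only [e1]
  simp

/-! ### the centralizer normalizes `N₃` -/

omit [CharP F 2] in
theorem t_eq (t : GL chevG2.Idx F)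
    (ht : (t : Matrix chevG2.Idx chevG2.Idx F) = chevG2.x F 9 1) : t = xGL chevG2 F 9 1 :=
  Units.ext (by rw [ht, xGL_val _ _ (triOK_of_mem chevG2 hG2)])

omit [CharP F 2] in
theorem ent_x9_one : ent (chevG2.x F 9 (1 : F)) ⟨0, by decide⟩ 9 (by decide) = -1 := by
  have := ent_std_9 (F := F) 1 0 0
  rwa [x_zero, x_zero, mul_one, mul_one] at this

theorem ent_M₂ (m : GL chevG2.Idx F) (hm : m ∈ M₂ F) :
    ent (m : Matrix chevG2.Idx chevG2.Idx F) ⟨0, by decide⟩ 9 (by decide) = 0 := by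
  have htri := triOK_of_mem chevG2 hG2
  have h1 : m ∈ chevG2.rootSubgroup F 9 ⊔ chevG2.rootSubgroup F 10 ⊔ chevG2.rootSubgroup F 11 :=
    M₂_le_N₃ hm
  obtain ⟨x₁, hx₁, x₂, hx₂, rfl⟩ := mem_sup_of_commute _ _
    (fun a ha b hb => rootSubgroup_commute chevG2 hG2 10 11
      (fun t u => cm 11 10 (by decide) (Or.inr (by decide +kernel)) u t) a b ha hb) m hm
  obtain ⟨b, rfl⟩ := (Cfsg.Agent.Helper19.Poinc.mem_rootSubgroup_iff chevG2 hG2 10 (by decide) _).mp hx₁
  obtain ⟨c, rfl⟩ := (Cfsg.Agent.Helper19.Poinc.mem_rootSubgroup_iff chevG2 hG2 11 (by decide) _).mp hx₂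
  have := ent_std_9 (F := F) 0 b c
  rw [x_zero, one_mul, neg_zero] at this
  rw [Units.val_mul, xGL_val _ _ htri, xGL_val _ _ htri]
  exact this

theorem ent_N₃ (y : GL chevG2.Idx F) (hy : y ∈ N₃ F) :
    ∃ a : F, ent (y : Matrix chevG2.Idx chevG2.Idx F) ⟨0, by decide⟩ 9 (by decide) = -a ∧
      (a = 0 → y ∈ M₂ F) := by
  have htri := triOK_of_mem chevG2 hG2
  obtain ⟨a, b, c, rfl⟩ := trip_form chevG2 hG2 (9, 10, 11) std_trip y hy
  refine ⟨a, ?_, ?_⟩
  · rw [Units.val_mul, Units.val_mul, xGL_val _ _ htri, xGL_val _ _ htri, xGL_val _ _ htri]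
    exact ent_std_9 a b c
  · intro ha
    rw [ha, Cfsg.Agent.Helper19.Poinc.xGL_zero' chevG2 hG2, one_mul]
    exact Subgroup.mul_mem _ (x10_mem b) (x11_mem c)

theorem cj_N₃_of_commute (t : GL chevG2.Idx F)
    (ht : (t : Matrix chevG2.Idx chevG2.Idx F) = chevG2.x F 9 1)
    (g : GL chevG2.Idx F) (hg : g ∈ chevG2.group F) (hgt : g * t = t * g) :
    cj g (N₃ F) = N₃ F := by
  have htri := triOK_of_mem chevG2 hG2
  obtain ⟨b, hb, n, hn, u, hu, rfl⟩ := (Cfsg.Agent.S1100.result (F := F) chevG2 hG2).1 g hg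
  obtain ⟨w, hww, h, hh, rfl⟩ := mem_monomial_decomp chevG2 hG2 n hn
  have huU : u ∈ chevG2.posUnipotent F := Cfsg.Agent.Helper36.bruhatU_le_pos chevG2 _ hu
  have htrO : (rho chevG2 w 9, rho chevG2 w 10, rho chevG2 w 11) ∈ orbit := rho_mem_orbit w hww
  generalize htr : (rho chevG2 w 9, rho chevG2 w 10, rho chevG2 w 11) = tr at htrO
  have htrOK : tripOK chevG2 tr = true := List.all_eq_true.mp orbit_trip tr htrO
  obtain ⟨l1, l2, l3⟩ := trip_lt chevG2 tr htrOK
  have e2 : cj (nWordsGL chevG2 F w) (N₃ F) = chevG2.rootSubgroup F tr.1 ⊔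
      chevG2.rootSubgroup F tr.2.1 ⊔ chevG2.rootSubgroup F tr.2.2 := by
    have r9 : cj (nWordsGL chevG2 F w) (chevG2.rootSubgroup F 9) = _ :=
      rootSubgroup_conj_word (F := F) chevG2 hG2 w hww 9 (by decide)
    have r10 : cj (nWordsGL chevG2 F w) (chevG2.rootSubgroup F 10) = _ :=
      rootSubgroup_conj_word (F := F) chevG2 hG2 w hww 10 (by decide)
    have r11 : cj (nWordsGL chevG2 F w) (chevG2.rootSubgroup F 11) = _ :=
      rootSubgroup_conj_word (F := F) chevG2 hG2 w hww 11 (by decide)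
    unfold N₃
    rw [cj_sup, cj_sup, r9, r10, r11, ← htr]
  have e1 : cj (b * (h * nWordsGL chevG2 F w) * u) (N₃ F) = cj b (chevG2.rootSubgroup F tr.1 ⊔
      chevG2.rootSubgroup F tr.2.1 ⊔ chevG2.rootSubgroup F tr.2.2) := by
    rw [cj_mul, cj_mul, cj_mul, pos_cj_N₃ u huU, e2, cj_sup h, cj_sup h, diag_cj_root h hh _ l1,
      diag_cj_root h hh _ l2, diag_cj_root h hh _ l3]
  rw [e1]
  have htN : t ∈ N₃ F := by
    rw [t_eq t ht]
    exact x9_mem 1
  have h3 : t ∈ cj b (chevG2.rootSubgroup F tr.1 ⊔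
      chevG2.rootSubgroup F tr.2.1 ⊔ chevG2.rootSubgroup F tr.2.2) := by
    rw [← e1]
    refine ⟨t, htN, ?_⟩
    show (b * (h * nWordsGL chevG2 F w) * u) * t * (b * (h * nWordsGL chevG2 F w) * u)⁻¹ = t
    rw [hgt, mul_inv_cancel_right]
  have h4 := (mem_cj b t _).mp h3
  by_cases h9 : tr.1 = 9
  · have hf := List.all_eq_true.mp orbit_first tr htrO
    rw [decide_eq_true_eq] at hf
    have hN : chevG2.rootSubgroup F tr.1 ⊔ chevG2.rootSubgroup F tr.2.1 ⊔
        chevG2.rootSubgroup F tr.2.2 = N₃ F := by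
      rcases hf h9 with e | e
      · rw [e]
        rfl
      · rw [e]
        exact sup_right_comm _ _ _
    rw [hN]
    exact borel_cj_N₃ b hb
  · exfalso
    have hn9 := List.all_eq_true.mp orbit_not9 tr htrO
    rw [decide_eq_true_eq] at hn9
    obtain ⟨h92, h93⟩ := hn9 h9
    obtain ⟨a, b', c, e⟩ := trip_form chevG2 hG2 tr htrOK _ h4
    have hent0 : ent ((b⁻¹ * t * b : GL chevG2.Idx F) : Matrix chevG2.Idx chevG2.Idx F)
        ⟨0, by decide⟩ 9 (by decide) = 0 := by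
      rw [e, Units.val_mul, Units.val_mul, xGL_val _ _ htri, xGL_val _ _ htri, xGL_val _ _ htri,
        ent_trip tr htrOK, if_neg (Ne.symm h9), if_neg (Ne.symm h92), if_neg (Ne.symm h93)]
      ring
    have h5 : b⁻¹ * t * b ∈ N₃ F := by
      have := conj_mem_cj b⁻¹ t (N₃ F) htN
      rw [borel_cj_N₃ b⁻¹ (Subgroup.inv_mem _ hb), inv_inv] at this
      exact this
    obtain ⟨a', hE, hM⟩ := ent_N₃ _ h5
    have ha' : a' = 0 := by
      rw [hent0] at hE
      exact neg_eq_zero.mp hE.symm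
    have h6 : b⁻¹ * t * b ∈ M₂ F := hM ha'
    have h7 : t ∈ M₂ F := by
      have := conj_mem_cj b _ (M₂ F) h6
      rw [borel_cj_M₂ b hb] at this
      have e3 : b * (b⁻¹ * t * b) * b⁻¹ = t := by group
      rwa [e3] at this
    have h8 := ent_M₂ t h7
    rw [ht, ent_x9_one] at h8
    exact one_ne_zero (neg_eq_zero.mp h8)

theorem n_not_normalize (k : GL chevG2.Idx F)
    (hk : (k : Matrix chevG2.Idx chevG2.Idx F) = chevG2.nMat F (chevG2.simple 0) 1)
    (hkn : cj k (N₃ F) = N₃ F) : False := by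
  have htri := triOK_of_mem chevG2 hG2
  have hk' : k = nWordsGL chevG2 F [0] := by
    apply Units.ext
    rw [hk]
    simp only [nWordsGL, List.map_cons, List.map_nil, List.prod_cons, List.prod_nil, mul_one]
    rw [nWordGL_val chevG2 hG2]
  have hw : ∀ i ∈ [0], i < chevG2.rank := by
    intro i hi
    rw [List.mem_singleton] at hi
    rw [hi]
    decide
  have r9 : cj (nWordsGL chevG2 F [0]) (chevG2.rootSubgroup F 9) = _ :=
    rootSubgroup_conj_word (F := F) chevG2 hG2 [0] hw 9 (by decide)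
  have e9 : rho chevG2 [0] 9 = 8 := by decide +kernel
  have hx : xGL chevG2 F 8 1 ∈ N₃ F := by
    rw [← hkn, hk']
    unfold N₃
    rw [cj_sup, cj_sup, r9, e9]
    exact Subgroup.mem_sup_left (Subgroup.mem_sup_left
      (Cfsg.Agent.Helper19.Poinc.xGL_mem_rootSubgroup chevG2 hG2 8 1))
  obtain ⟨a, b, c, e⟩ := trip_form chevG2 hG2 (9, 10, 11) std_trip _ hx
  have e' := congrArg (fun g : GL chevG2.Idx F =>
    ent (g : Matrix chevG2.Idx chevG2.Idx F) ⟨0, by decide⟩ 8 (by decide)) e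
  simp only [Units.val_mul, xGL_val _ _ htri] at e'
  have t2 : tripOK chevG2 (8, 6, 11) = true := by decide +kernel
  have l1 : ent (chevG2.x F 8 (1 : F)) ⟨0, by decide⟩ 8 (by decide) = 1 := by
    have := ent_trip (F := F) (8, 6, 11) t2 ⟨0, by decide⟩ 8 (by decide) 1 0 0
    rw [x_zero, x_zero, mul_one, mul_one] at this
    rw [this]
    have e1 : ((chevG2.cartanSR.getD (⟨0, by decide⟩ : Fin chevG2.rank).val #[]).getD 8 0 : ℤ) = -1 := by
      decide +kernel
    simp only [e1]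
    simp
  rw [l1, ent_trip (9, 10, 11) std_trip] at e'
  simp at e'

end G2

end Cfsg.Agent.Helper36.G2Short
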