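import Mathlib
import Cfsg.Agent.Helper18.TriGroup

/-!
Helper36: fusion of diagonal elements is controlled by the monomial group: abstract matrix lemma.
If `u₁ n u₂` (with `u₁, u₂` lower unitriangular, `n` normalising the diagonal group `H`) conjugates
`h₁ ∈ H` to `h₂ ∈ H`, then so does `n`.
-/

set_option autoImplicit false

namespace Cfsg.Agent.Helper36.HFusion

open Cfsg.Agent.Helper18

section Mat

variable {m F : Type*} [Fintype m] [DecidableEq m] [Field F]

theorem supp_pow_zero {b : m → ℕ} {M : Matrix m m F} (hM : Supp b 0 M) (p : ℕ) : Supp b 0 (M ^ p) := by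
  induction p with
  | zero => rw [pow_zero]; exact supp_one b
  | succ p ih => rw [pow_succ]; simpa using ih.mul hM

theorem supp_pow_one {b : m → ℕ} {M : Matrix m m F} (hM : Supp b 1 M) (p : ℕ) : Supp b p (M ^ p) := by
  induction p with
  | zero => rw [pow_zero]; exact supp_one b
  | succ p ih => rw [pow_succ]; exact ih.mul hM

theorem pow_diag {b : m → ℕ} (hb : Function.Injective b) {M : Matrix m m F} (hM : Supp b 0 M) (p : ℕ)
    (i : m) : (M ^ p) i i = (M i i) ^ p := by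
  induction p with
  | zero => simp
  | succ p ih => rw [pow_succ, (supp_pow_zero hM p).mul_diag hb hM, ih, pow_succ]

/-- a diagonal matrix `k` with `k w` conjugate to a unitriangular matrix (`w` unitriangular) is `1` -/
theorem diag_eq_one {b : m → ℕ} (hb : Function.Injective b) (K : ℕ) (hK : ∀ i, b i < K)
    (u w k n : GL m F) (hu : u ∈ lowerGL b F 1) (hw : w ∈ lowerGL b F 1)
    (hk : ∀ i j, i ≠ j → (k : Matrix m m F) i j = 0)
    (h : n⁻¹ * u * n = k * w) : k = 1 := by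
  have hk0 : Supp b 0 (k : Matrix m m F) := by
    intro i j hij
    exact hk i j (by rintro rfl; omega)
  obtain ⟨hw0, hw1⟩ := hw
  obtain ⟨_, hu1⟩ := hu
  -- the matrix `k w - 1` is nilpotent
  have e1 : ((k : Matrix m m F) * (w : Matrix m m F) - 1)
      = ((n⁻¹ : GL m F) : Matrix m m F) * ((u : Matrix m m F) - 1) * (((n⁻¹)⁻¹ : GL m F) : Matrix m m F) := by
    have h' := congrArg (fun g : GL m F => (g : Matrix m m F)) h
    simp only [Units.val_mul] at h'
    have h1 : ((n⁻¹ : GL m F) : Matrix m m F) * (n : Matrix m m F) = 1 := by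
      rw [← Units.val_mul, inv_mul_cancel, Units.val_one]
    rw [← h', inv_inv, mul_sub, sub_mul, mul_one, h1]
  have e2 : ((k : Matrix m m F) * (w : Matrix m m F) - 1) ^ K = 0 := by
    rw [e1, Units.conj_pow, (supp_pow_one hu1 K).eq_zero hK, mul_zero, zero_mul]
  have hkw : Supp b 0 ((k : Matrix m m F) * (w : Matrix m m F) - 1) := by
    have := hk0.mul hw0
    exact (by simpa using this : Supp b 0 _).sub (supp_one b)
  have hdiag : ∀ i, (k : Matrix m m F) i i = 1 := by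
    intro i
    have h1 := pow_diag hb hkw K i
    rw [e2, Matrix.zero_apply, Matrix.sub_apply, hk0.mul_diag hb hw0, Matrix.one_apply_eq] at h1
    have hwi : (w : Matrix m m F) i i = 1 := by
      have := hw1 i i (by omega)
      rw [Matrix.sub_apply, Matrix.one_apply_eq, sub_eq_zero] at this
      exact this
    rw [hwi, mul_one] at h1
    have := pow_eq_zero_iff (n := K) (by have := hK i; omega) |>.mp h1.symm
    exact sub_eq_zero.mp this
  apply Units.ext
  ext i j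
  by_cases hij : i = j
  · subst hij; rw [hdiag i]; simp
  · rw [hk i j hij]; simp [hij]

/-- fusion of diagonal elements under `u₁ n u₂` is realised by `n` -/
theorem fusion {b : m → ℕ} (hb : Function.Injective b) (K : ℕ) (hK : ∀ i, b i < K)
    (U H N : Subgroup (GL m F)) (hU : U ≤ lowerGL b F 1)
    (hHd : ∀ k ∈ H, ∀ i j, i ≠ j → (k : Matrix m m F) i j = 0)
    (hHU : H ≤ Subgroup.normalizer (U : Set (GL m F)))
    (hHN : ∀ n ∈ N, ∀ k ∈ H, n⁻¹ * k * n ∈ H)
    (u₁ u₂ n h₁ h₂ : GL m F) (hu₁ : u₁ ∈ U) (hu₂ : u₂ ∈ U) (hn : n ∈ N) (hh₁ : h₁ ∈ H) (hh₂ : h₂ ∈ H)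
    (hc : (u₁ * n * u₂) * h₁ * (u₁ * n * u₂)⁻¹ = h₂) : n * h₁ * n⁻¹ = h₂ := by
  have conjU : ∀ k ∈ H, ∀ x ∈ U, k * x * k⁻¹ ∈ U := by
    intro k hk x hx
    exact (Subgroup.mem_normalizer_iff.mp (hHU hk) x).mp hx
  have hu₂' : h₁⁻¹ * u₂ * h₁ ∈ U := by
    have := conjU h₁⁻¹ (H.inv_mem hh₁) u₂ hu₂
    simpa using this
  have hu₁' : h₂ * u₁ * h₂⁻¹ ∈ U := conjU h₂ hh₂ u₁ hu₁
  have hh₂' : n⁻¹ * h₂ * n ∈ H := hHN n hn h₂ hh₂
  set u := (h₂ * u₁ * h₂⁻¹)⁻¹ * u₁ with hu
  set v := u₂ * (h₁⁻¹ * u₂ * h₁)⁻¹ with hv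
  set w := h₁ * v * h₁⁻¹ with hw
  set k := (n⁻¹ * h₂ * n) * h₁⁻¹ with hk
  have huU : u ∈ U := U.mul_mem (U.inv_mem hu₁') hu₁
  have hvU : v ∈ U := U.mul_mem hu₂ (U.inv_mem hu₂')
  have hwU : w ∈ U := conjU h₁ hh₁ v hvU
  have hkH : k ∈ H := H.mul_mem hh₂' (H.inv_mem hh₁)
  have key : n⁻¹ * u * n = k * w := by
    rw [hu, hk, hw, hv, ← hc]
    group
  have hk1 : k = 1 := diag_eq_one hb K hK u w k n (hU huU) (hU hwU) (hHd k hkH) key
  rw [hk] at hk1
  have : n⁻¹ * h₂ * n = h₁ := by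
    rw [mul_inv_eq_one] at hk1
    exact hk1
  rw [← this]
  group

end Mat

end Cfsg.Agent.Helper36.HFusion
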