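import Cfsg.Agent.Helper18.Tri

/-!
Helper36: the height grading of the adjoint module of a Chevalley group.

With respect to a height function `lvH` on the coordinates (the `h_i` on one level `H0`, the root vector `e_s` on
level `hgt s`), the root elements of positive roots are the identity plus a matrix strictly raising the level.
Hence for every `u` of the positive unipotent subgroup `(u - 1)^(B+1) = 0` when the levels are at most `B`, and in
characteristic `2` we get `u ^ (2 ^ k) = 1` as soon as `B < 2 ^ k`.
-/

set_option autoImplicit false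

namespace Cfsg.Agent.Helper36.HeightNil

open Cfsg Cfsg.Lie Cfsg.Agent.Helper18

section Gen
variable {n F : Type*} [Fintype n] [DecidableEq n] [Field F]

/-- the entries `(i, j)` of `M` vanish unless the level of `i` exceeds the level of `j` by at least `k` -/
def StrictL (lv : n → ℕ) (k : ℕ) (M : Matrix n n F) : Prop := ∀ i j, lv i < lv j + k → M i j = 0

theorem strictL_zero (lv : n → ℕ) (k : ℕ) : StrictL lv k (0 : Matrix n n F) := fun _ _ _ => rfl

theorem strictL_one (lv : n → ℕ) : StrictL lv 0 (1 : Matrix n n F) := by
  intro i j hij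
  have : i ≠ j := by rintro rfl; omega
  simp [Matrix.one_apply, this]

theorem StrictL.add {lv : n → ℕ} {k : ℕ} {M N : Matrix n n F} (hM : StrictL lv k M) (hN : StrictL lv k N) :
    StrictL lv k (M + N) := by
  intro i j hij
  rw [Matrix.add_apply, hM i j hij, hN i j hij, add_zero]

theorem StrictL.mono {lv : n → ℕ} {k l : ℕ} {M : Matrix n n F} (hM : StrictL lv k M) (hl : l ≤ k) :
    StrictL lv l M := fun i j hij => hM i j (by omega)

theorem StrictL.mul {lv : n → ℕ} {k l : ℕ} {M N : Matrix n n F} (hM : StrictL lv k M) (hN : StrictL lv l N) :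
    StrictL lv (k + l) (M * N) := by
  intro i j hij
  rw [Matrix.mul_apply]
  apply Finset.sum_eq_zero
  intro a _
  by_cases h1 : lv i < lv a + k
  · rw [hM i a h1, zero_mul]
  · rw [hN a j (by omega), mul_zero]

theorem StrictL.pow {lv : n → ℕ} {M : Matrix n n F} (hM : StrictL lv 1 M) (k : ℕ) :
    StrictL lv k (M ^ k) := by
  induction k with
  | zero => rw [pow_zero]; exact strictL_one lv
  | succ k ih => rw [pow_succ]; exact ih.mul hM

theorem StrictL.eq_zero {lv : n → ℕ} {k B : ℕ} {M : Matrix n n F} (hM : StrictL lv k M) (hB : ∀ i, lv i ≤ B)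
    (hk : B < k) : M = 0 := by
  ext i j
  have := hB i
  exact hM i j (by omega)

/-- the invertible matrices which are the identity plus a matrix strictly raising the level -/
def strictSub (lv : n → ℕ) : Submonoid (GL n F) where
  carrier := {u | StrictL lv 1 ((u : Matrix n n F) - 1)}
  one_mem' := by
    show StrictL lv 1 (((1 : GL n F) : Matrix n n F) - 1)
    rw [Units.val_one, sub_self]
    exact strictL_zero lv 1
  mul_mem' := by
    intro u v hu hv
    show StrictL lv 1 (((u * v : GL n F) : Matrix n n F) - 1)
    have e : ((u * v : GL n F) : Matrix n n F) - 1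
        = ((u : Matrix n n F) - 1) * ((v : Matrix n n F) - 1) + (((u : Matrix n n F) - 1) + ((v : Matrix n n F) - 1)) := by
      rw [Units.val_mul]
      noncomm_ring
    rw [e]
    exact StrictL.add ((StrictL.mul hu hv).mono (by omega)) (StrictL.add hu hv)

theorem mem_strictSub (lv : n → ℕ) (u : GL n F) :
    u ∈ strictSub (F := F) lv ↔ StrictL lv 1 ((u : Matrix n n F) - 1) := Iff.rfl

/-- in a finite group a submonoid containing a set contains the subgroup it generates -/
theorem closure_le_submonoid {G : Type*} [Group G] [Finite G] (S : Submonoid G) (T : Set G) (hT : T ⊆ S) :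
    ∀ x ∈ Subgroup.closure T, x ∈ S := by
  intro x hx
  induction hx using Subgroup.closure_induction with
  | mem y hy => exact hT hy
  | one => exact S.one_mem
  | mul y z _ _ hy hz => exact S.mul_mem hy hz
  | inv y _ hy =>
    have hpos : 0 < orderOf y := orderOf_pos y
    have e : y⁻¹ = y ^ (orderOf y - 1) := by
      apply inv_eq_of_mul_eq_one_right
      rw [← pow_succ', Nat.sub_add_cancel hpos, pow_orderOf_eq_one]
    rw [e]
    exact S.pow_mem hy _

/-- in characteristic two, the identity plus a matrix strictly raising a bounded level has `2`-power order -/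
theorem pow_two_pow_eq_one [CharP F 2] [Nonempty n] {lv : n → ℕ} {B k : ℕ} (hB : ∀ i, lv i ≤ B) (hk : B < 2 ^ k)
    (u : GL n F) (hu : u ∈ strictSub (F := F) lv) : u ^ 2 ^ k = 1 := by
  haveI : Fact (Nat.Prime 2) := ⟨Nat.prime_two⟩
  apply Units.ext
  rw [Units.val_pow_eq_pow_val, Units.val_one]
  have e : (u : Matrix n n F) = ((u : Matrix n n F) - 1) + 1 := by rw [sub_add_cancel]
  rw [e, add_pow_char_pow_of_commute 2 k (Commute.one_right _), one_pow,
    ((StrictL.pow hu (2 ^ k)).eq_zero hB hk), zero_add]

end Gen

section Chev
variable {F : Type*} [Field F]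

/-- the height function on the coordinates -/
def lvH (D : ChevalleyDatum) (hgt : ℕ → ℕ) (H0 : ℕ) : D.Idx → ℕ := Sum.elim (fun _ => H0) (fun s => hgt s.val)

/-- the table check: a positive root is above the level `H0`, its negative below, and the chains of a positive root
strictly raise the height -/
def hgtOK (D : ChevalleyDatum) (hlf : ℕ) (hgt : ℕ → ℕ) (H0 : ℕ) : Bool :=
  (List.range D.nroots).all fun r =>
    decide (r < hlf) ||
      (decide (H0 < hgt r) && decide (hgt (D.neg r) < H0) &&
        (D.chain.getD r #[]).toList.all fun e => e.2.toList.all fun q => decide (hgt e.1 < hgt q.1))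

theorem xMat_strict (D : ChevalleyDatum) (hlf : ℕ) (hgt : ℕ → ℕ) (H0 : ℕ) (h : hgtOK D hlf hgt H0 = true)
    (r : Fin D.nroots) (hr : hlf ≤ r.val) (t : F) (i j : D.Idx) (hne : i ≠ j)
    (hij : lvH D hgt H0 i ≤ lvH D hgt H0 j) : D.xMat F r t i j = 0 := by
  unfold hgtOK at h
  rw [List.all_eq_true] at h
  have h1 := h r.val (List.mem_range.mpr r.2)
  simp only [Bool.or_eq_true, Bool.and_eq_true, decide_eq_true_eq, List.all_eq_true] at h1
  rcases h1 with h1 | ⟨⟨hpos, hneg⟩, hch⟩
  · omega
  simp only [ChevalleyDatum.xMat, Matrix.of_apply]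
  rcases j with a | s
  · rcases i with a' | u
    · have : a' ≠ a := fun e => hne (by rw [e])
      simp [this]
    · simp only [lvH, Sum.elim_inl, Sum.elim_inr] at hij
      have : u ≠ r := by
        intro e; rw [e] at hij; omega
      simp [this]
  · simp only
    split_ifs with h1 h2
    · rcases i with a' | u
      · rfl
      · have : u ≠ r := by intro e; apply hne; rw [e, h1]
        simp [this]
    · have hs : s.val = D.neg r.val := h2
      rcases i with a' | u
      · exfalso
        simp only [lvH, Sum.elim_inl, Sum.elim_inr] at hij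
        rw [hs] at hij
        omega
      · have h3 : u ≠ s := fun e => hne (by rw [e])
        have h4 : u ≠ r := by
          intro e; rw [e] at hij
          simp only [lvH, Sum.elim_inr] at hij
          rw [hs] at hij
          omega
        simp [h3, h4]
    · rcases i with a' | u
      · rfl
      · have h3 : u ≠ s := fun e => hne (by rw [e])
        simp only
        rw [if_neg h3, zero_add]
        apply xMat_sum_eq_zero
        by_contra hne'
        obtain ⟨km, hkm⟩ := List.exists_mem_of_ne_nil _ hne'
        obtain ⟨e, he, hes, q, hq, hqu⟩ := mem_chainCoeff D r.val s.val u.val km hkm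
        have := hch e he q hq
        rw [hes, hqu] at this
        simp only [lvH, Sum.elim_inr] at hij
        omega

theorem x_mem_strictSub (D : ChevalleyDatum) (hlf : ℕ) (htri : triOK D hlf = true) (hgt : ℕ → ℕ) (H0 : ℕ)
    (h : hgtOK D hlf hgt H0 = true) (r : ℕ) (hr : hlf ≤ r) (t : F) (g : GL D.Idx F)
    (hg : (g : Matrix D.Idx D.Idx F) = D.x F r t) : g ∈ strictSub (F := F) (lvH D hgt H0) := by
  rw [mem_strictSub, hg]
  intro i j hij
  rw [Matrix.sub_apply]
  by_cases hne : i = j
  · rw [hne, x_diag D hlf htri r t j, Matrix.one_apply_eq, sub_self]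
  · rw [Matrix.one_apply_ne hne, sub_zero]
    unfold ChevalleyDatum.x
    split_ifs with h1
    · exact xMat_strict D hlf hgt H0 h ⟨r, h1⟩ hr t i j hne (by omega)
    · exact Matrix.one_apply_ne hne

/-- the positive unipotent subgroup consists of matrices which are the identity plus a strictly raising matrix -/
theorem posUnipotent_le_strictSub [Finite F] (D : ChevalleyDatum) (hlf : ℕ) (htri : triOK D hlf = true)
    (hposOK : posOK D hlf = true) (hgt : ℕ → ℕ) (H0 : ℕ) (h : hgtOK D hlf hgt H0 = true) :
    ∀ u ∈ D.posUnipotent F, u ∈ strictSub (F := F) (lvH D hgt H0) := by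
  haveI : Fintype F := Fintype.ofFinite F
  unfold ChevalleyDatum.posUnipotent
  apply closure_le_submonoid
  rintro g ⟨r, t, hr, hg⟩
  exact x_mem_strictSub D hlf htri hgt H0 h r ((isPosRoot_iff D hlf hposOK r).mp hr).1 t g hg

end Chev

end Cfsg.Agent.Helper36.HeightNil
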