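import Cfsg.Agent.Helper36.ChevSimple

/-!
Helper36: tools for the perfectness of the twisted groups `³D₄(q)` and `²E₆(q)`:
commuting root elements, conjugation of root elements by products of the `n_p`, the action of
the `h_p(c)`, and extraction of root elements from commutators.
-/

set_option autoImplicit false

namespace Cfsg.Agent.Helper36.Twist

open Cfsg Cfsg.Lie Cfsg.Agent.Helper40.ChevAdd Cfsg.Agent.Helper36.Perfect
  Cfsg.Agent.Helper36.ChevSimple
open scoped commutatorElement

/-! ### group lemmas -/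

section Grp

variable {G : Type*} [Group G]

/-- elements of the closures of two elementwise commuting sets commute -/
theorem commute_of_mem_closure {S T : Set G} (h : ∀ s ∈ S, ∀ t ∈ T, Commute s t)
    {x y : G} (hx : x ∈ Subgroup.closure S) (hy : y ∈ Subgroup.closure T) : Commute x y := by
  have h1 : ∀ t ∈ T, ∀ x ∈ Subgroup.closure S, Commute x t := by
    intro t ht x hx
    induction hx using Subgroup.closure_induction with
    | mem s hs => exact h s hs t ht
    | one => exact Commute.one_left t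
    | mul a b _ _ ha hb => exact ha.mul_left hb
    | inv a _ ha => exact ha.inv_left
  induction hy using Subgroup.closure_induction with
  | mem t ht => exact h1 t ht x hx
  | one => exact Commute.one_right x
  | mul a b _ _ ha hb => exact ha.mul_right hb
  | inv a _ ha => exact ha.inv_right

theorem prod2_two {a₁ a₂ b₁ b₂ : G} (h : Commute b₁ a₂) :
    (a₁ * a₂) * (b₁ * b₂) = (a₁ * b₁) * (a₂ * b₂) := by
  rw [mul_assoc a₁ a₂, ← mul_assoc a₂ b₁, ← h.eq, mul_assoc b₁ a₂, ← mul_assoc a₁ b₁]

theorem prod2_three {a₁ a₂ a₃ b₁ b₂ b₃ : G} (h12 : Commute b₁ a₂) (h13 : Commute b₁ a₃)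
    (h23 : Commute b₂ a₃) :
    (a₁ * a₂ * a₃) * (b₁ * b₂ * b₃) = (a₁ * b₁) * (a₂ * b₂) * (a₃ * b₃) := by
  have e1 : (a₁ * a₂ * a₃) * (b₁ * b₂ * b₃) = (a₁ * (a₂ * a₃)) * (b₁ * (b₂ * b₃)) := by
    simp only [mul_assoc]
  rw [e1, prod2_two (h12.mul_right h13), prod2_two h23]
  simp only [mul_assoc]

end Grp

/-! ### root elements -/

section Gen

variable {F : Type*} [Field F] (D : ChevalleyDatum) (hadd : addOK D = true)

/-- check that the root elements of `r` and `s` commute -/
def commPairOK (D : ChevalleyDatum) (r s : ℕ) : Bool :=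
  decide (r < D.nroots) && decide (s < D.nroots) && decide (s ≠ r) && decide (s ≠ D.neg r) &&
    (D.commTerms r s).isEmpty

theorem xGL_commute (hcomm : CommHyp F D) (r s : ℕ) (h : commPairOK D r s = true) (t u : F) :
    Commute (xGL D hadd F s u) (xGL D hadd F r t) := by
  unfold commPairOK at h
  simp only [Bool.and_eq_true, decide_eq_true_eq, List.isEmpty_iff] at h
  obtain ⟨⟨⟨⟨hr, hs⟩, hsr⟩, hsn⟩, h0⟩ := h
  show _ * _ = _ * _
  apply Units.ext
  rw [Units.val_mul, Units.val_mul]
  have := hcomm r s hr hs hsr hsn t u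
  rw [ChevalleyDatum.commWord, h0] at this
  simpa [ChevalleyDatum.wordMat] using this

/-- all root elements of the roots in `B₁` commute with all those of the roots in `B₂` -/
def commBlocksOK (D : ChevalleyDatum) (B₁ B₂ : List ℕ) : Bool :=
  B₁.all fun r => B₂.all fun s => commPairOK D r s

/-- the subgroup generated by the root elements of the roots in a list -/
def blockGL (B : List ℕ) : Subgroup (GL D.Idx F) :=
  Subgroup.closure {g | ∃ r ∈ B, ∃ t : F, g = xGL D hadd F r t}

theorem xGL_mem_block {B : List ℕ} {r : ℕ} (hr : r ∈ B) (t : F) :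
    xGL D hadd F r t ∈ blockGL (F := F) D hadd B :=
  Subgroup.subset_closure ⟨r, hr, t, rfl⟩

theorem block_commute (hcomm : CommHyp F D) (B₁ B₂ : List ℕ) (h : commBlocksOK D B₁ B₂ = true)
    {x y : GL D.Idx F} (hx : x ∈ blockGL (F := F) D hadd B₁) (hy : y ∈ blockGL (F := F) D hadd B₂) :
    Commute x y := by
  refine commute_of_mem_closure ?_ hx hy
  rintro _ ⟨r, hr, t, rfl⟩ _ ⟨s, hs, u, rfl⟩
  unfold commBlocksOK at h
  rw [List.all_eq_true] at h
  have h1 := h r hr
  rw [List.all_eq_true] at h1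
  exact (xGL_commute D hadd hcomm r s (h1 s hs) t u).symm

/-- `n_r(t)` as an element of the general linear group -/
def nEl (r : ℕ) (t : F) : GL D.Idx F := wordGL D hadd (D.nWord r t)

/-- `h_r(t)` as an element of the general linear group -/
def hEl (r : ℕ) (t : F) : GL D.Idx F := wordGL D hadd (D.hWord r t)

theorem nEl_eq (r : ℕ) (t : F) :
    nEl D hadd r t = xGL D hadd F r t * xGL D hadd F (D.neg r) (-t⁻¹) * xGL D hadd F r t := by
  unfold nEl wordGL ChevalleyDatum.nWord
  simp [mul_assoc]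

theorem nEl_neg_one (r : ℕ) : nEl D hadd r (-1 : F) = (nEl D hadd r (1 : F))⁻¹ := by
  rw [nEl_eq, nEl_eq, mul_inv_rev, mul_inv_rev, xGL_inv, xGL_inv]
  simp [mul_assoc, neg_inv]

theorem hEl_eq (r : ℕ) (t : F) : hEl D hadd r t = nEl D hadd r t * (nEl D hadd r (1 : F))⁻¹ := by
  rw [← nEl_neg_one]
  unfold hEl nEl wordGL ChevalleyDatum.hWord
  rw [List.map_append, List.prod_append]

theorem nEl_mem_block {B : List ℕ} {r : ℕ} (hr : r ∈ B) (hn : D.neg r ∈ B) (t : F) :
    nEl D hadd r t ∈ blockGL (F := F) D hadd B := by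
  rw [nEl_eq]
  exact Subgroup.mul_mem _ (Subgroup.mul_mem _ (xGL_mem_block D hadd hr _) (xGL_mem_block D hadd hn _))
    (xGL_mem_block D hadd hr _)

theorem nGL_eq_nEl (i : ℕ) : nGL F D hadd i = nEl D hadd (D.simple i) (1 : F) := rfl

theorem coe_hEl (r : ℕ) (t : F) :
    ((hEl D hadd r t : GL D.Idx F) : Matrix D.Idx D.Idx F) = D.hMat F r t := coe_wordGL D hadd _

/-- the action of `h_{p_i}(c)` on root elements -/
theorem hEl_conj (htor : TorHyp F D) (i s : ℕ) (hi : i < D.rank) (hs : s < D.nroots) (c : F)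
    (hc : c ≠ 0) (t : F) :
    hEl D hadd (D.simple i) c * xGL D hadd F s t * (hEl D hadd (D.simple i) c)⁻¹
      = xGL D hadd F s (c ^ (D.cartan i s) * t) := by
  rw [mul_inv_eq_iff_eq_mul]
  apply Units.ext
  rw [Units.val_mul, Units.val_mul, coe_hEl]
  exact htor i s hi hs c hc t

/-- the action of `n_{p_i}` on root elements -/
theorem nGL_conj (hn : NConjHyp F D) (i s : ℕ) (hi : i < D.rank) (hs : s < D.nroots) :
    ∃ η : F, (η = 1 ∨ η = -1) ∧ ∀ t : F,
      nGL F D hadd i * xGL D hadd F s t * (nGL F D hadd i)⁻¹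
        = xGL D hadd F (D.reflectRoot i s) (η * t) := by
  obtain ⟨η, hη, h⟩ := hn i s hi hs
  refine ⟨(η : F), ?_, ?_⟩
  · rcases hη with rfl | rfl
    · left; simp
    · right; simp
  · intro t
    rw [mul_inv_eq_iff_eq_mul]
    apply Units.ext
    rw [Units.val_mul, Units.val_mul, coe_nGL]
    exact h t

/-- the product of the `n_{p_i}`, `i` in a list -/
def nProd (is : List ℕ) : GL D.Idx F := (is.map fun i => nGL F D hadd i).prod

/-- the image of a root under the product of the reflections in a list -/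
def reflectList (D : ChevalleyDatum) (is : List ℕ) (s : ℕ) : ℕ := is.foldr (fun i r => D.reflectRoot i r) s

/-- all the reflections are defined and all intermediate roots are in range -/
def reflectListOK (D : ChevalleyDatum) : List ℕ → ℕ → Bool
  | [], s => decide (s < D.nroots)
  | i :: is, s => decide (i < D.rank) && reflectListOK D is s && decide (reflectList D is s < D.nroots)

theorem nProd_conj (hn : NConjHyp F D) (is : List ℕ) (s : ℕ) (h : reflectListOK D is s = true) :
    ∃ η : F, (η = 1 ∨ η = -1) ∧ ∀ t : F,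
      nProd D hadd is * xGL D hadd F s t * (nProd (F := F) D hadd is)⁻¹
        = xGL D hadd F (reflectList D is s) (η * t) := by
  induction is with
  | nil =>
    refine ⟨1, Or.inl rfl, fun t => ?_⟩
    simp [nProd, reflectList]
  | cons i is ih =>
    unfold reflectListOK at h
    simp only [Bool.and_eq_true, decide_eq_true_eq] at h
    obtain ⟨⟨hi, h1⟩, h2⟩ := h
    obtain ⟨η₁, hη₁, e₁⟩ := ih h1
    obtain ⟨η₂, hη₂, e₂⟩ := nGL_conj D hadd hn i (reflectList D is s) hi h2
    refine ⟨η₂ * η₁, ?_, fun t => ?_⟩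
    · rcases hη₁ with rfl | rfl <;> rcases hη₂ with rfl | rfl <;> simp
    · have e : nProd (F := F) D hadd (i :: is) = nGL F D hadd i * nProd D hadd is := by
        simp [nProd]
      rw [e, mul_inv_rev]
      have : nGL F D hadd i * nProd D hadd is * xGL D hadd F s t * ((nProd (F := F) D hadd is)⁻¹ * (nGL F D hadd i)⁻¹)
          = nGL F D hadd i * (nProd D hadd is * xGL D hadd F s t * (nProd (F := F) D hadd is)⁻¹) * (nGL F D hadd i)⁻¹ := by
        group
      rw [this, e₁, e₂, mul_assoc]
      rfl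

/-! ### membership of root elements with parameters in a set -/

/-- the root elements `x_r(t)`, `t ∈ T`, lie in the subgroup `G₁` -/
def RootIn (G₁ : Subgroup (GL D.Idx F)) (T : Set F) (r : ℕ) : Prop :=
  ∀ t ∈ T, xGL D hadd F r t ∈ G₁

theorem rootIn_reflectList (hn : NConjHyp F D) (G₁ : Subgroup (GL D.Idx F)) (T : Set F)
    (hT : ∀ t ∈ T, -t ∈ T) (is : List ℕ) (s : ℕ) (h : reflectListOK D is s = true)
    (hG : nProd (F := F) D hadd is ∈ G₁) (hs : RootIn D hadd G₁ T s) :
    RootIn D hadd G₁ T (reflectList D is s) := by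
  obtain ⟨η, hη, e⟩ := nProd_conj D hadd hn is s h
  intro t ht
  have h1 : xGL D hadd F (reflectList D is s) t
      = nProd D hadd is * xGL D hadd F s (η * t) * (nProd (F := F) D hadd is)⁻¹ := by
    rw [e, ← mul_assoc]
    rcases hη with rfl | rfl <;> simp
  rw [h1]
  refine Subgroup.mul_mem _ (Subgroup.mul_mem _ hG (hs _ ?_)) (Subgroup.inv_mem _ hG)
  rcases hη with rfl | rfl
  · rw [one_mul]; exact ht
  · rw [neg_one_mul]; exact hT t ht

/-- a root `k = r + s` whose root elements are single commutators of those of `r` and `s` -/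
theorem comm_mem (hcomm : CommHyp F D) (G₁ : Subgroup (GL D.Idx F)) (T : Set F)
    (hT : ∀ t ∈ T, -t ∈ T) (h1 : (1 : F) ∈ T) (r s k : ℕ) (C : ℤ)
    (hr : r < D.nroots) (hs : s < D.nroots) (hsr : s ≠ r) (hsn : s ≠ D.neg r)
    (hL : D.commTerms r s = [(k, C, 1, 1)]) (hC : C = 1 ∨ C = -1)
    (hrT : RootIn D hadd G₁ T r) (hsT : RootIn D hadd G₁ T s) :
    ∀ v ∈ T, xGL D hadd F k v ∈ ⁅G₁, G₁⁆ := by
  have key : ∀ t ∈ T, ∀ u ∈ T, wordGL D hadd (D.commWord F r s t u) ∈ ⁅G₁, G₁⁆ := by
    intro t ht u hu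
    have e : xGL D hadd F s u * xGL D hadd F r t
        = xGL D hadd F r t * xGL D hadd F s u * wordGL D hadd (D.commWord F r s t u) := by
      apply Units.ext
      rw [Units.val_mul, Units.val_mul, Units.val_mul, coe_wordGL]
      exact hcomm r s hr hs hsr hsn t u
    have e2 : wordGL D hadd (D.commWord F r s t u)
        = ⁅(xGL D hadd F s u)⁻¹, (xGL D hadd F r t)⁻¹⁆ := by
      have e3 : wordGL D hadd (D.commWord F r s t u)
          = (xGL D hadd F r t * xGL D hadd F s u)⁻¹ * (xGL D hadd F s u * xGL D hadd F r t) := by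
        rw [e]; group
      rw [e3, commutatorElement_def]; group
    rw [e2]
    exact Subgroup.commutator_mem_commutator (Subgroup.inv_mem _ (hsT u hu))
      (Subgroup.inv_mem _ (hrT t ht))
  have hw : ∀ t u : F, wordGL D hadd (D.commWord F r s t u)
      = xGL D hadd F k ((C : F) * (-t) * u) := by
    intro t u
    unfold wordGL ChevalleyDatum.commWord
    rw [hL]
    simp
  intro v hv
  rcases hC with rfl | rfl
  · have := key (-v) (hT v hv) 1 h1
    rw [hw] at this
    simpa using this
  · have := key v hv 1 h1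
    rw [hw] at this
    simpa using this

/-- a subgroup of `GL` generated by a set of elements of its own commutator subgroup is perfect -/
theorem perfect_of_gens (G₁ : Subgroup (GL D.Idx F)) (S : Set (GL D.Idx F))
    (hG : G₁ = Subgroup.closure S) (hS : ∀ g ∈ S, g ∈ ⁅G₁, G₁⁆) : commutator ↥G₁ = ⊤ := by
  have hle : G₁ ≤ ⁅G₁, G₁⁆ := by
    conv_lhs => rw [hG]
    rw [Subgroup.closure_le]
    exact hS
  have heq : ⁅G₁, G₁⁆ = G₁ :=
    le_antisymm ((Subgroup.commutator_le).mpr (fun g₁ h₁ g₂ h₂ => by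
      rw [commutatorElement_def]
      exact Subgroup.mul_mem _ (Subgroup.mul_mem _ (Subgroup.mul_mem _ h₁ h₂) (Subgroup.inv_mem _ h₁))
        (Subgroup.inv_mem _ h₂))) hle
  apply Subgroup.map_injective G₁.subtype_injective
  rw [Subgroup.map_subtype_commutator, heq, ← MonoidHom.range_eq_map, Subgroup.range_subtype]

/-- a family `Y` with `g Y(t) g⁻¹ = Y(c t)`, `Y(c t) Y(t)⁻¹ = Y((c - 1) t)` and `c ≠ 1`
lies in the commutator subgroup -/
theorem torus_trick (G₁ : Subgroup (GL D.Idx F)) (Y : F → GL D.Idx F) (hY : ∀ t, Y t ∈ G₁)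
    (g : GL D.Idx F) (hg : g ∈ G₁) (c : F) (hc : c - 1 ≠ 0)
    (hconj : ∀ t, g * Y t * g⁻¹ = Y (c * t)) (hsub : ∀ a b, Y a * (Y b)⁻¹ = Y (a - b)) (s : F) :
    Y s ∈ ⁅G₁, G₁⁆ := by
  have e : Y s = ⁅g, Y (s / (c - 1))⁆ := by
    rw [commutatorElement_def, hconj, hsub]
    congr 1
    field_simp
  rw [e]
  exact Subgroup.commutator_mem_commutator hg (hY _)

end Gen

end Cfsg.Agent.Helper36.Twist
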