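import Cfsg.Agent.Helper36.HighRootCert
import Cfsg.Agent.Helper36.TwistPerfect
import Cfsg.Agent.Helper36.BruhatUnique
import Cfsg.Agent.S1100
import Cfsg.Agent.S1027
import Cfsg.Agent.S1025
import Cfsg.Agent.S1043

/-!
Helper36: the subgroup generated by the highest root subgroup `X` and a conjugate `g X g⁻¹` in a
Chevalley group over a finite field of characteristic two: by the Bruhat normal form `g = b n u`
it is conjugate to `⟨X, X_β⟩` for a root `β`; if `β` is the lowest root this is the rank one group,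
otherwise both roots lie in a common positive system and the group is a `2`-group.
-/

set_option autoImplicit false

namespace Cfsg.Agent.Helper36.HighRoot

open Cfsg Cfsg.Lie Cfsg.Agent.Helper18

section

variable {F : Type*} [Field F] (D : ChevalleyDatum)
  (hD : D ∈ [chevG2, chevB2, chevD4, chevF4, chevE6, chevE7, chevE8])

include hD in
theorem rootSubgroup_conj_word (w : List ℕ) (hw : ∀ i ∈ w, i < D.rank) (s : ℕ) (hs : s < D.nroots) :
    (D.rootSubgroup F s).map (MulAut.conj (nWordsGL D F w)).toMonoidHom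
      = D.rootSubgroup F (rho D w s) := by
  have htri := triOK_of_mem D hD
  obtain ⟨hlt, η, hη, hc⟩ := nWordsGL_conj_xGL (F := F) D hD (nConjHyp D hD)
    (fun i s hi hs => reflectRoot_lt D hD i s hi hs) w hw s hs
  have hηη : (η : F) * (η : F) = 1 := by
    rcases hη with rfl | rfl <;> simp
  apply le_antisymm
  · rw [Subgroup.map_le_iff_le_comap]
    conv_lhs => unfold ChevalleyDatum.rootSubgroup
    rw [Subgroup.closure_le]
    rintro g ⟨t, hg⟩
    have hgx : g = xGL D F s t := Units.ext (by rw [hg, xGL_val D _ htri])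
    rw [SetLike.mem_coe, Subgroup.mem_comap]
    show nWordsGL D F w * g * (nWordsGL D F w)⁻¹ ∈ _
    rw [hgx, hc t, mul_inv_cancel_right]
    apply Subgroup.subset_closure
    exact ⟨_, xGL_val D _ htri _ _⟩
  · conv_lhs => unfold ChevalleyDatum.rootSubgroup
    rw [Subgroup.closure_le]
    rintro g ⟨t, hg⟩
    have hgx : g = xGL D F (rho D w s) t := Units.ext (by rw [hg, xGL_val D _ htri])
    refine ⟨xGL D F s ((η : F) * t), Subgroup.subset_closure ⟨_, xGL_val D _ htri _ _⟩, ?_⟩
    show nWordsGL D F w * _ * (nWordsGL D F w)⁻¹ = g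
    rw [hc, ← mul_assoc, hηη, one_mul, mul_inv_cancel_right, hgx]

include hD in
theorem rootSubgroup_conj_diag (h : GL D.Idx F) (hh : h ∈ D.diagonalSubgroup F) (s : ℕ)
    (hs : s < D.nroots) :
    (D.rootSubgroup F s).map (MulAut.conj h).toMonoidHom = D.rootSubgroup F s := by
  have htri := triOK_of_mem D hD
  obtain ⟨χ, hχ, -, hc⟩ := diagonalSubgroup_char D hD h hh
  apply le_antisymm
  · rw [Subgroup.map_le_iff_le_comap]
    conv_lhs => unfold ChevalleyDatum.rootSubgroup
    rw [Subgroup.closure_le]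
    rintro g ⟨t, hg⟩
    have hgx : g = xGL D F s t := Units.ext (by rw [hg, xGL_val D _ htri])
    rw [SetLike.mem_coe, Subgroup.mem_comap]
    show h * g * h⁻¹ ∈ _
    rw [hgx, hc s hs t, mul_inv_cancel_right]
    apply Subgroup.subset_closure
    exact ⟨_, xGL_val D _ htri _ _⟩
  · conv_lhs => unfold ChevalleyDatum.rootSubgroup
    rw [Subgroup.closure_le]
    rintro g ⟨t, hg⟩
    have hgx : g = xGL D F s t := Units.ext (by rw [hg, xGL_val D _ htri])
    refine ⟨xGL D F s ((χ s)⁻¹ * t), Subgroup.subset_closure ⟨_, xGL_val D _ htri _ _⟩, ?_⟩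
    show h * _ * h⁻¹ = g
    rw [hc s hs, ← mul_assoc, mul_inv_cancel₀ (hχ s), one_mul, mul_inv_cancel_right, hgx]

end

/-- check: the highest root subgroup commutes with all the other positive root subgroups -/
def hiOK (D : ChevalleyDatum) : Bool :=
  (List.range D.nroots).all fun r => !(decide (hlfOf D ≤ r)) || (r == D.nroots - 1) ||
    Cfsg.Agent.Helper36.Twist.commPairOK D (D.nroots - 1) r

theorem hiOK_G2 : hiOK chevG2 = true := by decide +kernel
theorem hiOK_D4 : hiOK chevD4 = true := by decide +kernel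
theorem hiOK_E6 : hiOK chevE6 = true := by decide +kernel
theorem hiOK_E7 : hiOK chevE7 = true := by decide +kernel
set_option maxRecDepth 100000 in
theorem hiOK_E8 : hiOK chevE8 = true := by decide +kernel

/-- conjugate of a subgroup -/
def cj {G : Type*} [Group G] (a : G) (K : Subgroup G) : Subgroup G :=
  K.map (MulAut.conj a).toMonoidHom

theorem cj_mul {G : Type*} [Group G] (a b : G) (K : Subgroup G) : cj (a * b) K = cj a (cj b K) := by
  unfold cj
  rw [Subgroup.map_map]
  congr 1
  ext x
  simp [MulAut.conj_apply, mul_assoc]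

theorem cj_inv_cj {G : Type*} [Group G] (a : G) (K : Subgroup G) : cj a⁻¹ (cj a K) = K := by
  rw [← cj_mul, inv_mul_cancel]
  unfold cj
  ext x
  simp

theorem cj_sup {G : Type*} [Group G] (a : G) (K L : Subgroup G) : cj a (K ⊔ L) = cj a K ⊔ cj a L :=
  Subgroup.map_sup K L _

theorem cj_mono {G : Type*} [Group G] (a : G) {K L : Subgroup G} (h : K ≤ L) : cj a K ≤ cj a L :=
  Subgroup.map_mono h

section Main

open Cfsg.Agent.Helper40.ChevAdd

variable {F : Type*} [Field F] (D : ChevalleyDatum)
  (hD : D ∈ [chevG2, chevB2, chevD4, chevF4, chevE6, chevE7, chevE8])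

include hD in
theorem pos_commute_hi (hhi : hiOK D = true) (u x : GL D.Idx F) (hu : u ∈ D.posUnipotent F)
    (hx : x ∈ D.rootSubgroup F (D.nroots - 1)) : Commute u x := by
  have hadd := addOK_of_mem hD
  have hpos := posOK_of_mem D hD
  have hcomm : Cfsg.Agent.Helper36.Perfect.CommHyp F D :=
    fun r s hr hs h1 h2 t u => Cfsg.Agent.S1025.result D hD r s hr hs h1 h2 t u
  unfold ChevalleyDatum.posUnipotent at hu
  unfold ChevalleyDatum.rootSubgroup at hx
  refine Cfsg.Agent.Helper36.Twist.commute_of_mem_closure ?_ hu hx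
  rintro g₁ ⟨r, t, hr, hg₁⟩ g₂ ⟨c, hg₂⟩
  have e1 : g₁ = Cfsg.Agent.Helper40.ChevAdd.xGL D hadd F r t := eq_xGL D hadd hg₁
  have e2 : g₂ = Cfsg.Agent.Helper40.ChevAdd.xGL D hadd F (D.nroots - 1) c := eq_xGL D hadd hg₂
  rw [e1, e2]
  by_cases hrh : r = D.nroots - 1
  · rw [hrh]
    show _ * _ = _ * _
    rw [xGL_add, xGL_add, add_comm]
  · have hr' := (isPosRoot_iff D _ hpos r).mp hr
    unfold hiOK at hhi
    rw [List.all_eq_true] at hhi
    have h1 := hhi r (List.mem_range.mpr hr'.2)
    simp only [Bool.or_eq_true, Bool.not_eq_true', decide_eq_false_iff_not, beq_iff_eq] at h1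
    rcases h1 with (h1 | h1) | h1
    · exact absurd hr'.1 h1
    · exact absurd h1 hrh
    · exact Cfsg.Agent.Helper36.Twist.xGL_commute D hadd hcomm _ _ h1 c t

include hD in
theorem borel_le_normalizer_hi (hhi : hiOK D = true) (hlt : D.nroots - 1 < D.nroots)
    (b : GL D.Idx F) (hb : b ∈ D.borelSubgroup F) :
    cj b (D.rootSubgroup F (D.nroots - 1)) = D.rootSubgroup F (D.nroots - 1) := by
  have hle : D.borelSubgroup F ≤
      Subgroup.normalizer (D.rootSubgroup F (D.nroots - 1) : Set (GL D.Idx F)) := by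
    unfold ChevalleyDatum.borelSubgroup
    apply sup_le
    · intro u hu
      rw [Subgroup.mem_normalizer_iff]
      intro x
      constructor
      · intro hx
        have := (pos_commute_hi D hD hhi u x hu hx).eq
        rw [this, mul_inv_cancel_right]
        exact hx
      · intro hx
        have h2 := (pos_commute_hi D hD hhi u _ hu hx).eq
        have h3 : x = u * x * u⁻¹ :=
          calc x = u⁻¹ * ((u * x * u⁻¹) * u) := by group
            _ = u⁻¹ * (u * (u * x * u⁻¹)) := by rw [h2]
            _ = u * x * u⁻¹ := by group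
        rw [h3]
        exact hx
    · intro h hh
      rw [Subgroup.mem_normalizer_iff_map_conj_eq]
      exact rootSubgroup_conj_diag D hD h hh _ hlt
  have := hle hb
  rw [Subgroup.mem_normalizer_iff_map_conj_eq] at this
  exact this

include hD in
theorem isPGroup_pos [Fintype F] [CharP F 2] : IsPGroup 2 ↥(D.posUnipotent F) := by
  obtain ⟨n, -, hn⟩ := FiniteField.card F 2
  have h := Cfsg.Agent.S1027.result (F := F) D hD
  rw [hn, ← pow_mul] at h
  exact IsPGroup.of_card h

theorem rootSubgroup_le_pos (r : ℕ) (hr : D.IsPosRoot r) : D.rootSubgroup F r ≤ D.posUnipotent F := by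
  unfold ChevalleyDatum.rootSubgroup ChevalleyDatum.posUnipotent
  apply Subgroup.closure_mono
  rintro g ⟨t, hg⟩
  exact ⟨r, t, hr, hg⟩

include hD in
theorem main_of_checks [Fintype F] [CharP F 2] (words : List (List ℕ)) (hw : pairOK D words = true)
    (hhi : hiOK D = true) (hneg : D.neg (D.nroots - 1) = 0) (hlt : D.nroots - 1 < D.nroots)
    (g : GL D.Idx F) (hg : g ∈ D.group F) :
    IsPGroup 2 ↥(D.rootSubgroup F (D.nroots - 1) ⊔
        (D.rootSubgroup F (D.nroots - 1)).map (MulAut.conj g).toMonoidHom) ∨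
      ∃ h ∈ D.group F, (D.rootSubgroup F (D.nroots - 1) ⊔
        (D.rootSubgroup F (D.nroots - 1)).map (MulAut.conj g).toMonoidHom).map
          (MulAut.conj h).toMonoidHom = D.rootSubgroup F (D.nroots - 1) ⊔ D.rootSubgroup F 0 := by
  have hpos := posOK_of_mem D hD
  obtain ⟨b, hb, n, hn, u, hu, rfl⟩ := (Cfsg.Agent.S1100.result (F := F) D hD).1 g hg
  obtain ⟨w, hww, h, hh, rfl⟩ := mem_monomial_decomp D hD n hn
  have huU : u ∈ D.posUnipotent F := Cfsg.Agent.Helper36.bruhatU_le_pos D _ hu
  have hUB : D.posUnipotent F ≤ D.borelSubgroup F := le_sup_left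
  set X := D.rootSubgroup F (D.nroots - 1) with hX
  set β := rho D w (D.nroots - 1) with hβ
  have hβlt : β < D.nroots := rho_lt D hD w hww _ hlt
  have e1 : X.map (MulAut.conj (b * (h * nWordsGL D F w) * u)).toMonoidHom
      = cj b (D.rootSubgroup F β) := by
    show cj (b * (h * nWordsGL D F w) * u) X = _
    rw [cj_mul, cj_mul, cj_mul, borel_le_normalizer_hi D hD hhi hlt u (hUB huU)]
    have : cj (nWordsGL D F w) X = D.rootSubgroup F β := rootSubgroup_conj_word D hD w hww _ hlt
    rw [this]
    have : cj h (D.rootSubgroup F β) = D.rootSubgroup F β := rootSubgroup_conj_diag D hD h hh β hβlt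
    rw [this]
  have e2 : X ⊔ X.map (MulAut.conj (b * (h * nWordsGL D F w) * u)).toMonoidHom
      = cj b (X ⊔ D.rootSubgroup F β) := by
    rw [e1, cj_sup, borel_le_normalizer_hi D hD hhi hlt b hb]
  rw [e2]
  by_cases hβ0 : β = 0
  · right
    refine ⟨b⁻¹, Subgroup.inv_mem _ ((Cfsg.Agent.S1043.result (F := F) D hD).1 hb), ?_⟩
    show cj b⁻¹ (cj b _) = _
    rw [cj_inv_cj, hβ0]
  · left
    unfold pairOK at hw
    rw [List.all_eq_true] at hw
    have h1 := hw β (List.mem_range.mpr hβlt)
    rw [hneg] at h1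
    simp only [Bool.or_eq_true, beq_iff_eq, Bool.and_eq_true, List.all_eq_true,
      decide_eq_true_eq] at h1
    rcases h1 with h1 | ⟨⟨hw1, hw2⟩, hw3⟩
    · exact absurd h1 hβ0
    · set w' := words.getD β [] with hw'
      have hp1 : D.IsPosRoot (rho D w' (D.nroots - 1)) :=
        (isPosRoot_iff D _ hpos _).mpr ⟨hw2, rho_lt D hD w' hw1 _ hlt⟩
      have hp2 : D.IsPosRoot (rho D w' β) :=
        (isPosRoot_iff D _ hpos _).mpr ⟨hw3, rho_lt D hD w' hw1 _ hβlt⟩
      have hle : cj (nWordsGL D F w') (X ⊔ D.rootSubgroup F β) ≤ D.posUnipotent F := by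
        rw [cj_sup]
        apply sup_le
        · have : cj (nWordsGL D F w') X = _ := rootSubgroup_conj_word D hD w' hw1 _ hlt
          rw [this]
          exact rootSubgroup_le_pos D _ hp1
        · have : cj (nWordsGL D F w') (D.rootSubgroup F β) = _ :=
            rootSubgroup_conj_word D hD w' hw1 _ hβlt
          rw [this]
          exact rootSubgroup_le_pos D _ hp2
      have hle2 : X ⊔ D.rootSubgroup F β ≤ cj (nWordsGL D F w')⁻¹ (D.posUnipotent F) := by
        have := cj_mono (nWordsGL D F w')⁻¹ hle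
        rw [cj_inv_cj] at this
        exact this
      have hP : IsPGroup 2 ↥(cj (nWordsGL D F w')⁻¹ (D.posUnipotent F)) :=
        (isPGroup_pos D hD).map _
      exact (hP.to_le hle2).map _

end Main

end Cfsg.Agent.Helper36.HighRoot
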