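import Cfsg.Agent.Helper36.ParaNorm
import Cfsg.Agent.Helper36.RootSep
import Cfsg.Agent.Helper19.Poinc.ChevStep
import Cfsg.Agent.S1034
import Cfsg.Agent.S1033
import Cfsg.Agent.Helper18.HProd

/-!
Helper36: the centralizer of the highest root element `t = x_r(1)` in a Chevalley group whose
highest root is a fundamental weight (`E₆`, `E₇`, `E₈`): `C_G(t) = ⟨U, X_{-p_j} : p_j ⟂ r⟩`.
An element centralizing `t` normalizes the root subgroup `X_r` (Bruhat normal form), the
normalizer of `X_r` is the maximal parabolic subgroup `P_J` ((B, N)-pair), `P_J = R H` with `R` the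
right hand side, and an element of `H` centralizing `t` lies in `R`.
-/

set_option autoImplicit false

namespace Cfsg.Agent.Helper36.LongRootCent

open Cfsg Cfsg.Lie Cfsg.Agent.Helper18 Cfsg.Agent.Helper36.HighRoot

/-- the numerical facts: `i₀` is the fundamental root not orthogonal to the highest root, `negs` the
negatives of the other fundamental roots -/
def centOK (D : ChevalleyDatum) (i₀ : ℕ) (negs : List ℕ) : Bool :=
  hiOK D && decide (i₀ < D.rank) &&
  decide (negs = ((List.range D.rank).filter (fun j => j ≠ i₀)).map (fun j => D.neg (D.simple j))) &&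
  negs.all (fun s => Cfsg.Agent.Helper36.Twist.commPairOK D (D.nroots - 1) s) &&
  decide (D.reflectRoot i₀ (D.nroots - 1) ≠ D.nroots - 1) &&
  (List.range D.rank).all (fun i => decide (D.cartan i (D.nroots - 1) = if i = i₀ then 1 else 0))

section

variable {F : Type*} [Field F] (D : ChevalleyDatum)
  (hD : D ∈ [chevG2, chevB2, chevD4, chevF4, chevE6, chevE7, chevE8])

include hD in
/-- a subgroup of the Chevalley group containing `B` lies in `P_J` as soon as it contains no `n_i`,
`i ∉ J` -/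
theorem le_parabolic_of (M : Subgroup (GL D.Idx F)) (hMG : M ≤ D.group F)
    (hBM : D.borelSubgroup F ≤ M) (J : Set ℕ)
    (hJ : ∀ i < D.rank, ∀ k : GL D.Idx F, (k : Matrix D.Idx D.Idx F) = D.nMat F (D.simple i) 1 →
      k ∈ M → i ∈ J) : M ≤ D.parabolicSubgroup F J := by
  obtain ⟨P, hPB, -, hPS⟩ := Cfsg.Agent.Helper36.chev_bnPair (F := F) D hD
  set M' : Subgroup ↥(D.group F) := M.subgroupOf (D.group F) with hM'
  have hBP : D.borelSubgroup F ≤ D.parabolicSubgroup F J := le_sup_left
  have hBM' : P.B ≤ M' := by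
    rw [hPB]
    intro g hg
    rw [Subgroup.mem_subgroupOf] at hg
    rw [hM', Subgroup.mem_subgroupOf]
    exact hBM hg
  obtain ⟨K, hKS, hMK⟩ := Cfsg.Agent.S0311.result P M' hBM'
  have hKJ : ∀ k ∈ K, (k : GL D.Idx F) ∈ D.parabolicSubgroup F J := by
    intro k hk
    have hkS := hKS hk
    rw [hPS] at hkS
    obtain ⟨i, hi, hki⟩ := hkS
    have hkM : k ∈ M' := by
      rw [hMK]
      unfold BNPair.parabolic
      exact Subgroup.mem_sup_right (Subgroup.subset_closure hk)
    rw [hM', Subgroup.mem_subgroupOf] at hkM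
    have hiJ := hJ i hi _ hki hkM
    unfold ChevalleyDatum.parabolicSubgroup
    apply Subgroup.mem_sup_right
    apply Subgroup.subset_closure
    exact ⟨i, hiJ, hi, hki⟩
  intro g hg
  have hgM : (⟨g, hMG hg⟩ : ↥(D.group F)) ∈ M' := by
    rw [hM', Subgroup.mem_subgroupOf]
    exact hg
  rw [hMK] at hgM
  have hle : P.parabolic K ≤ (D.parabolicSubgroup F J).subgroupOf (D.group F) := by
    unfold BNPair.parabolic
    apply sup_le
    · rw [hPB]
      intro x hx
      rw [Subgroup.mem_subgroupOf] at hx ⊢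
      exact hBP hx
    · rw [Subgroup.closure_le]
      intro k hk
      rw [SetLike.mem_coe, Subgroup.mem_subgroupOf]
      exact hKJ k hk
  have := hle hgM
  rw [Subgroup.mem_subgroupOf] at this
  exact this

include hD in
/-- a non-trivial element of `X_β` lying in the highest root subgroup forces `β` to be the highest
root -/
theorem root_eq_hi (hlt : D.nroots - 1 < D.nroots) (β : ℕ) (hβ : β < D.nroots) (y : GL D.Idx F)
    (hy1 : y ≠ 1) (hyβ : y ∈ D.rootSubgroup F β) (hyh : y ∈ D.rootSubgroup F (D.nroots - 1)) :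
    β = D.nroots - 1 := by
  have htri := triOK_of_mem D hD
  have hpos := posOK_of_mem D hD
  obtain ⟨c, rfl⟩ := (Cfsg.Agent.Helper19.Poinc.mem_rootSubgroup_iff D hD β hβ y).mp hyβ
  obtain ⟨c', hc'⟩ := (Cfsg.Agent.Helper19.Poinc.mem_rootSubgroup_iff D hD _ hlt _).mp hyh
  by_contra hne
  have hposhi : D.IsPosRoot (D.nroots - 1) := by
    rw [isPosRoot_iff D _ hpos]
    refine ⟨?_, hlt⟩
    unfold hlfOf
    omega
  have h1 : D.x F β c = D.x F (D.nroots - 1) c' := by
    rw [← xGL_val D _ htri, ← xGL_val D _ htri, hc']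
  have hc0 := Cfsg.Agent.Helper36.RootSep.eq_zero_of_x_eq D hD β _ hβ hposhi hne c c' h1
  apply hy1
  rw [hc0]
  exact Cfsg.Agent.Helper19.Poinc.xGL_zero' D hD β

include hD in
/-- an element of the Chevalley group centralizing `t = x_r(1)` (`r` the highest root)
normalizes the root subgroup `X_r` -/
theorem cj_eq_of_commute (hhi : hiOK D = true) (hlt : D.nroots - 1 < D.nroots)
    (t : GL D.Idx F) (ht : (t : Matrix D.Idx D.Idx F) = D.x F (D.nroots - 1) 1)
    (g : GL D.Idx F) (hg : g ∈ D.group F) (hgt : g * t = t * g) :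
    cj g (D.rootSubgroup F (D.nroots - 1)) = D.rootSubgroup F (D.nroots - 1) := by
  have htri := triOK_of_mem D hD
  obtain ⟨b, hb, n, hn, u, hu, rfl⟩ := (Cfsg.Agent.S1100.result (F := F) D hD).1 g hg
  obtain ⟨w, hww, h, hh, rfl⟩ := mem_monomial_decomp D hD n hn
  have huU : u ∈ D.posUnipotent F := Cfsg.Agent.Helper36.bruhatU_le_pos D _ hu
  have hUB : D.posUnipotent F ≤ D.borelSubgroup F := le_sup_left
  set X := D.rootSubgroup F (D.nroots - 1) with hX
  set β := rho D w (D.nroots - 1) with hβ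
  have hβlt : β < D.nroots := rho_lt D hD w hww _ hlt
  have e1 : cj (b * (h * nWordsGL D F w) * u) X = cj b (D.rootSubgroup F β) := by
    rw [cj_mul, cj_mul, cj_mul, borel_le_normalizer_hi D hD hhi hlt u (hUB huU)]
    have : cj (nWordsGL D F w) X = D.rootSubgroup F β := rootSubgroup_conj_word D hD w hww _ hlt
    rw [this]
    have : cj h (D.rootSubgroup F β) = D.rootSubgroup F β := rootSubgroup_conj_diag D hD h hh β hβlt
    rw [this]
  rw [e1]
  have htX : t ∈ X := Subgroup.subset_closure ⟨1, ht⟩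
  have ht1 : t ≠ 1 := by
    intro h1
    have h2 : D.x F (D.nroots - 1) (1 : F) = 1 := by rw [← ht, h1]; rfl
    exact one_ne_zero ((Cfsg.Agent.S1024.result D hD _ hlt (1 : F)).mp h2)
  -- `t = g t g⁻¹ ∈ b X_β b⁻¹`
  have h3 : t ∈ cj b (D.rootSubgroup F β) := by
    rw [← e1]
    refine ⟨t, htX, ?_⟩
    show (b * (h * nWordsGL D F w) * u) * t * (b * (h * nWordsGL D F w) * u)⁻¹ = t
    rw [hgt, mul_inv_cancel_right]
  obtain ⟨y, hyβ, hyt⟩ := h3
  have hyt' : b * y * b⁻¹ = t := hyt
  have hyX : y ∈ X := by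
    have h4 : y = b⁻¹ * t * b⁻¹⁻¹ := by rw [← hyt']; group
    have h5 : b⁻¹ * t * b⁻¹⁻¹ ∈ cj b⁻¹ X := ⟨t, htX, rfl⟩
    rw [borel_le_normalizer_hi D hD hhi hlt b⁻¹ (Subgroup.inv_mem _ hb)] at h5
    rw [h4]
    exact h5
  have hy1 : y ≠ 1 := by
    rintro rfl
    apply ht1
    rw [← hyt']
    group
  have hβe := root_eq_hi D hD hlt β hβlt y hy1 hyβ hyX
  rw [hβe]
  exact borel_le_normalizer_hi D hD hhi hlt b hb

end

end Cfsg.Agent.Helper36.LongRootCent
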