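import Cfsg.Agent.Helper36.LongRootCent
import Cfsg.Agent.S1036

/-!
Helper36: the centralizer of the highest root element, main theorem (see `LongRootCent`).
-/

set_option autoImplicit false

namespace Cfsg.Agent.Helper36.LongRootCent

open Cfsg Cfsg.Lie Cfsg.Agent.Helper18 Cfsg.Agent.Helper36.HighRoot

section

variable {F : Type*} [Field F] (D : ChevalleyDatum)
  (hD : D ∈ [chevG2, chevB2, chevD4, chevF4, chevE6, chevE7, chevE8])

/-- the right hand side -/
def rhs (F : Type*) [Field F] (D : ChevalleyDatum) (negs : List ℕ) : Subgroup (GL D.Idx F) :=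
  D.posUnipotent F ⊔ Subgroup.closure {g : GL D.Idx F | ∃ s ∈ negs, ∃ c : F,
    (g : Matrix D.Idx D.Idx F) = D.x F s c}

theorem centOK_spec {D : ChevalleyDatum} {i₀ : ℕ} {negs : List ℕ} (h : centOK D i₀ negs = true) :
    hiOK D = true ∧ i₀ < D.rank ∧
    negs = ((List.range D.rank).filter (fun j => j ≠ i₀)).map (fun j => D.neg (D.simple j)) ∧
    (∀ s ∈ negs, Cfsg.Agent.Helper36.Twist.commPairOK D (D.nroots - 1) s = true) ∧
    D.reflectRoot i₀ (D.nroots - 1) ≠ D.nroots - 1 ∧
    ∀ i < D.rank, D.cartan i (D.nroots - 1) = if i = i₀ then 1 else 0 := by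
  unfold centOK at h
  simp only [Bool.and_eq_true, decide_eq_true_eq, List.all_eq_true, List.mem_range] at h
  obtain ⟨⟨⟨⟨⟨h1, h2⟩, h3⟩, h4⟩, h5⟩, h6⟩ := h
  exact ⟨h1, h2, h3, h4, h5, h6⟩

theorem neg_simple_mem {D : ChevalleyDatum} {i₀ : ℕ} {negs : List ℕ}
    (h3 : negs = ((List.range D.rank).filter (fun j => j ≠ i₀)).map (fun j => D.neg (D.simple j)))
    (j : ℕ) (hj : j < D.rank) (hne : j ≠ i₀) : D.neg (D.simple j) ∈ negs := by
  rw [h3]
  apply List.mem_map.mpr
  refine ⟨j, ?_, rfl⟩
  rw [List.mem_filter]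
  exact ⟨List.mem_range.mpr hj, by simpa using hne⟩

include hD in
theorem xGL_neg_mem_rhs (negs : List ℕ) (s : ℕ) (hs : s ∈ negs) (c : F) :
    xGL D F s c ∈ rhs F D negs := by
  apply Subgroup.mem_sup_right
  apply Subgroup.subset_closure
  exact ⟨s, hs, c, xGL_val D _ (triOK_of_mem D hD) s c⟩

include hD in
theorem xGL_pos_mem_rhs (negs : List ℕ) (q : ℕ) (hq : hlfOf D ≤ q ∧ q < D.nroots) (c : F) :
    xGL D F q c ∈ rhs F D negs :=
  Subgroup.mem_sup_left (xGL_mem_posUnipotent D hD q hq c)

include hD in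
/-- the right hand side lies in the Chevalley group and centralizes `t` -/
theorem rhs_le (i₀ : ℕ) (negs : List ℕ) (hc : centOK D i₀ negs = true)
    (t : GL D.Idx F) (ht : (t : Matrix D.Idx D.Idx F) = D.x F (D.nroots - 1) 1) :
    rhs F D negs ≤ D.group F ⊓ Subgroup.centralizer {t} := by
  obtain ⟨hhi, hi₀, hnegs, hcomm, hrefl, hcart⟩ := centOK_spec hc
  have htri := triOK_of_mem D hD
  have hadd := Cfsg.Agent.Helper40.ChevAdd.addOK_of_mem hD
  have hcommH : Cfsg.Agent.Helper36.Perfect.CommHyp F D :=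
    fun r s hr hs h1 h2 t u => Cfsg.Agent.S1025.result D hD r s hr hs h1 h2 t u
  have htX : t ∈ D.rootSubgroup F (D.nroots - 1) := Subgroup.subset_closure ⟨1, ht⟩
  unfold rhs
  apply sup_le
  · apply le_inf
    · exact le_trans le_sup_left (Cfsg.Agent.S1043.result (F := F) D hD).1
    · intro u hu
      rw [Subgroup.mem_centralizer_iff]
      intro y hy
      rw [Set.mem_singleton_iff] at hy
      rw [hy]
      exact ((pos_commute_hi D hD hhi u t hu htX).eq).symm
  · rw [Subgroup.closure_le]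
    rintro g ⟨s, hs, c, hg⟩
    have hgx : g = xGL D F s c := Units.ext (by rw [hg, xGL_val D _ htri])
    rw [SetLike.mem_coe]
    apply Subgroup.mem_inf.mpr
    constructor
    · rw [hgx]
      exact xGL_mem_group' D hD s c
    · rw [Subgroup.mem_centralizer_iff]
      intro y hy
      rw [Set.mem_singleton_iff] at hy
      rw [hy]
      have e1 : g = Cfsg.Agent.Helper40.ChevAdd.xGL D hadd F s c :=
        Cfsg.Agent.Helper40.ChevAdd.eq_xGL D hadd hg
      have e2 : t = Cfsg.Agent.Helper40.ChevAdd.xGL D hadd F (D.nroots - 1) 1 :=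
        Cfsg.Agent.Helper40.ChevAdd.eq_xGL D hadd ht
      rw [e1, e2]
      exact ((Cfsg.Agent.Helper36.Twist.xGL_commute D hadd hcommH _ _ (hcomm s hs) 1 c).eq).symm

include hD in
/-- the fundamental reflection `n_{i₀}` does not normalize the highest root subgroup -/
theorem n_not_normalize (i₀ : ℕ) (hi₀ : i₀ < D.rank) (hlt : D.nroots - 1 < D.nroots)
    (hrefl : D.reflectRoot i₀ (D.nroots - 1) ≠ D.nroots - 1)
    (k : GL D.Idx F) (hk : (k : Matrix D.Idx D.Idx F) = D.nMat F (D.simple i₀) 1)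
    (hkn : cj k (D.rootSubgroup F (D.nroots - 1)) = D.rootSubgroup F (D.nroots - 1)) : False := by
  have htri := triOK_of_mem D hD
  have hk' : k = nWordsGL D F [i₀] := by
    apply Units.ext
    rw [hk]
    simp only [nWordsGL, List.map_cons, List.map_nil, List.prod_cons, List.prod_nil, mul_one]
    rw [nWordGL_val D hD]
  have h1 : cj (nWordsGL D F [i₀]) (D.rootSubgroup F (D.nroots - 1)) =
      D.rootSubgroup F (rho D [i₀] (D.nroots - 1)) :=
    rootSubgroup_conj_word D hD [i₀] (by intro i hi; rw [List.mem_singleton] at hi; rw [hi]; exact hi₀)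
      _ hlt
  have h2 : rho D [i₀] (D.nroots - 1) = D.reflectRoot i₀ (D.nroots - 1) := rfl
  rw [hk', h1, h2] at hkn
  set β := D.reflectRoot i₀ (D.nroots - 1) with hβ
  have hβlt : β < D.nroots := reflectRoot_lt D hD i₀ _ hi₀ hlt
  have hy : xGL D F β 1 ∈ D.rootSubgroup F (D.nroots - 1) := by
    rw [← hkn]
    exact Subgroup.subset_closure ⟨1, xGL_val D _ htri _ _⟩
  have hy1 : xGL D F β (1 : F) ≠ 1 := by
    intro h
    have h3 : D.x F β (1 : F) = 1 := by rw [← xGL_val D _ htri, h]; rfl
    exact one_ne_zero ((Cfsg.Agent.S1024.result D hD _ hβlt (1 : F)).mp h3)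
  exact hrefl (root_eq_hi D hD hlt β hβlt _ hy1
    (Subgroup.subset_closure ⟨1, xGL_val D _ htri _ _⟩) hy)

include hD in
/-- the normalizer of the highest root subgroup lies in the maximal parabolic subgroup -/
theorem normalizer_le_parabolic (i₀ : ℕ) (hi₀ : i₀ < D.rank) (hhi : hiOK D = true)
    (hlt : D.nroots - 1 < D.nroots)
    (hrefl : D.reflectRoot i₀ (D.nroots - 1) ≠ D.nroots - 1)
    (g : GL D.Idx F) (hg : g ∈ D.group F)
    (hgn : cj g (D.rootSubgroup F (D.nroots - 1)) = D.rootSubgroup F (D.nroots - 1)) :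
    g ∈ D.parabolicSubgroup F {j | j < D.rank ∧ j ≠ i₀} := by
  set X := D.rootSubgroup F (D.nroots - 1) with hX
  have hBG := (Cfsg.Agent.S1043.result (F := F) D hD).1
  have hM : D.group F ⊓ Subgroup.normalizer (X : Set (GL D.Idx F)) ≤
      D.parabolicSubgroup F {j | j < D.rank ∧ j ≠ i₀} := by
    apply le_parabolic_of D hD _ inf_le_left
    · apply le_inf hBG
      intro b hb
      rw [Subgroup.mem_normalizer_iff_map_conj_eq]
      exact borel_le_normalizer_hi D hD hhi hlt b hb
    · intro i hi k hk hkM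
      refine ⟨hi, ?_⟩
      rintro rfl
      have hkn := (Subgroup.mem_inf.mp hkM).2
      rw [Subgroup.mem_normalizer_iff_map_conj_eq] at hkn
      exact n_not_normalize D hD i hi hlt hrefl k hk hkn
  apply hM
  refine Subgroup.mem_inf.mpr ⟨hg, ?_⟩
  rw [Subgroup.mem_normalizer_iff_map_conj_eq]
  exact hgn

include hD in
/-- the maximal parabolic subgroup lies in `R H` -/
theorem parabolic_le (i₀ : ℕ) (negs : List ℕ)
    (hnegs : negs = ((List.range D.rank).filter (fun j => j ≠ i₀)).map
      (fun j => D.neg (D.simple j))) :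
    D.parabolicSubgroup F {j | j < D.rank ∧ j ≠ i₀} ≤ rhs F D negs ⊔ D.diagonalSubgroup F := by
  have htri := triOK_of_mem D hD
  have hs := simpleOK_of_mem D hD
  unfold ChevalleyDatum.parabolicSubgroup ChevalleyDatum.borelSubgroup
  apply sup_le
  · apply sup_le_sup_right
    unfold rhs
    exact le_sup_left
  · rw [Subgroup.closure_le]
    rintro k ⟨j, ⟨hj, hne⟩, -, hk⟩
    rw [SetLike.mem_coe]
    apply Subgroup.mem_sup_left
    have hk' : k = wordGL D F (D.nWord (D.simple j) (1 : F)) := by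
      apply Units.ext
      rw [hk, nWordGL_val D hD]
    rw [hk', wordGL_nWord']
    have hp : xGL D F (D.simple j) (1 : F) ∈ rhs F D negs :=
      xGL_pos_mem_rhs D hD negs _ ⟨simple_pos D hD j hj, simple_lt D hs j hj⟩ _
    have hn : xGL D F (D.neg (D.simple j)) (-(1 : F)⁻¹) ∈ rhs F D negs :=
      xGL_neg_mem_rhs D hD negs _ (neg_simple_mem hnegs j hj hne) _
    exact Subgroup.mul_mem _ (Subgroup.mul_mem _ hp hn) hp

include hD in
/-- `H` normalizes `R` -/
theorem diagonal_le_normalizer_rhs (negs : List ℕ) (hlt : ∀ s ∈ negs, s < D.nroots) :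
    D.diagonalSubgroup F ≤ Subgroup.normalizer (rhs F D negs : Set (GL D.Idx F)) := by
  have htri := triOK_of_mem D hD
  intro h hh
  rw [Subgroup.mem_normalizer_iff_map_conj_eq]
  show cj h (rhs F D negs) = rhs F D negs
  unfold rhs
  rw [cj_sup]
  have h1 : cj h (D.posUnipotent F) = D.posUnipotent F := by
    have := (Cfsg.Agent.S1036.result (F := F) D hD).1 hh
    rw [Subgroup.mem_normalizer_iff_map_conj_eq] at this
    exact this
  have key : ∀ k ∈ D.diagonalSubgroup F, ∀ x ∈ {g : GL D.Idx F | ∃ s ∈ negs, ∃ c : F,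
      (g : Matrix D.Idx D.Idx F) = D.x F s c}, k * x * k⁻¹ ∈ {g : GL D.Idx F | ∃ s ∈ negs, ∃ c : F,
      (g : Matrix D.Idx D.Idx F) = D.x F s c} := by
    rintro k hk x ⟨s, hs, c, hx⟩
    obtain ⟨χ, -, -, hc⟩ := diagonalSubgroup_char D hD k hk
    have hxx : x = xGL D F s c := Units.ext (by rw [hx, xGL_val D _ htri])
    rw [hxx, hc s (hlt s hs) c, mul_inv_cancel_right]
    exact ⟨s, hs, _, xGL_val D _ htri _ _⟩
  have h2 : cj h (Subgroup.closure {g : GL D.Idx F | ∃ s ∈ negs, ∃ c : F,
      (g : Matrix D.Idx D.Idx F) = D.x F s c}) = Subgroup.closure {g : GL D.Idx F | ∃ s ∈ negs,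
      ∃ c : F, (g : Matrix D.Idx D.Idx F) = D.x F s c} := by
    have : h ∈ Subgroup.normalizer (Subgroup.closure {g : GL D.Idx F | ∃ s ∈ negs, ∃ c : F,
        (g : Matrix D.Idx D.Idx F) = D.x F s c} : Set (GL D.Idx F)) := by
      apply mem_normalizer_closure_of
      · exact key h hh
      · intro x hx
        have := key h⁻¹ (Subgroup.inv_mem _ hh) x hx
        rwa [inv_inv] at this
    rw [Subgroup.mem_normalizer_iff_map_conj_eq] at this
    exact this
  rw [h1, h2]

omit D in
theorem range_map_prod {M : Type*} [CommMonoid M] (f : ℕ → M) (n : ℕ) :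
    ((List.range n).map f).prod = ∏ i ∈ Finset.range n, f i := by
  induction n with
  | zero => simp
  | succ n ih =>
    rw [List.range_succ, List.map_append, List.prod_append, ih, Finset.prod_range_succ]
    simp

theorem wordGL_mem_of (K : Subgroup (GL D.Idx F)) (w : List (ℕ × F))
    (h : ∀ p ∈ w, xGL D F p.1 p.2 ∈ K) : wordGL D F w ∈ K := by
  unfold wordGL
  apply Subgroup.list_prod_mem
  intro g hg
  obtain ⟨p, hp, rfl⟩ := List.mem_map.mp hg
  exact h p hp

theorem wordGL_flatMap_mem (K : Subgroup (GL D.Idx F)) (l : List ℕ) (f : ℕ → List (ℕ × F))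
    (h : ∀ i ∈ l, wordGL D F (f i) ∈ K) : wordGL D F (l.flatMap f) ∈ K := by
  induction l with
  | nil => simp [wordGL]
  | cons a l ih =>
    rw [List.flatMap_cons, wordGL_append']
    exact Subgroup.mul_mem _ (h a (List.mem_cons_self)) (ih fun i hi => h i (List.mem_cons_of_mem _ hi))

include hD in
/-- an element of `H` centralizing `t` lies in `R` -/
theorem diagonal_mem_rhs (i₀ : ℕ) (negs : List ℕ) (hc : centOK D i₀ negs = true)
    (hlt : D.nroots - 1 < D.nroots)
    (t : GL D.Idx F) (ht : (t : Matrix D.Idx D.Idx F) = D.x F (D.nroots - 1) 1)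
    (h : GL D.Idx F) (hh : h ∈ D.diagonalSubgroup F) (hht : h * t = t * h) :
    h ∈ rhs F D negs := by
  obtain ⟨hhi, hi₀, hnegs, hcomm, hrefl, hcart⟩ := centOK_spec hc
  have htri := triOK_of_mem D hD
  have hs := simpleOK_of_mem D hD
  obtain ⟨χ, -, hdiag, hcj⟩ := diagonalSubgroup_char D hD h hh
  obtain ⟨c, hc0, hhc⟩ := diagonalSubgroup_le_hProdSubgroup D hD hh
  -- `χ` at the highest root is `1`
  have htx : t = xGL D F (D.nroots - 1) 1 := Units.ext (by rw [ht, xGL_val D _ htri])
  have hχ1 : χ (D.nroots - 1) = 1 := by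
    have e1 := hcj _ hlt (1 : F)
    rw [← htx, hht] at e1
    have e2 : t = xGL D F (D.nroots - 1) (χ (D.nroots - 1) * 1) := mul_right_cancel e1
    have e3 := congrArg (fun g : GL D.Idx F => (g : Matrix D.Idx D.Idx F)) e2
    simp only [xGL_val D _ htri] at e3
    rw [ht] at e3
    have := x_injective D hD _ hlt _ _ e3
    rw [mul_one] at this
    exact this.symm
  -- and `χ` at the highest root is `c i₀`
  have hχc : χ (D.nroots - 1) = c i₀ := by
    have e1 : Matrix.diagonal (Sum.elim (fun _ => (1 : F)) (fun s : Fin D.nroots => χ s.val)) =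
        hProd D F c := by rw [← hdiag, hhc]
    unfold hProd at e1
    have e2 := congrFun (Matrix.diagonal_injective e1) (Sum.inr ⟨D.nroots - 1, hlt⟩)
    simp only [Sum.elim_inr] at e2
    rw [e2, range_map_prod]
    rw [Finset.prod_eq_single i₀]
    · rw [hcart i₀ hi₀, if_pos rfl, zpow_one]
    · intro b hb hne
      rw [hcart b (Finset.mem_range.mp hb), if_neg hne, zpow_zero]
    · intro hni
      exact absurd (Finset.mem_range.mpr hi₀) hni
  have hci₀ : c i₀ = 1 := by rw [← hχc, hχ1]
  -- `h` as a word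
  have hw : h = wordGL D F ((List.range D.rank).flatMap fun i => D.hWord (D.simple i) (c i)) := by
    apply Units.ext
    rw [wordGL_val D _ htri, hhc, hProd_of_words D hD c (fun i _ => hc0 i)]
  rw [hw]
  apply wordGL_flatMap_mem
  intro i hi
  rw [List.mem_range] at hi
  by_cases hii : i = i₀
  · rw [hii, hci₀, hWordGL_one D hD _ (simple_lt D hs i₀ hi₀)]
    exact Subgroup.one_mem _
  · apply wordGL_mem_of
    intro p hp
    have hp' : p.1 = D.simple i ∨ p.1 = D.neg (D.simple i) := by
      simp only [ChevalleyDatum.hWord, ChevalleyDatum.nWord, List.cons_append, List.nil_append,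
        List.mem_cons, List.not_mem_nil, or_false] at hp
      rcases hp with rfl | rfl | rfl | rfl | rfl | rfl <;> simp
    rcases hp' with h1 | h1
    · rw [h1]
      exact xGL_pos_mem_rhs D hD negs _ ⟨simple_pos D hD i hi, simple_lt D hs i hi⟩ _
    · rw [h1]
      exact xGL_neg_mem_rhs D hD negs _ (neg_simple_mem hnegs i hi hii) _

include hD in
/-- the centralizer of the highest root element -/
theorem cent_eq (i₀ : ℕ) (negs : List ℕ) (hc : centOK D i₀ negs = true)
    (hlt : D.nroots - 1 < D.nroots)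
    (t : GL D.Idx F) (ht : (t : Matrix D.Idx D.Idx F) = D.x F (D.nroots - 1) 1) :
    D.group F ⊓ Subgroup.centralizer {t} = D.posUnipotent F ⊔
      Subgroup.closure {g : GL D.Idx F | ∃ s ∈ negs, ∃ c : F,
        (g : Matrix D.Idx D.Idx F) = D.x F s c} := by
  obtain ⟨hhi, hi₀, hnegs, hcomm, hrefl, hcart⟩ := centOK_spec hc
  have hnlt : ∀ s ∈ negs, s < D.nroots := by
    intro s hs
    have := hcomm s hs
    unfold Cfsg.Agent.Helper36.Twist.commPairOK at this
    simp only [Bool.and_eq_true, decide_eq_true_eq] at this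
    exact this.1.1.1.2
  have hle := rhs_le D hD i₀ negs hc t ht
  apply le_antisymm
  · intro g hg
    obtain ⟨hgG, hgC⟩ := Subgroup.mem_inf.mp hg
    have hgt : g * t = t * g := by
      rw [Subgroup.mem_centralizer_iff] at hgC
      exact (hgC t (Set.mem_singleton t)).symm
    have h1 := cj_eq_of_commute D hD hhi hlt t ht g hgG hgt
    have h2 := normalizer_le_parabolic D hD i₀ hi₀ hhi hlt hrefl g hgG h1
    have h3 := parabolic_le (F := F) D hD i₀ negs hnegs h2
    have h4 : g ∈ ((rhs F D negs ⊔ D.diagonalSubgroup F : Subgroup (GL D.Idx F)) :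
        Set (GL D.Idx F)) := h3
    rw [Subgroup.coe_mul_of_right_le_normalizer_left _ _
      (diagonal_le_normalizer_rhs D hD negs hnlt)] at h4
    obtain ⟨r, hr, h, hh, rfl⟩ := Set.mem_mul.mp h4
    have hrC := (Subgroup.mem_inf.mp (hle hr)).2
    have hrt : r * t = t * r := by
      rw [Subgroup.mem_centralizer_iff] at hrC
      exact (hrC t (Set.mem_singleton t)).symm
    have hht : h * t = t * h := by
      have e1 : r * (h * t) = r * (t * h) := by
        rw [← mul_assoc, hgt, ← mul_assoc, ← hrt, mul_assoc]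
      exact mul_left_cancel e1
    have hhR := diagonal_mem_rhs D hD i₀ negs hc hlt t ht h hh hht
    exact Subgroup.mul_mem _ hr hhR
  · exact hle

end

end Cfsg.Agent.Helper36.LongRootCent
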