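import Cfsg.Agent.Helper36.ChevAutTail
import Cfsg.Agent.Helper18.LongWord
import Cfsg.Agent.Helper18.BNStruct
import Cfsg.Agent.Helper18.HProd
import Cfsg.Agent.S1037
import Cfsg.Agent.S1043

/-!
Helper36: tools for the outer automorphism groups of the Chevalley groups (S2123, S2124, S2159), built on the
automorphism theorem S2156.

* `NU D F`: the statement `N_G(U) = B` (piece B of S2156), used as a hypothesis here.
* `mem_diag_of_normalizes`: an element of `G` normalising `U` and `V` lies in `H`.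
* `diag_acts`: the elements of `H` are the `h(z) = ∏ h_{p_i}(z_i)` and act on `x_r(t)` through `∏ z_i ^ A_{i r}`.
-/

set_option autoImplicit false

namespace Cfsg.Agent.Helper36.OutCore

open Cfsg Cfsg.Lie Cfsg.Agent.Helper18

variable {F : Type*} [Field F] (D : ChevalleyDatum)
  (hD : D ∈ [chevG2, chevB2, chevD4, chevF4, chevE6, chevE7, chevE8])

/-- `N_G(U) = B` -/
def NU (D : ChevalleyDatum) (F : Type*) [Field F] : Prop :=
  ∀ g : GL D.Idx F, g ∈ D.group F → (∀ u ∈ D.posUnipotent F, g * u * g⁻¹ ∈ D.posUnipotent F) →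
    g ∈ D.borelSubgroup F

include hD in
/-- an element of the group normalising `U` and `V` lies in `H` -/
theorem mem_diag_of_normalizes (hNU : NU D F) (x : GL D.Idx F) (hx : x ∈ D.group F)
    (hU : ∀ u ∈ D.posUnipotent F, x * u * x⁻¹ ∈ D.posUnipotent F)
    (hV : ∀ v ∈ D.negUnipotent F, x * v * x⁻¹ ∈ D.negUnipotent F) : x ∈ D.diagonalSubgroup F := by
  obtain ⟨n, hn, hUV⟩ := exists_longest_of_mem (F := F) D hD (nConjHyp D hD)
  have h43 := Cfsg.Agent.S1043.result (F := F) D hD
  have hnG : n ∈ D.group F := h43.2.1 hn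
  have hxB : x ∈ D.borelSubgroup F := hNU x hx hU
  -- conjugation by `n` maps `U` onto `V`
  have h1 : ∀ u ∈ D.posUnipotent F, n * u * n⁻¹ ∈ D.negUnipotent F := by
    intro u hu
    rw [← hUV]
    exact ⟨u, hu, rfl⟩
  have h2 : ∀ v ∈ D.negUnipotent F, n⁻¹ * v * n ∈ D.posUnipotent F := by
    intro v hv
    rw [← hUV] at hv
    obtain ⟨u, hu, rfl⟩ := hv
    have : n⁻¹ * (MulAut.conj n).toMonoidHom u * n = u := by
      show n⁻¹ * (n * u * n⁻¹) * n = u
      group
    rw [this]
    exact hu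
  have hyB : n⁻¹ * x * n ∈ D.borelSubgroup F := by
    apply hNU _ (mul_mem (mul_mem (inv_mem hnG) hx) hnG)
    intro u hu
    have := h2 _ (hV _ (h1 u hu))
    have e : n⁻¹ * x * n * u * (n⁻¹ * x * n)⁻¹ = n⁻¹ * (x * (n * u * n⁻¹) * x⁻¹) * n := by group
    rw [e]
    exact this
  -- `x ∈ n B n⁻¹ ≤ V ⊔ H`
  have hxVH : x ∈ D.negUnipotent F ⊔ D.diagonalSubgroup F := by
    have hmap : (D.borelSubgroup F).map (MulAut.conj n).toMonoidHom ≤ D.negUnipotent F ⊔ D.diagonalSubgroup F := by
      conv_lhs => unfold ChevalleyDatum.borelSubgroup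
      rw [Subgroup.map_sup, hUV]
      apply sup_le_sup le_rfl
      have hnorm := monomialSubgroup_le_normalizer D hD hn
      exact le_of_eq (Subgroup.mem_normalizer_iff_map_conj_eq.mp hnorm)
    apply hmap
    refine ⟨n⁻¹ * x * n, hyB, ?_⟩
    show n * (n⁻¹ * x * n) * n⁻¹ = x
    group
  rw [← (Cfsg.Agent.S1037.result (F := F) D hD).2]
  exact ⟨hxB, hxVH⟩

/-- the product `∏_i z_i ^ A_{i r}`: the value at `r` of the character of `h(z) = ∏ h_{p_i}(z_i)` -/
def tchar (D : ChevalleyDatum) (z : ℕ → F) (r : ℕ) : F :=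
  ((List.range D.rank).map fun i => z i ^ D.cartan i r).prod

include hD in
/-- the elements of `H` act on the root elements through the characters `tchar z` -/
theorem diag_acts (h : GL D.Idx F) (hh : h ∈ D.diagonalSubgroup F) :
    ∃ z : ℕ → F, (∀ i, z i ≠ 0) ∧ (h : Matrix D.Idx D.Idx F) = hProd D F z ∧
      ∀ r < D.nroots, ∀ t : F, h * xGL D F r t = xGL D F r (tchar D z r * t) * h := by
  obtain ⟨z, hz, hmat⟩ := diagonalSubgroup_le_hProdSubgroup D hD hh
  obtain ⟨χ, -, hdiag, hconj⟩ := diagonalSubgroup_char D hD h hh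
  refine ⟨z, hz, hmat, fun r hr t => ?_⟩
  rw [hconj r hr t]
  have e : χ r = tchar D z r := by
    rw [hmat] at hdiag
    unfold hProd at hdiag
    have h1 := Matrix.diagonal_injective hdiag
    have h2 := congrFun h1 (Sum.inr ⟨r, hr⟩)
    simp only [Sum.elim_inr] at h2
    exact h2.symm
  rw [e]

theorem wordGL_flatMap (l : List ℕ) (f : ℕ → List (ℕ × F)) :
    wordGL D F (l.flatMap f) = (l.map fun i => wordGL D F (f i)).prod := by
  induction l with
  | nil => simp [wordGL]
  | cons a l ih => rw [List.flatMap_cons, wordGL_append', ih, List.map_cons, List.prod_cons]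

/-- the element `h(z) = ∏ h_{p_i}(z_i)` of `H` -/
noncomputable def hEl (D : ChevalleyDatum) (z : ℕ → F) : GL D.Idx F :=
  wordGL D F ((List.range D.rank).flatMap fun i => D.hWord (D.simple i) (z i))

include hD in
theorem hEl_val (z : ℕ → F) (hz : ∀ i < D.rank, z i ≠ 0) :
    (hEl D z : Matrix D.Idx D.Idx F) = hProd D F z := by
  unfold hEl
  rw [wordGL_val D _ (triOK_of_mem D hD)]
  exact hProd_of_words D hD z hz

include hD in
theorem hEl_mem (z : ℕ → F) (hz : ∀ i < D.rank, z i ≠ 0) : hEl D z ∈ D.diagonalSubgroup F := by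
  unfold hEl
  rw [wordGL_flatMap]
  apply Subgroup.list_prod_mem
  intro g hg
  obtain ⟨i, hi, rfl⟩ := List.mem_map.mp hg
  have hi' := List.mem_range.mp hi
  exact hWordGL_mem_diagonalSubgroup D hD _ (simple_lt D (simpleOK_of_mem D hD) i hi') _ (hz i hi')

include hD in
theorem hEl_acts (z : ℕ → F) (hz : ∀ i < D.rank, z i ≠ 0) (r : ℕ) (hr : r < D.nroots) (t : F) :
    hEl D z * xGL D F r t = xGL D F r (tchar D z r * t) * hEl D z := by
  obtain ⟨z', hz', hmat, hact⟩ := diag_acts D hD (hEl D z) (hEl_mem D hD z hz)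
  rw [hact r hr t]
  have e : tchar D z' r = tchar D z r := by
    rw [hEl_val D hD z hz] at hmat
    unfold hProd at hmat
    have h1 := Matrix.diagonal_injective hmat
    have h2 := congrFun h1 (Sum.inr ⟨r, hr⟩)
    simp only [Sum.elim_inr] at h2
    exact h2.symm
  rw [e]

end Cfsg.Agent.Helper36.OutCore
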