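import Cfsg.Agent.Helper36.OutDiag

/-!
Helper36: the number of classes of diagonal automorphisms modulo inner automorphisms, from a lattice
certificate (`OutLattice.lattice_iff`): it is `gcd(n, |Fˣ|)` where `n` is the order of the (cyclic) cokernel
of the Cartan matrix.
-/

set_option autoImplicit false

namespace Cfsg.Agent.Helper36.OutDiag

open Cfsg Cfsg.Lie Cfsg.Agent.Helper18 Cfsg.Agent.Helper96.OutChev Cfsg.Agent.Helper36.ChevAut
  Cfsg.Agent.Helper36.OutCore

variable {F : Type*} [Field F] (D : ChevalleyDatum)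
  (hD : D ∈ [chevG2, chevB2, chevD4, chevF4, chevE6, chevE7, chevE8])
  (T : List (List ℤ)) (hT : rootCoordOK D T = true)

/-- a certificate for the cokernel of the Cartan matrix -/
structure LatCert (D : ChevalleyDatum) (n : ℕ) (m a e g : ℕ → ℤ) (b : ℕ → ℕ → ℤ) : Prop where
  h1 : ∀ i < D.rank, ∑ j ∈ Finset.range D.rank, D.cartan i (D.simple j) * m j = g i * (n : ℤ)
  h2 : ∀ j < D.rank, ∑ i ∈ Finset.range D.rank, D.cartan i (D.simple j) * a i = (n : ℤ) * e j
  h3 : ∀ j < D.rank, ∀ k < D.rank,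
    ∑ i ∈ Finset.range D.rank, D.cartan i (D.simple j) * b i k = (if j = k then 1 else 0) - m k * e j
  hm : ∃ j0 < D.rank, m j0 = 1

/-- the homomorphism `c ↦ ∏_j c_j ^ m_j` -/
noncomputable def muHom (m : ℕ → ℤ) : (Fin D.rank → Fˣ) →* Fˣ where
  toFun c := ∏ j : Fin D.rank, c j ^ m j
  map_one' := by simp
  map_mul' c c' := by
    rw [← Finset.prod_mul_distrib]
    apply Finset.prod_congr rfl
    intro j _
    show (c j * c' j) ^ m j = _
    rw [mul_zpow]

theorem muHom_surjective (m : ℕ → ℤ) (j0 : ℕ) (hj0 : j0 < D.rank) (hm : m j0 = 1) :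
    Function.Surjective (muHom (F := F) D m) := by
  classical
  intro u
  refine ⟨fun j => if j = ⟨j0, hj0⟩ then u else 1, ?_⟩
  show ∏ j : Fin D.rank, (if j = ⟨j0, hj0⟩ then u else 1) ^ m j = u
  rw [Finset.prod_eq_single (⟨j0, hj0⟩ : Fin D.rank)]
  · rw [if_pos rfl, hm, zpow_one]
  · intro j _ hj
    rw [if_neg hj, one_zpow]
  · intro h
    exact absurd (Finset.mem_univ _) h

theorem prod_fin_eq_range (c : Fin D.rank → Fˣ) (m : ℕ → ℤ) :
    ∏ j : Fin D.rank, c j ^ m j = ∏ j ∈ Finset.range D.rank, cExt D c j ^ m j := by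
  rw [← Fin.prod_univ_eq_prod_range (fun j => cExt D c j ^ m j)]
  apply Finset.prod_congr rfl
  intro j _
  rw [cExt_apply]

include hD in
/-- the kernel of `c ↦ [dAut c]` in terms of `muHom` -/
theorem dAut_inner_iff_pow (hNU : NU D F) (n : ℕ) (m a e g : ℕ → ℤ) (b : ℕ → ℕ → ℤ)
    (L : LatCert D n m a e g b) (c : Fin D.rank → Fˣ) :
    dAut D hD T hT c ∈ Cfsg.Inn ↥(D.group F) ↔ muHom D m c ∈ (powMonoidHom n : Fˣ →* Fˣ).range := by
  rw [dAut_inner_iff D hD T hT hNU c]
  have hlat := OutLattice.lattice_iff (M := Fˣ) D.rank (n : ℤ) (fun i j => D.cartan i (D.simple j)) m a e g b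
    L.h1 L.h2 L.h3 (cExt D c)
  have e1 : (∃ z : ℕ → F, (∀ i, z i ≠ 0) ∧ ∀ j : Fin D.rank, (c j : F) = tchar D z (D.simple j)) ↔
      (∃ z : ℕ → Fˣ, ∀ j < D.rank, cExt D c j = ∏ i ∈ Finset.range D.rank, z i ^ D.cartan i (D.simple j)) := by
    constructor
    · rintro ⟨z, hz, hc⟩
      refine ⟨fun i => Units.mk0 (z i) (hz i), fun j hj => ?_⟩
      apply Units.ext
      rw [show cExt D c j = c ⟨j, hj⟩ from cExt_apply D c ⟨j, hj⟩, hc ⟨j, hj⟩]
      unfold tchar
      rw [Unimod.list_range_prod, Units.coe_prod]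
      apply Finset.prod_congr rfl
      intro i _
      rw [Units.val_zpow_eq_zpow_val, Units.val_mk0]
    · rintro ⟨z, hz⟩
      refine ⟨fun i => (z i : F), fun i => (z i).ne_zero, fun j => ?_⟩
      have := hz j j.2
      rw [cExt_apply] at this
      rw [this]
      unfold tchar
      rw [Unimod.list_range_prod, Units.coe_prod]
      apply Finset.prod_congr rfl
      intro i _
      rw [Units.val_zpow_eq_zpow_val]
  rw [e1, hlat]
  constructor
  · rintro ⟨s, hs⟩
    refine ⟨s, ?_⟩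
    show s ^ n = ∏ j : Fin D.rank, c j ^ m j
    rw [prod_fin_eq_range, hs, zpow_natCast]
  · rintro ⟨s, hs⟩
    refine ⟨s, ?_⟩
    have : s ^ n = ∏ j : Fin D.rank, c j ^ m j := hs
    rw [← prod_fin_eq_range, ← this, zpow_natCast]

end Cfsg.Agent.Helper36.OutDiag
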