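import Cfsg.Agent.Helper36.OutCountDiag

/-!
Helper36: counting `Out(G)` for a Chevalley group `G` when `Aut(G) = Inn(G) · D · K` with `D` the diagonal
automorphisms and `K` a group of automorphisms meeting `Inn(G) · D` trivially.
-/

set_option autoImplicit false

namespace Cfsg.Agent.Helper36.OutDiag

open Cfsg Cfsg.Lie Cfsg.Agent.Helper18 Cfsg.Agent.Helper96.OutChev Cfsg.Agent.Helper36.ChevAut
  Cfsg.Agent.Helper36.OutCore

variable {F : Type*} [Field F] (D : ChevalleyDatum)
  (hD : D ∈ [chevG2, chevB2, chevD4, chevF4, chevE6, chevE7, chevE8])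
  (T : List (List ℤ)) (hT : rootCoordOK D T = true)

/-- the classes of the diagonal automorphisms -/
noncomputable def diagOutHom : (Fin D.rank → Fˣ) →* Cfsg.Out ↥(D.group F) :=
  (QuotientGroup.mk' (Cfsg.Inn ↥(D.group F))).comp (diagHom D hD T hT)

theorem mk_eq_one_iff' (θ : MulAut ↥(D.group F)) :
    QuotientGroup.mk' (Cfsg.Inn ↥(D.group F)) θ = 1 ↔ θ ∈ Cfsg.Inn ↥(D.group F) := by
  rw [QuotientGroup.mk'_apply, QuotientGroup.eq_one_iff]

/-- `|Out G| = |D̄| · |K|` -/
theorem card_out_split {K : Type*} [Group K] (κ : K →* MulAut ↥(D.group F))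
    (hsurj : ∀ θ : MulAut ↥(D.group F), ∃ (ι : MulAut ↥(D.group F)) (c : Fin D.rank → Fˣ) (k : K),
      ι ∈ Cfsg.Inn ↥(D.group F) ∧ θ = ι * diagHom D hD T hT c * κ k)
    (hinj : ∀ (c : Fin D.rank → Fˣ) (k : K), diagHom D hD T hT c * κ k ∈ Cfsg.Inn ↥(D.group F) → k = 1) :
    Nat.card (Cfsg.Out ↥(D.group F)) = Nat.card (diagOutHom (F := F) D hD T hT).range * Nat.card K := by
  set q := QuotientGroup.mk' (Cfsg.Inn ↥(D.group F)) with hq
  let Ψ : (diagOutHom (F := F) D hD T hT).range × K → Cfsg.Out ↥(D.group F) := fun p => (p.1 : Cfsg.Out _) * q (κ p.2)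
  have hbij : Function.Bijective Ψ := by
    constructor
    · rintro ⟨⟨a, c, rfl⟩, k⟩ ⟨⟨a', c', rfl⟩, k'⟩ h
      have h' : diagOutHom D hD T hT c * q (κ k) = diagOutHom D hD T hT c' * q (κ k') := h
      have h1 : q (diagHom D hD T hT (c⁻¹ * c') * κ (k' * k⁻¹)) = 1 := by
        rw [map_mul (diagHom D hD T hT), map_inv (diagHom D hD T hT), map_mul κ, map_inv κ, map_mul q, map_mul q, map_mul q,
          map_inv q, map_inv q]
        have e1 : q (diagHom D hD T hT c) = diagOutHom D hD T hT c := rfl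
        have e2 : q (diagHom D hD T hT c') = diagOutHom D hD T hT c' := rfl
        rw [e1, e2]
        calc (diagOutHom D hD T hT c)⁻¹ * diagOutHom D hD T hT c' * (q (κ k') * (q (κ k))⁻¹)
            = (diagOutHom D hD T hT c)⁻¹ * (diagOutHom D hD T hT c' * q (κ k')) * (q (κ k))⁻¹ := by group
          _ = 1 := by rw [← h']; group
      have h2 := hinj _ _ ((mk_eq_one_iff' (F := F) D _).mp h1)
      have hk : k' = k := by
        rw [mul_inv_eq_one] at h2
        exact h2
      subst hk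
      have h3 : diagOutHom D hD T hT c = diagOutHom D hD T hT c' := mul_right_cancel h'
      exact Prod.ext (Subtype.ext h3) rfl
    · intro o
      obtain ⟨θ, rfl⟩ := QuotientGroup.mk'_surjective (Cfsg.Inn ↥(D.group F)) o
      obtain ⟨ι, c, k, hι, rfl⟩ := hsurj θ
      refine ⟨(⟨diagOutHom D hD T hT c, c, rfl⟩, k), ?_⟩
      show diagOutHom D hD T hT c * q (κ k) = q (ι * diagHom D hD T hT c * κ k)
      rw [map_mul, map_mul, (mk_eq_one_iff' (F := F) D ι).mpr hι, one_mul]
      rfl
  rw [← Nat.card_prod]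
  exact (Nat.card_congr (Equiv.ofBijective Ψ hbij)).symm

include hD in
/-- the number of classes of diagonal automorphisms -/
theorem card_diagOut [Finite F] (hNU : NU D F) (n : ℕ) (m a e g : ℕ → ℤ) (b : ℕ → ℕ → ℤ)
    (L : LatCert D n m a e g b) :
    Nat.card (diagOutHom (F := F) D hD T hT).range = (Nat.card Fˣ).gcd n := by
  rw [← Subgroup.index_ker]
  have hker : (diagOutHom (F := F) D hD T hT).ker
      = (powMonoidHom n : Fˣ →* Fˣ).range.comap (muHom D m) := by
    ext c
    rw [MonoidHom.mem_ker, Subgroup.mem_comap]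
    show QuotientGroup.mk' (Cfsg.Inn ↥(D.group F)) (diagHom D hD T hT c) = 1 ↔ _
    rw [mk_eq_one_iff' (F := F) D, diagHom_apply]
    exact dAut_inner_iff_pow D hD T hT hNU n m a e g b L c
  obtain ⟨j0, hj0, hm⟩ := L.hm
  rw [hker, Subgroup.index_comap_of_surjective _ (muHom_surjective D m j0 hj0 hm)]
  exact IsCyclic.index_powMonoidHom_range (G := Fˣ) n

end Cfsg.Agent.Helper36.OutDiag
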