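import Cfsg.Agent.Helper36.OutSym

/-!
Helper36: the outer automorphisms of the Chevalley groups of type `D₄`: the diagonal automorphisms modulo the
inner ones form a group of order `gcd(2, q - 1)²`, and `|Out D₄(q)| = gcd(2, q - 1)² · 6 · f`.
-/

set_option autoImplicit false
set_option maxRecDepth 100000

namespace Cfsg.Agent.Helper36.OutDiag

open Cfsg Cfsg.Lie Cfsg.Agent.Helper18 Cfsg.Agent.Helper96.OutChev Cfsg.Agent.Helper36.ChevAut
  Cfsg.Agent.Helper36.OutCore Cfsg.Agent.Helper36 Cfsg.Agent.Helper18.Aut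

section tchar
variable {F : Type*} [Field F]

theorem tchar_D4_0 (z : ℕ → F) : tchar chevD4 z (chevD4.simple 0) = z 0 ^ 2 * (z 1)⁻¹ := by
  unfold tchar
  rw [show chevD4.rank = 4 from rfl]
  simp only [List.range_succ, List.range_zero, List.nil_append, List.cons_append, List.map_cons, List.map_nil,
    List.prod_cons, List.prod_nil]
  rw [show chevD4.cartan 0 (chevD4.simple 0) = 2 by decide, show chevD4.cartan 1 (chevD4.simple 0) = -1 by decide,
    show chevD4.cartan 2 (chevD4.simple 0) = 0 by decide, show chevD4.cartan 3 (chevD4.simple 0) = 0 by decide]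
  simp only [zpow_zero, zpow_neg_one, mul_one, one_mul, zpow_ofNat, pow_zero]

theorem tchar_D4_1 (z : ℕ → F) :
    tchar chevD4 z (chevD4.simple 1) = (z 0)⁻¹ * (z 1 ^ 2 * ((z 2)⁻¹ * (z 3)⁻¹)) := by
  unfold tchar
  rw [show chevD4.rank = 4 from rfl]
  simp only [List.range_succ, List.range_zero, List.nil_append, List.cons_append, List.map_cons, List.map_nil,
    List.prod_cons, List.prod_nil]
  rw [show chevD4.cartan 0 (chevD4.simple 1) = -1 by decide, show chevD4.cartan 1 (chevD4.simple 1) = 2 by decide,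
    show chevD4.cartan 2 (chevD4.simple 1) = -1 by decide, show chevD4.cartan 3 (chevD4.simple 1) = -1 by decide]
  simp only [zpow_zero, zpow_neg_one, mul_one, one_mul, zpow_ofNat, pow_zero]

theorem tchar_D4_2 (z : ℕ → F) : tchar chevD4 z (chevD4.simple 2) = (z 1)⁻¹ * z 2 ^ 2 := by
  unfold tchar
  rw [show chevD4.rank = 4 from rfl]
  simp only [List.range_succ, List.range_zero, List.nil_append, List.cons_append, List.map_cons, List.map_nil,
    List.prod_cons, List.prod_nil]
  rw [show chevD4.cartan 0 (chevD4.simple 2) = 0 by decide, show chevD4.cartan 1 (chevD4.simple 2) = -1 by decide,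
    show chevD4.cartan 2 (chevD4.simple 2) = 2 by decide, show chevD4.cartan 3 (chevD4.simple 2) = 0 by decide]
  simp only [zpow_zero, zpow_neg_one, mul_one, one_mul, zpow_ofNat, pow_zero]

theorem tchar_D4_3 (z : ℕ → F) : tchar chevD4 z (chevD4.simple 3) = (z 1)⁻¹ * z 3 ^ 2 := by
  unfold tchar
  rw [show chevD4.rank = 4 from rfl]
  simp only [List.range_succ, List.range_zero, List.nil_append, List.cons_append, List.map_cons, List.map_nil,
    List.prod_cons, List.prod_nil]
  rw [show chevD4.cartan 0 (chevD4.simple 3) = 0 by decide, show chevD4.cartan 1 (chevD4.simple 3) = -1 by decide,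
    show chevD4.cartan 2 (chevD4.simple 3) = 0 by decide, show chevD4.cartan 3 (chevD4.simple 3) = 2 by decide]
  simp only [zpow_zero, zpow_neg_one, mul_one, one_mul, zpow_ofNat, pow_zero]

end tchar

def n0 : Fin chevD4.rank := ⟨0, by decide⟩
def n1 : Fin chevD4.rank := ⟨1, by decide⟩
def n2 : Fin chevD4.rank := ⟨2, by decide⟩
def n3 : Fin chevD4.rank := ⟨3, by decide⟩

theorem forall_fin_D4 (P : Fin chevD4.rank → Prop) (h0 : P n0) (h1 : P n1) (h2 : P n2) (h3 : P n3) :
    ∀ j, P j := by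
  rintro ⟨j, hj⟩
  have hj' : j < 4 := hj
  interval_cases j
  · exact h0
  · exact h1
  · exact h2
  · exact h3

section diag
variable {F : Type*} [Field F] (T : List (List ℤ)) (hT : rootCoordOK chevD4 T = true)

/-- a diagonal automorphism of `D₄(F)` is inner iff `c₀ c₂` and `c₀ c₃` are squares -/
theorem dAut_inner_iff_D4 (hNU : NU chevD4 F) (c : Fin chevD4.rank → Fˣ) :
    dAut chevD4 hD4 T hT c ∈ Cfsg.Inn ↥(chevD4.group F) ↔
      (∃ s : Fˣ, c n0 * c n2 = s ^ 2) ∧ (∃ t : Fˣ, c n0 * c n3 = t ^ 2) := by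
  rw [dAut_inner_iff chevD4 hD4 T hT hNU c]
  constructor
  · rintro ⟨z, hz, hc⟩
    have e0 : (c n0 : F) = z 0 ^ 2 * (z 1)⁻¹ := by rw [hc n0]; exact tchar_D4_0 z
    have e2 : (c n2 : F) = (z 1)⁻¹ * z 2 ^ 2 := by rw [hc n2]; exact tchar_D4_2 z
    have e3 : (c n3 : F) = (z 1)⁻¹ * z 3 ^ 2 := by rw [hc n3]; exact tchar_D4_3 z
    constructor
    · refine ⟨Units.mk0 (z 0 * (z 1)⁻¹ * z 2) (by
        exact mul_ne_zero (mul_ne_zero (hz 0) (inv_ne_zero (hz 1))) (hz 2)), ?_⟩
      apply Units.ext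
      rw [Units.val_mul, Units.val_pow_eq_pow_val, Units.val_mk0, e0, e2]
      ring
    · refine ⟨Units.mk0 (z 0 * (z 1)⁻¹ * z 3) (by
        exact mul_ne_zero (mul_ne_zero (hz 0) (inv_ne_zero (hz 1))) (hz 3)), ?_⟩
      apply Units.ext
      rw [Units.val_mul, Units.val_pow_eq_pow_val, Units.val_mk0, e0, e3]
      ring
  · rintro ⟨⟨s, hs⟩, ⟨t, ht⟩⟩
    have hs' : (c n0 : F) * (c n2 : F) = (s : F) ^ 2 := by
      rw [← Units.val_mul, hs, Units.val_pow_eq_pow_val]
    have ht' : (c n0 : F) * (c n3 : F) = (t : F) ^ 2 := by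
      rw [← Units.val_mul, ht, Units.val_pow_eq_pow_val]
    have h0 := (c n0).ne_zero
    have h1 := (c n1).ne_zero
    have h2 := (c n2).ne_zero
    have h3 := (c n3).ne_zero
    have hs0 := s.ne_zero
    have ht0 := t.ne_zero
    set z0 : F := (c n1 : F) * s * t with hz0
    have hz0ne : z0 ≠ 0 := mul_ne_zero (mul_ne_zero h1 hs0) ht0
    refine ⟨fun i => if i = 0 then z0 else if i = 1 then z0 ^ 2 * (c n0 : F)⁻¹ else
      if i = 2 then s * z0 * (c n0 : F)⁻¹ else if i = 3 then t * z0 * (c n0 : F)⁻¹ else 1, ?_, ?_⟩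
    · intro i
      beta_reduce
      by_cases hi0 : i = 0
      · rw [if_pos hi0]; exact hz0ne
      rw [if_neg hi0]
      by_cases hi1 : i = 1
      · rw [if_pos hi1]; exact mul_ne_zero (pow_ne_zero _ hz0ne) (inv_ne_zero h0)
      rw [if_neg hi1]
      by_cases hi2 : i = 2
      · rw [if_pos hi2]; exact mul_ne_zero (mul_ne_zero hs0 hz0ne) (inv_ne_zero h0)
      rw [if_neg hi2]
      by_cases hi3 : i = 3
      · rw [if_pos hi3]; exact mul_ne_zero (mul_ne_zero ht0 hz0ne) (inv_ne_zero h0)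
      rw [if_neg hi3]
      exact one_ne_zero
    · apply forall_fin_D4
      · show (c n0 : F) = tchar chevD4 _ (chevD4.simple 0)
        rw [tchar_D4_0]
        simp only [if_true, if_false, one_ne_zero]
        field_simp
      · show (c n1 : F) = tchar chevD4 _ (chevD4.simple 1)
        rw [tchar_D4_1]
        simp only [if_true, if_false, one_ne_zero, OfNat.ofNat_ne_zero, OfNat.ofNat_ne_one,
          show (2 : ℕ) ≠ 0 by decide, show (2 : ℕ) ≠ 1 by decide, show (3 : ℕ) ≠ 0 by decide,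
          show (3 : ℕ) ≠ 1 by decide, show (3 : ℕ) ≠ 2 by decide]
        rw [hz0]
        field_simp
      · show (c n2 : F) = tchar chevD4 _ (chevD4.simple 2)
        rw [tchar_D4_2]
        simp only [if_true, if_false, one_ne_zero, OfNat.ofNat_ne_zero, OfNat.ofNat_ne_one,
          show (2 : ℕ) ≠ 0 by decide, show (2 : ℕ) ≠ 1 by decide]
        field_simp
        linear_combination hs'
      · show (c n3 : F) = tchar chevD4 _ (chevD4.simple 3)
        rw [tchar_D4_3]
        simp only [if_true, if_false, one_ne_zero, OfNat.ofNat_ne_zero, OfNat.ofNat_ne_one,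
          show (3 : ℕ) ≠ 0 by decide, show (3 : ℕ) ≠ 1 by decide, show (3 : ℕ) ≠ 2 by decide]
        field_simp
        linear_combination ht'

end diag

section count
variable {F : Type*} [Field F]

/-- `c ↦ (c₀ c₂, c₀ c₃)` -/
def nuHom : (Fin chevD4.rank → Fˣ) →* Fˣ × Fˣ where
  toFun c := (c n0 * c n2, c n0 * c n3)
  map_one' := by simp
  map_mul' c c' := by
    apply Prod.ext
    · show (c n0 * c' n0) * (c n2 * c' n2) = (c n0 * c n2) * (c' n0 * c' n2)
      exact mul_mul_mul_comm _ _ _ _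
    · show (c n0 * c' n0) * (c n3 * c' n3) = (c n0 * c n3) * (c' n0 * c' n3)
      exact mul_mul_mul_comm _ _ _ _

theorem nuHom_surjective : Function.Surjective (nuHom (F := F)) := by
  rintro ⟨a, b⟩
  refine ⟨fun j => if j = n2 then a else if j = n3 then b else 1, ?_⟩
  apply Prod.ext
  · show (if n0 = n2 then a else if n0 = n3 then b else 1) * (if n2 = n2 then a else if n2 = n3 then b else 1) = a
    rw [if_neg (by decide), if_neg (by decide), if_pos rfl, one_mul]
  · show (if n0 = n2 then a else if n0 = n3 then b else 1) * (if n3 = n2 then a else if n3 = n3 then b else 1) = b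
    rw [if_neg (by decide), if_neg (by decide), if_neg (by decide), if_pos rfl, one_mul]

variable [Finite F] (T : List (List ℤ)) (hT : rootCoordOK chevD4 T = true)

/-- the number of classes of diagonal automorphisms of `D₄(F)` -/
theorem card_diagOut_D4 :
    Nat.card (diagOutHom (F := F) chevD4 hD4 T hT).range = ((Nat.card Fˣ).gcd 2) ^ 2 := by
  rw [← Subgroup.index_ker]
  have hker : (diagOutHom (F := F) chevD4 hD4 T hT).ker
      = ((powMonoidHom 2 : Fˣ →* Fˣ).range.prod (powMonoidHom 2 : Fˣ →* Fˣ).range).comap nuHom := by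
    ext c
    rw [MonoidHom.mem_ker, Subgroup.mem_comap]
    show QuotientGroup.mk' (Cfsg.Inn ↥(chevD4.group F)) (diagHom chevD4 hD4 T hT c) = 1 ↔ _
    rw [mk_eq_one_iff' (F := F) chevD4, diagHom_apply, dAut_inner_iff_D4 T hT (nu_of_mem chevD4 hD4) c,
      Subgroup.mem_prod]
    constructor
    · rintro ⟨⟨s, hs⟩, ⟨t, ht⟩⟩
      exact ⟨⟨s, hs.symm⟩, ⟨t, ht.symm⟩⟩
    · rintro ⟨⟨s, hs⟩, ⟨t, ht⟩⟩
      exact ⟨⟨s, hs.symm⟩, ⟨t, ht.symm⟩⟩
  rw [hker, Subgroup.index_comap_of_surjective _ nuHom_surjective, Subgroup.index_prod,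
    IsCyclic.index_powMonoidHom_range (G := Fˣ) 2, sq]

end count

section graph
variable {F : Type*} [Field F]

theorem hex_D4 : ∀ π ∈ symGroup chevD4, ∃ γ : MulAut ↥(chevD4.group F), ActsAs chevD4 hD4 π γ := by
  intro π hπ
  obtain ⟨g, hg⟩ := graphEx_D4 (F := F) π (symD4 π hπ)
  refine ⟨g, fun i t => ?_⟩
  have := hg i t
  rw [graphExp_of_notLong chevD4 notLong_D4 _ _ _ (π i).2, pow_one] at this
  exact this

theorem permRoot_pos_D4 : ∀ π : Equiv.Perm (Fin chevD4.rank), chevD4.IsDiagramSymmetry π →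
    ∀ r < chevD4.nroots,
      (chevD4.IsPosRoot r → chevD4.IsPosRoot (chevD4.permRoot π r)) ∧
      (chevD4.IsNegRoot r → chevD4.IsNegRoot (chevD4.permRoot π r)) := by
  intro π hπ
  rcases symD4 π hπ with rfl | rfl | rfl | rfl | rfl | rfl <;> decide +kernel

theorem graphD4_roots (π : Equiv.Perm (Fin chevD4.rank)) (hπ : chevD4.IsDiagramSymmetry π)
    (γ : MulAut ↥(chevD4.group F)) (hγ : ActsAs chevD4 hD4 π γ)
    (r : ℕ) (hr : r < chevD4.nroots) (t : F) :
    ∃ t' : F, ((γ (xg chevD4 hD4 r t) : GL chevD4.Idx F) : Matrix chevD4.Idx chevD4.Idx F)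
      = chevD4.x F (chevD4.permRoot π r) t' := by
  obtain ⟨ε, -, h⟩ := graph_signs (F := F) chevD4 (by simp) π hπ γ (fun g i t => by
    constructor
    · intro hg
      rw [eq_xg chevD4 hD4 g _ t hg, (hγ i t).1, xg_val]
    · intro hg
      rw [eq_xg chevD4 hD4 g _ t hg, (hγ i t).2, xg_val]) r hr
  exact ⟨ε * t, h _ t (xg_val chevD4 hD4 r t)⟩

theorem hpres_D4 : ∀ π ∈ symGroup chevD4, ∀ γ : MulAut ↥(chevD4.group F), ActsAs chevD4 hD4 π γ →
    PresU chevD4 γ ∧ PresV chevD4 γ := by
  intro π hπ γ hγ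
  constructor
  · exact presU_of_roots chevD4 hD4 γ (fun r t hr => by
      obtain ⟨t', ht'⟩ := graphD4_roots π hπ γ hγ r hr.1 t
      exact ⟨_, t', (permRoot_pos_D4 π hπ r hr.1).1 hr, ht'⟩)
  · exact presV_of_roots chevD4 hD4 γ (fun r t hr => by
      obtain ⟨t', ht'⟩ := graphD4_roots π hπ γ hγ r hr.1 t
      exact ⟨_, t', (permRoot_pos_D4 π hπ r hr.1).2 hr, ht'⟩)

theorem simple_inj_D4 : ∀ i j : Fin chevD4.rank, chevD4.simple i = chevD4.simple j → i = j := by
  decide +kernel

end graph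

/-- the six symmetries of the diagram of `D₄` -/
def symListD4 : Finset (Equiv.Perm (Fin chevD4.rank)) :=
  {1, Equiv.swap d40 d42, Equiv.swap d40 d43, Equiv.swap d42 d43,
    Equiv.swap d40 d42 * Equiv.swap d42 d43, Equiv.swap d42 d43 * Equiv.swap d40 d42}

theorem symListD4_card : symListD4.card = 6 := by decide +kernel

theorem symListD4_sym : ∀ π ∈ symListD4, chevD4.IsDiagramSymmetry π := by
  unfold ChevalleyDatum.IsDiagramSymmetry
  decide +kernel

theorem card_symGroup_D4 : Nat.card ↥(symGroup chevD4) = 6 := by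
  have : ((symGroup chevD4 : Subgroup _) : Set (Equiv.Perm (Fin chevD4.rank))) = ↑symListD4 := by
    ext π
    constructor
    · intro hπ
      have := symD4 π hπ
      simp only [symListD4, Finset.coe_insert, Finset.coe_singleton, Set.mem_insert_iff,
        Set.mem_singleton_iff]
      exact this
    · intro hπ
      exact symListD4_sym π hπ
  have h2 : Nat.card ↥(symGroup chevD4)
      = Nat.card ↥((symGroup chevD4 : Subgroup _) : Set (Equiv.Perm (Fin chevD4.rank))) := rfl
  rw [h2, this, Nat.card_coe_set_eq, Set.ncard_coe_finset, symListD4_card]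

/-- `|Out D₄(F)| = gcd(2, |Fˣ|)² · 6 · |Aut F|` -/
theorem card_out_D4 {F : Type*} [Field F] [Finite F] :
    Nat.card (Cfsg.Out ↥(chevD4.group F)) = ((Nat.card Fˣ).gcd 2) ^ 2 * (6 * Nat.card (F ≃+* F)) := by
  obtain ⟨T, hT⟩ := exists_rootCoord chevD4 hD4
  rw [card_out_sym chevD4 hD4 T hT notLong_D4 simple_inj_D4 hex_D4 hpres_D4, card_diagOut_D4 T hT,
    card_symGroup_D4]

end Cfsg.Agent.Helper36.OutDiag
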