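import Cfsg.Agent.Helper36.OutD4Iso

/-!
Helper36: the group of outer automorphisms of `D₄(q)`, `q` even: `Out ≃* S₃ × C_f`; transport of `Out` along an
isomorphism of groups.
-/

set_option autoImplicit false
set_option maxRecDepth 100000

namespace Cfsg.Agent.Helper36.OutDiag

open Cfsg Cfsg.Lie Cfsg.Agent.Helper18 Cfsg.Agent.Helper96.OutChev Cfsg.Agent.Helper36.ChevAut
  Cfsg.Agent.Helper36.OutCore Cfsg.Agent.Helper36 Cfsg.Agent.Helper18.Aut

/-- isomorphic groups have isomorphic groups of outer automorphisms -/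
noncomputable def outCongr {G H : Type*} [Group G] [Group H] (e : G ≃* H) : Cfsg.Out G ≃* Cfsg.Out H :=
  QuotientGroup.congr (Cfsg.Inn G) (Cfsg.Inn H) (MulAut.congr e) (by
    ext φ
    constructor
    · rintro ⟨_, ⟨g, rfl⟩, rfl⟩
      refine ⟨e g, ?_⟩
      ext x
      show e g * x * (e g)⁻¹ = e (g * e.symm x * g⁻¹)
      rw [map_mul, map_mul, map_inv, MulEquiv.apply_symm_apply]
    · rintro ⟨h, rfl⟩
      refine ⟨MulAut.conj (e.symm h), ⟨_, rfl⟩, ?_⟩
      ext x
      show e (e.symm h * e.symm x * (e.symm h)⁻¹) = h * x * h⁻¹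
      rw [map_mul, map_mul, map_inv, MulEquiv.apply_symm_apply, MulEquiv.apply_symm_apply])

section
variable {F : Type*} [Field F] [Finite F] (D : ChevalleyDatum)
  (hD : D ∈ [chevG2, chevB2, chevD4, chevF4, chevE6, chevE7, chevE8])
  (T : List (List ℤ)) (hT : rootCoordOK D T = true)

include hD in
theorem symField_surj (hnl : ∀ j < D.rank, D.isLong (D.simple j) = false)
    (hex : ∀ π ∈ symGroup D, ∃ γ : MulAut ↥(D.group F), ActsAs D hD π γ) (θ : MulAut ↥(D.group F)) :
    ∃ (ι : MulAut ↥(D.group F)) (c : Fin D.rank → Fˣ) (k : ↥(symGroup D) × (F ≃+* F)),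
      ι ∈ Cfsg.Inn ↥(D.group F) ∧ θ = ι * diagHom D hD T hT c * symFieldHom D hD hex k := by
  obtain ⟨x, d, g', f, hd, ⟨π, hπ, hg⟩, ⟨σ, hf⟩, hθ⟩ := Cfsg.Agent.S2156.result D hD θ
  obtain ⟨c, hc⟩ := isDiagonalAut_eq D hD T hT d hd
  have hfσ : f = fieldHom D hD σ := isFieldAut_eq D hD f σ hf
  have hg1 : g' = graphHom D hD hex ⟨π, hπ⟩ := by
    have h2 := actsAs_graphAutFor D hD hnl π _ (actsAs_graphHom D hD hex ⟨π, hπ⟩)
    apply ext_simple D hD
    intro i hi t z hz
    apply Subtype.ext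
    apply Units.ext
    rcases hz with hz | hz
    · rw [(hg z ⟨i, hi⟩ t).1 hz, (h2 z ⟨i, hi⟩ t).1 hz]
    · rw [(hg z ⟨i, hi⟩ t).2 hz, (h2 z ⟨i, hi⟩ t).2 hz]
  refine ⟨MulAut.conj x, c, (⟨π, hπ⟩, σ), ⟨x, rfl⟩, ?_⟩
  rw [symFieldHom_apply]
  ext y
  have := hθ y
  rw [hg1, hc, hfσ] at this
  rw [this]
  rfl

include hD in
theorem symField_inj (hinj : ∀ i j : Fin D.rank, D.simple i = D.simple j → i = j)
    (hex : ∀ π ∈ symGroup D, ∃ γ : MulAut ↥(D.group F), ActsAs D hD π γ)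
    (hpres : ∀ π ∈ symGroup D, ∀ γ : MulAut ↥(D.group F), ActsAs D hD π γ → PresU D γ ∧ PresV D γ)
    (c : Fin D.rank → Fˣ) (k : ↥(symGroup D) × (F ≃+* F))
    (h : diagHom D hD T hT c * symFieldHom D hD hex k ∈ Cfsg.Inn ↥(D.group F)) : k = 1 := by
  have hN := normHyp_of_mem (F := F) D hD
  obtain ⟨π, σ⟩ := k
  rw [symFieldHom_apply] at h
  have hγ := actsAs_graphHom D hD hex π
  obtain ⟨hU, hV⟩ := hpres π.1 π.2 _ hγ
  have hπ1 : π = 1 := by
    apply Subtype.ext
    apply Equiv.ext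
    intro i
    exact hinj _ _ (graph_fixes_of_inner D hD T hT hN π.1 _ hγ hU hV c σ h i)
  subst hπ1
  rw [map_one, one_mul] at h
  have hσ : σ = 1 := sigma_eq_one_of_inner D hD T hT hN c σ h
  subst hσ
  rfl

include hD in
/-- if all diagonal automorphisms are inner then `Out G ≃* Sym × Aut F` -/
theorem out_equiv_of_diag_inner (hnl : ∀ j < D.rank, D.isLong (D.simple j) = false)
    (hinj : ∀ i j : Fin D.rank, D.simple i = D.simple j → i = j)
    (hex : ∀ π ∈ symGroup D, ∃ γ : MulAut ↥(D.group F), ActsAs D hD π γ)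
    (hpres : ∀ π ∈ symGroup D, ∀ γ : MulAut ↥(D.group F), ActsAs D hD π γ → PresU D γ ∧ PresV D γ)
    (hdiag : ∀ c : Fin D.rank → Fˣ, diagHom D hD T hT c ∈ Cfsg.Inn ↥(D.group F)) :
    Nonempty (Cfsg.Out ↥(D.group F) ≃* ↥(symGroup D) × (F ≃+* F)) := by
  set q := (QuotientGroup.mk' (Cfsg.Inn ↥(D.group F))).comp (symFieldHom D hD hex) with hq
  have hbij : Function.Bijective q := by
    constructor
    · rw [injective_iff_map_eq_one]
      intro k hk
      have h1 : symFieldHom D hD hex k ∈ Cfsg.Inn ↥(D.group F) :=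
        (mk_eq_one_iff' (F := F) D _).mp hk
      apply symField_inj D hD T hT hinj hex hpres 1 k
      rw [map_one, one_mul]
      exact h1
    · intro o
      obtain ⟨θ, rfl⟩ := QuotientGroup.mk'_surjective (Cfsg.Inn ↥(D.group F)) o
      obtain ⟨ι, c, k, hι, rfl⟩ := symField_surj D hD T hT hnl hex θ
      refine ⟨k, ?_⟩
      show QuotientGroup.mk' _ (symFieldHom D hD hex k) = _
      rw [map_mul, map_mul, (mk_eq_one_iff' (F := F) D ι).mpr hι,
        (mk_eq_one_iff' (F := F) D _).mpr (hdiag c), one_mul, one_mul]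
  exact ⟨(MulEquiv.ofBijective q hbij).symm⟩

end

/-! ### The symmetries of the diagram of `D₄` -/

theorem bonds_D4 : ∀ i j : Fin chevD4.rank, i ≠ j →
    chevD4.bonds i j = if (i = n1 ∨ j = n1) then 1 else 0 := by
  decide +kernel

theorem sym_of_fix_D4 (π : Equiv.Perm (Fin chevD4.rank)) (h : π n1 = n1) : chevD4.IsDiagramSymmetry π := by
  intro i j hij
  have hne : π i ≠ π j := fun e => hij (π.injective e)
  rw [bonds_D4 _ _ hne, bonds_D4 i j hij]
  have e1 : ∀ k, π k = n1 ↔ k = n1 := by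
    intro k
    constructor
    · intro hk
      apply π.injective
      rw [hk, h]
    · intro hk
      rw [hk, h]
  simp only [e1]

/-- the three outer nodes -/
def outerEmb : Fin 3 ↪ Fin chevD4.rank where
  toFun i := if i = 0 then n0 else if i = 1 then n2 else n3
  inj' := by
    intro a b
    revert a b
    decide

theorem n1_not_outer : n1 ∉ Set.range outerEmb := by
  rintro ⟨i, hi⟩
  revert hi
  revert i
  decide

/-- `S₃` as the group of symmetries of the diagram of `D₄` -/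
noncomputable def s3Hom : Equiv.Perm (Fin 3) →* ↥(symGroup chevD4) :=
  (Equiv.Perm.viaEmbeddingHom outerEmb).codRestrict (symGroup chevD4) (fun σ => by
    rw [mem_symGroup, Equiv.Perm.viaEmbeddingHom_apply]
    exact sym_of_fix_D4 _ (Equiv.Perm.viaEmbedding_apply_of_notMem σ outerEmb n1 n1_not_outer))

theorem s3Hom_bijective : Function.Bijective s3Hom := by
  have hinj : Function.Injective s3Hom := by
    intro a b hab
    apply Equiv.Perm.viaEmbeddingHom_injective outerEmb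
    exact congrArg Subtype.val hab
  haveI : Finite ↥(symGroup chevD4) := inferInstance
  apply hinj.bijective_of_nat_card_le
  rw [card_symGroup_D4, Nat.card_eq_fintype_card, Fintype.card_perm, Fintype.card_fin]
  decide

/-- `Out D₄(2^f) ≃* S₃ × C_f` -/
theorem out_D4_even {F : Type*} [Field F] [Fintype F] {f : ℕ} (hf : 1 ≤ f) (hF : Fintype.card F = 2 ^ f) :
    Nonempty (Cfsg.Out ↥(chevD4.group F) ≃* Equiv.Perm (Fin 3) × Multiplicative (ZMod f)) := by
  obtain ⟨T, hT⟩ := exists_rootCoord chevD4 hD4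
  haveI : Fact (Nat.Prime 2) := ⟨Nat.prime_two⟩
  have hdiag : ∀ c : Fin chevD4.rank → Fˣ, diagHom chevD4 hD4 T hT c ∈ Cfsg.Inn ↥(chevD4.group F) := by
    intro c
    have h3 : (2 ^ f - 1).gcd 2 = 1 := by
      have hpos : 0 < 2 ^ f := Nat.pos_of_ne_zero (by positivity)
      have h2 : 2 ∣ 2 ^ f := dvd_pow_self 2 (by omega)
      rw [Nat.gcd_comm]
      apply Nat.Coprime.gcd_eq_one
      rw [Nat.coprime_two_left, Nat.odd_iff]
      omega
    have h1 : Nat.card (diagOutHom (F := F) chevD4 hD4 T hT).range = 1 := by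
      rw [card_diagOut_D4 T hT, Nat.card_units, Nat.card_eq_fintype_card, hF, h3, one_pow]
    have h2 := Subgroup.eq_bot_of_card_eq _ h1
    have h4 : diagOutHom chevD4 hD4 T hT c ∈ (diagOutHom (F := F) chevD4 hD4 T hT).range := ⟨c, rfl⟩
    rw [h2, Subgroup.mem_bot] at h4
    exact (mk_eq_one_iff' (F := F) chevD4 _).mp h4
  obtain ⟨e1⟩ := out_equiv_of_diag_inner chevD4 hD4 T hT notLong_D4 simple_inj_D4 hex_D4 hpres_D4 hdiag
  obtain ⟨hcard, hcyc⟩ := Cfsg.Agent.Helper37.OutPsl.card_ringAut hF hf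
  have e2 := zmodCyclicMulEquiv hcyc
  rw [hcard] at e2
  exact ⟨e1.trans (MulEquiv.prodCongr (MulEquiv.ofBijective s3Hom s3Hom_bijective).symm e2.symm)⟩

end Cfsg.Agent.Helper36.OutDiag
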