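import Cfsg.Agent.Helper36.OutD4
import Cfsg.Agent.S1082
import Cfsg.Agent.S1054

/-!
Helper36: the order of the automorphism group of `PΩ₈⁺(q)`, through the isomorphism with the Chevalley group of
type `D₄`.
-/

set_option autoImplicit false

namespace Cfsg.Agent.Helper36.OutDiag

open Cfsg Cfsg.Lie

/-- `|Aut G| = |Out G| · |G|` for a finite group with trivial centre -/
theorem card_mulAut_of_center {G : Type*} [Group G] [Finite G] (hZ : Subgroup.center G = ⊥) :
    Nat.card (MulAut G) = Nat.card (Cfsg.Out G) * Nat.card G := by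
  have hinj : Function.Injective (MulAut.conj : G →* MulAut G) := by
    rw [injective_iff_map_eq_one]
    intro g hg
    have : g ∈ Subgroup.center G := by
      rw [Subgroup.mem_center_iff]
      intro x
      have h1 := congrArg (fun φ : MulAut G => φ x) hg
      simp only [MulAut.conj_apply, MulAut.one_apply] at h1
      calc x * g = (g * x * g⁻¹) * g := by rw [h1]
        _ = g * x := by group
    rw [hZ, Subgroup.mem_bot] at this
    exact this
  have h1 : Nat.card (Cfsg.Inn G) = Nat.card G :=
    (Nat.card_congr (MonoidHom.ofInjective hinj).toEquiv).symm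
  rw [← h1]
  exact Subgroup.card_eq_card_quotient_mul_card_subgroup (Cfsg.Inn G)

/-- the centre of a simple non-commutative group is trivial -/
theorem center_eq_bot_of_simple {G : Type*} [Group G] (h : IsSimpleGroup G) (hc : ¬ IsMulCommutative G) :
    Subgroup.center G = ⊥ := by
  rcases h.eq_bot_or_eq_top_of_normal (Subgroup.center G) inferInstance with h1 | h1
  · exact h1
  · exfalso
    apply hc
    refine ⟨⟨fun a b => ?_⟩⟩
    have : a ∈ Subgroup.center G := by rw [h1]; trivial
    exact ((Subgroup.mem_center_iff.mp this) b).symm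

theorem center_D4 {F : Type*} [Field F] : Subgroup.center ↥(chevD4.group F) = ⊥ := by
  obtain ⟨h1, h2⟩ := Cfsg.Agent.S1054.result (F := F) chevD4 (by simp)
  exact center_eq_bot_of_simple h1 h2

/-- `|Aut PΩ₈⁺(q)|` -/
theorem card_mulAut_POmega8 {F : Type*} [Field F] [Fintype F] (p f : ℕ) [Fact p.Prime] (hf : 1 ≤ f)
    (hF : Fintype.card F = p ^ f) :
    Nat.card (MulAut (Cfsg.POmega F (Cfsg.quadFormPlus 4 F)))
      = 3 * (if p = 2 then 2 else 8) * f * Nat.card (Cfsg.POmega F (Cfsg.quadFormPlus 4 F)) := by
  obtain ⟨e⟩ := Cfsg.Agent.S1082.result (F := F)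
  haveI : Finite ↥(chevD4.group F) := inferInstance
  rw [← Nat.card_congr (MulAut.congr e).toEquiv, ← Nat.card_congr e.toEquiv,
    card_mulAut_of_center center_D4, card_out_D4,
    (Cfsg.Agent.Helper37.OutPsl.card_ringAut hF hf).1, Nat.card_units, Nat.card_eq_fintype_card, hF]
  have hp := (Fact.out : p.Prime)
  by_cases h2 : p = 2
  · rw [if_pos h2, h2]
    have h3 : (2 ^ f - 1).gcd 2 = 1 := by
      have : 2 ∣ 2 ^ f := dvd_pow_self 2 (by omega)
      have hpos : 0 < 2 ^ f := Nat.pos_of_ne_zero (by positivity)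
      rw [Nat.gcd_comm]
      apply Nat.Coprime.gcd_eq_one
      rw [Nat.coprime_two_left]  -- Odd (2^f - 1)
      rw [Nat.odd_iff]
      omega
    rw [h3]
    ring
  · rw [if_neg h2]
    have hodd : Odd p := hp.odd_of_ne_two h2
    have hodd' : Odd (p ^ f) := hodd.pow
    have h3 : (p ^ f - 1).gcd 2 = 2 := by
      apply Nat.gcd_eq_right
      rw [Nat.odd_iff] at hodd'
      omega
    rw [h3]
    ring

end Cfsg.Agent.Helper36.OutDiag
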