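import Mathlib

/-!
Helper36: an abstract recognition lemma. A finite group `O` with a normal subgroup `V` of order `4`, complemented
by the image of `S × A` (`|S| = 6`, the `A`-part central, the `S`-part acting faithfully on `V`), is isomorphic to
`S₄ × A`.
-/

set_option autoImplicit false

namespace Cfsg.Agent.Helper36.SplitS4

variable {O S A : Type*} [Group O] [Group S] [Group A]

theorem nonempty_mulEquiv_perm4_prod [Finite O]
    (V : Subgroup O) [hVn : V.Normal] (κ : S × A →* O)
    (hbij : Function.Bijective (fun p : ↥V × (S × A) => (p.1 : O) * κ p.2))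
    (hV : Nat.card ↥V = 4) (hS : Nat.card S = 6)
    (hcentral : ∀ (a : A) (o : O), κ (1, a) * o = o * κ (1, a))
    (hfaith : ∀ s : S, (∀ v ∈ V, κ (s, 1) * v = v * κ (s, 1)) → s = 1) :
    Nonempty (O ≃* Equiv.Perm (Fin 4) × A) := by
  classical
  set Ψ : ↥V × (S × A) → O := fun p => (p.1 : O) * κ p.2 with hΨ
  have hΨinj := hbij.1
  -- `κ` is injective
  have hκ : Function.Injective κ := by
    intro k k' h
    have : Ψ (1, k) = Ψ (1, k') := by
      show ((1 : ↥V) : O) * κ k = ((1 : ↥V) : O) * κ k'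
      rw [h]
    exact (Prod.ext_iff.mp (hΨinj this)).2
  -- `V ∩ range κ = 1`
  have hVM : ∀ v ∈ V, ∀ k, v = κ k → v = 1 := by
    intro v hv k h
    have : Ψ (⟨v, hv⟩, 1) = Ψ (1, k) := by
      show v * κ 1 = ((1 : ↥V) : O) * κ k
      rw [map_one, mul_one, Subgroup.coe_one, one_mul, h]
    have h1 := (Prod.ext_iff.mp (hΨinj this)).1
    exact congrArg Subtype.val h1
  haveI : Finite (S × A) := Finite.of_injective κ hκ
  haveI : Finite A := Finite.of_injective (fun a : A => ((1 : S), a)) (fun a b h => (Prod.ext_iff.mp h).2)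
  haveI : Finite S := Finite.of_injective (fun s : S => (s, (1 : A))) (fun a b h => (Prod.ext_iff.mp h).1)
  -- the projection to `S × A`
  let E := Equiv.ofBijective Ψ hbij
  have hE : ∀ (v : ↥V) (k : S × A), E.symm ((v : O) * κ k) = (v, k) := by
    intro v k
    apply E.injective
    rw [Equiv.apply_symm_apply]
    rfl
  have hdecomp : ∀ o : O, ∃ (v : ↥V) (k : S × A), o = (v : O) * κ k := by
    intro o
    obtain ⟨p, hp⟩ := hbij.2 o
    exact ⟨p.1, p.2, hp.symm⟩
  let ρ : O →* S × A :=
    { toFun := fun o => (E.symm o).2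
      map_one' := by
        have := hE 1 1
        rw [Subgroup.coe_one, map_one, mul_one] at this
        rw [this]
      map_mul' := by
        intro o o'
        obtain ⟨v, k, rfl⟩ := hdecomp o
        obtain ⟨v', k', rfl⟩ := hdecomp o'
        have h1 : (v : O) * κ k * ((v' : O) * κ k')
            = ((v * ⟨κ k * v' * (κ k)⁻¹, hVn.conj_mem _ v'.2 _⟩ : ↥V) : O) * κ (k * k') := by
          rw [map_mul]
          show _ = (v : O) * (κ k * v' * (κ k)⁻¹) * (κ k * κ k')
          group
        show (E.symm ((v : O) * κ k * ((v' : O) * κ k'))).2 = (E.symm _).2 * (E.symm _).2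
        rw [h1, hE, hE, hE] }
  have hρκ : ∀ k, ρ (κ k) = k := by
    intro k
    have := hE 1 k
    rw [Subgroup.coe_one, one_mul] at this
    show (E.symm (κ k)).2 = k
    rw [this]
  -- the action on the cosets of `M = range κ`
  set M : Subgroup O := κ.range with hM
  let α : O →* Equiv.Perm (O ⧸ M) := MulAction.toPermHom O (O ⧸ M)
  let Θ : O →* Equiv.Perm (O ⧸ M) × A := α.prod ((MonoidHom.snd S A).comp ρ)
  have hΘinj : Function.Injective Θ := by
    rw [injective_iff_map_eq_one]
    intro o ho
    have h1 : α o = 1 := (Prod.ext_iff.mp ho).1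
    have h2 : (ρ o).2 = 1 := (Prod.ext_iff.mp ho).2
    have hN : o ∈ M.normalCore := by
      rw [Subgroup.normalCore_eq_ker]
      exact h1
    obtain ⟨k, rfl⟩ := M.normalCore_le hN
    rw [hρκ] at h2
    obtain ⟨s, a⟩ := k
    have ha : a = 1 := h2
    subst ha
    have hs : s = 1 := by
      apply hfaith
      intro v hv
      have hc : κ (s, 1) * v * (κ (s, 1))⁻¹ * v⁻¹ ∈ M.normalCore := by
        have h3 : v * (κ (s, 1))⁻¹ * v⁻¹ ∈ M.normalCore :=
          (Subgroup.normalCore_normal M).conj_mem _ (inv_mem hN) v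
        have := mul_mem hN h3
        convert this using 1
        group
      have hc2 : κ (s, 1) * v * (κ (s, 1))⁻¹ * v⁻¹ ∈ V :=
        mul_mem (hVn.conj_mem _ hv _) (inv_mem hv)
      obtain ⟨k', hk'⟩ := M.normalCore_le hc
      have := hVM _ hc2 k' hk'.symm
      calc κ (s, 1) * v = (κ (s, 1) * v * (κ (s, 1))⁻¹ * v⁻¹) * (v * κ (s, 1)) := by group
        _ = v * κ (s, 1) := by rw [this, one_mul]
    subst hs
    exact map_one κ
  -- cardinalities
  have hcO : Nat.card O = 4 * (6 * Nat.card A) := by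
    rw [← Nat.card_congr E, Nat.card_prod, Nat.card_prod, hV, hS]
  have hApos : 0 < Nat.card A := Nat.card_pos
  have hcM : Nat.card ↥M = 6 * Nat.card A := by
    rw [← Nat.card_congr (MonoidHom.ofInjective hκ).toEquiv, Nat.card_prod, hS]
  have hidx : M.index = 4 := by
    have := Subgroup.card_mul_index M
    rw [hcM, hcO] at this
    have h6 : 0 < 6 * Nat.card A := by positivity
    nlinarith
  have hcQ : Nat.card (O ⧸ M) = 4 := by
    rw [← Subgroup.index_eq_card, hidx]
  have hcT : Nat.card (Equiv.Perm (O ⧸ M) × A) = Nat.card O := by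
    rw [Nat.card_prod, Nat.card_perm, hcQ, hcO]
    have : Nat.factorial 4 = 24 := rfl
    rw [this]
    ring
  haveI : Finite (O ⧸ M) := inferInstance
  haveI : Finite (Equiv.Perm (O ⧸ M) × A) := inferInstance
  have hΘbij : Function.Bijective Θ :=
    hΘinj.bijective_of_nat_card_le (le_of_eq hcT)
  let e4 : (O ⧸ M) ≃ Fin 4 := Finite.equivFinOfCardEq hcQ
  exact ⟨(MulEquiv.ofBijective Θ hΘbij).trans
    (MulEquiv.prodCongr e4.permCongrHom (MulEquiv.refl A))⟩

end Cfsg.Agent.Helper36.SplitS4
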