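import Cfsg.Agent.Helper36.OutD4Even
import Cfsg.Agent.Helper36.SplitS4
import Cfsg.Agent.Helper96.OutChevE

/-!
Helper36: the group of outer automorphisms of `D₄(q)`, `q` odd: `Out ≃* S₄ × C_f`.
-/

set_option autoImplicit false
set_option maxRecDepth 100000

namespace Cfsg.Agent.Helper36.OutDiag

open Cfsg Cfsg.Lie Cfsg.Agent.Helper18 Cfsg.Agent.Helper96.OutChev Cfsg.Agent.Helper36.ChevAut
  Cfsg.Agent.Helper36.OutCore Cfsg.Agent.Helper36 Cfsg.Agent.Helper18.Aut

section
variable {F : Type*} [Field F] (D : ChevalleyDatum)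
  (hD : D ∈ [chevG2, chevB2, chevD4, chevF4, chevE6, chevE7, chevE8])
  (T : List (List ℤ)) (hT : rootCoordOK D T = true)

/-- an automorphism scaling the fundamental root elements is the diagonal automorphism -/
theorem eq_dAut_of_acts (θ : MulAut ↥(D.group F)) (c : Fin D.rank → Fˣ)
    (h : ∀ (i : Fin D.rank) (t : F), θ (xg D hD (D.simple i) t) = xg D hD (D.simple i) ((c i : F) * t) ∧
      θ (xg D hD (D.neg (D.simple i)) t) = xg D hD (D.neg (D.simple i)) (((c i)⁻¹ : Fˣ) * t)) :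
    θ = dAut D hD T hT c := by
  apply ext_simple D hD
  intro i hi t z hz
  have hs := simple_lt D (simpleOK_of_mem D hD) i hi
  have hn := (triOK_spec D _ (triOK_of_mem D hD) _ hs).1
  rcases hz with hz | hz
  · rw [eq_xg D hD z _ t hz, (h ⟨i, hi⟩ t).1, dAut_xg D hD T hT _ _ hs, chr_simple D T hT _ ⟨i, hi⟩]
  · rw [eq_xg D hD z _ t hz, (h ⟨i, hi⟩ t).2, dAut_xg D hD T hT _ _ hn,
      (isRootCharacter_chr D T hT _).1 _ hs, chr_simple D T hT _ ⟨i, hi⟩]

theorem dAut_simple (c : Fin D.rank → Fˣ) (i : Fin D.rank) (t : F) :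
    dAut D hD T hT c (xg D hD (D.simple i) t) = xg D hD (D.simple i) ((c i : F) * t) ∧
    dAut D hD T hT c (xg D hD (D.neg (D.simple i)) t)
      = xg D hD (D.neg (D.simple i)) (((c i)⁻¹ : Fˣ) * t) := by
  have hs := simple_lt D (simpleOK_of_mem D hD) i i.2
  have hn := (triOK_spec D _ (triOK_of_mem D hD) _ hs).1
  constructor
  · rw [dAut_xg D hD T hT _ _ hs, chr_simple D T hT _ i]
  · rw [dAut_xg D hD T hT _ _ hn, (isRootCharacter_chr D T hT _).1 _ hs, chr_simple D T hT _ i]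

/-- conjugating a diagonal automorphism by a field automorphism -/
theorem conj_field_dAut (σ : F ≃+* F) (c : Fin D.rank → Fˣ) :
    fieldHom D hD σ * diagHom D hD T hT c * (fieldHom D hD σ)⁻¹
      = diagHom D hD T hT (fun i => Units.map (σ : F →* F) (c i)) := by
  rw [diagHom_apply, diagHom_apply]
  apply eq_dAut_of_acts
  intro i t
  rw [← map_inv]
  constructor
  · show fieldHom D hD σ (dAut D hD T hT c (fieldHom D hD σ⁻¹ (xg D hD (D.simple i) t))) = _
    rw [fieldHom_xg, (dAut_simple D hD T hT c i _).1, fieldHom_xg, map_mul]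
    congr 2
    show σ (σ⁻¹ t) = t
    exact σ.apply_symm_apply t
  · show fieldHom D hD σ (dAut D hD T hT c (fieldHom D hD σ⁻¹ (xg D hD (D.neg (D.simple i)) t))) = _
    rw [fieldHom_xg, (dAut_simple D hD T hT c i _).2, fieldHom_xg, map_mul]
    have e1 : σ (σ⁻¹ t) = t := σ.apply_symm_apply t
    have e2 : σ (((c i)⁻¹ : Fˣ) : F) = (((Units.map (σ : F →* F) (c i))⁻¹ : Fˣ) : F) := by
      rw [← map_inv]
      rfl
    rw [e1, e2]

/-- conjugating a diagonal automorphism by a graph automorphism -/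
theorem conj_graph_dAut (π : Equiv.Perm (Fin D.rank)) (γ : MulAut ↥(D.group F)) (hγ : ActsAs D hD π γ)
    (c : Fin D.rank → Fˣ) :
    γ * diagHom D hD T hT c * γ⁻¹ = diagHom D hD T hT (fun i => c (π⁻¹ i)) := by
  rw [diagHom_apply, diagHom_apply]
  apply eq_dAut_of_acts
  intro i t
  have hi : π (π⁻¹ i) = i := π.apply_symm_apply i
  have e1 : γ⁻¹ (xg D hD (D.simple i) t) = xg D hD (D.simple (π⁻¹ i)) t := by
    rw [MulAut.inv_apply, MulEquiv.symm_apply_eq, (hγ (π⁻¹ i) t).1, hi]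
  have e2 : γ⁻¹ (xg D hD (D.neg (D.simple i)) t) = xg D hD (D.neg (D.simple (π⁻¹ i))) t := by
    rw [MulAut.inv_apply, MulEquiv.symm_apply_eq, (hγ (π⁻¹ i) t).2, hi]
  constructor
  · show γ (dAut D hD T hT c (γ⁻¹ (xg D hD (D.simple i) t))) = _
    rw [e1, (dAut_simple D hD T hT c _ _).1, (hγ _ _).1, hi]
  · show γ (dAut D hD T hT c (γ⁻¹ (xg D hD (D.neg (D.simple i)) t))) = _
    rw [e2, (dAut_simple D hD T hT c _ _).2, (hγ _ _).2, hi]

/-- the action of `Sym × Aut F` on the parameters of the diagonal automorphisms -/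
def cj (k : ↥(symGroup D) × (F ≃+* F)) (c : Fin D.rank → Fˣ) : Fin D.rank → Fˣ :=
  fun i => Units.map (k.2 : F →* F) (c (k.1.1⁻¹ i))

theorem symField_conj_diag (hex : ∀ π ∈ symGroup D, ∃ γ : MulAut ↥(D.group F), ActsAs D hD π γ)
    (k : ↥(symGroup D) × (F ≃+* F)) (c : Fin D.rank → Fˣ) :
    symFieldHom D hD hex k * diagHom D hD T hT c * (symFieldHom D hD hex k)⁻¹
      = diagHom D hD T hT (cj D k c) := by
  obtain ⟨π, σ⟩ := k
  rw [symFieldHom_apply]
  have h1 := conj_field_dAut D hD T hT σ c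
  have h2 := conj_graph_dAut D hD T hT π.1 _ (actsAs_graphHom D hD hex π)
    (fun i => Units.map (σ : F →* F) (c i))
  calc graphHom D hD hex π * fieldHom D hD σ * diagHom D hD T hT c * (graphHom D hD hex π * fieldHom D hD σ)⁻¹
      = graphHom D hD hex π * (fieldHom D hD σ * diagHom D hD T hT c * (fieldHom D hD σ)⁻¹)
          * (graphHom D hD hex π)⁻¹ := by group
    _ = _ := by rw [h1, h2]; rfl

/-- `Out G` is in bijection with `D̄ × K` -/
theorem split_bijective {K : Type*} [Group K] (κ : K →* MulAut ↥(D.group F))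
    (hsurj : ∀ θ : MulAut ↥(D.group F), ∃ (ι : MulAut ↥(D.group F)) (c : Fin D.rank → Fˣ) (k : K),
      ι ∈ Cfsg.Inn ↥(D.group F) ∧ θ = ι * diagHom D hD T hT c * κ k)
    (hinj : ∀ (c : Fin D.rank → Fˣ) (k : K), diagHom D hD T hT c * κ k ∈ Cfsg.Inn ↥(D.group F) → k = 1) :
    Function.Bijective (fun p : ↥(diagOutHom (F := F) D hD T hT).range × K =>
      (p.1 : Cfsg.Out ↥(D.group F)) * ((QuotientGroup.mk' (Cfsg.Inn ↥(D.group F))).comp κ) p.2) := by
  set q := QuotientGroup.mk' (Cfsg.Inn ↥(D.group F)) with hq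
  constructor
  · rintro ⟨⟨a, c, rfl⟩, k⟩ ⟨⟨a', c', rfl⟩, k'⟩ h
    have h' : diagOutHom D hD T hT c * q (κ k) = diagOutHom D hD T hT c' * q (κ k') := h
    have h1 : q (diagHom D hD T hT (c⁻¹ * c') * κ (k' * k⁻¹)) = 1 := by
      rw [map_mul (diagHom D hD T hT), map_inv (diagHom D hD T hT), map_mul κ, map_inv κ, map_mul q, map_mul q,
        map_mul q, map_inv q, map_inv q]
      have e1 : q (diagHom D hD T hT c) = diagOutHom D hD T hT c := rfl
      have e2 : q (diagHom D hD T hT c') = diagOutHom D hD T hT c' := rfl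
      rw [e1, e2]
      calc (diagOutHom D hD T hT c)⁻¹ * diagOutHom D hD T hT c' * (q (κ k') * (q (κ k))⁻¹)
          = (diagOutHom D hD T hT c)⁻¹ * (diagOutHom D hD T hT c' * q (κ k')) * (q (κ k))⁻¹ := by group
        _ = 1 := by rw [← h']; group
    have h2 := hinj _ _ ((mk_eq_one_iff' (F := F) D _).mp h1)
    have hk : k' = k := by
      rw [mul_inv_eq_one] at h2
      exact h2
    subst hk
    have h3 : diagOutHom D hD T hT c = diagOutHom D hD T hT c' := mul_right_cancel h'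
    exact Prod.ext (Subtype.ext h3) rfl
  · intro o
    obtain ⟨θ, rfl⟩ := QuotientGroup.mk'_surjective (Cfsg.Inn ↥(D.group F)) o
    obtain ⟨ι, c, k, hι, rfl⟩ := hsurj θ
    refine ⟨(⟨diagOutHom D hD T hT c, c, rfl⟩, k), ?_⟩
    show diagOutHom D hD T hT c * q (κ k) = q (ι * diagHom D hD T hT c * κ k)
    rw [map_mul, map_mul, (mk_eq_one_iff' (F := F) D ι).mpr hι, one_mul]
    rfl

end

section
variable {F : Type*} [Field F] [Finite F] (D : ChevalleyDatum)
  (hD : D ∈ [chevG2, chevB2, chevD4, chevF4, chevE6, chevE7, chevE8])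
  (T : List (List ℤ)) (hT : rootCoordOK D T = true)

include hD in
/-- the classes of the diagonal automorphisms form a normal subgroup of `Out G` -/
theorem diagOut_normal (hnl : ∀ j < D.rank, D.isLong (D.simple j) = false)
    (hex : ∀ π ∈ symGroup D, ∃ γ : MulAut ↥(D.group F), ActsAs D hD π γ) :
    (diagOutHom (F := F) D hD T hT).range.Normal := by
  constructor
  rintro _ ⟨c, rfl⟩ o
  obtain ⟨θ, rfl⟩ := QuotientGroup.mk'_surjective (Cfsg.Inn ↥(D.group F)) o
  obtain ⟨ι, c', k, hι, rfl⟩ := symField_surj D hD T hT hnl hex θ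
  refine ⟨c' * cj D k c * c'⁻¹, ?_⟩
  set q := QuotientGroup.mk' (Cfsg.Inn ↥(D.group F)) with hq
  show q (diagHom D hD T hT (c' * cj D k c * c'⁻¹))
    = q (ι * diagHom D hD T hT c' * symFieldHom D hD hex k) * q (diagHom D hD T hT c)
      * (q (ι * diagHom D hD T hT c' * symFieldHom D hD hex k))⁻¹
  rw [map_mul (diagHom D hD T hT), map_mul (diagHom D hD T hT), map_inv (diagHom D hD T hT),
    ← symField_conj_diag D hD T hT hex k c]
  simp only [map_mul, map_inv]
  rw [(mk_eq_one_iff' (F := F) D ι).mpr hι]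
  group

end

/-! ### Type `D₄`, odd characteristic -/

section D4
variable {F : Type*} [Field F]

/-- the parameter with the value `η` at the node `a` -/
def cEta (η : Fˣ) (a : Fin chevD4.rank) : Fin chevD4.rank → Fˣ := fun i => if i = a then η else 1

theorem cEta_same (η : Fˣ) (a : Fin chevD4.rank) : cEta η a a = η := if_pos rfl

theorem cEta_ne (η : Fˣ) (a i : Fin chevD4.rank) (h : i ≠ a) : cEta η a i = 1 := if_neg h

theorem cj_cEta (s : ↥(symGroup chevD4)) (η : Fˣ) (a : Fin chevD4.rank) :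
    cj chevD4 (s, (1 : F ≃+* F)) (cEta η a) = cEta η (s.1 a) := by
  funext i
  show Units.map ((1 : F ≃+* F) : F →* F) (if s.1⁻¹ i = a then η else 1) = if i = s.1 a then η else 1
  have hiff : (s.1⁻¹ i = a) ↔ (i = s.1 a) := by
    constructor
    · intro h
      rw [← h]
      exact (s.1.apply_symm_apply i).symm
    · intro h
      rw [h]
      exact s.1.symm_apply_apply a
  by_cases h : i = s.1 a
  · rw [if_pos h, if_pos (hiff.mpr h)]
    apply Units.ext
    rfl
  · rw [if_neg h, if_neg (fun h' => h (hiff.mp h'))]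
    exact map_one _

variable (T : List (List ℤ)) (hT : rootCoordOK chevD4 T = true)

theorem delta_ne (hNU : NU chevD4 F) (η : Fˣ) (hη : ∀ s : Fˣ, η ≠ s ^ 2) (a b : Fin chevD4.rank)
    (hab : (a = n2 ∧ b = n0) ∨ (a = n3 ∧ b = n0) ∨ (a = n3 ∧ b = n2)) :
    diagOutHom (F := F) chevD4 hD4 T hT (cEta η a) ≠ diagOutHom chevD4 hD4 T hT (cEta η b) := by
  intro h
  have h1 : diagHom chevD4 hD4 T hT ((cEta η a)⁻¹ * cEta η b) ∈ Cfsg.Inn ↥(chevD4.group F) := by
    rw [← mk_eq_one_iff' (F := F) chevD4]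
    show diagOutHom chevD4 hD4 T hT ((cEta η a)⁻¹ * cEta η b) = 1
    rw [map_mul, map_inv, h, inv_mul_cancel]
  rw [diagHom_apply, dAut_inner_iff_D4 T hT hNU] at h1
  obtain ⟨⟨s, hs⟩, ⟨t, ht⟩⟩ := h1
  simp only [Pi.mul_apply, Pi.inv_apply] at hs ht
  rcases hab with ⟨rfl, rfl⟩ | ⟨rfl, rfl⟩ | ⟨rfl, rfl⟩
  · rw [cEta_ne η n2 n0 (by decide), cEta_same, cEta_ne η n2 n3 (by decide), cEta_ne η n0 n3 (by decide)] at ht
    apply hη t
    rw [← ht]
    group
  · rw [cEta_ne η n3 n0 (by decide), cEta_same, cEta_ne η n3 n2 (by decide), cEta_ne η n0 n2 (by decide)] at hs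
    apply hη s
    rw [← hs]
    group
  · rw [cEta_ne η n3 n0 (by decide), cEta_ne η n2 n0 (by decide), cEta_ne η n3 n2 (by decide), cEta_same] at hs
    apply hη s
    rw [← hs]
    group

end D4

section D4odd
variable {F : Type*} [Field F] [Fintype F] (p : ℕ) [Fact p.Prime] [CharP F p]

include p in
/-- `σ x / x` is a square in odd characteristic -/
theorem sigma_div_sq (hp : p ≠ 2) {f : ℕ} (hF : Fintype.card F = p ^ f) (σ : F ≃+* F) (x : Fˣ) :
    ∃ s : Fˣ, Units.map (σ : F →* F) x = x * s ^ 2 := by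
  obtain ⟨k, rfl⟩ := frob_generates p hF σ
  have hodd : Odd (p ^ k) := ((Fact.out : p.Prime).odd_of_ne_two hp).pow
  obtain ⟨j, hj⟩ := hodd
  refine ⟨x ^ j, ?_⟩
  apply Units.ext
  show ((frobeniusEquiv F p) ^ k) (x : F) = _
  rw [frob_pow_apply, hj, Units.val_mul, Units.val_pow_eq_pow_val, Units.val_pow_eq_pow_val]
  ring

variable (T : List (List ℤ)) (hT : rootCoordOK chevD4 T = true)

include p in
/-- field automorphisms act trivially on the classes of diagonal automorphisms -/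
theorem diagOut_field_fixed (hp : p ≠ 2) {f : ℕ} (hF : Fintype.card F = p ^ f) (σ : F ≃+* F)
    (c : Fin chevD4.rank → Fˣ) :
    diagOutHom (F := F) chevD4 hD4 T hT (cj chevD4 ((1 : ↥(symGroup chevD4)), σ) c)
      = diagOutHom chevD4 hD4 T hT c := by
  have hNU := nu_of_mem (F := F) chevD4 hD4
  have h1 : diagHom chevD4 hD4 T hT (c⁻¹ * cj chevD4 ((1 : ↥(symGroup chevD4)), σ) c)
      ∈ Cfsg.Inn ↥(chevD4.group F) := by
    rw [diagHom_apply, dAut_inner_iff_D4 T hT hNU]
    have hsq : ∀ i, ∃ s : Fˣ, (c⁻¹ * cj chevD4 ((1 : ↥(symGroup chevD4)), σ) c) i = s ^ 2 := by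
      intro i
      obtain ⟨s, hs⟩ := sigma_div_sq p hp hF σ (c i)
      refine ⟨s, ?_⟩
      show (c i)⁻¹ * Units.map (σ : F →* F) (c (((1 : ↥(symGroup chevD4)) : Equiv.Perm _)⁻¹ i)) = s ^ 2
      have : ((1 : ↥(symGroup chevD4)) : Equiv.Perm (Fin chevD4.rank))⁻¹ i = i := rfl
      rw [this, hs, inv_mul_cancel_left]
    obtain ⟨s0, h0⟩ := hsq n0
    obtain ⟨s2, h2⟩ := hsq n2
    obtain ⟨s3, h3⟩ := hsq n3
    exact ⟨⟨s0 * s2, by rw [h0, h2, mul_pow]⟩, ⟨s0 * s3, by rw [h0, h3, mul_pow]⟩⟩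
  have h2 := (mk_eq_one_iff' (F := F) chevD4 _).mpr h1
  have h3 : (diagOutHom (F := F) chevD4 hD4 T hT c)⁻¹
      * diagOutHom chevD4 hD4 T hT (cj chevD4 ((1 : ↥(symGroup chevD4)), σ) c) = 1 := by
    rw [← map_inv, ← map_mul]
    exact h2
  exact (inv_mul_eq_one.mp h3).symm

/-- `Out D₄(q) ≃* S₄ × C_f` for odd `q` -/
theorem out_D4_odd_aux (hp : p ≠ 2) {f : ℕ} (hf : 1 ≤ f) (hF : Fintype.card F = p ^ f) :
    Nonempty (Cfsg.Out ↥(chevD4.group F) ≃* Equiv.Perm (Fin 4) × (F ≃+* F)) := by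
  obtain ⟨T, hT⟩ := exists_rootCoord chevD4 hD4
  have hNU := nu_of_mem (F := F) chevD4 hD4
  set q := QuotientGroup.mk' (Cfsg.Inn ↥(chevD4.group F)) with hq
  set κ := symFieldHom (F := F) chevD4 hD4 hex_D4 with hκ
  haveI hnorm := diagOut_normal (F := F) chevD4 hD4 T hT notLong_D4 hex_D4
  have hbij := split_bijective chevD4 hD4 T hT κ
    (symField_surj chevD4 hD4 T hT notLong_D4 hex_D4)
    (fun c k h => symField_inj chevD4 hD4 T hT simple_inj_D4 hex_D4 hpres_D4 c k h)
  -- the conjugation action on the classes of diagonal automorphisms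
  have hconj : ∀ (k : ↥(symGroup chevD4) × (F ≃+* F)) (c : Fin chevD4.rank → Fˣ),
      q (κ k) * diagOutHom chevD4 hD4 T hT c = diagOutHom chevD4 hD4 T hT (cj chevD4 k c) * q (κ k) := by
    intro k c
    have h1 : κ k * diagHom chevD4 hD4 T hT c * (κ k)⁻¹ = diagHom chevD4 hD4 T hT (cj chevD4 k c) :=
      symField_conj_diag chevD4 hD4 T hT hex_D4 k c
    have h2 : κ k * diagHom chevD4 hD4 T hT c = diagHom chevD4 hD4 T hT (cj chevD4 k c) * κ k := by
      rw [← h1]
      group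
    have h3 := congrArg q h2
    rw [map_mul, map_mul] at h3
    exact h3
  -- a non-square
  have hgcd : (Nat.card Fˣ).gcd 2 = 2 := by
    rw [Nat.card_units, Nat.card_eq_fintype_card, hF]
    apply Nat.gcd_eq_right
    have hodd : Odd (p ^ f) := ((Fact.out : p.Prime).odd_of_ne_two hp).pow
    rw [Nat.odd_iff] at hodd
    omega
  obtain ⟨η, hη⟩ : ∃ η : Fˣ, ∀ s : Fˣ, η ≠ s ^ 2 := by
    by_contra hcon
    have htop : (powMonoidHom 2 : Fˣ →* Fˣ).range = ⊤ := by
      rw [eq_top_iff]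
      intro x _
      by_contra hx
      apply hcon
      refine ⟨x, fun s hs => hx ⟨s, hs.symm⟩⟩
    have hidx := IsCyclic.index_powMonoidHom_range (G := Fˣ) 2
    rw [htop, Subgroup.index_top, hgcd] at hidx
    omega
  have hV : Nat.card ↥(diagOutHom (F := F) chevD4 hD4 T hT).range = 4 := by
    rw [card_diagOut_D4 T hT, hgcd]
    rfl
  have hcomm : ∀ a b : F ≃+* F, a * b = b * a := by
    intro a b
    obtain ⟨i, rfl⟩ := frob_generates p hF a
    obtain ⟨j, rfl⟩ := frob_generates p hF b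
    rw [← pow_add, ← pow_add, add_comm]
  refine Cfsg.Agent.Helper36.SplitS4.nonempty_mulEquiv_perm4_prod
    (diagOutHom (F := F) chevD4 hD4 T hT).range (q.comp κ) hbij hV card_symGroup_D4 ?_ ?_
  · -- the field automorphisms are central
    intro σ o
    obtain ⟨⟨⟨v, c, rfl⟩, k⟩, rfl⟩ := hbij.2 o
    show q (κ (1, σ)) * (diagOutHom chevD4 hD4 T hT c * q (κ k))
      = diagOutHom chevD4 hD4 T hT c * q (κ k) * q (κ (1, σ))
    rw [← mul_assoc, hconj, diagOut_field_fixed p T hT hp hF σ c, mul_assoc, mul_assoc, ← map_mul q,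
      ← map_mul q, ← map_mul κ, ← map_mul κ]
    have : ((1 : ↥(symGroup chevD4)), σ) * k = k * ((1 : ↥(symGroup chevD4)), σ) := by
      obtain ⟨π, τ⟩ := k
      apply Prod.ext
      · show 1 * π = π * 1
        rw [one_mul, mul_one]
      · exact hcomm σ τ
    rw [this]
  · -- the graph automorphisms act faithfully
    intro s hs
    have key : ∀ a : Fin chevD4.rank, diagOutHom (F := F) chevD4 hD4 T hT (cEta η (s.1 a))
        = diagOutHom chevD4 hD4 T hT (cEta η a) := by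
      intro a
      have h1 := hs (diagOutHom chevD4 hD4 T hT (cEta η a)) ⟨_, rfl⟩
      have h2 := hconj (s, 1) (cEta η a)
      rw [cj_cEta] at h2
      have h3 : (q.comp κ) (s, 1) = q (κ (s, 1)) := rfl
      rw [h3, h2] at h1
      exact mul_right_cancel h1
    apply Subtype.ext
    rcases symD4 s.1 s.2 with h | h | h | h | h | h
    · exact h
    · exfalso
      have := key n0
      rw [h] at this
      exact delta_ne T hT hNU η hη n2 n0 (Or.inl ⟨rfl, rfl⟩) this
    · exfalso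
      have := key n0
      rw [h] at this
      exact delta_ne T hT hNU η hη n3 n0 (Or.inr (Or.inl ⟨rfl, rfl⟩)) this
    · exfalso
      have := key n2
      rw [h] at this
      exact delta_ne T hT hNU η hη n3 n2 (Or.inr (Or.inr ⟨rfl, rfl⟩)) this
    · exfalso
      have := key n0
      rw [h] at this
      exact delta_ne T hT hNU η hη n2 n0 (Or.inl ⟨rfl, rfl⟩) this
    · exfalso
      have := key n0
      rw [h] at this
      exact delta_ne T hT hNU η hη n3 n0 (Or.inr (Or.inl ⟨rfl, rfl⟩)) this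

end D4odd

/-- `Out D₄(q) ≃* S₄ × C_f` for odd `q = p^f` -/
theorem out_D4_odd {F : Type*} [Field F] [Fintype F] {p f : ℕ} [Fact p.Prime] (hf : 1 ≤ f)
    (hF : Fintype.card F = p ^ f) (hp : p ≠ 2) :
    Nonempty (Cfsg.Out ↥(chevD4.group F) ≃* Equiv.Perm (Fin 4) × Multiplicative (ZMod f)) := by
  haveI : CharP F p := charP_of_card_eq_prime_pow hF
  obtain ⟨e1⟩ := out_D4_odd_aux p hp hf hF
  obtain ⟨hcard, hcyc⟩ := Cfsg.Agent.Helper37.OutPsl.card_ringAut hF hf
  have e2 := zmodCyclicMulEquiv hcyc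
  rw [hcard] at e2
  exact ⟨e1.trans (MulEquiv.prodCongr (MulEquiv.refl _) e2.symm)⟩

end Cfsg.Agent.Helper36.OutDiag
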