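import Cfsg.Agent.Helper36.Unimod

/-!
Helper36: the cokernel of the Cartan matrix acting on a power of an abelian group (for the outer diagonal
automorphisms of `E₆(q)`, `E₇(q)`).

`lattice_iff`: with a certificate `(m, a, e, g, b)` for a square integer matrix `A` of determinant `±n` with cyclic
cokernel, a vector `c` of elements of a commutative group is of the form `c_j = ∏_i z_i ^ A i j` iff
`∏_j c_j ^ m_j` is an `n`-th power.
-/

set_option autoImplicit false

namespace Cfsg.Agent.Helper36.OutLattice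

open Cfsg.Agent.Helper36.Unimod

variable {M : Type*} [CommGroup M]

theorem prod_zpow_comm (r : ℕ) (z : ℕ → M) (A : ℕ → ℕ → ℤ) (w : ℕ → ℤ) :
    ∏ j ∈ Finset.range r, (∏ i ∈ Finset.range r, z i ^ A i j) ^ w j
      = ∏ i ∈ Finset.range r, z i ^ (∑ j ∈ Finset.range r, A i j * w j) := by
  have h1 : ∀ j ∈ Finset.range r, (∏ i ∈ Finset.range r, z i ^ A i j) ^ w j
      = ∏ i ∈ Finset.range r, z i ^ (A i j * w j) := by
    intro j _
    rw [← Finset.prod_zpow]
    apply Finset.prod_congr rfl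
    intro i _
    rw [zpow_mul]
  rw [Finset.prod_congr rfl h1, Finset.prod_comm]
  apply Finset.prod_congr rfl
  intro i _
  rw [zpow_finset_sum]

theorem lattice_iff (r : ℕ) (n : ℤ) (A : ℕ → ℕ → ℤ) (m a e g : ℕ → ℤ) (b : ℕ → ℕ → ℤ)
    (h1 : ∀ i < r, ∑ j ∈ Finset.range r, A i j * m j = g i * n)
    (h2 : ∀ j < r, ∑ i ∈ Finset.range r, A i j * a i = n * e j)
    (h3 : ∀ j < r, ∀ k < r, ∑ i ∈ Finset.range r, A i j * b i k = (if j = k then 1 else 0) - m k * e j)
    (c : ℕ → M) :
    (∃ z : ℕ → M, ∀ j < r, c j = ∏ i ∈ Finset.range r, z i ^ A i j) ↔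
      (∃ s : M, ∏ j ∈ Finset.range r, c j ^ m j = s ^ n) := by
  constructor
  · rintro ⟨z, hz⟩
    refine ⟨∏ i ∈ Finset.range r, z i ^ g i, ?_⟩
    have e1 : ∏ j ∈ Finset.range r, c j ^ m j
        = ∏ j ∈ Finset.range r, (∏ i ∈ Finset.range r, z i ^ A i j) ^ m j := by
      apply Finset.prod_congr rfl
      intro j hj
      rw [hz j (Finset.mem_range.mp hj)]
    rw [e1, prod_zpow_comm, ← Finset.prod_zpow]
    apply Finset.prod_congr rfl
    intro i hi
    rw [h1 i (Finset.mem_range.mp hi), zpow_mul]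
  · rintro ⟨s, hs⟩
    refine ⟨fun i => s ^ a i * ∏ k ∈ Finset.range r, c k ^ b i k, fun j hj => ?_⟩
    have e1 : ∏ i ∈ Finset.range r, (s ^ a i * ∏ k ∈ Finset.range r, c k ^ b i k) ^ A i j
        = (∏ i ∈ Finset.range r, s ^ (A i j * a i)) *
          ∏ i ∈ Finset.range r, (∏ k ∈ Finset.range r, c k ^ b i k) ^ A i j := by
      rw [← Finset.prod_mul_distrib]
      apply Finset.prod_congr rfl
      intro i _
      rw [mul_zpow, ← zpow_mul, mul_comm (a i)]
    have e2 : ∏ i ∈ Finset.range r, (∏ k ∈ Finset.range r, c k ^ b i k) ^ A i j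
        = ∏ k ∈ Finset.range r, c k ^ (∑ i ∈ Finset.range r, b i k * A i j) :=
      prod_zpow_comm r c (fun k i => b i k) (fun i => A i j)
    have e3 : ∀ k ∈ Finset.range r, c k ^ (∑ i ∈ Finset.range r, b i k * A i j)
        = c k ^ (if j = k then (1 : ℤ) else 0) * (c k ^ m k) ^ (-e j) := by
      intro k hk
      have : ∑ i ∈ Finset.range r, b i k * A i j = (if j = k then 1 else 0) + m k * (-e j) := by
        have h4 := h3 j hj k (Finset.mem_range.mp hk)
        have e5 : ∑ i ∈ Finset.range r, b i k * A i j = ∑ i ∈ Finset.range r, A i j * b i k :=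
          Finset.sum_congr rfl (fun i _ => mul_comm _ _)
        rw [e5, h4]
        ring
      rw [this, zpow_add, zpow_mul]
    rw [e1, e2, Finset.prod_congr rfl e3, Finset.prod_mul_distrib, Finset.prod_zpow, hs,
      ← zpow_finset_sum, h2 j hj, zpow_mul]
    rw [Finset.prod_eq_single j]
    · rw [if_pos rfl, zpow_one, zpow_neg]
      rw [mul_comm ((s ^ n) ^ e j), mul_assoc, inv_mul_cancel, mul_one]
    · intro k _ hk
      rw [if_neg (Ne.symm hk), zpow_zero]
    · intro h
      exact absurd (Finset.mem_range.mpr hj) h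

end Cfsg.Agent.Helper36.OutLattice
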