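import Cfsg.Agent.Helper96.OutChevC
import Cfsg.Agent.Helper36.OutCore
import Cfsg.Agent.Helper36.OutLattice
import Cfsg.Agent.Helper36.ChevAutChar

/-!
Helper36: the diagonal automorphisms of a Chevalley group modulo the inner ones (for S2123, S2124, S2159).

* `dAut D hD T hT c`: the diagonal automorphism with the values `c i` at the fundamental roots.
* `diagHom`: `c ↦ dAut c` as a homomorphism `(Fin rank → Fˣ) →* MulAut G`.
* `dAut_inner_iff`: `dAut c` is inner iff `c_j = ∏_i z_i ^ A_{i, p_j}` for some `z`.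
-/

set_option autoImplicit false

namespace Cfsg.Agent.Helper36.OutDiag

open Cfsg Cfsg.Lie Cfsg.Agent.Helper18 Cfsg.Agent.Helper96.OutChev Cfsg.Agent.Helper36.ChevAut
  Cfsg.Agent.Helper36.OutCore

variable {F : Type*} [Field F] (D : ChevalleyDatum)
  (hD : D ∈ [chevG2, chevB2, chevD4, chevF4, chevE6, chevE7, chevE8])
  (T : List (List ℤ)) (hT : rootCoordOK D T = true)

/-- extension by `1` of a family indexed by the nodes -/
def cExt (c : Fin D.rank → Fˣ) (k : ℕ) : Fˣ := if hk : k < D.rank then c ⟨k, hk⟩ else 1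

theorem cExt_apply (c : Fin D.rank → Fˣ) (i : Fin D.rank) : cExt D c i = c i := by
  unfold cExt
  rw [dif_pos i.2]

/-- the root character with the values `c i` at the fundamental roots -/
def chr (c : Fin D.rank → Fˣ) : ℕ → Fˣ := charOf D T (cExt D c)

include hT in
theorem isRootCharacter_chr (c : Fin D.rank → Fˣ) : D.IsRootCharacter (chr D T c) :=
  isRootCharacter_charOf D T hT _

include hT in
theorem chr_simple (c : Fin D.rank → Fˣ) (i : Fin D.rank) : chr D T c (D.simple i) = c i := by
  unfold chr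
  rw [charOf_simple D T hT _ i i.2, cExt_apply]

theorem chr_mul (c c' : Fin D.rank → Fˣ) (s : ℕ) : chr D T (c * c') s = chr D T c s * chr D T c' s := by
  unfold chr charOf
  rw [← Finset.prod_mul_distrib]
  apply Finset.prod_congr rfl
  intro j hj
  have : cExt D (c * c') j = cExt D c j * cExt D c' j := by
    unfold cExt
    rw [dif_pos (Finset.mem_range.mp hj), dif_pos (Finset.mem_range.mp hj), dif_pos (Finset.mem_range.mp hj)]
    rfl
  rw [this, mul_zpow]

theorem chr_one (s : ℕ) : chr D T (1 : Fin D.rank → Fˣ) s = 1 := by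
  unfold chr charOf
  apply Finset.prod_eq_one
  intro j hj
  have : cExt D (1 : Fin D.rank → Fˣ) j = 1 := by
    unfold cExt
    rw [dif_pos (Finset.mem_range.mp hj)]
    rfl
  rw [this, one_zpow]

/-- the diagonal automorphism with the values `c i` at the fundamental roots -/
noncomputable def dAut (c : Fin D.rank → Fˣ) : ↥(D.group F) ≃* ↥(D.group F) :=
  diagAut D hD (chr D T c) (isRootCharacter_chr D T hT c)

theorem dAut_xg (c : Fin D.rank → Fˣ) (r : ℕ) (hr : r < D.nroots) (t : F) :
    dAut D hD T hT c (xg D hD r t) = xg D hD r ((chr D T c r : F) * t) := by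
  apply eq_xg
  exact diagAut_x D hD _ _ _ r hr t (xg_val D hD r t)

theorem isDiagonalAut_dAut (c : Fin D.rank → Fˣ) : D.IsDiagonalAut (dAut D hD T hT c) :=
  isDiagonalAut_diagAut D hD _ _

theorem presU_dAut (c : Fin D.rank → Fˣ) : PresU D (dAut D hD T hT c) :=
  presU_of_roots D hD _ (fun r t hr => ⟨r, _, hr, by rw [dAut_xg D hD T hT c r hr.1, xg_val]⟩)

theorem presV_dAut (c : Fin D.rank → Fˣ) : PresV D (dAut D hD T hT c) :=
  presV_of_roots D hD _ (fun r t hr => ⟨r, _, hr, by rw [dAut_xg D hD T hT c r hr.1, xg_val]⟩)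

/-- `c ↦ dAut c` as a homomorphism -/
noncomputable def diagHom : (Fin D.rank → Fˣ) →* MulAut ↥(D.group F) where
  toFun c := dAut D hD T hT c
  map_one' := by
    apply ext_simple D hD
    intro i hi t γ hγ
    have hs := simple_lt D (simpleOK_of_mem D hD) i hi
    have hn := (triOK_spec D _ (triOK_of_mem D hD) _ hs).1
    rcases hγ with hγ | hγ
    · rw [eq_xg D hD γ _ t hγ, dAut_xg D hD T hT _ _ hs, chr_one, Units.val_one, one_mul]
      rfl
    · rw [eq_xg D hD γ _ t hγ, dAut_xg D hD T hT _ _ hn, chr_one, Units.val_one, one_mul]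
      rfl
  map_mul' c c' := by
    apply ext_simple D hD
    intro i hi t γ hγ
    have hs := simple_lt D (simpleOK_of_mem D hD) i hi
    have hn := (triOK_spec D _ (triOK_of_mem D hD) _ hs).1
    show dAut D hD T hT (c * c') γ = dAut D hD T hT c (dAut D hD T hT c' γ)
    rcases hγ with hγ | hγ
    · rw [eq_xg D hD γ _ t hγ, dAut_xg D hD T hT _ _ hs, dAut_xg D hD T hT _ _ hs, dAut_xg D hD T hT _ _ hs,
        chr_mul, Units.val_mul, mul_assoc]
    · rw [eq_xg D hD γ _ t hγ, dAut_xg D hD T hT _ _ hn, dAut_xg D hD T hT _ _ hn, dAut_xg D hD T hT _ _ hn,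
        chr_mul, Units.val_mul, mul_assoc]

theorem diagHom_apply (c : Fin D.rank → Fˣ) : diagHom D hD T hT c = dAut D hD T hT c := rfl

/-- every diagonal automorphism is some `dAut c` -/
theorem isDiagonalAut_eq (d : ↥(D.group F) ≃* ↥(D.group F)) (hd : D.IsDiagonalAut d) :
    ∃ c : Fin D.rank → Fˣ, d = dAut D hD T hT c := by
  obtain ⟨χ, hχ, hdχ⟩ := hd
  refine ⟨fun i => χ (D.simple i), ?_⟩
  apply ext_simple D hD
  intro i hi t γ hγ
  have hs := simple_lt D (simpleOK_of_mem D hD) i hi
  have hn := (triOK_spec D _ (triOK_of_mem D hD) _ hs).1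
  have hval : ∀ (r : ℕ) (hr : r < D.nroots) (t : F), d (xg D hD r t) = xg D hD r ((χ r : F) * t) := by
    intro r hr t
    apply eq_xg
    rw [hdχ, xg_val]
    exact Cfsg.Agent.S2157.result D hD χ hχ r hr t
  rcases hγ with hγ | hγ
  · rw [eq_xg D hD γ _ t hγ, hval _ hs, dAut_xg D hD T hT _ _ hs, chr_simple D T hT _ ⟨i, hi⟩]
  · rw [eq_xg D hD γ _ t hγ, hval _ hn, dAut_xg D hD T hT _ _ hn, hχ.1 _ hs,
      (isRootCharacter_chr D T hT _).1 _ hs, chr_simple D T hT _ ⟨i, hi⟩]

include hD in
theorem cartan_neg (i : ℕ) (hi : i < D.rank) (r : ℕ) (hr : r < D.nroots) :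
    D.cartan i (D.neg r) = - D.cartan i r := by
  have hs := simpleOK_of_mem D hD
  rw [← pairing'_simple D hs i hi, ← pairing'_simple D hs i hi]
  exact pairing'_neg_right D hD _ r hr

include hD in
theorem tchar_neg (z : ℕ → F) (r : ℕ) (hr : r < D.nroots) :
    tchar D z (D.neg r) = (tchar D z r)⁻¹ := by
  unfold tchar
  rw [Unimod.list_range_prod, Unimod.list_range_prod, ← Finset.prod_inv_distrib]
  apply Finset.prod_congr rfl
  intro i hi
  rw [cartan_neg D hD i (Finset.mem_range.mp hi) r hr, zpow_neg]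

include hD in
/-- `dAut c` is inner iff the `c_j` are the values of a character of the torus `H` -/
theorem dAut_inner_iff (hNU : NU D F) (c : Fin D.rank → Fˣ) :
    dAut D hD T hT c ∈ Cfsg.Inn ↥(D.group F) ↔
      ∃ z : ℕ → F, (∀ i, z i ≠ 0) ∧ ∀ j : Fin D.rank, (c j : F) = tchar D z (D.simple j) := by
  have hs := simpleOK_of_mem D hD
  have htri := triOK_of_mem D hD
  rw [Cfsg.Agent.Helper96.OutCount.mem_inn_iff]
  constructor
  · rintro ⟨x, hx⟩
    have hU : ∀ u ∈ D.posUnipotent F, (x : GL D.Idx F) * u * (x : GL D.Idx F)⁻¹ ∈ D.posUnipotent F := by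
      intro u hu
      have huG : u ∈ D.group F := (Cfsg.Agent.S1043.result (F := F) D hD).1 (le_sup_left (a := D.posUnipotent F) hu)
      have := presU_dAut D hD T hT c ⟨u, huG⟩ hu
      rw [hx] at this
      exact this
    have hV : ∀ u ∈ D.negUnipotent F, (x : GL D.Idx F) * u * (x : GL D.Idx F)⁻¹ ∈ D.negUnipotent F := by
      intro u hu
      have huG : u ∈ D.group F := by
        have hle : D.negUnipotent F ≤ D.group F := by
          unfold ChevalleyDatum.negUnipotent
          rw [Subgroup.closure_le]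
          rintro g ⟨r, t, -, hg⟩
          have : g = xGL D F r t := Units.ext (by rw [hg, xGL_val D _ htri])
          rw [this]
          exact xGL_mem_group' D hD r t
        exact hle hu
      have := presV_dAut D hD T hT c ⟨u, huG⟩ hu
      rw [hx] at this
      exact this
    have hxH := mem_diag_of_normalizes D hD hNU x x.2 hU hV
    obtain ⟨z, hz, -, hact⟩ := diag_acts D hD (x : GL D.Idx F) hxH
    refine ⟨z, hz, fun j => ?_⟩
    have hj := simple_lt D hs j j.2
    have h1 := dAut_xg D hD T hT c (D.simple j) hj 1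
    rw [hx, chr_simple D T hT c j, mul_one] at h1
    have h2 : (x : GL D.Idx F) * xGL D F (D.simple j) 1 * (x : GL D.Idx F)⁻¹
        = xGL D F (D.simple j) (tchar D z (D.simple j) * 1) := by
      rw [hact _ hj, mul_inv_cancel_right]
    have h3 : xGL D F (D.simple j) (tchar D z (D.simple j) * 1) = xGL D F (D.simple j) (c j : F) := by
      rw [← h2]
      exact congrArg Subtype.val h1
    have h4 := congrArg (fun g : GL D.Idx F => (g : Matrix D.Idx D.Idx F)) h3
    simp only [xGL_val D _ htri] at h4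
    rw [mul_one] at h4
    exact (Cfsg.Agent.Helper18.x_injective D hD _ hj _ _ h4).symm
  · rintro ⟨z, hz, hc⟩
    have hmem : hEl D z ∈ D.group F :=
      (Cfsg.Agent.S1043.result (F := F) D hD).1
        (le_sup_right (a := D.posUnipotent F) (hEl_mem D hD z (fun i _ => hz i)))
    refine ⟨⟨hEl D z, hmem⟩, ?_⟩
    have key : dAut D hD T hT c = MulAut.conj (⟨hEl D z, hmem⟩ : ↥(D.group F)) := by
      apply ext_simple D hD
      intro i hi t γ hγ
      have hi' := simple_lt D hs i hi
      have hn := (triOK_spec D _ htri _ hi').1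
      rw [MulAut.conj_apply]
      apply Subtype.ext
      rcases hγ with hγ | hγ
      · rw [eq_xg D hD γ _ t hγ, dAut_xg D hD T hT _ _ hi', chr_simple D T hT c ⟨i, hi⟩, hc ⟨i, hi⟩]
        show xGL D F (D.simple i) _ = hEl D z * xGL D F (D.simple i) t * (hEl D z)⁻¹
        rw [hEl_acts D hD z (fun i _ => hz i) _ hi', mul_inv_cancel_right]
      · rw [eq_xg D hD γ _ t hγ, dAut_xg D hD T hT _ _ hn, (isRootCharacter_chr D T hT _).1 _ hi',
          chr_simple D T hT c ⟨i, hi⟩, Units.val_inv_eq_inv_val, hc ⟨i, hi⟩]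
        show xGL D F (D.neg (D.simple i)) _ = hEl D z * xGL D F (D.neg (D.simple i)) t * (hEl D z)⁻¹
        rw [hEl_acts D hD z (fun i _ => hz i) _ hn, mul_inv_cancel_right, tchar_neg D hD z _ hi']
    intro y
    rw [key]
    rfl

end Cfsg.Agent.Helper36.OutDiag
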