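import Cfsg.Agent.Helper36.OutGraphTwo
import Cfsg.Agent.Helper36.ChevGraphD4E6
import Cfsg.Agent.Helper18.Aut.GraphEx
import Cfsg.Agent.S1081

/-!
Helper36: the graph automorphism of order two of the Chevalley groups of type `E₆` and the order of the group of
outer automorphisms.
-/

set_option autoImplicit false
set_option maxRecDepth 100000

namespace Cfsg.Agent.Helper36.OutDiag

open Cfsg Cfsg.Lie Cfsg.Agent.Helper18 Cfsg.Agent.Helper96.OutChev Cfsg.Agent.Helper36.ChevAut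
  Cfsg.Agent.Helper36.OutCore Cfsg.Agent.Helper36 Cfsg.Agent.Helper18.Aut

section
variable {F : Type*} [Field F] (D : ChevalleyDatum)
  (hD : D ∈ [chevG2, chevB2, chevD4, chevF4, chevE6, chevE7, chevE8])

/-- `γ` acts on the fundamental root elements and their negatives as the permutation `π` of the nodes -/
def ActsAs (π : Equiv.Perm (Fin D.rank)) (γ : MulAut ↥(D.group F)) : Prop :=
  ∀ (i : Fin D.rank) (t : F), γ (xg D hD (D.simple i) t) = xg D hD (D.simple (π i)) t ∧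
    γ (xg D hD (D.neg (D.simple i)) t) = xg D hD (D.neg (D.simple (π i))) t

theorem actsAs_comm_field (π : Equiv.Perm (Fin D.rank)) (γ : MulAut ↥(D.group F)) (hγ : ActsAs D hD π γ)
    (σ : F ≃+* F) : Commute γ (fieldHom D hD σ) := by
  show γ * fieldHom D hD σ = fieldHom D hD σ * γ
  apply ext_simple D hD
  intro i hi t z hz
  rcases hz with hz | hz
  · rw [eq_xg D hD z _ t hz]
    show γ (fieldHom D hD σ (xg D hD (D.simple i) t)) = fieldHom D hD σ (γ (xg D hD (D.simple i) t))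
    rw [fieldHom_xg, (hγ ⟨i, hi⟩ _).1, (hγ ⟨i, hi⟩ _).1, fieldHom_xg]
  · rw [eq_xg D hD z _ t hz]
    show γ (fieldHom D hD σ (xg D hD (D.neg (D.simple i)) t))
      = fieldHom D hD σ (γ (xg D hD (D.neg (D.simple i)) t))
    rw [fieldHom_xg, (hγ ⟨i, hi⟩ _).2, (hγ ⟨i, hi⟩ _).2, fieldHom_xg]

theorem actsAs_sq (π : Equiv.Perm (Fin D.rank)) (γ : MulAut ↥(D.group F)) (hγ : ActsAs D hD π γ)
    (hπ : ∀ i, π (π i) = i) : γ * γ = 1 := by
  apply ext_simple D hD
  intro i hi t z hz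
  rcases hz with hz | hz
  · rw [eq_xg D hD z _ t hz]
    show γ (γ (xg D hD (D.simple i) t)) = xg D hD (D.simple i) t
    rw [(hγ ⟨i, hi⟩ _).1, (hγ _ _).1, hπ]
  · rw [eq_xg D hD z _ t hz]
    show γ (γ (xg D hD (D.neg (D.simple i)) t)) = xg D hD (D.neg (D.simple i)) t
    rw [(hγ ⟨i, hi⟩ _).2, (hγ _ _).2, hπ]

theorem actsAs_graphAutFor (hnl : ∀ j < D.rank, D.isLong (D.simple j) = false)
    (π : Equiv.Perm (Fin D.rank)) (γ : MulAut ↥(D.group F)) (hγ : ActsAs D hD π γ) :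
    GraphAutFor D π γ := by
  intro g i t
  rw [graphExp_of_notLong D hnl _ _ _ (π i).2, pow_one]
  constructor
  · intro hg
    rw [eq_xg D hD g _ t hg, (hγ i t).1, xg_val]
  · intro hg
    rw [eq_xg D hD g _ t hg, (hγ i t).2, xg_val]

end

/-- the non-trivial symmetry of the diagram of `E₆` -/
def flipE6 : Equiv.Perm (Fin chevE6.rank) := Equiv.swap e60 e65 * Equiv.swap e62 e64

theorem flipE6_sym : chevE6.IsDiagramSymmetry flipE6 := by
  unfold ChevalleyDatum.IsDiagramSymmetry flipE6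
  decide +kernel

theorem flipE6_sq : ∀ i, flipE6 (flipE6 i) = i := by
  unfold flipE6
  decide +kernel

theorem flipE6_rho : ∀ i : Fin chevE6.rank, Cfsg.Agent.S1081.rho0 i = (flipE6 i).val := by
  unfold flipE6
  decide +kernel

theorem flipE6_pos : ∀ r < chevE6.nroots,
    (chevE6.IsPosRoot r → chevE6.IsPosRoot (chevE6.permRoot flipE6 r)) ∧
    (chevE6.IsNegRoot r → chevE6.IsNegRoot (chevE6.permRoot flipE6 r)) := by
  unfold flipE6
  decide +kernel

theorem flipE6_move : chevE6.IsPosRoot (chevE6.simple 0) ∧ chevE6.simple 5 < chevE6.nroots ∧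
    chevE6.simple 0 ≠ chevE6.simple 5 ∧ ((flipE6 ⟨0, by decide⟩ : Fin chevE6.rank) : ℕ) = 5 := by
  unfold flipE6
  decide +kernel

section
variable {F : Type*} [Field F]

/-- the graph automorphism of `E₆` -/
theorem exists_graphE6 : ∃ γ : MulAut ↥(chevE6.group F), ActsAs chevE6 hE6 flipE6 γ := by
  obtain ⟨α, hα⟩ := Cfsg.Agent.Helper40.GraphAut.exists_graph_aut (F := F) chevE6 _ _ _ _ _
    Cfsg.Agent.S1081.allOK0
  refine ⟨α, fun i t => ⟨?_, ?_⟩⟩
  · apply eq_xg
    rw [(hα _ i t i.2).1 (xg_val chevE6 hE6 _ t), flipE6_rho i]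
  · apply eq_xg
    rw [(hα _ i t i.2).2 (xg_val chevE6 hE6 _ t), flipE6_rho i]

theorem graphE6_roots (γ : MulAut ↥(chevE6.group F)) (hγ : ActsAs chevE6 hE6 flipE6 γ)
    (r : ℕ) (hr : r < chevE6.nroots) (t : F) :
    ∃ t' : F, ((γ (xg chevE6 hE6 r t) : GL chevE6.Idx F) : Matrix chevE6.Idx chevE6.Idx F)
      = chevE6.x F (chevE6.permRoot flipE6 r) t' := by
  obtain ⟨ε, -, h⟩ := graph_signs (F := F) chevE6 (by simp) flipE6 flipE6_sym γ (fun g i t => by
    constructor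
    · intro hg
      rw [eq_xg chevE6 hE6 g _ t hg, (hγ i t).1, xg_val]
    · intro hg
      rw [eq_xg chevE6 hE6 g _ t hg, (hγ i t).2, xg_val]) r hr
  exact ⟨ε * t, h _ t (xg_val chevE6 hE6 r t)⟩

end

end Cfsg.Agent.Helper36.OutDiag
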