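import Cfsg.Agent.Helper36.OutCore
import Cfsg.Agent.Helper18.Aut.ChevInst
import Cfsg.Agent.Helper96.OutChevB

/-!
Helper36: `N_G(U) = B` for the finite Chevalley groups (`NU D F`), from the (B,N)-pair and helper18's lemmas,
and helper96's `NormHyp`.
-/

set_option autoImplicit false

namespace Cfsg.Agent.Helper36.OutCore

open Cfsg Cfsg.Lie Cfsg.Agent.Helper18 Cfsg.Agent.Helper18.Aut Cfsg.Agent.Helper6

variable {F : Type*} [Field F] [Finite F] (D : ChevalleyDatum)
  (hD : D ∈ [chevG2, chevB2, chevD4, chevF4, chevE6, chevE7, chevE8])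

include hD in
/-- `N_G(U) = B` -/
theorem nu_of_mem : NU D F := by
  intro g hg hU
  obtain ⟨P, hB, -, hS⟩ := Cfsg.Agent.S1042.result (F := F) D hD
  have hUG := pos_le_group (F := F) D hD
  set UG : Subgroup ↥(D.group F) := (D.posUnipotent F).subgroupOf (D.group F) with hUG_def
  have hmemB : ∀ b : ↥(D.group F), b ∈ P.B ↔ (b : GL D.Idx F) ∈ D.borelSubgroup F := by
    intro b; rw [hB, Subgroup.mem_subgroupOf]
  -- the normaliser of `U` as a subgroup
  let M : Subgroup ↥(D.group F) :=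
    { carrier := {a | cjg a UG = UG}
      one_mem' := cjg_one UG
      mul_mem' := by
        intro a b ha hb
        show cjg (a * b) UG = UG
        rw [cjg_mul, (hb : cjg b UG = UG), (ha : cjg a UG = UG)]
      inv_mem' := by
        intro a ha
        show cjg a⁻¹ UG = UG
        have ha' : cjg a UG = UG := ha
        conv_lhs => rw [← ha']
        exact cjg_inv_cjg a UG }
  have hM : P.B ≤ M := by
    intro b hb
    show cjg b UG = UG
    rw [cjg_subgroupOf, cjg_borel_pos D hD _ ((hmemB b).mp hb)]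
  have hMp := overgroup_eq_parabolic M hM
  have hJ : {t | t ∈ P.S ∧ t ∈ M} = (∅ : Set ↥(D.group F)) := by
    ext t
    simp only [Set.mem_setOf_eq, Set.mem_empty_iff_false, iff_false, not_and]
    intro ht htM
    rw [hS] at ht
    obtain ⟨i, hi, hn⟩ := ht
    have ht' : (t : GL D.Idx F) = wordGL D F (D.nWord (D.simple i) (1 : F)) :=
      Units.ext (by rw [hn, nWordGL_val D hD])
    have h1 : cjg t UG = UG := htM
    rw [cjg_subgroupOf] at h1
    have h2 := eq_of_subgroupOf_eq (cjg_le_of_mem t.2 hUG) hUG h1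
    rw [ht'] at h2
    exact cjg_n_pos_ne D hD i hi h2
  rw [hJ, parabolic_empty] at hMp
  have hgM : (⟨g, hg⟩ : ↥(D.group F)) ∈ M := by
    show cjg (⟨g, hg⟩ : ↥(D.group F)) UG = UG
    apply Subgroup.eq_of_le_of_card_ge
    · intro x hx
      rw [mem_cjg] at hx
      rw [hUG_def, Subgroup.mem_subgroupOf] at hx ⊢
      have := hU _ hx
      have e : g * ((⟨g, hg⟩ : ↥(D.group F))⁻¹ * x * ⟨g, hg⟩ : ↥(D.group F)) * g⁻¹ = (x : GL D.Idx F) := by
        show g * (g⁻¹ * (x : GL D.Idx F) * g) * g⁻¹ = x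
        group
      rw [e] at this
      exact this
    · rw [card_cjg]
  rw [hMp] at hgM
  exact (hmemB _).mp hgM

include hD in
/-- helper96's normaliser hypotheses -/
theorem normHyp_of_mem : Cfsg.Agent.Helper96.OutChev.NormHyp F D := by
  refine ⟨nu_of_mem D hD, fun g hg hV => ?_⟩
  -- conjugate by the longest element
  obtain ⟨n, hn, hUV⟩ := exists_longest_of_mem (F := F) D hD (nConjHyp D hD)
  have hnG : n ∈ D.group F := (Cfsg.Agent.S1043.result (F := F) D hD).2.1 hn
  have h1 : ∀ u ∈ D.posUnipotent F, n * u * n⁻¹ ∈ D.negUnipotent F := by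
    intro u hu
    rw [← hUV]
    exact ⟨u, hu, rfl⟩
  have h2 : ∀ v ∈ D.negUnipotent F, n⁻¹ * v * n ∈ D.posUnipotent F := by
    intro v hv
    rw [← hUV] at hv
    obtain ⟨u, hu, rfl⟩ := hv
    have : n⁻¹ * (MulAut.conj n).toMonoidHom u * n = u := by
      show n⁻¹ * (n * u * n⁻¹) * n = u
      group
    rw [this]
    exact hu
  have hyB : n⁻¹ * g * n ∈ D.borelSubgroup F := by
    apply nu_of_mem D hD _ (mul_mem (mul_mem (inv_mem hnG) hg) hnG)
    intro u hu
    have := h2 _ (hV _ (h1 u hu))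
    have e : n⁻¹ * g * n * u * (n⁻¹ * g * n)⁻¹ = n⁻¹ * (g * (n * u * n⁻¹) * g⁻¹) * n := by group
    rw [e]
    exact this
  have hmap : (D.borelSubgroup F).map (MulAut.conj n).toMonoidHom ≤ D.negUnipotent F ⊔ D.diagonalSubgroup F := by
    conv_lhs => unfold ChevalleyDatum.borelSubgroup
    rw [Subgroup.map_sup, hUV]
    apply sup_le_sup le_rfl
    have hnorm := monomialSubgroup_le_normalizer D hD hn
    exact le_of_eq (Subgroup.mem_normalizer_iff_map_conj_eq.mp hnorm)
  apply hmap
  refine ⟨n⁻¹ * g * n, hyB, ?_⟩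
  show n * (n⁻¹ * g * n) * n⁻¹ = g
  group

end Cfsg.Agent.Helper36.OutCore
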