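import Cfsg.Agent.Helper36.OutCountMain
import Cfsg.Agent.Helper36.OutNU
import Cfsg.Agent.S2156
import Cfsg.Agent.Helper37.OutPslA

/-!
Helper36: `|Out(G)| = gcd(n, q - 1) · f` for a Chevalley group without graph automorphisms and with cyclic
cokernel of order `n` of the Cartan matrix (used for `E₇`, `n = 2`).
-/

set_option autoImplicit false

namespace Cfsg.Agent.Helper36.OutDiag

open Cfsg Cfsg.Lie Cfsg.Agent.Helper18 Cfsg.Agent.Helper96.OutChev Cfsg.Agent.Helper36.ChevAut
  Cfsg.Agent.Helper36.OutCore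

section
variable {F : Type*} [Field F] (D : ChevalleyDatum)
  (hD : D ∈ [chevG2, chevB2, chevD4, chevF4, chevE6, chevE7, chevE8])
  (T : List (List ℤ)) (hT : rootCoordOK D T = true)

include hD in
theorem nroots_pos : 0 < D.nroots := by
  simp only [List.mem_cons, List.not_mem_nil, or_false] at hD
  rcases hD with rfl | rfl | rfl | rfl | rfl | rfl | rfl <;> decide

/-- a product of a diagonal and a field automorphism is inner only if the field automorphism is trivial -/
theorem sigma_eq_one_of_inner (hN : NormHyp F D) (c : Fin D.rank → Fˣ) (σ : F ≃+* F)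
    (h : diagHom D hD T hT c * fieldHom D hD σ ∈ Cfsg.Inn ↥(D.group F)) : σ = 1 := by
  obtain ⟨x, hx⟩ := (Cfsg.Agent.Helper96.OutCount.mem_inn_iff _).mp h
  have hU : PresU D (diagHom D hD T hT c * fieldHom D hD σ) :=
    presU_mul D _ _ (presU_dAut D hD T hT c) (presU_fieldHom D hD σ)
  have hV : PresV D (diagHom D hD T hT c * fieldHom D hD σ) :=
    presV_mul D _ _ (presV_dAut D hD T hT c) (presV_fieldHom D hD σ)
  obtain ⟨χ, hχ⟩ := scales_of_inner D hD hN _ x hx hU hV
  have h0 := nroots_pos D hD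
  have key : ∀ t : F, (chr D T c 0 : F) * σ t = χ 0 * t := by
    intro t
    have h1 := hχ 0 h0 t
    have h2 : (diagHom D hD T hT c * fieldHom D hD σ) (xg D hD 0 t)
        = xg D hD 0 ((chr D T c 0 : F) * σ t) := by
      show dAut D hD T hT c (fieldHom D hD σ (xg D hD 0 t)) = _
      rw [fieldHom_xg, dAut_xg D hD T hT c 0 h0]
    rw [h2] at h1
    have h3 := congrArg (fun z : ↥(D.group F) => ((z : GL D.Idx F) : Matrix D.Idx D.Idx F)) h1
    simp only [xg_val] at h3
    exact Cfsg.Agent.Helper96.OutChev.x_injective D hD 0 h0 _ _ h3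
  have h1 : χ 0 = (chr D T c 0 : F) := by
    have := key 1
    rw [map_one, mul_one, mul_one] at this
    exact this.symm
  ext t
  have := key t
  rw [h1] at this
  exact mul_left_cancel₀ (chr D T c 0).ne_zero this

end

section
variable {F : Type*} [Field F] [Finite F] (D : ChevalleyDatum)
  (hD : D ∈ [chevG2, chevB2, chevD4, chevF4, chevE6, chevE7, chevE8])
  (T : List (List ℤ)) (hT : rootCoordOK D T = true)

include hD in
/-- without graph automorphisms every automorphism is inner · diagonal · field -/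
theorem decomp_nograph (hperm : ∀ π : Equiv.Perm (Fin D.rank), D.IsDiagramSymmetry π → π = 1)
    (θ : MulAut ↥(D.group F)) :
    ∃ (ι : MulAut ↥(D.group F)) (c : Fin D.rank → Fˣ) (σ : F ≃+* F),
      ι ∈ Cfsg.Inn ↥(D.group F) ∧ θ = ι * diagHom D hD T hT c * fieldHom D hD σ := by
  obtain ⟨x, d, g, f, hd, ⟨π, hπ, hg⟩, ⟨σ, hf⟩, hθ⟩ := Cfsg.Agent.S2156.result D hD θ
  have hπ1 := hperm π hπ
  subst hπ1
  have hg1 : g = MulEquiv.refl _ := graphAutFor_one D hD g hg
  obtain ⟨c, hc⟩ := isDiagonalAut_eq D hD T hT d hd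
  have hfσ : f = fieldHom D hD σ := isFieldAut_eq D hD f σ hf
  refine ⟨MulAut.conj x, c, σ, ⟨x, rfl⟩, ?_⟩
  ext y
  have := hθ y
  rw [hg1, hc, hfσ] at this
  rw [this]
  rfl

include hD in
/-- `|Out G| = gcd(|Fˣ|, n) · |Aut F|` -/
theorem card_out_nograph (hperm : ∀ π : Equiv.Perm (Fin D.rank), D.IsDiagramSymmetry π → π = 1)
    (n : ℕ) (m a e g : ℕ → ℤ) (b : ℕ → ℕ → ℤ) (L : LatCert D n m a e g b) :
    Nat.card (Cfsg.Out ↥(D.group F)) = (Nat.card Fˣ).gcd n * Nat.card (F ≃+* F) := by
  have hN := normHyp_of_mem (F := F) D hD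
  obtain ⟨T, hT⟩ := exists_rootCoord D hD
  rw [card_out_split D hD T hT (fieldHom D hD) (decomp_nograph D hD T hT hperm)
    (fun c σ h => sigma_eq_one_of_inner D hD T hT hN c σ h),
    card_diagOut D hD T hT (nu_of_mem D hD) n m a e g b L]

end

end Cfsg.Agent.Helper36.OutDiag
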