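import Cfsg.Agent.Helper36.OutE7
import Cfsg.Agent.Helper36.RootSep

/-!
Helper36: `|Out(G)| = gcd(n, q - 1) · 2 · f` for a Chevalley group with exactly one non-trivial symmetry of the
diagram, realised by an involutory graph automorphism `γ` commuting with the field automorphisms, and with
cyclic cokernel of order `n` of the Cartan matrix (used for `E₆`, `n = 3`).
-/

set_option autoImplicit false

namespace Cfsg.Agent.Helper36.OutDiag

open Cfsg Cfsg.Lie Cfsg.Agent.Helper18 Cfsg.Agent.Helper96.OutChev Cfsg.Agent.Helper36.ChevAut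
  Cfsg.Agent.Helper36.OutCore

section
variable {F : Type*} [Field F] (D : ChevalleyDatum)
  (hD : D ∈ [chevG2, chevB2, chevD4, chevF4, chevE6, chevE7, chevE8])
  (T : List (List ℤ)) (hT : rootCoordOK D T = true)

/-- the graph and field automorphisms together -/
noncomputable def gfHom (γ : MulAut ↥(D.group F)) (hcomm : ∀ σ : F ≃+* F, Commute γ (fieldHom D hD σ)) :
    ↥(Subgroup.zpowers γ) × (F ≃+* F) →* MulAut ↥(D.group F) :=
  MonoidHom.noncommCoprod (Subgroup.zpowers γ).subtype (fieldHom D hD) (by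
    rintro ⟨m, hm⟩ σ
    obtain ⟨j, rfl⟩ := Subgroup.mem_zpowers_iff.mp hm
    exact (hcomm σ).zpow_left j)

theorem gfHom_apply (γ : MulAut ↥(D.group F)) (hcomm : ∀ σ : F ≃+* F, Commute γ (fieldHom D hD σ))
    (m : ↥(Subgroup.zpowers γ)) (σ : F ≃+* F) :
    gfHom D hD γ hcomm (m, σ) = (m : MulAut ↥(D.group F)) * fieldHom D hD σ := by
  unfold gfHom
  rw [MonoidHom.noncommCoprod_apply]
  rfl

/-- an element of the group generated by an involution is `1` or the involution -/
theorem zpowers_involution {G : Type*} [Group G] (γ : G) (hsq : γ * γ = 1) (m : G)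
    (hm : m ∈ Subgroup.zpowers γ) : m = 1 ∨ m = γ := by
  obtain ⟨j, rfl⟩ := Subgroup.mem_zpowers_iff.mp hm
  have h2 : γ ^ (2 : ℤ) = 1 := by
    rw [zpow_two]
    exact hsq
  have hj : γ ^ j = γ ^ (j % 2) := by
    conv_lhs => rw [← Int.mul_ediv_add_emod j 2, zpow_add, zpow_mul, h2, one_zpow, one_mul]
  rcases Int.emod_two_eq_zero_or_one j with h | h
  · left
    rw [hj, h, zpow_zero]
  · right
    rw [hj, h, zpow_one]

/-- a product of a diagonal, the graph and a field automorphism is not inner -/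
theorem graph_not_inner (hN : NormHyp F D) (γ : MulAut ↥(D.group F))
    (hU : PresU D γ) (hV : PresV D γ)
    (r s : ℕ) (hr : D.IsPosRoot r) (hs : s < D.nroots) (hrs : r ≠ s)
    (hmove : ∀ t : F, γ (xg D hD r t) = xg D hD s t)
    (c : Fin D.rank → Fˣ) (σ : F ≃+* F)
    (h : diagHom D hD T hT c * (γ * fieldHom D hD σ) ∈ Cfsg.Inn ↥(D.group F)) : False := by
  obtain ⟨x, hx⟩ := (Cfsg.Agent.Helper96.OutCount.mem_inn_iff _).mp h
  have hU' : PresU D (diagHom D hD T hT c * (γ * fieldHom D hD σ)) :=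
    presU_mul D _ _ (presU_dAut D hD T hT c) (presU_mul D _ _ hU (presU_fieldHom D hD σ))
  have hV' : PresV D (diagHom D hD T hT c * (γ * fieldHom D hD σ)) :=
    presV_mul D _ _ (presV_dAut D hD T hT c) (presV_mul D _ _ hV (presV_fieldHom D hD σ))
  obtain ⟨χ, hχ⟩ := scales_of_inner D hD hN _ x hx hU' hV'
  have h1 := hχ r hr.1 1
  have h2 : (diagHom D hD T hT c * (γ * fieldHom D hD σ)) (xg D hD r 1)
      = xg D hD s ((chr D T c s : F) * 1) := by
    show dAut D hD T hT c (γ (fieldHom D hD σ (xg D hD r 1))) = _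
    rw [fieldHom_xg, map_one, hmove, dAut_xg D hD T hT c s hs]
  rw [h2] at h1
  have h3 := congrArg (fun z : ↥(D.group F) => ((z : GL D.Idx F) : Matrix D.Idx D.Idx F)) h1
  simp only [xg_val] at h3
  have h4 := Cfsg.Agent.Helper36.RootSep.eq_zero_of_x_eq (F := F) D hD s r hs hr (Ne.symm hrs) _ _ h3
  rw [mul_one] at h4
  exact (chr D T c s).ne_zero h4

end

section
variable {F : Type*} [Field F] [Finite F] (D : ChevalleyDatum)
  (hD : D ∈ [chevG2, chevB2, chevD4, chevF4, chevE6, chevE7, chevE8])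
  (T : List (List ℤ)) (hT : rootCoordOK D T = true)

include hD in
/-- `|Out G| = gcd(|Fˣ|, n) · (2 · |Aut F|)` -/
theorem card_out_graphTwo (π₀ : Equiv.Perm (Fin D.rank)) (γ : MulAut ↥(D.group F))
    (hγ : GraphAutFor D π₀ γ)
    (hsym : ∀ π : Equiv.Perm (Fin D.rank), D.IsDiagramSymmetry π → π = 1 ∨ π = π₀)
    (hsq : γ * γ = 1)
    (hU : PresU D γ) (hV : PresV D γ)
    (hcomm : ∀ σ : F ≃+* F, Commute γ (fieldHom D hD σ))
    (r s : ℕ) (hr : D.IsPosRoot r) (hs : s < D.nroots) (hrs : r ≠ s)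
    (hmove : ∀ t : F, γ (xg D hD r t) = xg D hD s t)
    (n : ℕ) (m a e g : ℕ → ℤ) (b : ℕ → ℕ → ℤ) (L : LatCert D n m a e g b) :
    Nat.card (Cfsg.Out ↥(D.group F)) = (Nat.card Fˣ).gcd n * (2 * Nat.card (F ≃+* F)) := by
  have hN := normHyp_of_mem (F := F) D hD
  obtain ⟨T, hT⟩ := exists_rootCoord D hD
  have hγ1 : γ ≠ 1 := by
    intro h1
    have h2 := hmove 1
    rw [h1] at h2
    have h3 := congrArg (fun z : ↥(D.group F) => ((z : GL D.Idx F) : Matrix D.Idx D.Idx F)) h2
    simp only [MulAut.one_apply, xg_val] at h3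
    have h4 := Cfsg.Agent.Helper36.RootSep.eq_zero_of_x_eq (F := F) D hD s r hs hr (Ne.symm hrs) _ _ h3.symm
    exact one_ne_zero h4
  have hord : orderOf γ = 2 := by
    haveI : Fact (Nat.Prime 2) := ⟨Nat.prime_two⟩
    apply orderOf_eq_prime
    · rw [pow_two]; exact hsq
    · exact hγ1
  have hcardK : Nat.card (↥(Subgroup.zpowers γ) × (F ≃+* F)) = 2 * Nat.card (F ≃+* F) := by
    rw [Nat.card_prod, Nat.card_zpowers, hord]
  rw [← hcardK, ← card_diagOut D hD T hT (nu_of_mem D hD) n m a e g b L]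
  refine card_out_split D hD T hT (gfHom D hD γ hcomm) ?_ ?_
  · -- every automorphism decomposes
    intro θ
    obtain ⟨x, d, g', f, hd, ⟨π, hπ, hg⟩, ⟨σ, hf⟩, hθ⟩ := Cfsg.Agent.S2156.result D hD θ
    obtain ⟨c, hc⟩ := isDiagonalAut_eq D hD T hT d hd
    have hfσ : f = fieldHom D hD σ := isFieldAut_eq D hD f σ hf
    rcases hsym π hπ with hπ1 | hπ1
    · subst hπ1
      have hg1 : g' = MulEquiv.refl _ := graphAutFor_one D hD g' hg
      refine ⟨MulAut.conj x, c, (1, σ), ⟨x, rfl⟩, ?_⟩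
      rw [gfHom_apply]
      ext y
      have := hθ y
      rw [hg1, hc, hfσ] at this
      rw [this]
      rfl
    · subst hπ1
      have hg1 : g' = γ := by
        apply ext_simple D hD
        intro i hi t z hz
        apply Subtype.ext
        apply Units.ext
        rcases hz with hz | hz
        · rw [(hg z ⟨i, hi⟩ t).1 hz, (hγ z ⟨i, hi⟩ t).1 hz]
        · rw [(hg z ⟨i, hi⟩ t).2 hz, (hγ z ⟨i, hi⟩ t).2 hz]
      refine ⟨MulAut.conj x, c, (⟨γ, Subgroup.mem_zpowers γ⟩, σ), ⟨x, rfl⟩, ?_⟩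
      rw [gfHom_apply]
      ext y
      have := hθ y
      rw [hg1, hc, hfσ] at this
      rw [this]
      rfl
  · -- the classes are distinct
    rintro c ⟨⟨m, hm⟩, σ⟩ h
    rw [gfHom_apply] at h
    rcases zpowers_involution γ hsq m hm with h1 | h1
    · subst h1
      have hσ : σ = 1 := by
        apply sigma_eq_one_of_inner D hD T hT hN c σ
        have e : ((⟨1, hm⟩ : ↥(Subgroup.zpowers γ)) : MulAut ↥(D.group F)) = 1 := rfl
        rw [e, one_mul] at h
        exact h
      subst hσ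
      rfl
    · subst h1
      exact (graph_not_inner D hD T hT hN m hU hV r s hr hs hrs hmove c σ h).elim

end

end Cfsg.Agent.Helper36.OutDiag
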