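import Cfsg.Agent.Helper36.OutE6

/-!
Helper36: the group of symmetries of the diagram acting by graph automorphisms (simply laced types), and the
order of `Out(G)` when every symmetry is realised: `|Out G| = |D̄| · |Sym| · |Aut F|`.
-/

set_option autoImplicit false

namespace Cfsg.Agent.Helper36.OutDiag

open Cfsg Cfsg.Lie Cfsg.Agent.Helper18 Cfsg.Agent.Helper96.OutChev Cfsg.Agent.Helper36.ChevAut
  Cfsg.Agent.Helper36.OutCore Cfsg.Agent.Helper36 Cfsg.Agent.Helper18.Aut

/-- the group of symmetries of the diagram -/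
def symGroup (D : ChevalleyDatum) : Subgroup (Equiv.Perm (Fin D.rank)) where
  carrier := {π | D.IsDiagramSymmetry π}
  mul_mem' := by
    intro a b ha hb i j hij
    show D.bonds (a (b i)) (a (b j)) = D.bonds i j
    rw [ha (b i) (b j) (fun h => hij (b.injective h)), hb i j hij]
  one_mem' := by
    intro i j _
    rfl
  inv_mem' := by
    intro a ha i j hij
    have h := ha (a⁻¹ i) (a⁻¹ j) (fun h => hij (a⁻¹.injective h))
    rw [show a (a⁻¹ i) = i from a.apply_symm_apply i, show a (a⁻¹ j) = j from a.apply_symm_apply j] at h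
    exact h.symm

theorem mem_symGroup (D : ChevalleyDatum) (π : Equiv.Perm (Fin D.rank)) :
    π ∈ symGroup D ↔ D.IsDiagramSymmetry π := Iff.rfl

section
variable {F : Type*} [Field F] (D : ChevalleyDatum)
  (hD : D ∈ [chevG2, chevB2, chevD4, chevF4, chevE6, chevE7, chevE8])

theorem actsAs_unique (π : Equiv.Perm (Fin D.rank)) (γ γ' : MulAut ↥(D.group F))
    (h : ActsAs D hD π γ) (h' : ActsAs D hD π γ') : γ = γ' := by
  apply ext_simple D hD
  intro i hi t z hz
  rcases hz with hz | hz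
  · rw [eq_xg D hD z _ t hz, (h ⟨i, hi⟩ t).1, (h' ⟨i, hi⟩ t).1]
  · rw [eq_xg D hD z _ t hz, (h ⟨i, hi⟩ t).2, (h' ⟨i, hi⟩ t).2]

theorem actsAs_one : ActsAs (F := F) D hD 1 1 := fun _ _ => ⟨rfl, rfl⟩

theorem actsAs_mul (π π' : Equiv.Perm (Fin D.rank)) (γ γ' : MulAut ↥(D.group F))
    (h : ActsAs D hD π γ) (h' : ActsAs D hD π' γ') : ActsAs D hD (π * π') (γ * γ') := by
  intro i t
  constructor
  · show γ (γ' (xg D hD (D.simple i) t)) = _
    rw [(h' i t).1, (h (π' i) t).1]
    rfl
  · show γ (γ' (xg D hD (D.neg (D.simple i)) t)) = _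
    rw [(h' i t).2, (h (π' i) t).2]
    rfl

/-- the graph automorphisms, as a homomorphism from the group of symmetries -/
noncomputable def graphHom (hex : ∀ π ∈ symGroup D, ∃ γ : MulAut ↥(D.group F), ActsAs D hD π γ) :
    ↥(symGroup D) →* MulAut ↥(D.group F) where
  toFun π := Classical.choose (hex π.1 π.2)
  map_one' := actsAs_unique D hD 1 _ _ (Classical.choose_spec (hex _ (symGroup D).one_mem)) (actsAs_one D hD)
  map_mul' a b := actsAs_unique D hD (a.1 * b.1) _ _ (Classical.choose_spec (hex _ (a * b).2))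
    (actsAs_mul D hD _ _ _ _ (Classical.choose_spec (hex a.1 a.2)) (Classical.choose_spec (hex b.1 b.2)))

theorem actsAs_graphHom (hex : ∀ π ∈ symGroup D, ∃ γ : MulAut ↥(D.group F), ActsAs D hD π γ)
    (π : ↥(symGroup D)) : ActsAs D hD π.1 (graphHom D hD hex π) :=
  Classical.choose_spec (hex π.1 π.2)

/-- graph and field automorphisms together -/
noncomputable def symFieldHom (hex : ∀ π ∈ symGroup D, ∃ γ : MulAut ↥(D.group F), ActsAs D hD π γ) :
    ↥(symGroup D) × (F ≃+* F) →* MulAut ↥(D.group F) :=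
  MonoidHom.noncommCoprod (graphHom D hD hex) (fieldHom D hD)
    (fun π σ => actsAs_comm_field D hD π.1 _ (actsAs_graphHom D hD hex π) σ)

theorem symFieldHom_apply (hex : ∀ π ∈ symGroup D, ∃ γ : MulAut ↥(D.group F), ActsAs D hD π γ)
    (π : ↥(symGroup D)) (σ : F ≃+* F) :
    symFieldHom D hD hex (π, σ) = graphHom D hD hex π * fieldHom D hD σ := by
  unfold symFieldHom
  rw [MonoidHom.noncommCoprod_apply]

variable (T : List (List ℤ)) (hT : rootCoordOK D T = true)

/-- a product of a diagonal, a graph and a field automorphism that is inner has trivial graph part -/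
theorem graph_fixes_of_inner (hN : NormHyp F D) (π : Equiv.Perm (Fin D.rank)) (γ : MulAut ↥(D.group F))
    (hγ : ActsAs D hD π γ) (hU : PresU D γ) (hV : PresV D γ)
    (c : Fin D.rank → Fˣ) (σ : F ≃+* F)
    (h : diagHom D hD T hT c * (γ * fieldHom D hD σ) ∈ Cfsg.Inn ↥(D.group F)) (i : Fin D.rank) :
    D.simple (π i) = D.simple i := by
  by_contra hne
  obtain ⟨x, hx⟩ := (Cfsg.Agent.Helper96.OutCount.mem_inn_iff _).mp h
  have hU' : PresU D (diagHom D hD T hT c * (γ * fieldHom D hD σ)) :=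
    presU_mul D _ _ (presU_dAut D hD T hT c) (presU_mul D _ _ hU (presU_fieldHom D hD σ))
  have hV' : PresV D (diagHom D hD T hT c * (γ * fieldHom D hD σ)) :=
    presV_mul D _ _ (presV_dAut D hD T hT c) (presV_mul D _ _ hV (presV_fieldHom D hD σ))
  obtain ⟨χ, hχ⟩ := scales_of_inner D hD hN _ x hx hU' hV'
  have hsim := simpleOK_of_mem D hD
  have hr : D.simple i < D.nroots := simple_lt D hsim i i.2
  have hs : D.simple (π i) < D.nroots := simple_lt D hsim _ (π i).2
  have hpos : D.IsPosRoot (D.simple i) :=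
    (isPosRoot_iff D _ (posOK_of_mem D hD) _).mpr ⟨simple_pos D hD i i.2, hr⟩
  have h1 := hχ _ hr 1
  have h2 : (diagHom D hD T hT c * (γ * fieldHom D hD σ)) (xg D hD (D.simple i) 1)
      = xg D hD (D.simple (π i)) ((chr D T c (D.simple (π i)) : F) * 1) := by
    show dAut D hD T hT c (γ (fieldHom D hD σ (xg D hD (D.simple i) 1))) = _
    rw [fieldHom_xg, map_one, (hγ i 1).1, dAut_xg D hD T hT c _ hs]
  rw [h2] at h1
  have h3 := congrArg (fun z : ↥(D.group F) => ((z : GL D.Idx F) : Matrix D.Idx D.Idx F)) h1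
  simp only [xg_val] at h3
  have h4 := Cfsg.Agent.Helper36.RootSep.eq_zero_of_x_eq (F := F) D hD _ _ hs hpos hne _ _ h3
  rw [mul_one] at h4
  exact (chr D T c _).ne_zero h4

end

section
variable {F : Type*} [Field F] [Finite F] (D : ChevalleyDatum)
  (hD : D ∈ [chevG2, chevB2, chevD4, chevF4, chevE6, chevE7, chevE8])
  (T : List (List ℤ)) (hT : rootCoordOK D T = true)

/-- `|Out G| = |D̄| · (|Sym| · |Aut F|)` when every symmetry of the diagram is realised by a graph automorphism
preserving `U` and `V` (simply laced types) -/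
theorem card_out_sym (hnl : ∀ j < D.rank, D.isLong (D.simple j) = false)
    (hinj : ∀ i j : Fin D.rank, D.simple i = D.simple j → i = j)
    (hex : ∀ π ∈ symGroup D, ∃ γ : MulAut ↥(D.group F), ActsAs D hD π γ)
    (hpres : ∀ π ∈ symGroup D, ∀ γ : MulAut ↥(D.group F), ActsAs D hD π γ → PresU D γ ∧ PresV D γ) :
    Nat.card (Cfsg.Out ↥(D.group F)) = Nat.card (diagOutHom (F := F) D hD T hT).range *
      (Nat.card ↥(symGroup D) * Nat.card (F ≃+* F)) := by
  have hN := normHyp_of_mem (F := F) D hD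
  rw [← Nat.card_prod]
  refine card_out_split D hD T hT (symFieldHom D hD hex) ?_ ?_
  · intro θ
    obtain ⟨x, d, g', f, hd, ⟨π, hπ, hg⟩, ⟨σ, hf⟩, hθ⟩ := Cfsg.Agent.S2156.result D hD θ
    obtain ⟨c, hc⟩ := isDiagonalAut_eq D hD T hT d hd
    have hfσ : f = fieldHom D hD σ := isFieldAut_eq D hD f σ hf
    have hg1 : g' = graphHom D hD hex ⟨π, hπ⟩ := by
      have h2 := actsAs_graphAutFor D hD hnl π _ (actsAs_graphHom D hD hex ⟨π, hπ⟩)
      apply ext_simple D hD
      intro i hi t z hz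
      apply Subtype.ext
      apply Units.ext
      rcases hz with hz | hz
      · rw [(hg z ⟨i, hi⟩ t).1 hz, (h2 z ⟨i, hi⟩ t).1 hz]
      · rw [(hg z ⟨i, hi⟩ t).2 hz, (h2 z ⟨i, hi⟩ t).2 hz]
    refine ⟨MulAut.conj x, c, (⟨π, hπ⟩, σ), ⟨x, rfl⟩, ?_⟩
    rw [symFieldHom_apply]
    ext y
    have := hθ y
    rw [hg1, hc, hfσ] at this
    rw [this]
    rfl
  · rintro c ⟨π, σ⟩ h
    rw [symFieldHom_apply] at h
    have hγ := actsAs_graphHom D hD hex π
    obtain ⟨hU, hV⟩ := hpres π.1 π.2 _ hγ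
    have hπ1 : π = 1 := by
      apply Subtype.ext
      apply Equiv.ext
      intro i
      exact hinj _ _ (graph_fixes_of_inner D hD T hT hN π.1 _ hγ hU hV c σ h i)
    subst hπ1
    rw [map_one, one_mul] at h
    have hσ : σ = 1 := sigma_eq_one_of_inner D hD T hT hN c σ h
    subst hσ
    rfl

end

end Cfsg.Agent.Helper36.OutDiag
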