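import Cfsg.Agent.Helper36.HighRoot
import Cfsg.Agent.Helper36.BNPair
import Cfsg.Agent.Helper18.Levi
import Cfsg.Agent.S0311
import Cfsg.Agent.S1037
import Cfsg.Agent.S1024

/-!
Helper36: `N_G(U_J) = P_J` in a Chevalley group: the normaliser contains `B`, hence is a standard
parabolic subgroup `P_K` of the `(B, N)`-pair; a generator `n_k` with `k ∉ J` would conjugate
`X_{p_k} ≤ U_J` to `X_{-p_k}`, which is not in `U`.
-/

set_option autoImplicit false

namespace Cfsg.Agent.Helper36.ParaNorm

open Cfsg Cfsg.Lie Cfsg.Agent.Helper18 Cfsg.Agent.Helper36.HighRoot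

variable {F : Type*} [Field F] (D : ChevalleyDatum)
  (hD : D ∈ [chevG2, chevB2, chevD4, chevF4, chevE6, chevE7, chevE8])

include hD in
theorem normalizer_unipotentRadical (J : Set ℕ) :
    Subgroup.normalizer (D.unipotentRadical F J : Set (GL D.Idx F)) ⊓ D.group F
      = D.parabolicSubgroup F J := by
  have htri := triOK_of_mem D hD
  have hpos := posOK_of_mem D hD
  have hsim := simpleOK_of_mem D hD
  have h25 : CommHyp D F :=
    fun r s hr hs h1 h2 t u => Cfsg.Agent.S1025.result D hD r s hr hs h1 h2 t u
  obtain ⟨hnorm, -, -⟩ := levi_decomp (F := F) D hD h25 J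
  obtain ⟨hBG, hNG, -⟩ := Cfsg.Agent.S1043.result (F := F) D hD
  have hPG : D.parabolicSubgroup F J ≤ D.group F := by
    unfold ChevalleyDatum.parabolicSubgroup
    apply sup_le hBG
    rw [Subgroup.closure_le]
    rintro g ⟨j, hj, hjr, hg⟩
    apply hNG
    unfold ChevalleyDatum.monomialSubgroup
    apply Subgroup.mem_sup_right
    apply Subgroup.subset_closure
    exact ⟨D.simple j, simple_lt D hsim j hjr, hg⟩
  apply le_antisymm
  · -- the hard inclusion
    obtain ⟨P, hPB, -, hPS⟩ := Cfsg.Agent.Helper36.chev_bnPair (F := F) D hD
    set M : Subgroup ↥(D.group F) :=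
      (Subgroup.normalizer (D.unipotentRadical F J : Set (GL D.Idx F)) ⊓ D.group F).subgroupOf
        (D.group F) with hM
    have hBP : D.borelSubgroup F ≤ D.parabolicSubgroup F J := le_sup_left
    have hBM : P.B ≤ M := by
      rw [hPB]
      intro g hg
      rw [Subgroup.mem_subgroupOf] at hg
      rw [hM, Subgroup.mem_subgroupOf]
      exact ⟨hnorm (hBP hg), g.2⟩
    obtain ⟨K, hKS, hMK⟩ := Cfsg.Agent.S0311.result P M hBM
    have hKJ : ∀ k ∈ K, (k : GL D.Idx F) ∈ D.parabolicSubgroup F J := by
      intro k hk
      have hkS := hKS hk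
      rw [hPS] at hkS
      obtain ⟨i, hi, hki⟩ := hkS
      have hkM : k ∈ M := by
        rw [hMK]
        unfold BNPair.parabolic
        exact Subgroup.mem_sup_right (Subgroup.subset_closure hk)
      rw [hM, Subgroup.mem_subgroupOf] at hkM
      have hkn : (k : GL D.Idx F) ∈
          Subgroup.normalizer (D.unipotentRadical F J : Set (GL D.Idx F)) := hkM.1
      by_cases hiJ : i ∈ J
      · unfold ChevalleyDatum.parabolicSubgroup
        apply Subgroup.mem_sup_right
        apply Subgroup.subset_closure
        exact ⟨i, hiJ, hi, hki⟩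
      · exfalso
        have hslt := simple_lt D hsim i hi
        have hkw : (k : GL D.Idx F) = nWordsGL D F [i] := by
          apply Units.ext
          rw [hki]
          simp only [nWordsGL, List.map_cons, List.map_nil, List.prod_cons, List.prod_nil, mul_one]
          rw [nWordGL_val D hD]
        have hconj : cj (k : GL D.Idx F) (D.rootSubgroup F (D.simple i))
            = D.rootSubgroup F (D.neg (D.simple i)) := by
          rw [hkw]
          have := rootSubgroup_conj_word (F := F) D hD [i] (by simpa using hi) (D.simple i) hslt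
          rw [show rho D [i] (D.simple i) = D.reflectRoot i (D.simple i) from rfl,
            reflectRoot_simple D hD i] at this
          exact this
        have hposi : D.IsPosRoot (D.simple i) :=
          (isPosRoot_iff D _ hpos _).mpr ⟨simple_pos D hD i hi, hslt⟩
        have hnotJ : ¬ D.InRootSub J (D.simple i) := by
          rintro ⟨-, h2⟩
          have h3 := h2 i hi hiJ
          unfold simpleOK at hsim
          rw [List.all_eq_true] at hsim
          have h4 := hsim i (List.mem_range.mpr hi)
          rw [Bool.and_eq_true, List.all_eq_true] at h4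
          have h5 := h4.2 i (List.mem_range.mpr hi)
          rw [decide_eq_true_eq, if_pos rfl] at h5
          rw [h5] at h3
          exact one_ne_zero h3
        have hXU : D.rootSubgroup F (D.simple i) ≤ D.unipotentRadical F J := by
          unfold ChevalleyDatum.rootSubgroup ChevalleyDatum.unipotentRadical
          apply Subgroup.closure_mono
          rintro g ⟨t, hg⟩
          exact ⟨_, t, hposi, hnotJ, hg⟩
        have hUJU : D.unipotentRadical F J ≤ D.posUnipotent F := by
          unfold ChevalleyDatum.unipotentRadical ChevalleyDatum.posUnipotent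
          apply Subgroup.closure_mono
          rintro g ⟨r, t, hr, -, hg⟩
          exact ⟨r, t, hr, hg⟩
        have hcjU : cj (k : GL D.Idx F) (D.unipotentRadical F J) = D.unipotentRadical F J := by
          rw [Subgroup.mem_normalizer_iff_map_conj_eq] at hkn
          exact hkn
        have h6 : D.rootSubgroup F (D.neg (D.simple i)) ≤ D.posUnipotent F := by
          rw [← hconj]
          refine le_trans (cj_mono _ hXU) ?_
          rw [hcjU]
          exact hUJU
        -- but `x_{-p_i}(1)` lies in `V` and is not trivial
        obtain ⟨hnlt, -, -, hneglt⟩ := triOK_spec D _ htri (D.simple i) hslt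
        have hnegroot : D.IsNegRoot (D.neg (D.simple i)) := by
          rw [isNegRoot_iff D _ hpos]
          exact ⟨hneglt (simple_pos D hD i hi), hnlt⟩
        have hx : xGL D F (D.neg (D.simple i)) 1 ∈ D.borelSubgroup F ⊓ D.negUnipotent F := by
          refine ⟨(le_sup_left : D.posUnipotent F ≤ _) (h6 ?_), ?_⟩
          · exact Subgroup.subset_closure ⟨1, xGL_val D _ htri _ _⟩
          · exact Subgroup.subset_closure ⟨_, 1, hnegroot, xGL_val D _ htri _ _⟩
        rw [(Cfsg.Agent.S1037.result (F := F) D hD).1, Subgroup.mem_bot] at hx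
        have h7 : D.x F (D.neg (D.simple i)) (1 : F) = 1 := by
          rw [← xGL_val D _ htri, hx]
          rfl
        exact one_ne_zero ((Cfsg.Agent.S1024.result D hD _ hnlt (1 : F)).mp h7)
    intro g hg
    have hgM : (⟨g, hg.2⟩ : ↥(D.group F)) ∈ M := by
      rw [hM, Subgroup.mem_subgroupOf]
      exact hg
    rw [hMK] at hgM
    have hle : P.parabolic K ≤ (D.parabolicSubgroup F J).subgroupOf (D.group F) := by
      unfold BNPair.parabolic
      apply sup_le
      · rw [hPB]
        intro x hx
        rw [Subgroup.mem_subgroupOf] at hx ⊢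
        exact hBP hx
      · rw [Subgroup.closure_le]
        intro k hk
        rw [SetLike.mem_coe, Subgroup.mem_subgroupOf]
        exact hKJ k hk
    have := hle hgM
    rw [Subgroup.mem_subgroupOf] at this
    exact this
  · exact le_inf hnorm hPG

end Cfsg.Agent.Helper36.ParaNorm
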