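import Cfsg.Agent.Helper36.ParaCentKey
import Cfsg.Agent.Helper36.ParaNorm

/-!
Helper36: in a Chevalley group, the centraliser in a proper standard parabolic subgroup `P_J` of its unipotent
radical `U_J` lies in `U`.

* `C = C_{P_J}(U_J)` is normal in `P_J`, so `C B` is a subgroup containing `B`, hence a standard parabolic subgroup
  of the `(B, N)`-pair; a generator `n_i = c b` in it gives `x_{w_i r}(±1) = b x_r(1) b⁻¹` for `r ∈ Φ⁺ \ Φ_J`, which
  is impossible (matrix entry `(h_a, e_{-r})` when `i ∈ J`, `U ∩ V = 1` when `i ∉ J`).  So `C ≤ B`.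
* for `c = u h ∈ C` the characters of `h` are trivial at the negatives of the roots of `Φ⁺ \ Φ_J` with a coroot
  coefficient `±1`, hence at the negatives of the fundamental roots, hence at all roots, and `h = 1`.
-/

set_option autoImplicit false

namespace Cfsg.Agent.Helper36.ParaCent

open Cfsg Cfsg.Lie Cfsg.Agent.Helper18 Cfsg.Agent.Helper36.HighRoot

section Cert
variable (D : ChevalleyDatum)

theorem unitCo_spec (r : ℕ) (h : unitCo D r = true) : ∃ i < D.rank, co D r i = 1 ∨ co D r i = -1 := by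
  unfold unitCo at h
  rw [List.any_eq_true] at h
  obtain ⟨i, hi, h2⟩ := h
  rw [Bool.or_eq_true, decide_eq_true_eq, decide_eq_true_eq] at h2
  exact ⟨i, List.mem_range.mp hi, h2⟩

theorem entryOK_spec (hlf : ℕ) (i j' r r' : ℕ) (h : entryOK D hlf (i, j', r, r') = true) :
    hlf ≤ r ∧ r < D.nroots ∧ hlf ≤ r' ∧ r' < D.nroots ∧ co D r j' ≠ 0 ∧ co D r' j' ≠ 0 ∧
      unitCo D r = true ∧ unitCo D r' = true ∧ hlf ≤ D.reflectRoot i r ∧ D.reflectRoot i r < D.nroots ∧
      D.reflectRoot i r ≠ r ∧ D.neg (D.reflectRoot i r) < D.neg r ∧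
      ∀ k < D.rank, D.cartan k (D.neg r') = D.cartan k (D.neg r) + D.cartan k (D.neg (D.simple i)) := by
  unfold entryOK at h
  simp only [Bool.and_eq_true, decide_eq_true_eq, List.all_eq_true, List.mem_range] at h
  obtain ⟨⟨⟨⟨⟨⟨⟨⟨⟨⟨⟨⟨h1, h2⟩, h3⟩, h4⟩, h5⟩, h6⟩, h7⟩, h8⟩, h9⟩, h10⟩, h11⟩, h12⟩, h13⟩ := h
  exact ⟨h1, h2, h3, h4, h5, h6, h7, h8, h9, h10, h11, h12, h13⟩

theorem cert_entry (hlf : ℕ) (L : List (ℕ × ℕ × ℕ × ℕ)) (hL : certOK D hlf L = true) (i j' : ℕ)
    (hi : i < D.rank) (hj : j' < D.rank) (hne : i ≠ j') :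
    ∃ r r', entryOK D hlf (i, j', r, r') = true := by
  unfold certOK at hL
  rw [Bool.and_eq_true, Bool.and_eq_true] at hL
  obtain ⟨⟨h1, h2⟩, -⟩ := hL
  rw [List.all_eq_true] at h1 h2
  have h3 := h2 i (List.mem_range.mpr hi)
  rw [List.all_eq_true] at h3
  have h4 := h3 j' (List.mem_range.mpr hj)
  rw [Bool.or_eq_true, decide_eq_true_eq, List.any_eq_true] at h4
  rcases h4 with h4 | ⟨e, he, h5⟩
  · exact absurd h4 hne
  · rw [Bool.and_eq_true, decide_eq_true_eq, decide_eq_true_eq] at h5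
    refine ⟨e.2.2.1, e.2.2.2, ?_⟩
    have := h1 e he
    rw [← h5.1, ← h5.2]
    exact this

theorem cert_simple (hlf : ℕ) (L : List (ℕ × ℕ × ℕ × ℕ)) (hL : certOK D hlf L = true) (j : ℕ)
    (hj : j < D.rank) :
    hlf ≤ D.simple j ∧ D.simple j < D.nroots ∧ unitCo D (D.simple j) = true ∧ co D (D.simple j) j ≠ 0 := by
  unfold certOK at hL
  rw [Bool.and_eq_true] at hL
  obtain ⟨-, h1⟩ := hL
  rw [List.all_eq_true] at h1
  have h2 := h1 j (List.mem_range.mpr hj)
  simp only [Bool.and_eq_true, decide_eq_true_eq] at h2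
  exact ⟨h2.1.1.1, h2.1.1.2, h2.1.2, h2.2⟩

theorem not_inRootSub (J : Set ℕ) (r j' : ℕ) (hj : j' < D.rank) (hjJ : j' ∉ J) (h : co D r j' ≠ 0) :
    ¬ D.InRootSub J r := fun hr => h (hr.2 j' hj hjJ)

end Cert

section Main
variable {F : Type*} [Field F] [Finite F] (D : ChevalleyDatum)
  (hD : D ∈ [chevG2, chevB2, chevD4, chevF4, chevE6, chevE7, chevE8])

include hD in
/-- `P_J` normalises the centraliser of `U_J` in `P_J` -/
theorem conj_mem_cent (J : Set ℕ) (g c : GL D.Idx F) (hg : g ∈ D.parabolicSubgroup F J)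
    (hc : c ∈ D.parabolicSubgroup F J ⊓ Subgroup.centralizer (D.unipotentRadical F J : Set (GL D.Idx F))) :
    g * c * g⁻¹ ∈ D.parabolicSubgroup F J ⊓ Subgroup.centralizer (D.unipotentRadical F J : Set (GL D.Idx F)) := by
  have h25 : CommHyp D F :=
    fun r s hr hs h1 h2 t u => Cfsg.Agent.S1025.result D hD r s hr hs h1 h2 t u
  obtain ⟨hnorm, -, -⟩ := levi_decomp (F := F) D hD h25 J
  rw [Subgroup.mem_inf] at hc ⊢
  refine ⟨Subgroup.mul_mem _ (Subgroup.mul_mem _ hg hc.1) (Subgroup.inv_mem _ hg), ?_⟩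
  rw [Subgroup.mem_centralizer_iff]
  intro y hy
  have hy' : g⁻¹ * y * g ∈ D.unipotentRadical F J := by
    have := (Subgroup.mem_normalizer_iff.mp (hnorm (Subgroup.inv_mem _ hg)) y).mp hy
    simpa using this
  have hcomm : (g⁻¹ * y * g) * c = c * (g⁻¹ * y * g) := (Subgroup.mem_centralizer_iff.mp hc.2) _ hy'
  calc y * (g * c * g⁻¹) = g * ((g⁻¹ * y * g) * c) * g⁻¹ := by group
    _ = g * (c * (g⁻¹ * y * g)) * g⁻¹ := by rw [hcomm]
    _ = g * c * g⁻¹ * y := by group

include hD in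
/-- the key relation: if `n = c b` with `c` centralising `U_J`, `b ∈ B`, and `n x_r(1) = x_s(a) n` with
`r ∈ Φ⁺ \ Φ_J`, then `x_s(a) = b x_r(1) b⁻¹` -/
theorem conj_eq (J : Set ℕ) (c b : GL D.Idx F)
    (hc : c ∈ Subgroup.centralizer (D.unipotentRadical F J : Set (GL D.Idx F)))
    (hb : b ∈ D.borelSubgroup F) (r s : ℕ) (hr : D.IsPosRoot r) (hrJ : ¬ D.InRootSub J r) (a : F)
    (h : (c * b) * xGL D F r 1 = xGL D F s a * (c * b)) :
    xGL D F s a = b * xGL D F r 1 * b⁻¹ ∧ b * xGL D F r 1 * b⁻¹ ∈ D.unipotentRadical F J := by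
  have htri := triOK_of_mem D hD
  have h25 : CommHyp D F :=
    fun r s hr hs h1 h2 t u => Cfsg.Agent.S1025.result D hD r s hr hs h1 h2 t u
  obtain ⟨hnorm, -, -⟩ := levi_decomp (F := F) D hD h25 J
  have hBP : D.borelSubgroup F ≤ D.parabolicSubgroup F J := le_sup_left
  have hx : xGL D F r 1 ∈ D.unipotentRadical F J :=
    Subgroup.subset_closure ⟨r, 1, hr, hrJ, xGL_val D _ htri _ _⟩
  have hy : b * xGL D F r 1 * b⁻¹ ∈ D.unipotentRadical F J :=
    (Subgroup.mem_normalizer_iff.mp (hnorm (hBP hb)) _).mp hx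
  have hcomm : (b * xGL D F r 1 * b⁻¹) * c = c * (b * xGL D F r 1 * b⁻¹) :=
    (Subgroup.mem_centralizer_iff.mp hc) _ hy
  refine ⟨?_, hy⟩
  have e1 : xGL D F s a = (c * b) * xGL D F r 1 * (c * b)⁻¹ := by
    rw [h]; group
  rw [e1]
  calc (c * b) * xGL D F r 1 * (c * b)⁻¹ = (c * (b * xGL D F r 1 * b⁻¹)) * c⁻¹ := by group
    _ = ((b * xGL D F r 1 * b⁻¹) * c) * c⁻¹ := by rw [hcomm]
    _ = b * xGL D F r 1 * b⁻¹ := by group

include hD in
theorem para_le_normalizer_cent (J : Set ℕ) :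
    D.parabolicSubgroup F J ≤ Subgroup.normalizer
      ((D.parabolicSubgroup F J ⊓ Subgroup.centralizer (D.unipotentRadical F J : Set (GL D.Idx F)) :
        Subgroup (GL D.Idx F)) : Set (GL D.Idx F)) := by
  intro g hg
  rw [Subgroup.mem_normalizer_iff]
  intro c
  constructor
  · intro hc
    exact conj_mem_cent D hD J g c hg hc
  · intro hc
    have := conj_mem_cent D hD J g⁻¹ _ (Subgroup.inv_mem _ hg) hc
    have e : g⁻¹ * (g * c * g⁻¹) * g⁻¹⁻¹ = c := by group
    rw [e] at this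
    exact this

include hD in
theorem cent_le_borel (J : Set ℕ) (hJ : ∃ j', j' < D.rank ∧ j' ∉ J) :
    D.parabolicSubgroup F J ⊓ Subgroup.centralizer (D.unipotentRadical F J : Set (GL D.Idx F))
      ≤ D.borelSubgroup F := by
  classical
  have htri := triOK_of_mem D hD
  have hpos := posOK_of_mem D hD
  have hsim := simpleOK_of_mem D hD
  obtain ⟨hBG, hNG, -⟩ := Cfsg.Agent.S1043.result (F := F) D hD
  obtain ⟨L, hL⟩ := exists_cert D hD
  obtain ⟨j', hj', hj'J⟩ := hJ
  have hBP : D.borelSubgroup F ≤ D.parabolicSubgroup F J := le_sup_left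
  have hPG : D.parabolicSubgroup F J ≤ D.group F := by
    unfold ChevalleyDatum.parabolicSubgroup
    apply sup_le hBG
    rw [Subgroup.closure_le]
    rintro g ⟨j, hj, hjr, hg⟩
    apply hNG
    unfold ChevalleyDatum.monomialSubgroup
    apply Subgroup.mem_sup_right
    apply Subgroup.subset_closure
    exact ⟨D.simple j, simple_lt D hsim j hjr, hg⟩
  set C : Subgroup (GL D.Idx F) :=
    D.parabolicSubgroup F J ⊓ Subgroup.centralizer (D.unipotentRadical F J : Set (GL D.Idx F)) with hC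
  have hPnC : D.parabolicSubgroup F J ≤ Subgroup.normalizer (C : Set (GL D.Idx F)) :=
    para_le_normalizer_cent D hD J
  have hset := Subgroup.coe_mul_of_right_le_normalizer_left C (D.borelSubgroup F) (hBP.trans hPnC)
  obtain ⟨P, hPB, -, hPS⟩ := Cfsg.Agent.Helper36.chev_bnPair (F := F) D hD
  set M : Subgroup ↥(D.group F) := (C ⊔ D.borelSubgroup F).subgroupOf (D.group F) with hM
  have hBM : P.B ≤ M := by
    rw [hPB]
    intro g hg
    rw [Subgroup.mem_subgroupOf] at hg
    rw [hM, Subgroup.mem_subgroupOf]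
    exact Subgroup.mem_sup_right hg
  obtain ⟨K, hKS, hMK⟩ := Cfsg.Agent.S0311.result P M hBM
  have hKempty : ∀ k ∈ K, False := by
    intro k hk
    have hkS := hKS hk
    rw [hPS] at hkS
    obtain ⟨i, hi, hki⟩ := hkS
    have hkM : k ∈ M := by
      rw [hMK]
      unfold BNPair.parabolic
      exact Subgroup.mem_sup_right (Subgroup.subset_closure hk)
    rw [hM, Subgroup.mem_subgroupOf] at hkM
    have hkset : (k : GL D.Idx F) ∈ ((C ⊔ D.borelSubgroup F : Subgroup (GL D.Idx F)) : Set (GL D.Idx F)) := hkM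
    rw [hset] at hkset
    obtain ⟨c, hc, b, hb, hcb⟩ := hkset
    have hc' : c ∈ C := hc
    have hb' : b ∈ D.borelSubgroup F := hb
    have hcb' : c * b = (k : GL D.Idx F) := hcb
    -- the relation for `n_i`
    have hrel : ∀ r < D.nroots, ∃ η : ℤ, (η = 1 ∨ η = -1) ∧
        (c * b) * xGL D F r 1 = xGL D F (D.reflectRoot i r) ((η : F) * 1) * (c * b) := by
      intro r hr
      obtain ⟨η, hη, h⟩ := nConjHyp (F := F) D hD i r hi hr
      refine ⟨η, hη, ?_⟩
      apply Units.ext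
      rw [hcb', Units.val_mul, Units.val_mul, xGL_val D _ htri, xGL_val D _ htri, hki]
      exact h 1
    by_cases hiJ : i ∈ J
    · -- a root moved by `w_i`
      have hne : i ≠ j' := fun e => hj'J (e ▸ hiJ)
      obtain ⟨r, r', he⟩ := cert_entry D _ L hL i j' hi hj' hne
      obtain ⟨h1, h2, -, -, h5, -, h7, -, h9, h10, -, h12, -⟩ := entryOK_spec D _ i j' r r' he
      have hrpos : D.IsPosRoot r := (isPosRoot_iff D _ hpos r).mpr ⟨h1, h2⟩
      have hrJ : ¬ D.InRootSub J r := not_inRootSub D J r j' hj' hj'J h5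
      obtain ⟨η, hη, hrel'⟩ := hrel r h2
      obtain ⟨e1, -⟩ := conj_eq D hD J c b hc'.2 hb' r _ hrpos hrJ _ hrel'
      have e2 : xGL D F (D.reflectRoot i r) ((η : F) * 1) * b = b * xGL D F r 1 := by
        rw [e1]; group
      have e3 := congrArg (fun g : GL D.Idx F => (g : Matrix D.Idx D.Idx F)) e2
      simp only [Units.val_mul, xGL_val D _ htri] at e3
      obtain ⟨i', hi', hco⟩ := unitCo_spec D r h7
      have hz := coroot_zero_of_conj D hD b hb' r _ h1 h2 h9 h10 h12 _ e3 ⟨i', hi'⟩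
      rcases hco with hco | hco
      · rw [show co D r (⟨i', hi'⟩ : Fin D.rank).val = 1 from hco] at hz
        simp at hz
      · rw [show co D r (⟨i', hi'⟩ : Fin D.rank).val = -1 from hco] at hz
        simp at hz
    · -- the fundamental root `p_i` itself
      obtain ⟨h1, h2, -, h4⟩ := cert_simple D _ L hL i hi
      have hrpos : D.IsPosRoot (D.simple i) := (isPosRoot_iff D _ hpos _).mpr ⟨h1, h2⟩
      have hrJ : ¬ D.InRootSub J (D.simple i) := not_inRootSub D J _ i hi hiJ h4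
      obtain ⟨η, hη, hrel'⟩ := hrel _ h2
      rw [reflectRoot_simple D hD i] at hrel'
      obtain ⟨e1, hyU⟩ := conj_eq D hD J c b hc'.2 hb' _ _ hrpos hrJ _ hrel'
      have hUJU : D.unipotentRadical F J ≤ D.posUnipotent F := by
        unfold ChevalleyDatum.unipotentRadical ChevalleyDatum.posUnipotent
        apply Subgroup.closure_mono
        rintro g ⟨r, t, hr, -, hg⟩
        exact ⟨r, t, hr, hg⟩
      obtain ⟨hnlt, -, -, hneglt⟩ := triOK_spec D _ htri (D.simple i) h2
      have hnegroot : D.IsNegRoot (D.neg (D.simple i)) := by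
        rw [isNegRoot_iff D _ hpos]
        exact ⟨hneglt h1, hnlt⟩
      have hx : xGL D F (D.neg (D.simple i)) ((η : F) * 1) ∈ D.borelSubgroup F ⊓ D.negUnipotent F := by
        refine ⟨?_, ?_⟩
        · rw [e1]
          exact (le_sup_left : D.posUnipotent F ≤ _) (hUJU hyU)
        · exact Subgroup.subset_closure ⟨_, _, hnegroot, xGL_val D _ htri _ _⟩
      rw [(Cfsg.Agent.S1037.result (F := F) D hD).1, Subgroup.mem_bot] at hx
      have h7 : D.x F (D.neg (D.simple i)) ((η : F) * 1) = 1 := by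
        rw [← xGL_val D _ htri, hx]
        rfl
      have h8 := (Cfsg.Agent.S1024.result D hD _ hnlt ((η : F) * 1)).mp h7
      rcases hη with rfl | rfl <;> simp at h8
  intro c hc
  have hcM : (⟨c, hPG hc.1⟩ : ↥(D.group F)) ∈ M := by
    rw [hM, Subgroup.mem_subgroupOf]
    exact Subgroup.mem_sup_left hc
  rw [hMK] at hcM
  have hK : K = ∅ := Set.eq_empty_of_forall_notMem hKempty
  unfold BNPair.parabolic at hcM
  rw [hK, Subgroup.closure_empty, sup_bot_eq, hPB, Subgroup.mem_subgroupOf] at hcM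
  exact hcM

include hD in
/-- the centraliser in a proper standard parabolic subgroup of its unipotent radical lies in `U` -/
theorem cent_le_pos (J : Set ℕ) (hJ : ∃ j', j' < D.rank ∧ j' ∉ J) :
    D.parabolicSubgroup F J ⊓ Subgroup.centralizer (D.unipotentRadical F J : Set (GL D.Idx F))
      ≤ D.posUnipotent F := by
  classical
  have htri := triOK_of_mem D hD
  have hpos := posOK_of_mem D hD
  obtain ⟨L, hL⟩ := exists_cert D hD
  obtain ⟨T, hT⟩ := exists_coordExact D hD
  intro c hc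
  have hcB := cent_le_borel D hD J hJ hc
  rw [Subgroup.mem_inf] at hc
  obtain ⟨j', hj', hj'J⟩ := hJ
  obtain ⟨u, hu, h, hh, z, hz, hhz, hcu, hsh, hdiag⟩ := borel_shape D hD c hcB
  have key : ∀ r, hlfOf D ≤ r → r < D.nroots → ¬ D.InRootSub J r → unitCo D r = true →
      chi D z (D.neg r) = 1 := by
    intro r h1 h2 hrJ hunit
    have hrpos : D.IsPosRoot r := (isPosRoot_iff D _ hpos r).mpr ⟨h1, h2⟩
    have hx : xGL D F r 1 ∈ D.unipotentRadical F J :=
      Subgroup.subset_closure ⟨r, 1, hrpos, hrJ, xGL_val D _ htri _ _⟩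
    have hcomm : xGL D F r 1 * c = c * xGL D F r 1 := (Subgroup.mem_centralizer_iff.mp hc.2) _ hx
    have e3 := congrArg (fun g : GL D.Idx F => (g : Matrix D.Idx D.Idx F)) hcomm
    simp only [Units.val_mul, xGL_val D _ htri] at e3
    obtain ⟨i', hi', hco⟩ := unitCo_spec D r hunit
    have hz0 := diag_of_commute D hD c hcB r h1 h2 1 e3 ⟨i', hi'⟩
    rw [hdiag] at hz0
    rcases hco with hco | hco
    · rw [show co D r (⟨i', hi'⟩ : Fin D.rank).val = 1 from hco] at hz0
      simp only [Int.cast_one, mul_one, one_mul] at hz0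
      exact sub_eq_zero.mp hz0
    · rw [show co D r (⟨i', hi'⟩ : Fin D.rank).val = -1 from hco] at hz0
      simp only [Int.cast_neg, Int.cast_one, mul_one, neg_mul, one_mul, neg_eq_zero] at hz0
      exact sub_eq_zero.mp hz0
  have hsimple : ∀ j < D.rank, chi D z (D.neg (D.simple j)) = 1 := by
    intro j hj
    by_cases hjJ : j ∈ J
    · have hne : j ≠ j' := fun e => hj'J (e ▸ hjJ)
      obtain ⟨r, r', he⟩ := cert_entry D _ L hL j j' hj hj' hne
      obtain ⟨h1, h2, h3, h4, h5, h6, h7, h8, -, -, -, -, h13⟩ := entryOK_spec D _ j j' r r' he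
      have k1 := key r h1 h2 (not_inRootSub D J r j' hj' hj'J h5) h7
      have k2 := key r' h3 h4 (not_inRootSub D J r' j' hj' hj'J h6) h8
      have := chi_add D z hz (D.neg r') (D.neg r) (D.neg (D.simple j)) h13
      rw [k1, k2, one_mul] at this
      exact this.symm
    · obtain ⟨h1, h2, h3, h4⟩ := cert_simple D _ L hL j hj
      exact key _ h1 h2 (not_inRootSub D J _ j hj hjJ h4) h3
  have hall : ∀ s < D.nroots, chi D z s = 1 := chi_eq_one_of_coord D z hz T hT hsimple
  have hh1 : h = 1 := by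
    apply Units.ext
    rw [hhz, Units.val_one]
    unfold hProd
    rw [← Matrix.diagonal_one]
    congr 1
    funext j
    rcases j with a | s
    · rfl
    · exact hall s.val s.2
  rw [hcu, hh1, mul_one]
  exact hu

end Main

end Cfsg.Agent.Helper36.ParaCent
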