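import Cfsg.Agent.Helper18.TriAll

/-!
Helper36: table certificates for the centraliser of the unipotent radical of a parabolic subgroup.

* `certOK`: for fundamental roots `i ≠ j'` a positive root `r` involving `p_{j'}` which is moved by the reflection
  `w_i` to a positive root `s` with `-s` before `-r`, and a positive root `r'` involving `p_{j'}` whose Cartan
  integers are those of `r` plus those of `p_i`; the coroots of `r`, `r'` have a coefficient `±1`.
* `coordExactOK`: the Cartan integers of every root are an integral combination of those of the negatives of the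
  fundamental roots.
-/

set_option autoImplicit false

namespace Cfsg.Agent.Helper36.ParaCent

open Cfsg Cfsg.Lie Cfsg.Agent.Helper18

/-- the coefficient of the coroot of `r` on the `j`-th fundamental coroot -/
def co (D : ChevalleyDatum) (r j : ℕ) : ℤ := (D.coroot.getD r #[]).getD j 0

/-- some coefficient of the coroot of `r` is `1` or `-1` -/
def unitCo (D : ChevalleyDatum) (r : ℕ) : Bool :=
  (List.range D.rank).any fun i => decide (co D r i = 1) || decide (co D r i = -1)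

def entryOK (D : ChevalleyDatum) (hlf : ℕ) (e : ℕ × ℕ × ℕ × ℕ) : Bool :=
  decide (hlf ≤ e.2.2.1) && decide (e.2.2.1 < D.nroots) && decide (hlf ≤ e.2.2.2) && decide (e.2.2.2 < D.nroots) &&
  decide (co D e.2.2.1 e.2.1 ≠ 0) && decide (co D e.2.2.2 e.2.1 ≠ 0) && unitCo D e.2.2.1 && unitCo D e.2.2.2 &&
  decide (hlf ≤ D.reflectRoot e.1 e.2.2.1) && decide (D.reflectRoot e.1 e.2.2.1 < D.nroots) &&
  decide (D.reflectRoot e.1 e.2.2.1 ≠ e.2.2.1) &&
  decide (D.neg (D.reflectRoot e.1 e.2.2.1) < D.neg e.2.2.1) &&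
  (List.range D.rank).all fun k =>
    decide (D.cartan k (D.neg e.2.2.2) = D.cartan k (D.neg e.2.2.1) + D.cartan k (D.neg (D.simple e.1)))

def certOK (D : ChevalleyDatum) (hlf : ℕ) (L : List (ℕ × ℕ × ℕ × ℕ)) : Bool :=
  L.all (entryOK D hlf) &&
  ((List.range D.rank).all fun i => (List.range D.rank).all fun j' =>
    decide (i = j') || L.any fun e => decide (e.1 = i) && decide (e.2.1 = j')) &&
  ((List.range D.rank).all fun j =>
    decide (hlf ≤ D.simple j) && decide (D.simple j < D.nroots) && unitCo D (D.simple j) &&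
      decide (co D (D.simple j) j ≠ 0))

def coordExactOK (D : ChevalleyDatum) (T : List (List ℤ)) : Bool :=
  (List.range D.nroots).all fun s => (List.range D.rank).all fun i =>
    decide (D.cartan i s
      = ((List.range D.rank).map fun j => (T.getD s []).getD j 0 * D.cartan i (D.neg (D.simple j))).sum)

/-- the table of the negated coroot coefficients -/
def coTab (D : ChevalleyDatum) : List (List ℤ) :=
  (List.range D.nroots).map fun s => (List.range D.rank).map fun j => - co D s j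

def certG2 : List (ℕ × ℕ × ℕ × ℕ) :=
  [(0, 1, 6, 8), (1, 0, 7, 8)]

def certB2 : List (ℕ × ℕ × ℕ × ℕ) :=
  [(0, 1, 4, 6), (1, 0, 5, 6)]

def certD4 : List (ℕ × ℕ × ℕ × ℕ) :=
  [(0, 1, 14, 19), (0, 2, 16, 21), (0, 3, 15, 20), (1, 0, 18, 19), (1, 2, 13, 16), (1, 3, 12, 15),
   (2, 0, 19, 21), (2, 1, 14, 16), (2, 3, 15, 17), (3, 0, 19, 20), (3, 1, 14, 15), (3, 2, 16, 17)]

def certF4 : List (ℕ × ℕ × ℕ × ℕ) :=
  [(0, 1, 27, 34), (0, 2, 28, 35), (0, 3, 29, 36), (1, 0, 33, 34), (1, 2, 25, 28), (1, 3, 26, 29),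
   (2, 0, 34, 35), (2, 1, 27, 28), (2, 3, 24, 26), (3, 0, 35, 36), (3, 1, 28, 29), (3, 2, 25, 26)]

def certE6 : List (ℕ × ℕ × ℕ × ℕ) :=
  [(0, 1, 50, 61), (0, 2, 42, 57), (0, 3, 43, 58), (0, 4, 44, 59), (0, 5, 45, 60), (1, 0, 58, 61),
   (1, 2, 43, 50), (1, 3, 39, 47), (1, 4, 40, 48), (1, 5, 41, 49), (2, 0, 56, 57), (2, 1, 47, 50),
   (2, 3, 39, 43), (2, 4, 40, 44), (2, 5, 41, 45), (3, 0, 57, 58), (3, 1, 46, 47), (3, 2, 42, 43),
   (3, 4, 37, 40), (3, 5, 38, 41), (4, 0, 58, 59), (4, 1, 47, 48), (4, 2, 43, 44), (4, 3, 39, 40),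
   (4, 5, 36, 38), (5, 0, 59, 60), (5, 1, 48, 49), (5, 2, 44, 45), (5, 3, 40, 41), (5, 4, 37, 38)]

def certE7 : List (ℕ × ℕ × ℕ × ℕ) :=
  [(0, 1, 83, 99), (0, 2, 73, 94), (0, 3, 74, 95), (0, 4, 75, 96), (0, 5, 76, 97), (0, 6, 77, 98),
   (1, 0, 95, 99), (1, 2, 74, 83), (1, 3, 69, 79), (1, 4, 70, 80), (1, 5, 71, 81), (1, 6, 72, 82),
   (2, 0, 93, 94), (2, 1, 79, 83), (2, 3, 69, 74), (2, 4, 70, 75), (2, 5, 71, 76), (2, 6, 72, 77),
   (3, 0, 94, 95), (3, 1, 78, 79), (3, 2, 73, 74), (3, 4, 66, 70), (3, 5, 67, 71), (3, 6, 68, 72),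
   (4, 0, 95, 96), (4, 1, 79, 80), (4, 2, 74, 75), (4, 3, 69, 70), (4, 5, 64, 67), (4, 6, 65, 68),
   (5, 0, 96, 97), (5, 1, 80, 81), (5, 2, 75, 76), (5, 3, 70, 71), (5, 4, 66, 67), (5, 6, 63, 65),
   (6, 0, 97, 98), (6, 1, 81, 82), (6, 2, 76, 77), (6, 3, 71, 72), (6, 4, 67, 68), (6, 5, 64, 65)]

def certE8 : List (ℕ × ℕ × ℕ × ℕ) :=
  [(0, 1, 147, 169), (0, 2, 135, 163), (0, 3, 136, 164), (0, 4, 137, 165), (0, 5, 138, 166),
   (0, 6, 139, 167), (0, 7, 140, 168), (1, 0, 164, 169), (1, 2, 136, 147), (1, 3, 130, 142),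
   (1, 4, 131, 143), (1, 5, 132, 144), (1, 6, 133, 145), (1, 7, 134, 146), (2, 0, 162, 163),
   (2, 1, 142, 147), (2, 3, 130, 136), (2, 4, 131, 137), (2, 5, 132, 138), (2, 6, 133, 139),
   (2, 7, 134, 140), (3, 0, 163, 164), (3, 1, 141, 142), (3, 2, 135, 136), (3, 4, 126, 131),
   (3, 5, 127, 132), (3, 6, 128, 133), (3, 7, 129, 134), (4, 0, 164, 165), (4, 1, 142, 143),
   (4, 2, 136, 137), (4, 3, 130, 131), (4, 5, 123, 127), (4, 6, 124, 128), (4, 7, 125, 129),
   (5, 0, 165, 166), (5, 1, 143, 144), (5, 2, 137, 138), (5, 3, 131, 132), (5, 4, 126, 127),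
   (5, 6, 121, 124), (5, 7, 122, 125), (6, 0, 166, 167), (6, 1, 144, 145), (6, 2, 138, 139),
   (6, 3, 132, 133), (6, 4, 127, 128), (6, 5, 123, 124), (6, 7, 120, 122), (7, 0, 167, 168),
   (7, 1, 145, 146), (7, 2, 139, 140), (7, 3, 133, 134), (7, 4, 128, 129), (7, 5, 124, 125), (7, 6, 121, 122)]

def ctabG2 : List (List ℤ) :=
  [[3, 2], [3, 1], [2, 1], [1, 1], [1, 0], [0, 1], [0, -1], [-1, 0], [-1, -1], [-2, -1], [-3, -1], [-3, -2]]

def ctabB2 : List (List ℤ) :=
  [[2, 1], [1, 1], [1, 0], [0, 1], [0, -1], [-1, 0], [-1, -1], [-2, -1]]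

def ctabF4 : List (List ℤ) :=
  [[2, 4, 3, 2], [2, 4, 3, 1], [2, 4, 2, 1], [2, 3, 2, 1], [2, 2, 2, 1], [2, 2, 1, 1], [2, 2, 1, 0],
   [1, 3, 2, 1], [1, 2, 2, 1], [1, 2, 1, 1], [1, 2, 1, 0], [1, 1, 1, 1], [1, 1, 1, 0], [1, 1, 0, 0],
   [1, 0, 0, 0], [0, 2, 2, 1], [0, 2, 1, 1], [0, 2, 1, 0], [0, 1, 1, 1], [0, 1, 1, 0], [0, 1, 0, 0],
   [0, 0, 1, 1], [0, 0, 1, 0], [0, 0, 0, 1], [0, 0, 0, -1], [0, 0, -1, 0], [0, 0, -1, -1], [0, -1, 0, 0],
   [0, -1, -1, 0], [0, -1, -1, -1], [0, -2, -1, 0], [0, -2, -1, -1], [0, -2, -2, -1], [-1, 0, 0, 0],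
   [-1, -1, 0, 0], [-1, -1, -1, 0], [-1, -1, -1, -1], [-1, -2, -1, 0], [-1, -2, -1, -1], [-1, -2, -2, -1],
   [-1, -3, -2, -1], [-2, -2, -1, 0], [-2, -2, -1, -1], [-2, -2, -2, -1], [-2, -3, -2, -1], [-2, -4, -2, -1],
   [-2, -4, -3, -1], [-2, -4, -3, -2]]

set_option maxRecDepth 100000 in
theorem certOK_G2 : certOK chevG2 (hlfOf chevG2) certG2 = true := by decide +kernel
set_option maxRecDepth 100000 in
theorem certOK_B2 : certOK chevB2 (hlfOf chevB2) certB2 = true := by decide +kernel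
set_option maxRecDepth 100000 in
theorem certOK_D4 : certOK chevD4 (hlfOf chevD4) certD4 = true := by decide +kernel
set_option maxRecDepth 100000 in
theorem certOK_F4 : certOK chevF4 (hlfOf chevF4) certF4 = true := by decide +kernel
set_option maxRecDepth 100000 in
theorem certOK_E6 : certOK chevE6 (hlfOf chevE6) certE6 = true := by decide +kernel
set_option maxRecDepth 100000 in
theorem certOK_E7 : certOK chevE7 (hlfOf chevE7) certE7 = true := by decide +kernel
set_option maxRecDepth 100000 in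
theorem certOK_E8 : certOK chevE8 (hlfOf chevE8) certE8 = true := by decide +kernel

set_option maxRecDepth 100000 in
theorem coordExactOK_G2 : coordExactOK chevG2 ctabG2 = true := by decide +kernel
set_option maxRecDepth 100000 in
theorem coordExactOK_B2 : coordExactOK chevB2 ctabB2 = true := by decide +kernel
set_option maxRecDepth 100000 in
theorem coordExactOK_F4 : coordExactOK chevF4 ctabF4 = true := by decide +kernel
set_option maxRecDepth 100000 in
theorem coordExactOK_D4 : coordExactOK chevD4 (coTab chevD4) = true := by decide +kernel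
set_option maxRecDepth 100000 in
theorem coordExactOK_E6 : coordExactOK chevE6 (coTab chevE6) = true := by decide +kernel
set_option maxRecDepth 100000 in
theorem coordExactOK_E7 : coordExactOK chevE7 (coTab chevE7) = true := by decide +kernel
set_option maxRecDepth 100000 in
theorem coordExactOK_E8 : coordExactOK chevE8 (coTab chevE8) = true := by decide +kernel

theorem exists_cert (D : ChevalleyDatum)
    (hD : D ∈ [chevG2, chevB2, chevD4, chevF4, chevE6, chevE7, chevE8]) :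
    ∃ L : List (ℕ × ℕ × ℕ × ℕ), certOK D (hlfOf D) L = true := by
  simp only [List.mem_cons, List.not_mem_nil, or_false] at hD
  rcases hD with rfl | rfl | rfl | rfl | rfl | rfl | rfl
  exacts [⟨_, certOK_G2⟩, ⟨_, certOK_B2⟩, ⟨_, certOK_D4⟩, ⟨_, certOK_F4⟩, ⟨_, certOK_E6⟩,
    ⟨_, certOK_E7⟩, ⟨_, certOK_E8⟩]

theorem exists_coordExact (D : ChevalleyDatum)
    (hD : D ∈ [chevG2, chevB2, chevD4, chevF4, chevE6, chevE7, chevE8]) :
    ∃ T : List (List ℤ), coordExactOK D T = true := by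
  simp only [List.mem_cons, List.not_mem_nil, or_false] at hD
  rcases hD with rfl | rfl | rfl | rfl | rfl | rfl | rfl
  exacts [⟨_, coordExactOK_G2⟩, ⟨_, coordExactOK_B2⟩, ⟨_, coordExactOK_D4⟩, ⟨_, coordExactOK_F4⟩,
    ⟨_, coordExactOK_E6⟩, ⟨_, coordExactOK_E7⟩, ⟨_, coordExactOK_E8⟩]

end Cfsg.Agent.Helper36.ParaCent
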