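import Cfsg.Agent.Helper36.ParaCentMat
import Cfsg.Agent.Helper36.Unimod

/-!
Helper36: the two matrix arguments for the centraliser of the unipotent radical, and the lattice argument for the
characters of the diagonal subgroup.
-/

set_option autoImplicit false

namespace Cfsg.Agent.Helper36.ParaCent

open Cfsg Cfsg.Lie Cfsg.Agent.Helper18

section Key
variable {F : Type*} [Field F] [Finite F] (D : ChevalleyDatum)
  (hD : D ∈ [chevG2, chevB2, chevD4, chevF4, chevE6, chevE7, chevE8])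

include hD in
/-- `x_s(a) b = b x_r(1)` with `b ∈ B`, `r, s` positive and `-s` before `-r` kills the coroot of `r` in `F` -/
theorem coroot_zero_of_conj (b : GL D.Idx F) (hb : b ∈ D.borelSubgroup F) (r s : ℕ)
    (hr : hlfOf D ≤ r) (hrn : r < D.nroots) (hs : hlfOf D ≤ s) (hsn : s < D.nroots)
    (hlt : D.neg s < D.neg r) (a : F)
    (h : D.x F s a * (b : Matrix D.Idx D.Idx F) = (b : Matrix D.Idx D.Idx F) * D.x F r 1) (i : Fin D.rank) :
    ((co D r i : ℤ) : F) = 0 := by
  have htri := triOK_of_mem D hD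
  obtain ⟨u, hu, h', hh', z, hz, hhz, hbu, hsh, hdiag⟩ := borel_shape D hD b hb
  obtain ⟨hnr, -, -, hr2⟩ := triOK_spec D _ htri r hrn
  obtain ⟨hns, -, -, hs2⟩ := triOK_spec D _ htri s hsn
  have e := congrFun (congrFun h (Sum.inl i)) (Sum.inr ⟨D.neg r, hnr⟩)
  have h2 : (b : Matrix D.Idx D.Idx F) (Sum.inl i) (Sum.inr ⟨r, hrn⟩) = 0 := by
    apply hsh.1
    have := i.2
    simp only [lvl, Sum.elim_inl, Sum.elim_inr]
    rw [if_neg (by omega)]
    omega
  rw [x_mul_row D _ htri s hsn a i, mul_x_entry D _ htri r hrn 1 i _ (hsh.2 i) h2] at e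
  have h0 : (b : Matrix D.Idx D.Idx F) (Sum.inr ⟨D.neg s, hns⟩) (Sum.inr ⟨D.neg r, hnr⟩) = 0 := by
    apply hsh.1
    simp only [lvl, Sum.elim_inr]
    rw [if_pos (hs2 hs), if_pos (hr2 hr)]
    exact hlt
  rw [h0, mul_zero, add_zero, mul_one] at e
  exact (add_eq_left.mp e.symm)

include hD in
/-- an element of `B` commuting with `x_r(t)`, `r` positive: the diagonal entry at `e_{-r}` -/
theorem diag_of_commute (b : GL D.Idx F) (hb : b ∈ D.borelSubgroup F) (r : ℕ)
    (hr : hlfOf D ≤ r) (hrn : r < D.nroots) (t : F)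
    (h : D.x F r t * (b : Matrix D.Idx D.Idx F) = (b : Matrix D.Idx D.Idx F) * D.x F r t) (i : Fin D.rank) :
    ((co D r i : ℤ) : F) * t *
      ((b : Matrix D.Idx D.Idx F) (Sum.inr ⟨D.neg r, (triOK_spec D _ (triOK_of_mem D hD) r hrn).1⟩)
        (Sum.inr ⟨D.neg r, (triOK_spec D _ (triOK_of_mem D hD) r hrn).1⟩) - 1) = 0 := by
  have htri := triOK_of_mem D hD
  obtain ⟨u, hu, h', hh', z, hz, hhz, hbu, hsh, hdiag⟩ := borel_shape D hD b hb
  obtain ⟨hnr, -, -, hr2⟩ := triOK_spec D _ htri r hrn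
  have e := congrFun (congrFun h (Sum.inl i)) (Sum.inr ⟨D.neg r, hnr⟩)
  have h2 : (b : Matrix D.Idx D.Idx F) (Sum.inl i) (Sum.inr ⟨r, hrn⟩) = 0 := by
    apply hsh.1
    have := i.2
    simp only [lvl, Sum.elim_inl, Sum.elim_inr]
    rw [if_neg (by omega)]
    omega
  rw [x_mul_row D _ htri r hrn t i, mul_x_entry D _ htri r hrn t i _ (hsh.2 i) h2] at e
  linear_combination e

end Key

section Lattice
variable {F : Type*} [Field F] (D : ChevalleyDatum)

theorem chi_add (z : ℕ → F) (hz : ∀ i, z i ≠ 0) (m r s : ℕ)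
    (h : ∀ i < D.rank, D.cartan i m = D.cartan i r + D.cartan i s) :
    chi D z m = chi D z r * chi D z s := by
  unfold chi
  rw [← List.prod_map_mul]
  congr 1
  apply List.map_congr_left
  intro i hi
  rw [h i (List.mem_range.mp hi), zpow_add₀ (hz i)]

theorem prod_zpow_eq_one {G : Type*} [CommGroup G] (n : ℕ) (c : ℕ → G) (A : ℕ → ℤ) (Bas : ℕ → ℕ → ℤ)
    (T : ℕ → ℤ) (hA : ∀ i < n, A i = ∑ j ∈ Finset.range n, T j * Bas i j)
    (h1 : ∀ j < n, ∏ i ∈ Finset.range n, c i ^ Bas i j = 1) :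
    ∏ i ∈ Finset.range n, c i ^ A i = 1 := by
  have e1 : ∀ i ∈ Finset.range n, c i ^ A i = ∏ j ∈ Finset.range n, (c i ^ Bas i j) ^ T j := by
    intro i hi
    rw [hA i (Finset.mem_range.mp hi), Unimod.zpow_finset_sum]
    apply Finset.prod_congr rfl
    intro j _
    rw [mul_comm, zpow_mul]
  rw [Finset.prod_congr rfl e1, Finset.prod_comm]
  apply Finset.prod_eq_one
  intro j hj
  rw [Finset.prod_zpow, h1 j (Finset.mem_range.mp hj), one_zpow]

theorem chi_units (z : ℕ → F) (hz : ∀ i, z i ≠ 0) (s : ℕ) :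
    ((∏ i ∈ Finset.range D.rank, (Units.mk0 (z i) (hz i)) ^ D.cartan i s : Fˣ) : F) = chi D z s := by
  unfold chi
  rw [Unimod.list_range_prod, Units.coe_prod]
  apply Finset.prod_congr rfl
  intro i _
  rw [Units.val_zpow_eq_zpow_val, Units.val_mk0]

/-- the characters are trivial at all roots as soon as they are at the negatives of the fundamental roots -/
theorem chi_eq_one_of_coord (z : ℕ → F) (hz : ∀ i, z i ≠ 0) (T : List (List ℤ))
    (hT : coordExactOK D T = true) (h1 : ∀ j < D.rank, chi D z (D.neg (D.simple j)) = 1)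
    (s : ℕ) (hs : s < D.nroots) : chi D z s = 1 := by
  rw [← chi_units D z hz s, Units.val_eq_one]
  apply prod_zpow_eq_one D.rank (fun i => Units.mk0 (z i) (hz i)) (fun i => D.cartan i s)
    (fun i j => D.cartan i (D.neg (D.simple j))) (fun j => (T.getD s []).getD j 0)
  · intro i hi
    unfold coordExactOK at hT
    rw [List.all_eq_true] at hT
    have h2 := hT s (List.mem_range.mpr hs)
    rw [List.all_eq_true] at h2
    have h3 := h2 i (List.mem_range.mpr hi)
    rw [decide_eq_true_eq] at h3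
    rw [h3, Unimod.list_range_sum]
  · intro j hj
    rw [← Units.val_eq_one, chi_units D z hz]
    exact h1 j hj

end Lattice

end Cfsg.Agent.Helper36.ParaCent
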