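import Cfsg.Agent.Helper36.ParaCentCert
import Cfsg.Agent.Helper36.HeightNil
import Cfsg.Agent.Helper18.Borel
import Cfsg.Agent.Helper18.HProd
import Cfsg.Agent.S1036

/-!
Helper36: matrix entries of the elements of the Borel subgroup of a Chevalley group in the rows of the `h_i`,
and two consequences: a relation `x_s(a) b = b x_r(1)` with `b ∈ B`, `-s` before `-r`, kills the coroot of `r`
in the field; an element `b ∈ B` commuting with `x_r(t)` has diagonal entry `1` at `e_{-r}`.
-/

set_option autoImplicit false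

namespace Cfsg.Agent.Helper36.ParaCent

open Cfsg Cfsg.Lie Cfsg.Agent.Helper18

section Mat
variable {F : Type*} [Field F] (D : ChevalleyDatum)

/-- the row `h_a` of `x_r(t)` -/
theorem x_row (hlf : ℕ) (htri : triOK D hlf = true) (r : ℕ) (hr : r < D.nroots) (t : F) (a : Fin D.rank)
    (k : D.Idx) :
    D.x F r t (Sum.inl a) k = (if k = Sum.inl a then 1 else 0) +
      (if k = Sum.inr ⟨D.neg r, (triOK_spec D hlf htri r hr).1⟩ then ((co D r a : ℤ) : F) * t else 0) := by
  obtain ⟨hn, -, h1, h2⟩ := triOK_spec D hlf htri r hr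
  have hne : D.neg r ≠ r := by
    intro e
    rcases Nat.lt_or_ge r hlf with h | h
    · have := h1 h; omega
    · have := h2 h; omega
  unfold ChevalleyDatum.x
  rw [dif_pos hr]
  simp only [ChevalleyDatum.xMat, Matrix.of_apply]
  rcases k with i | s
  · by_cases hai : a = i
    · subst hai; simp
    · have : i ≠ a := fun e => hai e.symm
      simp [hai, this]
  · simp only [reduceCtorEq, if_false, zero_add, Sum.inr.injEq]
    by_cases hsr : s = ⟨r, hr⟩
    · have : s ≠ ⟨D.neg r, hn⟩ := by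
        rw [hsr]; intro e; exact hne (Fin.mk.inj_iff.mp e).symm
      rw [if_pos hsr, if_neg this]
    · rw [if_neg hsr]
      by_cases hsn : s.val = D.negIdx.getD r 0
      · have : s = ⟨D.neg r, hn⟩ := Fin.ext hsn
        rw [if_pos hsn, if_pos this]; rfl
      · have : s ≠ ⟨D.neg r, hn⟩ := fun e => hsn (by rw [e]; rfl)
        rw [if_neg hsn, if_neg this]

/-- the row `h_a` of `x_r(t) M` -/
theorem x_mul_row (hlf : ℕ) (htri : triOK D hlf = true) (r : ℕ) (hr : r < D.nroots) (t : F) (a : Fin D.rank)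
    (M : Matrix D.Idx D.Idx F) (j : D.Idx) :
    (D.x F r t * M) (Sum.inl a) j = M (Sum.inl a) j +
      ((co D r a : ℤ) : F) * t * M (Sum.inr ⟨D.neg r, (triOK_spec D hlf htri r hr).1⟩) j := by
  rw [Matrix.mul_apply]
  simp only [x_row D hlf htri r hr t a, add_mul, ite_mul, one_mul, zero_mul, Finset.sum_add_distrib,
    Finset.sum_ite_eq', Finset.mem_univ, if_true]

/-- the entry `(h_a, e_{-r})` of `M x_r(t)` when the row `h_a` of `M` is that of the identity on the `h_i` and
vanishes at `e_r` -/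
theorem mul_x_entry (hlf : ℕ) (htri : triOK D hlf = true) (r : ℕ) (hr : r < D.nroots) (t : F) (a : Fin D.rank)
    (M : Matrix D.Idx D.Idx F) (hM1 : ∀ i : Fin D.rank, M (Sum.inl a) (Sum.inl i) = if a = i then 1 else 0)
    (hM2 : M (Sum.inl a) (Sum.inr ⟨r, hr⟩) = 0) :
    (M * D.x F r t) (Sum.inl a) (Sum.inr ⟨D.neg r, (triOK_spec D hlf htri r hr).1⟩) =
      M (Sum.inl a) (Sum.inr ⟨D.neg r, (triOK_spec D hlf htri r hr).1⟩) + ((co D r a : ℤ) : F) * t := by
  obtain ⟨hn, -, h1, h2⟩ := triOK_spec D hlf htri r hr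
  have hne : D.neg r ≠ r := by
    intro e
    rcases Nat.lt_or_ge r hlf with h | h
    · have := h1 h; omega
    · have := h2 h; omega
  have hne' : (⟨D.neg r, hn⟩ : Fin D.nroots) ≠ ⟨r, hr⟩ := fun e => hne (Fin.mk.inj_iff.mp e)
  rw [Matrix.mul_apply, Fintype.sum_sum_type]
  have e1 : ∀ i : Fin D.rank, M (Sum.inl a) (Sum.inl i) * D.x F r t (Sum.inl i) (Sum.inr ⟨D.neg r, hn⟩)
      = if a = i then ((co D r a : ℤ) : F) * t else 0 := by
    intro i
    rw [hM1 i, x_row D hlf htri r hr t i]
    by_cases hai : a = i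
    · subst hai; simp
    · simp [hai]
  have e2 : ∀ u : Fin D.nroots, M (Sum.inl a) (Sum.inr u) * D.x F r t (Sum.inr u) (Sum.inr ⟨D.neg r, hn⟩)
      = if u = ⟨D.neg r, hn⟩ then M (Sum.inl a) (Sum.inr ⟨D.neg r, hn⟩) else 0 := by
    intro u
    unfold ChevalleyDatum.x
    rw [dif_pos hr]
    simp only [ChevalleyDatum.xMat, Matrix.of_apply]
    rw [if_neg hne', if_pos (show (⟨D.neg r, hn⟩ : Fin D.nroots).val = D.negIdx.getD r 0 from rfl)]
    by_cases hu : u = ⟨D.neg r, hn⟩
    · rw [if_pos hu, if_pos hu, mul_one, hu]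
    · rw [if_neg hu, if_neg hu]
      by_cases hur : u = ⟨r, hr⟩
      · rw [hur, hM2, zero_mul]
      · rw [if_neg hur, mul_zero]
  rw [Finset.sum_congr rfl (fun i _ => e1 i), Finset.sum_congr rfl (fun u _ => e2 u)]
  simp only [Finset.sum_ite_eq, Finset.sum_ite_eq', Finset.mem_univ, if_true]
  ring

end Mat

section Shape
variable {F : Type*} [Field F] (D : ChevalleyDatum)

/-- lower triangular, and the identity on the `h_i` -/
def CShape (hlf : ℕ) (M : Matrix D.Idx D.Idx F) : Prop :=
  IsLower D hlf M ∧ ∀ a i : Fin D.rank, M (Sum.inl a) (Sum.inl i) = if a = i then 1 else 0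

theorem CShape.mul {hlf : ℕ} {M N : Matrix D.Idx D.Idx F} (hM : CShape D hlf M) (hN : CShape D hlf N) :
    CShape D hlf (M * N) := by
  constructor
  · intro i j hij
    rw [Matrix.mul_apply]
    apply Finset.sum_eq_zero
    intro k _
    by_cases h1 : lvl D hlf i < lvl D hlf k
    · rw [hM.1 i k h1, zero_mul]
    · rw [hN.1 k j (by omega), mul_zero]
  · intro a i
    rw [Matrix.mul_apply, Fintype.sum_sum_type]
    have e2 : ∀ u : Fin D.nroots, M (Sum.inl a) (Sum.inr u) * N (Sum.inr u) (Sum.inl i) = 0 := by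
      intro u
      by_cases hu : u.val < hlf
      · rw [hN.1 (Sum.inr u) (Sum.inl i) (by simp only [lvl, Sum.elim_inl, Sum.elim_inr, if_pos hu]; omega),
          mul_zero]
      · have := a.2
        rw [hM.1 (Sum.inl a) (Sum.inr u) (by simp only [lvl, Sum.elim_inl, Sum.elim_inr, if_neg hu]; omega),
          zero_mul]
    rw [Finset.sum_congr rfl (fun u _ => e2 u), Finset.sum_const_zero, add_zero]
    simp only [hM.2, hN.2, ite_mul, one_mul, zero_mul, Finset.sum_ite_eq, Finset.mem_univ, if_true]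

/-- the invertible matrices of this shape -/
def cShapeSub (hlf : ℕ) : Submonoid (GL D.Idx F) where
  carrier := {g | CShape D hlf (g : Matrix D.Idx D.Idx F)}
  one_mem' := by
    refine ⟨?_, ?_⟩
    · intro i j hij
      have : i ≠ j := by rintro rfl; omega
      simp [this]
    · intro a i
      by_cases h : a = i
      · subst h; simp
      · have : (Sum.inl a : D.Idx) ≠ Sum.inl i := fun e => h (Sum.inl.inj e)
        simp [h, this]
  mul_mem' := by
    intro g h hg hh
    show CShape D hlf ((g * h : GL D.Idx F) : Matrix D.Idx D.Idx F)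
    rw [Units.val_mul]
    exact hg.mul D hh

theorem x_cShape (hlf : ℕ) (htri : triOK D hlf = true) (r : ℕ) (hr : hlf ≤ r) (t : F) :
    CShape D hlf (D.x F r t) := by
  refine ⟨x_isLower D hlf htri r hr t, ?_⟩
  intro a i
  by_cases hrn : r < D.nroots
  · rw [x_row D hlf htri r hrn t a]
    by_cases h : a = i
    · subst h; simp
    · have : i ≠ a := fun e => h e.symm
      simp [h, this]
  · unfold ChevalleyDatum.x
    rw [dif_neg hrn]
    by_cases h : a = i
    · subst h; simp
    · have : (Sum.inl a : D.Idx) ≠ Sum.inl i := fun e => h (Sum.inl.inj e)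
      simp [h, this]

variable (hD : D ∈ [chevG2, chevB2, chevD4, chevF4, chevE6, chevE7, chevE8])

include hD in
theorem pos_cShape [Finite F] (u : GL D.Idx F) (hu : u ∈ D.posUnipotent F) :
    CShape D (hlfOf D) (u : Matrix D.Idx D.Idx F) := by
  haveI : Fintype F := Fintype.ofFinite F
  have htri := triOK_of_mem D hD
  have hpos := posOK_of_mem D hD
  have := Cfsg.Agent.Helper36.HeightNil.closure_le_submonoid (cShapeSub (F := F) D (hlfOf D))
    {g | ∃ (r : ℕ) (t : F), D.IsPosRoot r ∧ (g : Matrix D.Idx D.Idx F) = D.x F r t} (by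
      rintro g ⟨r, t, hr, hg⟩
      show CShape D (hlfOf D) (g : Matrix D.Idx D.Idx F)
      rw [hg]
      exact x_cShape D _ htri r ((isPosRoot_iff D _ hpos r).mp hr).1 t) u hu
  exact this

include hD in
/-- an element of `B` is `u h` with `u ∈ U` and `h` a product of the `h_{p_i}(z_i)` -/
theorem borel_decomp (b : GL D.Idx F) (hb : b ∈ D.borelSubgroup F) :
    ∃ u ∈ D.posUnipotent F, ∃ h ∈ D.diagonalSubgroup F, ∃ z : ℕ → F, (∀ i, z i ≠ 0) ∧
      (h : Matrix D.Idx D.Idx F) = hProd D F z ∧ b = u * h := by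
  have hle := (Cfsg.Agent.S1036.result (F := F) D hD).1
  have hset := Subgroup.coe_mul_of_right_le_normalizer_left (D.posUnipotent F) (D.diagonalSubgroup F) hle
  have hmem : b ∈ ((D.posUnipotent F ⊔ D.diagonalSubgroup F : Subgroup (GL D.Idx F)) : Set (GL D.Idx F)) := hb
  rw [hset] at hmem
  obtain ⟨u, hu, h, hh, rfl⟩ := hmem
  obtain ⟨z, hz, hhz⟩ := diagonalSubgroup_le_hProdSubgroup D hD hh
  exact ⟨u, hu, h, hh, z, hz, hhz, rfl⟩

/-- the diagonal entry of `h_{p_1}(z_1) ⋯ h_{p_l}(z_l)` at the root `s` -/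
def chi (z : ℕ → F) (s : ℕ) : F := ((List.range D.rank).map fun i => z i ^ D.cartan i s).prod

include hD in
/-- the shape of the elements of `B` -/
theorem borel_shape [Finite F] (b : GL D.Idx F) (hb : b ∈ D.borelSubgroup F) :
    ∃ u ∈ D.posUnipotent F, ∃ h ∈ D.diagonalSubgroup F, ∃ z : ℕ → F, (∀ i, z i ≠ 0) ∧
      (h : Matrix D.Idx D.Idx F) = hProd D F z ∧ b = u * h ∧ CShape D (hlfOf D) (b : Matrix D.Idx D.Idx F) ∧
      ∀ s : Fin D.nroots, (b : Matrix D.Idx D.Idx F) (Sum.inr s) (Sum.inr s) = chi D z s.val := by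
  obtain ⟨u, hu, h, hh, z, hz, hhz, rfl⟩ := borel_decomp D hD b hb
  have hus := pos_cShape D hD u hu
  have hu1 := posUnipotent_le D hD hu
  rw [mem_lowerGL_one_iff _ (lvl_injective D _)] at hu1
  refine ⟨u, hu, h, hh, z, hz, hhz, rfl, ?_, ?_⟩
  · rw [Units.val_mul, hhz]
    unfold hProd
    constructor
    · intro i j hij
      rw [Matrix.mul_diagonal, hus.1 i j hij, zero_mul]
    · intro a i
      rw [Matrix.mul_diagonal, hus.2 a i]
      simp
  · intro s
    rw [Units.val_mul, hhz]
    unfold hProd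
    rw [Matrix.mul_diagonal, hu1.2 (Sum.inr s), one_mul]
    rfl

end Shape

end Cfsg.Agent.Helper36.ParaCent
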