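import Cfsg.Agent.Helper40.SL2Hom

/-!
Helper36: consequences of Steinberg's rank-one relations `Rel x y` (helper40) in an arbitrary group.

* `conj_decomp`: for `e = 1 + a b ≠ 0`, `(x a y b x a) x c = y (b/e) x (e² c) y (-b/e) (x a y b x a)`.
* `ab_eq_neg_one`: if `x a y b x a` conjugates `x c` (`c ≠ 0`) to some `y d`, and no `x s`, `s ≠ 0`, is a `y t`,
  then `a b = -1`.
* `w_mul_w_inv`: `w(s) w(c)⁻¹ = h(s) h(c)⁻¹`.
-/

set_option autoImplicit false

namespace Cfsg.Agent.Helper36.RankOne

open Cfsg.Agent.Helper40.SL2Hom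

variable {F : Type*} [Field F] {Γ : Type*} [Group Γ] {x y : F → Γ}

theorem sl2_identity (a b c : F) (he : 1 + a * b ≠ 0) :
    (U a * L b * U a) * U c =
      L (b / (1 + a * b)) * U ((1 + a * b) * (1 + a * b) * c) * L (-(b / (1 + a * b))) * (U a * L b * U a) := by
  have he' : 1 + b * a ≠ 0 := by rwa [mul_comm]
  apply sl2_ext
  · simp only [Matrix.SpecialLinearGroup.coe_mul, U_coe, L_coe, Matrix.mul_apply, Fin.sum_univ_two,
      Matrix.of_apply, Matrix.cons_val', Matrix.cons_val_zero, Matrix.cons_val_one, Matrix.cons_val_fin_one]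
    field_simp
    ring
  · simp only [Matrix.SpecialLinearGroup.coe_mul, U_coe, L_coe, Matrix.mul_apply, Fin.sum_univ_two,
      Matrix.of_apply, Matrix.cons_val', Matrix.cons_val_zero, Matrix.cons_val_one, Matrix.cons_val_fin_one]
    field_simp
    ring
  · simp only [Matrix.SpecialLinearGroup.coe_mul, U_coe, L_coe, Matrix.mul_apply, Fin.sum_univ_two,
      Matrix.of_apply, Matrix.cons_val', Matrix.cons_val_zero, Matrix.cons_val_one, Matrix.cons_val_fin_one]
    field_simp
    ring
  · simp only [Matrix.SpecialLinearGroup.coe_mul, U_coe, L_coe, Matrix.mul_apply, Fin.sum_univ_two,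
      Matrix.of_apply, Matrix.cons_val', Matrix.cons_val_zero, Matrix.cons_val_one, Matrix.cons_val_fin_one]
    field_simp
    ring

theorem conj_decomp (R : Rel x y) (a b c : F) (he : 1 + a * b ≠ 0) :
    (x a * y b * x a) * x c =
      y (b / (1 + a * b)) * x ((1 + a * b) * (1 + a * b) * c) * y (-(b / (1 + a * b))) * (x a * y b * x a) := by
  have := congrArg R.hom (sl2_identity a b c he)
  simpa only [map_mul, R.hom_U, R.hom_L] using this

theorem ab_eq_neg_one (R : Rel x y) (hxy : ∀ s t : F, x s = y t → s = 0) (a b c d : F) (hc : c ≠ 0)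
    (h : (x a * y b * x a) * x c = y d * (x a * y b * x a)) : a * b = -1 := by
  by_contra hab
  have he : 1 + a * b ≠ 0 := by
    intro e
    apply hab
    linear_combination e
  have h1 := conj_decomp R a b c he
  rw [h] at h1
  have h2 : y d = y (b / (1 + a * b)) * x ((1 + a * b) * (1 + a * b) * c) * y (-(b / (1 + a * b))) :=
    mul_right_cancel h1
  have h3 : x ((1 + a * b) * (1 + a * b) * c) = y (-(b / (1 + a * b))) * y d * y (b / (1 + a * b)) := by
    rw [h2, R.y_neg]
    group
  rw [← R.y_add, ← R.y_add] at h3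
  have := hxy _ _ h3
  rcases mul_eq_zero.mp this with h4 | h4
  · rcases mul_eq_zero.mp h4 with h5 | h5 <;> exact he h5
  · exact hc h4

theorem w_mul_w_inv (s c : F) : w x y s * (w x y c)⁻¹ = h x y s * (h x y c)⁻¹ := by
  unfold h
  group

end Cfsg.Agent.Helper36.RankOne
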