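import Cfsg.Agent.Helper36.LongRootCentMain

/-!
Helper36: the centralizer of a root element `t = x_{r₀}(1)` for a positive root `r₀` that is a
fundamental weight and whose root subgroup commutes with `U` (for instance the highest short root
of `F₄` in characteristic two): `C_G(t) = ⟨U, X_{-p_j} : p_j ⟂ r₀⟩`. The general version of
`LongRootCent`, with the commutation as a hypothesis.
-/

set_option autoImplicit false

namespace Cfsg.Agent.Helper36.RootCent

open Cfsg Cfsg.Lie Cfsg.Agent.Helper18 Cfsg.Agent.Helper36.HighRoot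
  Cfsg.Agent.Helper36.LongRootCent

/-- the root elements of `r` and `s` commute in characteristic two: all the constants of the
commutator formula are even -/
def commPairOK2 (D : ChevalleyDatum) (r s : ℕ) : Bool :=
  decide (r < D.nroots) && decide (s < D.nroots) && decide (s ≠ r) && decide (s ≠ D.neg r) &&
    (D.commTerms r s).all (fun c => decide (c.2.1 % 2 = 0))

section

variable {F : Type*} [Field F] (D : ChevalleyDatum)
  (hD : D ∈ [chevG2, chevB2, chevD4, chevF4, chevE6, chevE7, chevE8])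

theorem wordMat_zero (w : List (ℕ × F)) (h : ∀ p ∈ w, p.2 = 0) : D.wordMat F w = 1 := by
  induction w with
  | nil => simp [ChevalleyDatum.wordMat]
  | cons p w ih =>
    have e : D.wordMat F (p :: w) = D.x F p.1 p.2 * D.wordMat F w := by
      simp [ChevalleyDatum.wordMat]
    rw [e, ih (fun q hq => h q (List.mem_cons_of_mem _ hq)), h p List.mem_cons_self, x_zero, mul_one]

include hD in
theorem xGL_commute2 [CharP F 2] (r s : ℕ) (h : commPairOK2 D r s = true) (t u : F) :
    Commute (xGL D F s u) (xGL D F r t) := by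
  have htri := triOK_of_mem D hD
  unfold commPairOK2 at h
  simp only [Bool.and_eq_true, decide_eq_true_eq, List.all_eq_true] at h
  obtain ⟨⟨⟨⟨hr, hs⟩, hsr⟩, hsn⟩, h0⟩ := h
  show _ * _ = _ * _
  apply Units.ext
  rw [Units.val_mul, Units.val_mul, xGL_val D _ htri, xGL_val D _ htri]
  have := Cfsg.Agent.S1025.result D hD r s hr hs hsr hsn t u
  rw [this, wordMat_zero, mul_one]
  intro p hp
  unfold ChevalleyDatum.commWord at hp
  obtain ⟨c, hc, rfl⟩ := List.mem_map.mp hp
  have h2 := h0 c hc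
  obtain ⟨k, hk⟩ : ∃ k : ℤ, c.2.1 = 2 * k := ⟨c.2.1 / 2, by omega⟩
  show (c.2.1 : F) * (-t) ^ c.2.2.1 * u ^ c.2.2.2 = 0
  rw [hk]
  push_cast
  have h20 : (2 : F) = 0 := CharTwo.two_eq_zero
  rw [h20]
  ring

/-- the numerical facts, with the commutation checks for characteristic two -/
def centOK2 (D : ChevalleyDatum) (r₀ i₀ : ℕ) (negs : List ℕ) : Bool :=
  decide (hlfOf D ≤ r₀) && decide (r₀ < D.nroots) && decide (i₀ < D.rank) &&
  (List.range D.nroots).all (fun r => !(decide (hlfOf D ≤ r)) || (r == r₀) || commPairOK2 D r₀ r) &&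
  decide (negs = ((List.range D.rank).filter (fun j => j ≠ i₀)).map (fun j => D.neg (D.simple j))) &&
  negs.all (fun s => commPairOK2 D r₀ s) &&
  decide (D.reflectRoot i₀ r₀ ≠ r₀) &&
  (List.range D.rank).all (fun i => decide (D.cartan i r₀ = if i = i₀ then 1 else 0))

/-- the hypotheses on the root `r₀` -/
structure Hyp (F : Type*) [Field F] (D : ChevalleyDatum) (r₀ i₀ : ℕ) (negs : List ℕ) : Prop where
  pos : hlfOf D ≤ r₀
  lt : r₀ < D.nroots
  i₀_lt : i₀ < D.rank
  comm_pos : ∀ u ∈ D.posUnipotent F, ∀ x ∈ D.rootSubgroup F r₀, Commute u x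
  negs_eq : negs = ((List.range D.rank).filter (fun j => j ≠ i₀)).map (fun j => D.neg (D.simple j))
  negs_lt : ∀ s ∈ negs, s < D.nroots
  comm_neg : ∀ s ∈ negs, ∀ c c' : F, Commute (xGL D F s c) (xGL D F r₀ c')
  refl_ne : D.reflectRoot i₀ r₀ ≠ r₀
  cart : ∀ i < D.rank, D.cartan i r₀ = if i = i₀ then 1 else 0

include hD in
theorem hyp_of_centOK2 [CharP F 2] (r₀ i₀ : ℕ) (negs : List ℕ) (h : centOK2 D r₀ i₀ negs = true) :
    Hyp F D r₀ i₀ negs := by
  have htri := triOK_of_mem D hD
  have hpos := posOK_of_mem D hD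
  unfold centOK2 at h
  simp only [Bool.and_eq_true, decide_eq_true_eq, List.all_eq_true, List.mem_range] at h
  obtain ⟨⟨⟨⟨⟨⟨⟨h1, h2⟩, h3⟩, h4⟩, h5⟩, h6⟩, h7⟩, h8⟩ := h
  refine ⟨h1, h2, h3, ?_, h5, ?_, ?_, h7, h8⟩
  · intro u hu x hx
    unfold ChevalleyDatum.posUnipotent at hu
    unfold ChevalleyDatum.rootSubgroup at hx
    refine Cfsg.Agent.Helper36.Twist.commute_of_mem_closure ?_ hu hx
    rintro g₁ ⟨r, t, hr, hg₁⟩ g₂ ⟨c, hg₂⟩
    have e1 : g₁ = xGL D F r t := Units.ext (by rw [hg₁, xGL_val D _ htri])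
    have e2 : g₂ = xGL D F r₀ c := Units.ext (by rw [hg₂, xGL_val D _ htri])
    rw [e1, e2]
    by_cases hrh : r = r₀
    · rw [hrh]
      show _ * _ = _ * _
      rw [Cfsg.Agent.Helper19.Poinc.xGL_mul D hD _ h2, Cfsg.Agent.Helper19.Poinc.xGL_mul D hD _ h2,
        add_comm]
    · have hr' := (isPosRoot_iff D _ hpos r).mp hr
      have h9 := h4 r hr'.2
      simp only [Bool.or_eq_true, Bool.not_eq_true', decide_eq_false_iff_not, beq_iff_eq] at h9
      rcases h9 with (h9 | h9) | h9
      · exact absurd hr'.1 h9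
      · exact absurd h9 hrh
      · exact xGL_commute2 D hD _ _ h9 c t
  · intro s hs
    have := h6 s hs
    unfold commPairOK2 at this
    simp only [Bool.and_eq_true, decide_eq_true_eq] at this
    exact this.1.1.1.2
  · intro s hs c c'
    exact xGL_commute2 D hD _ _ (h6 s hs) c' c

include hD in
theorem hyp_of_centOK (i₀ : ℕ) (negs : List ℕ) (h : centOK D i₀ negs = true)
    (hlt : D.nroots - 1 < D.nroots) : Hyp F D (D.nroots - 1) i₀ negs := by
  have htri := triOK_of_mem D hD
  obtain ⟨hhi, hi₀, hnegs, hcomm, hrefl, hcart⟩ := centOK_spec h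
  have hadd := Cfsg.Agent.Helper40.ChevAdd.addOK_of_mem hD
  have hcommH : Cfsg.Agent.Helper36.Perfect.CommHyp F D :=
    fun r s hr hs h1 h2 t u => Cfsg.Agent.S1025.result D hD r s hr hs h1 h2 t u
  have hnlt : ∀ s ∈ negs, s < D.nroots := by
    intro s hs
    have := hcomm s hs
    unfold Cfsg.Agent.Helper36.Twist.commPairOK at this
    simp only [Bool.and_eq_true, decide_eq_true_eq] at this
    exact this.1.1.1.2
  refine ⟨?_, hlt, hi₀, fun u hu x hx => pos_commute_hi D hD hhi u x hu hx, hnegs, hnlt, ?_, hrefl,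
    hcart⟩
  · unfold hlfOf
    omega
  · intro s hs c c'
    have e1 : xGL D F s c = Cfsg.Agent.Helper40.ChevAdd.xGL D hadd F s c :=
      Cfsg.Agent.Helper40.ChevAdd.eq_xGL D hadd (xGL_val D _ htri _ _)
    have e2 : xGL D F (D.nroots - 1) c' = Cfsg.Agent.Helper40.ChevAdd.xGL D hadd F (D.nroots - 1) c' :=
      Cfsg.Agent.Helper40.ChevAdd.eq_xGL D hadd (xGL_val D _ htri _ _)
    rw [e1, e2]
    exact Cfsg.Agent.Helper36.Twist.xGL_commute D hadd hcommH _ _ (hcomm s hs) c' c

end

section Main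

variable {F : Type*} [Field F] (D : ChevalleyDatum)
  (hD : D ∈ [chevG2, chevB2, chevD4, chevF4, chevE6, chevE7, chevE8])
  {r₀ i₀ : ℕ} {negs : List ℕ} (H : Hyp F D r₀ i₀ negs)

include hD H in
theorem borel_le_normalizer (b : GL D.Idx F) (hb : b ∈ D.borelSubgroup F) :
    cj b (D.rootSubgroup F r₀) = D.rootSubgroup F r₀ := by
  have hle : D.borelSubgroup F ≤
      Subgroup.normalizer (D.rootSubgroup F r₀ : Set (GL D.Idx F)) := by
    unfold ChevalleyDatum.borelSubgroup
    apply sup_le
    · intro u hu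
      rw [Subgroup.mem_normalizer_iff]
      intro x
      constructor
      · intro hx
        have := (H.comm_pos u hu x hx).eq
        rw [this, mul_inv_cancel_right]
        exact hx
      · intro hx
        have h2 := (H.comm_pos u hu _ hx).eq
        have h3 : x = u * x * u⁻¹ :=
          calc x = u⁻¹ * ((u * x * u⁻¹) * u) := by group
            _ = u⁻¹ * (u * (u * x * u⁻¹)) := by rw [h2]
            _ = u * x * u⁻¹ := by group
        rw [h3]
        exact hx
    · intro h hh
      rw [Subgroup.mem_normalizer_iff_map_conj_eq]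
      exact rootSubgroup_conj_diag D hD h hh _ H.lt
  have := hle hb
  rw [Subgroup.mem_normalizer_iff_map_conj_eq] at this
  exact this

include hD H in
theorem root_eq (β : ℕ) (hβ : β < D.nroots) (y : GL D.Idx F)
    (hy1 : y ≠ 1) (hyβ : y ∈ D.rootSubgroup F β) (hyh : y ∈ D.rootSubgroup F r₀) :
    β = r₀ := by
  have htri := triOK_of_mem D hD
  have hpos := posOK_of_mem D hD
  obtain ⟨c, rfl⟩ := (Cfsg.Agent.Helper19.Poinc.mem_rootSubgroup_iff D hD β hβ y).mp hyβ
  obtain ⟨c', hc'⟩ := (Cfsg.Agent.Helper19.Poinc.mem_rootSubgroup_iff D hD _ H.lt _).mp hyh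
  by_contra hne
  have hposhi : D.IsPosRoot r₀ := by
    rw [isPosRoot_iff D _ hpos]
    exact ⟨H.pos, H.lt⟩
  have h1 : D.x F β c = D.x F r₀ c' := by
    rw [← xGL_val D _ htri, ← xGL_val D _ htri, hc']
  have hc0 := Cfsg.Agent.Helper36.RootSep.eq_zero_of_x_eq D hD β _ hβ hposhi hne c c' h1
  apply hy1
  rw [hc0]
  exact Cfsg.Agent.Helper19.Poinc.xGL_zero' D hD β

include hD H in
theorem cj_eq_of_commute (t : GL D.Idx F) (ht : (t : Matrix D.Idx D.Idx F) = D.x F r₀ 1)
    (g : GL D.Idx F) (hg : g ∈ D.group F) (hgt : g * t = t * g) :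
    cj g (D.rootSubgroup F r₀) = D.rootSubgroup F r₀ := by
  have htri := triOK_of_mem D hD
  have hlt := H.lt
  obtain ⟨b, hb, n, hn, u, hu, rfl⟩ := (Cfsg.Agent.S1100.result (F := F) D hD).1 g hg
  obtain ⟨w, hww, h, hh, rfl⟩ := mem_monomial_decomp D hD n hn
  have huU : u ∈ D.posUnipotent F := Cfsg.Agent.Helper36.bruhatU_le_pos D _ hu
  have hUB : D.posUnipotent F ≤ D.borelSubgroup F := le_sup_left
  set X := D.rootSubgroup F r₀ with hX
  set β := rho D w r₀ with hβ
  have hβlt : β < D.nroots := rho_lt D hD w hww _ hlt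
  have e1 : cj (b * (h * nWordsGL D F w) * u) X = cj b (D.rootSubgroup F β) := by
    rw [cj_mul, cj_mul, cj_mul, borel_le_normalizer D hD H u (hUB huU)]
    have : cj (nWordsGL D F w) X = D.rootSubgroup F β := rootSubgroup_conj_word D hD w hww _ hlt
    rw [this]
    have : cj h (D.rootSubgroup F β) = D.rootSubgroup F β := rootSubgroup_conj_diag D hD h hh β hβlt
    rw [this]
  rw [e1]
  have htX : t ∈ X := Subgroup.subset_closure ⟨1, ht⟩
  have ht1 : t ≠ 1 := by
    intro h1
    have h2 : D.x F r₀ (1 : F) = 1 := by rw [← ht, h1]; rfl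
    exact one_ne_zero ((Cfsg.Agent.S1024.result D hD _ hlt (1 : F)).mp h2)
  have h3 : t ∈ cj b (D.rootSubgroup F β) := by
    rw [← e1]
    refine ⟨t, htX, ?_⟩
    show (b * (h * nWordsGL D F w) * u) * t * (b * (h * nWordsGL D F w) * u)⁻¹ = t
    rw [hgt, mul_inv_cancel_right]
  obtain ⟨y, hyβ, hyt⟩ := h3
  have hyt' : b * y * b⁻¹ = t := hyt
  have hyX : y ∈ X := by
    have h4 : y = b⁻¹ * t * b⁻¹⁻¹ := by rw [← hyt']; group
    have h5 : b⁻¹ * t * b⁻¹⁻¹ ∈ cj b⁻¹ X := ⟨t, htX, rfl⟩
    rw [borel_le_normalizer D hD H b⁻¹ (Subgroup.inv_mem _ hb)] at h5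
    rw [h4]
    exact h5
  have hy1 : y ≠ 1 := by
    rintro rfl
    apply ht1
    rw [← hyt']
    group
  have hβe := root_eq D hD H β hβlt y hy1 hyβ hyX
  rw [hβe]
  exact borel_le_normalizer D hD H b hb

include hD H in
theorem n_not_normalize (k : GL D.Idx F)
    (hk : (k : Matrix D.Idx D.Idx F) = D.nMat F (D.simple i₀) 1)
    (hkn : cj k (D.rootSubgroup F r₀) = D.rootSubgroup F r₀) : False := by
  have htri := triOK_of_mem D hD
  have hlt := H.lt
  have hi₀ := H.i₀_lt
  have hk' : k = nWordsGL D F [i₀] := by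
    apply Units.ext
    rw [hk]
    simp only [nWordsGL, List.map_cons, List.map_nil, List.prod_cons, List.prod_nil, mul_one]
    rw [nWordGL_val D hD]
  have h1 : cj (nWordsGL D F [i₀]) (D.rootSubgroup F r₀) =
      D.rootSubgroup F (rho D [i₀] r₀) :=
    rootSubgroup_conj_word D hD [i₀] (by intro i hi; rw [List.mem_singleton] at hi; rw [hi]; exact hi₀)
      _ hlt
  have h2 : rho D [i₀] r₀ = D.reflectRoot i₀ r₀ := rfl
  rw [hk', h1, h2] at hkn
  set β := D.reflectRoot i₀ r₀ with hβ
  have hβlt : β < D.nroots := reflectRoot_lt D hD i₀ _ hi₀ hlt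
  have hy : xGL D F β 1 ∈ D.rootSubgroup F r₀ := by
    rw [← hkn]
    exact Subgroup.subset_closure ⟨1, xGL_val D _ htri _ _⟩
  have hy1 : xGL D F β (1 : F) ≠ 1 := by
    intro h
    have h3 : D.x F β (1 : F) = 1 := by rw [← xGL_val D _ htri, h]; rfl
    exact one_ne_zero ((Cfsg.Agent.S1024.result D hD _ hβlt (1 : F)).mp h3)
  exact H.refl_ne (root_eq D hD H β hβlt _ hy1
    (Subgroup.subset_closure ⟨1, xGL_val D _ htri _ _⟩) hy)

include hD H in
theorem normalizer_le_parabolic (g : GL D.Idx F) (hg : g ∈ D.group F)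
    (hgn : cj g (D.rootSubgroup F r₀) = D.rootSubgroup F r₀) :
    g ∈ D.parabolicSubgroup F {j | j < D.rank ∧ j ≠ i₀} := by
  set X := D.rootSubgroup F r₀ with hX
  have hBG := (Cfsg.Agent.S1043.result (F := F) D hD).1
  have hM : D.group F ⊓ Subgroup.normalizer (X : Set (GL D.Idx F)) ≤
      D.parabolicSubgroup F {j | j < D.rank ∧ j ≠ i₀} := by
    apply le_parabolic_of D hD _ inf_le_left
    · apply le_inf hBG
      intro b hb
      rw [Subgroup.mem_normalizer_iff_map_conj_eq]
      exact borel_le_normalizer D hD H b hb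
    · intro i hi k hk hkM
      refine ⟨hi, ?_⟩
      rintro rfl
      have hkn := (Subgroup.mem_inf.mp hkM).2
      rw [Subgroup.mem_normalizer_iff_map_conj_eq] at hkn
      exact n_not_normalize D hD H k hk hkn
  apply hM
  refine Subgroup.mem_inf.mpr ⟨hg, ?_⟩
  rw [Subgroup.mem_normalizer_iff_map_conj_eq]
  exact hgn

include hD H in
theorem rhs_le (t : GL D.Idx F) (ht : (t : Matrix D.Idx D.Idx F) = D.x F r₀ 1) :
    rhs F D negs ≤ D.group F ⊓ Subgroup.centralizer {t} := by
  have htri := triOK_of_mem D hD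
  have htX : t ∈ D.rootSubgroup F r₀ := Subgroup.subset_closure ⟨1, ht⟩
  have htx : t = xGL D F r₀ 1 := Units.ext (by rw [ht, xGL_val D _ htri])
  unfold rhs
  apply sup_le
  · apply le_inf
    · exact le_trans le_sup_left (Cfsg.Agent.S1043.result (F := F) D hD).1
    · intro u hu
      rw [Subgroup.mem_centralizer_iff]
      intro y hy
      rw [Set.mem_singleton_iff] at hy
      rw [hy]
      exact ((H.comm_pos u hu t htX).eq).symm
  · rw [Subgroup.closure_le]
    rintro g ⟨s, hs, c, hg⟩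
    have hgx : g = xGL D F s c := Units.ext (by rw [hg, xGL_val D _ htri])
    rw [SetLike.mem_coe]
    apply Subgroup.mem_inf.mpr
    constructor
    · rw [hgx]
      exact xGL_mem_group' D hD s c
    · rw [Subgroup.mem_centralizer_iff]
      intro y hy
      rw [Set.mem_singleton_iff] at hy
      rw [hy, hgx, htx]
      exact ((H.comm_neg s hs c 1).eq).symm

include hD H in
theorem diagonal_mem_rhs (t : GL D.Idx F) (ht : (t : Matrix D.Idx D.Idx F) = D.x F r₀ 1)
    (h : GL D.Idx F) (hh : h ∈ D.diagonalSubgroup F) (hht : h * t = t * h) :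
    h ∈ rhs F D negs := by
  have hlt := H.lt
  have hi₀ := H.i₀_lt
  have hnegs := H.negs_eq
  have hcart := H.cart
  have htri := triOK_of_mem D hD
  have hs := simpleOK_of_mem D hD
  obtain ⟨χ, -, hdiag, hcj⟩ := diagonalSubgroup_char D hD h hh
  obtain ⟨c, hc0, hhc⟩ := diagonalSubgroup_le_hProdSubgroup D hD hh
  have htx : t = xGL D F r₀ 1 := Units.ext (by rw [ht, xGL_val D _ htri])
  have hχ1 : χ r₀ = 1 := by
    have e1 := hcj _ hlt (1 : F)
    rw [← htx, hht] at e1
    have e2 : t = xGL D F r₀ (χ r₀ * 1) := mul_right_cancel e1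
    have e3 := congrArg (fun g : GL D.Idx F => (g : Matrix D.Idx D.Idx F)) e2
    simp only [xGL_val D _ htri] at e3
    rw [ht] at e3
    have := x_injective D hD _ hlt _ _ e3
    rw [mul_one] at this
    exact this.symm
  have hχc : χ r₀ = c i₀ := by
    have e1 : Matrix.diagonal (Sum.elim (fun _ => (1 : F)) (fun s : Fin D.nroots => χ s.val)) =
        hProd D F c := by rw [← hdiag, hhc]
    unfold hProd at e1
    have e2 := congrFun (Matrix.diagonal_injective e1) (Sum.inr ⟨r₀, hlt⟩)
    simp only [Sum.elim_inr] at e2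
    rw [e2, range_map_prod]
    rw [Finset.prod_eq_single i₀]
    · rw [hcart i₀ hi₀, if_pos rfl, zpow_one]
    · intro b hb hne
      rw [hcart b (Finset.mem_range.mp hb), if_neg hne, zpow_zero]
    · intro hni
      exact absurd (Finset.mem_range.mpr hi₀) hni
  have hci₀ : c i₀ = 1 := by rw [← hχc, hχ1]
  have hw : h = wordGL D F ((List.range D.rank).flatMap fun i => D.hWord (D.simple i) (c i)) := by
    apply Units.ext
    rw [wordGL_val D _ htri, hhc, hProd_of_words D hD c (fun i _ => hc0 i)]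
  rw [hw]
  apply wordGL_flatMap_mem
  intro i hi
  rw [List.mem_range] at hi
  by_cases hii : i = i₀
  · rw [hii, hci₀, hWordGL_one D hD _ (simple_lt D hs i₀ hi₀)]
    exact Subgroup.one_mem _
  · apply wordGL_mem_of
    intro p hp
    have hp' : p.1 = D.simple i ∨ p.1 = D.neg (D.simple i) := by
      simp only [ChevalleyDatum.hWord, ChevalleyDatum.nWord, List.cons_append, List.nil_append,
        List.mem_cons, List.not_mem_nil, or_false] at hp
      rcases hp with rfl | rfl | rfl | rfl | rfl | rfl <;> simp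
    rcases hp' with h1 | h1
    · rw [h1]
      exact xGL_pos_mem_rhs D hD negs _ ⟨simple_pos D hD i hi, simple_lt D hs i hi⟩ _
    · rw [h1]
      exact xGL_neg_mem_rhs D hD negs _ (neg_simple_mem hnegs i hi hii) _

include hD H in
/-- the centralizer of the root element `x_{r₀}(1)` -/
theorem cent_eq (t : GL D.Idx F) (ht : (t : Matrix D.Idx D.Idx F) = D.x F r₀ 1) :
    D.group F ⊓ Subgroup.centralizer {t} = D.posUnipotent F ⊔
      Subgroup.closure {g : GL D.Idx F | ∃ s ∈ negs, ∃ c : F,
        (g : Matrix D.Idx D.Idx F) = D.x F s c} := by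
  have hle := rhs_le D hD H t ht
  apply le_antisymm
  · intro g hg
    obtain ⟨hgG, hgC⟩ := Subgroup.mem_inf.mp hg
    have hgt : g * t = t * g := by
      rw [Subgroup.mem_centralizer_iff] at hgC
      exact (hgC t (Set.mem_singleton t)).symm
    have h1 := cj_eq_of_commute D hD H t ht g hgG hgt
    have h2 := normalizer_le_parabolic D hD H g hgG h1
    have h3 := parabolic_le (F := F) D hD i₀ negs H.negs_eq h2
    have h4 : g ∈ ((rhs F D negs ⊔ D.diagonalSubgroup F : Subgroup (GL D.Idx F)) :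
        Set (GL D.Idx F)) := h3
    rw [Subgroup.coe_mul_of_right_le_normalizer_left _ _
      (diagonal_le_normalizer_rhs D hD negs H.negs_lt)] at h4
    obtain ⟨r, hr, h, hh, rfl⟩ := Set.mem_mul.mp h4
    have hrC := (Subgroup.mem_inf.mp (hle hr)).2
    have hrt : r * t = t * r := by
      rw [Subgroup.mem_centralizer_iff] at hrC
      exact (hrC t (Set.mem_singleton t)).symm
    have hht : h * t = t * h := by
      have e1 : r * (h * t) = r * (t * h) := by
        rw [← mul_assoc, hgt, ← mul_assoc, ← hrt, mul_assoc]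
      exact mul_left_cancel e1
    have hhR := diagonal_mem_rhs D hD H t ht h hh hht
    exact Subgroup.mul_mem _ hr hhR
  · exact hle

end Main

end Cfsg.Agent.Helper36.RootCent
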