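import Cfsg.Agent.Helper18.CommTerms
import Cfsg.Agent.Helper18.TriAll

/-!
Helper36: coordinate functions on the roots (positive multiples of the coefficients of a root on
the fundamental roots), as additive level functions, with a table check that their signs agree
with those of the coroot coefficients. Consequences for the roots in the commutator formula:
if `r ∈ Φ⁺ ∪ Φ_J` and `s ∈ Φ⁺ \ Φ_J` then every root `i r + j s` lies in `Φ⁺ \ Φ_J`.
-/

set_option autoImplicit false

namespace Cfsg.Agent.Helper36.RootCoord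

open Cfsg Cfsg.Lie Cfsg.Agent.Helper18

/-- the signs of the `l`-th coordinate function agree with those of the `l`-th coroot coefficient -/
def coordOK (D : ChevalleyDatum) (ws : List (List ℤ)) : Bool :=
  (List.range D.nroots).all fun u =>
    decide ((D.coroot.getD u #[]).size = D.rank) &&
    (List.range D.rank).all fun l =>
      (decide (0 < lvlFast D (ws.getD l []) u) == decide (0 < (D.coroot.getD u #[]).getD l 0)) &&
      (decide (lvlFast D (ws.getD l []) u < 0) == decide ((D.coroot.getD u #[]).getD l 0 < 0))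

def coordWG2 : List (List ℤ) := [[2, 3], [1, 2]]
def coordWB2 : List (List ℤ) := [[2, 2], [1, 2]]
def coordWD4 : List (List ℤ) := [[2, 2, 1, 1], [2, 4, 2, 2], [1, 2, 2, 1], [1, 2, 1, 2]]
def coordWF4 : List (List ℤ) := [[2, 3, 4, 2], [3, 6, 8, 4], [2, 4, 6, 3], [1, 2, 3, 2]]
def coordWE6 : List (List ℤ) := [[4, 3, 5, 6, 4, 2], [3, 6, 6, 9, 6, 3], [5, 6, 10, 12, 8, 4],
  [6, 9, 12, 18, 12, 6], [4, 6, 8, 12, 10, 5], [2, 3, 4, 6, 5, 4]]
def coordWE7 : List (List ℤ) := [[4, 4, 6, 8, 6, 4, 2], [4, 7, 8, 12, 9, 6, 3], [6, 8, 12, 16, 12, 8, 4],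
  [8, 12, 16, 24, 18, 12, 6], [6, 9, 12, 18, 15, 10, 5], [4, 6, 8, 12, 10, 8, 4], [2, 3, 4, 6, 5, 4, 3]]
def coordWE8 : List (List ℤ) := [[4, 5, 7, 10, 8, 6, 4, 2], [5, 8, 10, 15, 12, 9, 6, 3],
  [7, 10, 14, 20, 16, 12, 8, 4], [10, 15, 20, 30, 24, 18, 12, 6], [8, 12, 16, 24, 20, 15, 10, 5],
  [6, 9, 12, 18, 15, 12, 8, 4], [4, 6, 8, 12, 10, 8, 6, 3], [2, 3, 4, 6, 5, 4, 3, 2]]

theorem coordOK_G2 : coordOK chevG2 coordWG2 = true := by decide +kernel
theorem coordOK_B2 : coordOK chevB2 coordWB2 = true := by decide +kernel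
theorem coordOK_D4 : coordOK chevD4 coordWD4 = true := by decide +kernel
theorem coordOK_F4 : coordOK chevF4 coordWF4 = true := by decide +kernel
theorem coordOK_E6 : coordOK chevE6 coordWE6 = true := by decide +kernel
theorem coordOK_E7 : coordOK chevE7 coordWE7 = true := by decide +kernel
theorem coordOK_E8 : coordOK chevE8 coordWE8 = true := by decide +kernel

theorem exists_coordOK (D : ChevalleyDatum)
    (hD : D ∈ [chevG2, chevB2, chevD4, chevF4, chevE6, chevE7, chevE8]) :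
    ∃ ws : List (List ℤ), coordOK D ws = true := by
  simp only [List.mem_cons, List.not_mem_nil, or_false] at hD
  rcases hD with rfl | rfl | rfl | rfl | rfl | rfl | rfl
  exacts [⟨_, coordOK_G2⟩, ⟨_, coordOK_B2⟩, ⟨_, coordOK_D4⟩, ⟨_, coordOK_F4⟩, ⟨_, coordOK_E6⟩,
    ⟨_, coordOK_E7⟩, ⟨_, coordOK_E8⟩]

/-- coordinate functions: additive, and with the signs of the coroot coefficients -/
structure Coord (D : ChevalleyDatum) where
  f : ℕ → ℕ → ℤ
  add : ∀ l < D.rank, ∀ s < D.nroots, IsAdditiveAt D (f l) s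
  size : ∀ u < D.nroots, (D.coroot.getD u #[]).size = D.rank
  pos : ∀ l < D.rank, ∀ u < D.nroots, (0 < f l u ↔ 0 < (D.coroot.getD u #[]).getD l 0)
  neg : ∀ l < D.rank, ∀ u < D.nroots, (f l u < 0 ↔ (D.coroot.getD u #[]).getD l 0 < 0)

theorem exists_coord (D : ChevalleyDatum)
    (hD : D ∈ [chevG2, chevB2, chevD4, chevF4, chevE6, chevE7, chevE8]) : Nonempty (Coord D) := by
  obtain ⟨ws, hws⟩ := exists_coordOK D hD
  have hadd := addAllOK_of_mem D hD
  unfold coordOK at hws
  rw [List.all_eq_true] at hws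
  refine ⟨⟨fun l => lvlF D (ws.getD l []), ?_, ?_, ?_, ?_⟩⟩
  · intro l _ s hs
    apply isAdditiveAt_lvlF
    intro j hj
    unfold addAllOK at hadd
    rw [List.all_eq_true] at hadd
    exact isAdditiveAt_cartan D j (hadd j (List.mem_range.mpr hj)) s hs
  · intro u hu
    have := hws u (List.mem_range.mpr hu)
    rw [Bool.and_eq_true, decide_eq_true_eq] at this
    exact this.1
  · intro l hl u hu
    have := hws u (List.mem_range.mpr hu)
    rw [Bool.and_eq_true, List.all_eq_true] at this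
    have h2 := this.2 l (List.mem_range.mpr hl)
    rw [Bool.and_eq_true, beq_iff_eq, beq_iff_eq, decide_eq_decide, decide_eq_decide] at h2
    rw [← lvlFast_eq D hadd _ _ hu]
    exact h2.1
  · intro l hl u hu
    have := hws u (List.mem_range.mpr hu)
    rw [Bool.and_eq_true, List.all_eq_true] at this
    have h2 := this.2 l (List.mem_range.mpr hl)
    rw [Bool.and_eq_true, beq_iff_eq, beq_iff_eq, decide_eq_decide, decide_eq_decide] at h2
    rw [← lvlFast_eq D hadd _ _ hu]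
    exact h2.2

section Signs

variable {D : ChevalleyDatum} (C : Coord D)

theorem Coord.zero_iff (l : ℕ) (hl : l < D.rank) (u : ℕ) (hu : u < D.nroots) :
    C.f l u = 0 ↔ (D.coroot.getD u #[]).getD l 0 = 0 := by
  have h1 := C.pos l hl u hu
  have h2 := C.neg l hl u hu
  constructor
  · intro h
    have a : ¬ 0 < (D.coroot.getD u #[]).getD l 0 := fun h' => by have := h1.mpr h'; omega
    have b : ¬ (D.coroot.getD u #[]).getD l 0 < 0 := fun h' => by have := h2.mpr h'; omega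
    omega
  · intro h
    have a : ¬ 0 < C.f l u := fun h' => by have := h1.mp h'; omega
    have b : ¬ C.f l u < 0 := fun h' => by have := h2.mp h'; omega
    omega

theorem coroot_mem (u : ℕ) (hsz : (D.coroot.getD u #[]).size = D.rank) (l : ℕ) (hl : l < D.rank) :
    (D.coroot.getD u #[]).getD l 0 ∈ (D.coroot.getD u #[]).toList := by
  generalize D.coroot.getD u #[] = A at hsz ⊢
  have hl' : l < A.size := by omega
  have : A.getD l 0 = A[l] := by
    rw [Array.getD_eq_getD_getElem?, Array.getElem?_eq_getElem hl', Option.getD_some]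
  rw [this]
  exact Array.getElem_mem_toList _

theorem Coord.nonneg_of_pos (u : ℕ) (hu : D.IsPosRoot u) (l : ℕ) (hl : l < D.rank) : 0 ≤ C.f l u := by
  have h := hu.2 _ (coroot_mem u (C.size u hu.1) l hl)
  by_contra hlt
  have := (C.neg l hl u hu.1).mp (by omega)
  omega

theorem Coord.nonpos_of_neg (u : ℕ) (hu : D.IsNegRoot u) (l : ℕ) (hl : l < D.rank) : C.f l u ≤ 0 := by
  have h := hu.2 _ (coroot_mem u (C.size u hu.1) l hl)
  by_contra hlt
  have := (C.pos l hl u hu.1).mp (by omega)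
  omega

theorem Coord.inRootSub_iff (J : Set ℕ) (u : ℕ) :
    D.InRootSub J u ↔ u < D.nroots ∧ ∀ l < D.rank, l ∉ J → C.f l u = 0 := by
  unfold ChevalleyDatum.InRootSub
  constructor
  · rintro ⟨hu, h⟩
    exact ⟨hu, fun l hl hlJ => (C.zero_iff l hl u hu).mpr (h l hl hlJ)⟩
  · rintro ⟨hu, h⟩
    exact ⟨hu, fun l hl hlJ => (C.zero_iff l hl u hu).mp (h l hl hlJ)⟩

end Signs

section Comm

variable (D : ChevalleyDatum) (hD : D ∈ [chevG2, chevB2, chevD4, chevF4, chevE6, chevE7, chevE8])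

include hD in
/-- the roots of the commutator formula for `r ∈ Φ⁺ ∪ Φ_J`, `s ∈ Φ⁺ \ Φ_J` lie in `Φ⁺ \ Φ_J` -/
theorem commTerms_mem (J : Set ℕ) (r s : ℕ) (hr : D.IsPosRoot r ∨ D.InRootSub J r)
    (hs : D.IsPosRoot s) (hsJ : ¬ D.InRootSub J s) (c : ℕ × ℤ × ℕ × ℕ) (hc : c ∈ D.commTerms r s) :
    D.IsPosRoot c.1 ∧ ¬ D.InRootSub J c.1 := by
  obtain ⟨C⟩ := exists_coord D hD
  have hpos := posOK_of_mem D hD
  have hrlt : r < D.nroots := by rcases hr with h | h <;> exact h.1
  -- a coordinate outside `J` at which `s` is positive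
  obtain ⟨l0, hl0, hl0J, hfs⟩ : ∃ l0, l0 < D.rank ∧ l0 ∉ J ∧ 0 < C.f l0 s := by
    by_contra hno
    apply hsJ
    rw [C.inRootSub_iff]
    refine ⟨hs.1, fun l hl hlJ => ?_⟩
    have h1 := C.nonneg_of_pos s hs l hl
    by_contra hne
    exact hno ⟨l, hl, hlJ, by omega⟩
  have hterm : ∀ l < D.rank, c.1 < D.nroots ∧
      C.f l c.1 = (c.2.2.1 : ℤ) * C.f l r + (c.2.2.2 : ℤ) * C.f l s ∧ 1 ≤ c.2.2.1 ∧ 1 ≤ c.2.2.2 :=
    fun l hl => commTerms_lvl D hD (C.f l) (C.add l hl) r s hrlt hs.1 c hc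
  obtain ⟨hclt, hc0, hi, hj⟩ := hterm l0 hl0
  have hi' : (1 : ℤ) ≤ (c.2.2.1 : ℤ) := by exact_mod_cast hi
  have hj' : (1 : ℤ) ≤ (c.2.2.2 : ℤ) := by exact_mod_cast hj
  -- the coordinate `l0` of the new root is positive
  have hfc : 0 < C.f l0 c.1 := by
    rw [hc0]
    rcases hr with hr | hr
    · have := C.nonneg_of_pos r hr l0 hl0
      nlinarith
    · have := ((C.inRootSub_iff J r).mp hr).2 l0 hl0 hl0J
      rw [this, mul_zero, zero_add]
      nlinarith
  constructor
  · rw [isPosRoot_iff D _ hpos]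
    refine ⟨?_, hclt⟩
    by_contra hlt
    have hneg : D.IsNegRoot c.1 := (isNegRoot_iff D _ hpos c.1).mpr ⟨by omega, hclt⟩
    have := C.nonpos_of_neg c.1 hneg l0 hl0
    omega
  · intro hJ
    have := ((C.inRootSub_iff J c.1).mp hJ).2 l0 hl0 hl0J
    omega

include hD in
/-- a root of `Φ⁺ \ Φ_J` is not the negative of a root of `Φ⁺ ∪ Φ_J` -/
theorem ne_neg_of_mem (J : Set ℕ) (r s : ℕ) (hr : D.IsPosRoot r ∨ D.InRootSub J r)
    (hs : D.IsPosRoot s) (hsJ : ¬ D.InRootSub J s) : s ≠ D.neg r := by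
  obtain ⟨C⟩ := exists_coord D hD
  have hrlt : r < D.nroots := by rcases hr with h | h <;> exact h.1
  intro hsr
  apply hsJ
  rw [C.inRootSub_iff]
  refine ⟨hs.1, fun l hl hlJ => ?_⟩
  have hneg : C.f l (D.neg r) = - C.f l r := (C.add l hl r hrlt).1
  have h1 := C.nonneg_of_pos s hs l hl
  rw [hsr, hneg] at h1 ⊢
  rcases hr with hr | hr
  · have := C.nonneg_of_pos r hr l hl
    omega
  · have := ((C.inRootSub_iff J r).mp hr).2 l hl hlJ
    omega

end Comm

end Cfsg.Agent.Helper36.RootCoord
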