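import Mathlib

/-!
Helper36: an automorphism `σ` of a group with a Bruhat normal form `g = u h n u'`
(`u ∈ U`, `h ∈ H`, `n ∈ N`, `u' ∈ U_n⁻`) that preserves `U`, `H`, `N` and the subgroups `U_n⁻`:
the unipotent factors `u`, `u'` of a `σ`-fixed element are `σ`-fixed.  This gives elements of
`N ∩ G¹` for a twisted group `G¹ ≤ Fix σ` without any rank one identity: for `x ∈ G¹` with
`u, u' ∈ G¹`, `h n = u⁻¹ x u'⁻¹ ∈ N ∩ G¹`.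
-/

set_option autoImplicit false

namespace Cfsg.Agent.Helper36.SigmaBruhat

variable {Γ : Type*} [Group Γ]

/-- the abstract Bruhat uniqueness data -/
structure BruhatHyp (U H N : Subgroup Γ) (Um : Γ → Subgroup Γ) : Prop where
  inf_eq_bot : U ⊓ H = ⊥
  conj_mem : ∀ n ∈ N, ∀ h ∈ H, n * h * n⁻¹ ∈ H
  coset : ∀ u₁ ∈ U, ∀ h₁ ∈ H, ∀ n₁ ∈ N, ∀ v₁ ∈ Um n₁, ∀ u₂ ∈ U, ∀ h₂ ∈ H, ∀ n₂ ∈ N, ∀ v₂ ∈ Um n₂,
    u₁ * h₁ * n₁ * v₁ = u₂ * h₂ * n₂ * v₂ → n₁⁻¹ * n₂ ∈ H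
  uniq : ∀ u₁ ∈ U, ∀ h₁ ∈ H, ∀ n ∈ N, ∀ v₁ ∈ Um n, ∀ u₂ ∈ U, ∀ h₂ ∈ H, ∀ v₂ ∈ Um n,
    u₁ * h₁ * n * v₁ = u₂ * h₂ * n * v₂ → u₁ * h₁ = u₂ * h₂ ∧ v₁ = v₂
  Um_mul : ∀ n ∈ N, ∀ h ∈ H, Um (n * h) = Um n

variable {U H N : Subgroup Γ} {Um : Γ → Subgroup Γ}

theorem eq_of_mul_eq (hB : BruhatHyp U H N Um) (u₁ u₂ h₁ h₂ : Γ) (hu₁ : u₁ ∈ U) (hu₂ : u₂ ∈ U)
    (hh₁ : h₁ ∈ H) (hh₂ : h₂ ∈ H) (h : u₁ * h₁ = u₂ * h₂) : u₁ = u₂ ∧ h₁ = h₂ := by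
  have h1 : u₂⁻¹ * u₁ = h₂ * h₁⁻¹ := by
    calc u₂⁻¹ * u₁ = u₂⁻¹ * (u₁ * h₁) * h₁⁻¹ := by group
      _ = u₂⁻¹ * (u₂ * h₂) * h₁⁻¹ := by rw [h]
      _ = h₂ * h₁⁻¹ := by group
  have h2 : u₂⁻¹ * u₁ ∈ U ⊓ H := by
    refine Subgroup.mem_inf.mpr ⟨Subgroup.mul_mem _ (Subgroup.inv_mem _ hu₂) hu₁, ?_⟩
    rw [h1]
    exact Subgroup.mul_mem _ hh₂ (Subgroup.inv_mem _ hh₁)
  rw [hB.inf_eq_bot, Subgroup.mem_bot] at h2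
  have e1 : u₁ = u₂ := by
    calc u₁ = u₂ * (u₂⁻¹ * u₁) := by group
      _ = u₂ := by rw [h2, mul_one]
  refine ⟨e1, ?_⟩
  rw [e1] at h
  exact mul_left_cancel h

/-- the unipotent factors of a `σ`-fixed element are `σ`-fixed -/
theorem fixed_factors (hB : BruhatHyp U H N Um) (σ : Γ ≃* Γ)
    (hσU : ∀ u ∈ U, σ u ∈ U) (hσH : ∀ h ∈ H, σ h ∈ H) (hσN : ∀ n ∈ N, σ n ∈ N)
    (hσm : ∀ n ∈ N, ∀ v ∈ Um n, σ v ∈ Um (σ n))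
    (u h n v : Γ) (hu : u ∈ U) (hh : h ∈ H) (hn : n ∈ N) (hv : v ∈ Um n)
    (hfix : σ (u * h * n * v) = u * h * n * v) : σ u = u ∧ σ v = v := by
  have e1 : σ u * σ h * σ n * σ v = u * h * n * v := by
    rw [← hfix, map_mul, map_mul, map_mul]
  have hcos := hB.coset u hu h hh n hn v hv (σ u) (hσU u hu) (σ h) (hσH h hh) (σ n) (hσN n hn)
    (σ v) (hσm n hn v hv) e1.symm
  set h' := n⁻¹ * σ n with hh'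
  have hσn : σ n = n * h' := by rw [hh']; group
  have hv' : σ v ∈ Um n := by
    have := hσm n hn v hv
    rwa [hσn, hB.Um_mul n hn h' hcos] at this
  have e2 : σ u * (σ h * (n * h' * n⁻¹)) * n * σ v = u * h * n * v := by
    rw [← e1, hσn]
    group
  have hmem : σ h * (n * h' * n⁻¹) ∈ H := Subgroup.mul_mem _ (hσH h hh) (hB.conj_mem n hn h' hcos)
  obtain ⟨e3, e4⟩ := hB.uniq (σ u) (hσU u hu) _ hmem n hn (σ v) hv' u hu h hh v hv e2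
  exact ⟨(eq_of_mul_eq hB _ _ _ _ (hσU u hu) hu hmem hh e3).1, e4⟩

/-- the monomial factor of a `σ`-fixed element of a subgroup `G₁` whose unipotent factors lie in
`G₁` lies in `G₁` -/
theorem monomial_mem (G₁ : Subgroup Γ) (u h n v : Γ) (hx : u * h * n * v ∈ G₁) (hu : u ∈ G₁)
    (hv : v ∈ G₁) : h * n ∈ G₁ := by
  have e : h * n = u⁻¹ * (u * h * n * v) * v⁻¹ := by group
  rw [e]
  exact Subgroup.mul_mem _ (Subgroup.mul_mem _ (Subgroup.inv_mem _ hu) hx) (Subgroup.inv_mem _ hv)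

end Cfsg.Agent.Helper36.SigmaBruhat
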