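import Cfsg.Agent.Helper36.SigmaBruhat
import Cfsg.Agent.Helper36.FieldFix
import Cfsg.Agent.Helper36.HighRoot
import Cfsg.Agent.S1100

/-!
Helper36: an automorphism `σ` of a Chevalley group acting on the root elements by
`σ(x_r(t)) = x_{π r}(c_r t)` (`π` a permutation of the roots preserving signs and negation, `c_r`
surjective field endomorphisms with `c_{-r} = c_r`) preserves `U`, `V`, `H`, `N` and the Bruhat
cells, so the unipotent factors of the Bruhat normal form of a `σ`-fixed element are `σ`-fixed.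
-/

set_option autoImplicit false

namespace Cfsg.Agent.Helper36.SigmaChev

open Cfsg Cfsg.Lie Cfsg.Agent.Helper18 Cfsg.Agent.Helper36.FieldFix Cfsg.Agent.Helper36.SigmaBruhat

section

variable {K : Type*} [Field K] (D : ChevalleyDatum)
  (hD : D ∈ [chevG2, chevB2, chevD4, chevF4, chevE6, chevE7, chevE8])

/-- the action of `σ` on the root elements -/
structure Spec (σ : ↥(D.group K) ≃* ↥(D.group K)) (π : ℕ → ℕ) (c : ℕ → K →+* K) : Prop where
  map_x : ∀ r < D.nroots, ∀ (t : K) (hx : xGL D K r t ∈ D.group K),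
    ((σ ⟨xGL D K r t, hx⟩ : ↥(D.group K)) : GL D.Idx K) = xGL D K (π r) (c r t)
  pi_lt : ∀ r < D.nroots, π r < D.nroots
  pi_pos : ∀ r, D.IsPosRoot r → D.IsPosRoot (π r)
  pi_negR : ∀ r, D.IsNegRoot r → D.IsNegRoot (π r)
  pi_neg : ∀ r < D.nroots, π (D.neg r) = D.neg (π r)
  c_neg : ∀ r < D.nroots, c (D.neg r) = c r
  c_surj : ∀ r < D.nroots, Function.Surjective (c r)

variable {D}

/-- transport of a closure along `σ` -/
theorem map_closure_mem (σ : ↥(D.group K) ≃* ↥(D.group K)) (S : Set (GL D.Idx K))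
    (T : Subgroup (GL D.Idx K))
    (hS : ∀ x ∈ S, ∃ hx : x ∈ D.group K, ((σ ⟨x, hx⟩ : ↥(D.group K)) : GL D.Idx K) ∈ T) :
    ∀ g ∈ Subgroup.closure S, ∃ hg : g ∈ D.group K, ((σ ⟨g, hg⟩ : ↥(D.group K)) : GL D.Idx K) ∈ T := by
  intro g hg
  induction hg using Subgroup.closure_induction with
  | mem x hx => exact hS x hx
  | one =>
    refine ⟨one_mem _, ?_⟩
    have : (⟨1, one_mem _⟩ : ↥(D.group K)) = 1 := rfl
    rw [this, map_one]
    exact one_mem _
  | mul x y _ _ hx hy =>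
    obtain ⟨hx1, hx2⟩ := hx
    obtain ⟨hy1, hy2⟩ := hy
    refine ⟨mul_mem hx1 hy1, ?_⟩
    have : (⟨x * y, mul_mem hx1 hy1⟩ : ↥(D.group K)) = ⟨x, hx1⟩ * ⟨y, hy1⟩ := rfl
    rw [this, map_mul, Subgroup.coe_mul]
    exact mul_mem hx2 hy2
  | inv x _ hx =>
    obtain ⟨hx1, hx2⟩ := hx
    refine ⟨inv_mem hx1, ?_⟩
    have : (⟨x⁻¹, inv_mem hx1⟩ : ↥(D.group K)) = (⟨x, hx1⟩ : ↥(D.group K))⁻¹ := rfl
    rw [this, map_inv, Subgroup.coe_inv]
    exact inv_mem hx2

theorem map_mem_of_closure (σ : ↥(D.group K) ≃* ↥(D.group K)) (S : Set (GL D.Idx K))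
    (T : Subgroup (GL D.Idx K))
    (hS : ∀ x ∈ S, ∃ hx : x ∈ D.group K, ((σ ⟨x, hx⟩ : ↥(D.group K)) : GL D.Idx K) ∈ T)
    (g : ↥(D.group K)) (hg : (g : GL D.Idx K) ∈ Subgroup.closure S) :
    ((σ g : ↥(D.group K)) : GL D.Idx K) ∈ T := by
  obtain ⟨hg1, hg2⟩ := map_closure_mem σ S T hS _ hg
  exact hg2

variable {σ : ↥(D.group K) ≃* ↥(D.group K)} {π : ℕ → ℕ} {c : ℕ → K →+* K}

include hD in
theorem wordGL_mem_group (w : List (ℕ × K)) : wordGL D K w ∈ D.group K := by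
  unfold wordGL
  apply Subgroup.list_prod_mem
  intro x hx
  obtain ⟨p, -, rfl⟩ := List.mem_map.mp hx
  exact xGL_mem_group' D hD p.1 p.2

include hD in
/-- the image of a word -/
theorem Spec.map_word (hσ : Spec D σ π c) (w : List (ℕ × K)) (hw : ∀ p ∈ w, p.1 < D.nroots)
    (hm : wordGL D K w ∈ D.group K) :
    ((σ ⟨wordGL D K w, hm⟩ : ↥(D.group K)) : GL D.Idx K) =
      wordGL D K (w.map fun p => (π p.1, c p.1 p.2)) := by
  induction w with
  | nil =>
    have : (⟨wordGL D K ([] : List (ℕ × K)), hm⟩ : ↥(D.group K)) = 1 := by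
      apply Subtype.ext
      simp [wordGL]
    rw [this, map_one]
    simp [wordGL]
  | cons p w ih =>
    have hw' : ∀ q ∈ w, q.1 < D.nroots := fun q hq => hw q (List.mem_cons_of_mem _ hq)
    have hm' := wordGL_mem_group hD w
    have hx := xGL_mem_group' (F := K) D hD p.1 p.2
    have e : (⟨wordGL D K (p :: w), hm⟩ : ↥(D.group K)) = ⟨xGL D K p.1 p.2, hx⟩ * ⟨wordGL D K w, hm'⟩ := by
      apply Subtype.ext
      simp [wordGL]
    rw [e, map_mul, Subgroup.coe_mul, ih hw' hm', hσ.map_x p.1 (hw p List.mem_cons_self) p.2 hx]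
    simp [wordGL]

include hD in
theorem Spec.nWord_map (hσ : Spec D σ π c) (r : ℕ) (hr : r < D.nroots) (t : K) :
    ((D.nWord r t).map fun p => (π p.1, c p.1 p.2)) = D.nWord (π r) (c r t) := by
  have hnr : D.neg r < D.nroots := (triOK_spec D _ (triOK_of_mem D hD) r hr).1
  simp only [ChevalleyDatum.nWord, List.map_cons, List.map_nil, hσ.pi_neg r hr, hσ.c_neg r hr, map_neg,
    map_inv₀]

include hD in
theorem Spec.hWord_map (hσ : Spec D σ π c) (r : ℕ) (hr : r < D.nroots) (t : K) :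
    ((D.hWord r t).map fun p => (π p.1, c p.1 p.2)) = D.hWord (π r) (c r t) := by
  unfold ChevalleyDatum.hWord
  rw [List.map_append, hσ.nWord_map hD r hr, hσ.nWord_map hD r hr, map_neg, map_one]

include hD in
theorem nWord_lt (r : ℕ) (hr : r < D.nroots) (t : K) : ∀ p ∈ D.nWord r t, p.1 < D.nroots := by
  have hnr : D.neg r < D.nroots := (triOK_spec D _ (triOK_of_mem D hD) r hr).1
  intro p hp
  simp only [ChevalleyDatum.nWord, List.mem_cons, List.not_mem_nil, or_false] at hp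
  rcases hp with rfl | rfl | rfl <;> assumption

include hD in
theorem hWord_lt (r : ℕ) (hr : r < D.nroots) (t : K) : ∀ p ∈ D.hWord r t, p.1 < D.nroots := by
  intro p hp
  unfold ChevalleyDatum.hWord at hp
  rcases List.mem_append.mp hp with hp | hp
  · exact nWord_lt hD r hr t p hp
  · exact nWord_lt hD r hr _ p hp

include hD in
/-- `σ` preserves `U` -/
theorem Spec.stable_pos (hσ : Spec D σ π c) (g : ↥(D.group K)) (hg : (g : GL D.Idx K) ∈ D.posUnipotent K) :
    ((σ g : ↥(D.group K)) : GL D.Idx K) ∈ D.posUnipotent K := by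
  have htri := triOK_of_mem D hD
  apply map_mem_of_closure σ _ _ _ g hg
  rintro x ⟨r, t, hr, hx⟩
  have e : x = xGL D K r t := Units.ext (by rw [hx, xGL_val D _ htri])
  subst e
  refine ⟨xGL_mem_group' D hD r t, ?_⟩
  rw [hσ.map_x r hr.1 t]
  exact Subgroup.subset_closure ⟨_, _, hσ.pi_pos r hr, xGL_val D _ htri _ _⟩

include hD in
/-- `σ` preserves `V` -/
theorem Spec.stable_neg (hσ : Spec D σ π c) (g : ↥(D.group K)) (hg : (g : GL D.Idx K) ∈ D.negUnipotent K) :
    ((σ g : ↥(D.group K)) : GL D.Idx K) ∈ D.negUnipotent K := by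
  have htri := triOK_of_mem D hD
  apply map_mem_of_closure σ _ _ _ g hg
  rintro x ⟨r, t, hr, hx⟩
  have e : x = xGL D K r t := Units.ext (by rw [hx, xGL_val D _ htri])
  subst e
  refine ⟨xGL_mem_group' D hD r t, ?_⟩
  rw [hσ.map_x r hr.1 t]
  exact Subgroup.subset_closure ⟨_, _, hσ.pi_negR r hr, xGL_val D _ htri _ _⟩

include hD in
/-- `σ(h_r(t)) = h_{π r}(c_r t)` -/
theorem Spec.map_hWord (hσ : Spec D σ π c) (r : ℕ) (hr : r < D.nroots) (t : K)
    (hm : wordGL D K (D.hWord r t) ∈ D.group K) :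
    ((σ ⟨wordGL D K (D.hWord r t), hm⟩ : ↥(D.group K)) : GL D.Idx K) =
      wordGL D K (D.hWord (π r) (c r t)) := by
  rw [hσ.map_word hD _ (hWord_lt hD r hr t), hσ.hWord_map hD r hr]

include hD in
/-- `σ(n_r(t)) = n_{π r}(c_r t)` -/
theorem Spec.map_nWord (hσ : Spec D σ π c) (r : ℕ) (hr : r < D.nroots) (t : K)
    (hm : wordGL D K (D.nWord r t) ∈ D.group K) :
    ((σ ⟨wordGL D K (D.nWord r t), hm⟩ : ↥(D.group K)) : GL D.Idx K) =
      wordGL D K (D.nWord (π r) (c r t)) := by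
  rw [hσ.map_word hD _ (nWord_lt hD r hr t), hσ.nWord_map hD r hr]

include hD in
/-- `σ` preserves `H` -/
theorem Spec.stable_diag (hσ : Spec D σ π c) (g : ↥(D.group K))
    (hg : (g : GL D.Idx K) ∈ D.diagonalSubgroup K) :
    ((σ g : ↥(D.group K)) : GL D.Idx K) ∈ D.diagonalSubgroup K := by
  apply map_mem_of_closure σ _ _ _ g hg
  rintro x ⟨r, t, hr, ht, hx⟩
  have e : x = wordGL D K (D.hWord r t) := Units.ext (by rw [hx, hWordGL_val D hD])
  subst e
  refine ⟨wordGL_mem_group hD _, ?_⟩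
  rw [hσ.map_hWord hD r hr t]
  exact hWordGL_mem_diagonalSubgroup D hD _ (hσ.pi_lt r hr) _
    (fun h0 => ht ((map_eq_zero (c r)).mp h0))

include hD in
theorem nWordGL_mem_monomial (r : ℕ) (hr : r < D.nroots) (t : K) (ht : t ≠ 0) :
    wordGL D K (D.nWord r t) ∈ D.monomialSubgroup K := by
  have e : wordGL D K (D.nWord r t) = wordGL D K (D.hWord r t) * wordGL D K (D.nWord r (1 : K)) := by
    rw [wordGL_hWord, mul_assoc, ← nWordGL_one_inv D hD r hr, inv_mul_cancel, mul_one]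
  rw [e]
  unfold ChevalleyDatum.monomialSubgroup
  refine Subgroup.mul_mem _ (Subgroup.mem_sup_left (hWordGL_mem_diagonalSubgroup D hD r hr t ht))
    (Subgroup.mem_sup_right (Subgroup.subset_closure ⟨r, hr, nWordGL_val D hD r 1⟩))

include hD in
theorem diag_le_group : D.diagonalSubgroup K ≤ D.group K := by
  have h := (Cfsg.Agent.S1043.result (F := K) D hD).1
  exact le_trans (le_sup_right : D.diagonalSubgroup K ≤ D.borelSubgroup K) h

include hD in
/-- `σ` preserves `N` -/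
theorem Spec.stable_mono (hσ : Spec D σ π c) (g : ↥(D.group K))
    (hg : (g : GL D.Idx K) ∈ D.monomialSubgroup K) :
    ((σ g : ↥(D.group K)) : GL D.Idx K) ∈ D.monomialSubgroup K := by
  have hHN : D.diagonalSubgroup K ≤ D.monomialSubgroup K := le_sup_left
  have hN : D.monomialSubgroup K = Subgroup.closure ((D.diagonalSubgroup K : Set (GL D.Idx K)) ∪
      {g | ∃ r : ℕ, r < D.nroots ∧ (g : Matrix D.Idx D.Idx K) = D.nMat K r 1}) := by
    rw [Subgroup.closure_union, Subgroup.closure_eq]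
    rfl
  rw [hN] at hg
  apply map_mem_of_closure σ _ _ _ g hg
  rintro x (hx | ⟨r, hr, hx⟩)
  · have hxG := diag_le_group hD hx
    exact ⟨hxG, hHN (hσ.stable_diag hD ⟨x, hxG⟩ hx)⟩
  · have e : x = wordGL D K (D.nWord r (1 : K)) := Units.ext (by rw [hx, nWordGL_val D hD])
    subst e
    refine ⟨wordGL_mem_group hD _, ?_⟩
    rw [hσ.map_nWord hD r hr]
    exact nWordGL_mem_monomial hD _ (hσ.pi_lt r hr) _ (by rw [map_one]; exact one_ne_zero)

include hD in
/-- `σ` maps the Bruhat cell of `n` into the Bruhat cell of `σ n` -/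
theorem Spec.stable_Um (hσ : Spec D σ π c) (n g : ↥(D.group K))
    (hg : (g : GL D.Idx K) ∈ Um D K (n : GL D.Idx K)) :
    ((σ g : ↥(D.group K)) : GL D.Idx K) ∈ Um D K ((σ n : ↥(D.group K)) : GL D.Idx K) := by
  have htri := triOK_of_mem D hD
  apply map_mem_of_closure σ _ _ _ g hg
  rintro x ⟨r, t, hr, hcond, hx⟩
  have e : x = xGL D K r t := Units.ext (by rw [hx, xGL_val D _ htri])
  subst e
  refine ⟨xGL_mem_group' D hD r t, ?_⟩
  rw [hσ.map_x r hr.1 t]
  apply Subgroup.subset_closure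
  refine ⟨π r, c r t, hσ.pi_pos r hr, ?_, xGL_val D _ htri _ _⟩
  rw [Subgroup.map_le_iff_le_comap]
  conv_lhs => unfold ChevalleyDatum.rootSubgroup
  rw [Subgroup.closure_le]
  rintro y ⟨s, hy⟩
  have ey : y = xGL D K (π r) s := Units.ext (by rw [hy, xGL_val D _ htri])
  subst ey
  rw [SetLike.mem_coe, Subgroup.mem_comap]
  show ((σ n : ↥(D.group K)) : GL D.Idx K) * xGL D K (π r) s * ((σ n : ↥(D.group K)) : GL D.Idx K)⁻¹ ∈ _
  obtain ⟨t', rfl⟩ := hσ.c_surj r hr.1 s
  have hxm := xGL_mem_group' (F := K) D hD r t'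
  have e1 : ((σ n : ↥(D.group K)) : GL D.Idx K) * xGL D K (π r) (c r t') *
      ((σ n : ↥(D.group K)) : GL D.Idx K)⁻¹ =
      ((σ (n * ⟨xGL D K r t', hxm⟩ * n⁻¹) : ↥(D.group K)) : GL D.Idx K) := by
    rw [map_mul, map_mul, map_inv, Subgroup.coe_mul, Subgroup.coe_mul, Subgroup.coe_inv,
      hσ.map_x r hr.1 t']
  rw [e1]
  apply hσ.stable_neg hD
  apply hcond
  refine ⟨xGL D K r t', Subgroup.subset_closure ⟨t', xGL_val D _ htri _ _⟩, ?_⟩
  simp [MulAut.conj_apply]

end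

end Cfsg.Agent.Helper36.SigmaChev
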