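import Cfsg.Agent.Helper36.SigmaChev

/-!
Helper36: the Bruhat normal form `g = u h n v` of a `σ`-fixed element of a Chevalley group has
`σ`-fixed unipotent factors `u`, `v` (and hence a `σ`-fixed monomial factor `h n`).
-/

set_option autoImplicit false

namespace Cfsg.Agent.Helper36.SigmaChev

open Cfsg Cfsg.Lie Cfsg.Agent.Helper18 Cfsg.Agent.Helper36.FieldFix Cfsg.Agent.Helper36.SigmaBruhat
  Cfsg.Agent.Helper36.HighRoot

section

variable {K : Type*} [Field K] (D : ChevalleyDatum)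
  (hD : D ∈ [chevG2, chevB2, chevD4, chevF4, chevE6, chevE7, chevE8])

/-- `U` inside the Chevalley group -/
def UG : Subgroup ↥(D.group K) := (D.posUnipotent K).subgroupOf (D.group K)
/-- `H` inside the Chevalley group -/
def HG : Subgroup ↥(D.group K) := (D.diagonalSubgroup K).subgroupOf (D.group K)
/-- `N` inside the Chevalley group -/
def NG : Subgroup ↥(D.group K) := (D.monomialSubgroup K).subgroupOf (D.group K)
/-- the Bruhat cells inside the Chevalley group -/
def UmG (n : ↥(D.group K)) : Subgroup ↥(D.group K) := (Um D K (n : GL D.Idx K)).subgroupOf (D.group K)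

include hD in
/-- right multiplication by an element of `H` does not change the Bruhat cell -/
theorem Um_mul_diag (n h : GL D.Idx K) (hh : h ∈ D.diagonalSubgroup K) : Um D K (n * h) = Um D K n := by
  unfold Um
  congr 1
  ext x
  constructor
  · rintro ⟨r, t, hr, hcond, hx⟩
    refine ⟨r, t, hr, ?_, hx⟩
    have := cj_mul n h (D.rootSubgroup K r)
    unfold cj at this
    rw [this, rootSubgroup_conj_diag D hD h hh r hr.1] at hcond
    exact hcond
  · rintro ⟨r, t, hr, hcond, hx⟩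
    refine ⟨r, t, hr, ?_, hx⟩
    have := cj_mul n h (D.rootSubgroup K r)
    unfold cj at this
    rw [this, rootSubgroup_conj_diag D hD h hh r hr.1]
    exact hcond

include hD in
theorem bruhatHyp : BruhatHyp (UG (K := K) D) (HG D) (NG D) (UmG D) where
  inf_eq_bot := by
    rw [eq_bot_iff]
    intro x hx
    obtain ⟨h1, h2⟩ := Subgroup.mem_inf.mp hx
    have h3 : (x : GL D.Idx K) ∈ D.posUnipotent K ⊓ D.diagonalSubgroup K :=
      Subgroup.mem_inf.mpr ⟨Subgroup.mem_subgroupOf.mp h1, Subgroup.mem_subgroupOf.mp h2⟩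
    rw [(Cfsg.Agent.S1036.result (F := K) D hD).2, Subgroup.mem_bot] at h3
    rw [Subgroup.mem_bot]
    exact Subtype.ext h3
  conj_mem := by
    intro n hn h hh
    have h1 := mono_le_normalizer_diag (F := K) D hD (Subgroup.mem_subgroupOf.mp hn)
    rw [Subgroup.mem_normalizer_iff] at h1
    rw [HG, Subgroup.mem_subgroupOf]
    simpa using (h1 _).mp (Subgroup.mem_subgroupOf.mp hh)
  coset := by
    intro u₁ hu₁ h₁ hh₁ n₁ hn₁ v₁ hv₁ u₂ hu₂ h₂ hh₂ n₂ hn₂ v₂ hv₂ e
    obtain ⟨-, huniq⟩ := Cfsg.Agent.S1100.result (F := K) D hD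
    have hUB : D.posUnipotent K ≤ D.borelSubgroup K := le_sup_left
    have hHB : D.diagonalSubgroup K ≤ D.borelSubgroup K := le_sup_right
    have e' := congrArg (Subtype.val) e
    simp only [Subgroup.coe_mul] at e'
    have := (huniq ((u₁ : GL D.Idx K) * h₁) ((u₂ : GL D.Idx K) * h₂) n₁ n₂ v₁ v₂
      (mul_mem (hUB (Subgroup.mem_subgroupOf.mp hu₁)) (hHB (Subgroup.mem_subgroupOf.mp hh₁)))
      (mul_mem (hUB (Subgroup.mem_subgroupOf.mp hu₂)) (hHB (Subgroup.mem_subgroupOf.mp hh₂)))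
      (Subgroup.mem_subgroupOf.mp hn₁) (Subgroup.mem_subgroupOf.mp hn₂)
      (Subgroup.mem_subgroupOf.mp hv₁) (Subgroup.mem_subgroupOf.mp hv₂) e').1
    rw [HG, Subgroup.mem_subgroupOf]
    simpa using this
  uniq := by
    intro u₁ hu₁ h₁ hh₁ n hn v₁ hv₁ u₂ hu₂ h₂ hh₂ v₂ hv₂ e
    obtain ⟨-, huniq⟩ := Cfsg.Agent.S1100.result (F := K) D hD
    have hUB : D.posUnipotent K ≤ D.borelSubgroup K := le_sup_left
    have hHB : D.diagonalSubgroup K ≤ D.borelSubgroup K := le_sup_right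
    have e' := congrArg (Subtype.val) e
    simp only [Subgroup.coe_mul] at e'
    have := (huniq ((u₁ : GL D.Idx K) * h₁) ((u₂ : GL D.Idx K) * h₂) n n v₁ v₂
      (mul_mem (hUB (Subgroup.mem_subgroupOf.mp hu₁)) (hHB (Subgroup.mem_subgroupOf.mp hh₁)))
      (mul_mem (hUB (Subgroup.mem_subgroupOf.mp hu₂)) (hHB (Subgroup.mem_subgroupOf.mp hh₂)))
      (Subgroup.mem_subgroupOf.mp hn) (Subgroup.mem_subgroupOf.mp hn)
      (Subgroup.mem_subgroupOf.mp hv₁) (Subgroup.mem_subgroupOf.mp hv₂) e').2 rfl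
    refine ⟨Subtype.ext ?_, Subtype.ext this.2⟩
    simpa using this.1
  Um_mul := by
    intro n _ h hh
    unfold UmG
    rw [Subgroup.coe_mul, Um_mul_diag D hD _ _ (Subgroup.mem_subgroupOf.mp hh)]

variable {D}
variable {σ : ↥(D.group K) ≃* ↥(D.group K)} {π : ℕ → ℕ} {c : ℕ → K →+* K}

include hD in
/-- the Bruhat normal form of a `σ`-fixed element has `σ`-fixed unipotent factors -/
theorem Spec.fixed_bruhat (hσ : Spec D σ π c) (g : ↥(D.group K)) (hg : σ g = g) :
    ∃ u h n v : ↥(D.group K), (u : GL D.Idx K) ∈ D.posUnipotent K ∧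
      (h : GL D.Idx K) ∈ D.diagonalSubgroup K ∧ (n : GL D.Idx K) ∈ D.monomialSubgroup K ∧
      (v : GL D.Idx K) ∈ Um D K (n : GL D.Idx K) ∧ g = u * h * n * v ∧ σ u = u ∧ σ v = v := by
  obtain ⟨hex, -⟩ := Cfsg.Agent.S1100.result (F := K) D hD
  obtain ⟨hBG, hNG, -⟩ := Cfsg.Agent.S1043.result (F := K) D hD
  have hUB : D.posUnipotent K ≤ D.borelSubgroup K := le_sup_left
  have hHB : D.diagonalSubgroup K ≤ D.borelSubgroup K := le_sup_right
  obtain ⟨b, hb, n, hn, v, hv, e⟩ := hex g g.2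
  obtain ⟨u, hu, h, hh, rfl⟩ := borel_decomp D hD b hb
  have hvU : v ∈ D.posUnipotent K := bruhatU_le_pos D n hv
  set u' : ↥(D.group K) := ⟨u, hBG (hUB hu)⟩ with hu'
  set h' : ↥(D.group K) := ⟨h, hBG (hHB hh)⟩ with hh'
  set n' : ↥(D.group K) := ⟨n, hNG hn⟩ with hn'
  set v' : ↥(D.group K) := ⟨v, hBG (hUB hvU)⟩ with hv'
  have eg : g = u' * h' * n' * v' := Subtype.ext e
  have hfix : σ (u' * h' * n' * v') = u' * h' * n' * v' := by rw [← eg, hg]
  have := fixed_factors (bruhatHyp (K := K) D hD) σ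
    (fun x hx => Subgroup.mem_subgroupOf.mpr (hσ.stable_pos hD x (Subgroup.mem_subgroupOf.mp hx)))
    (fun x hx => Subgroup.mem_subgroupOf.mpr (hσ.stable_diag hD x (Subgroup.mem_subgroupOf.mp hx)))
    (fun x hx => Subgroup.mem_subgroupOf.mpr (hσ.stable_mono hD x (Subgroup.mem_subgroupOf.mp hx)))
    (fun m _ x hx => Subgroup.mem_subgroupOf.mpr (hσ.stable_Um hD m x (Subgroup.mem_subgroupOf.mp hx)))
    u' h' n' v' (Subgroup.mem_subgroupOf.mpr hu) (Subgroup.mem_subgroupOf.mpr hh)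
    (Subgroup.mem_subgroupOf.mpr hn) (Subgroup.mem_subgroupOf.mpr hv) hfix
  exact ⟨u', h', n', v', hu, hh, hn, hv, eg, this.1, this.2⟩

end

end Cfsg.Agent.Helper36.SigmaChev
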