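import Mathlib
import Cfsg.Agent.Helper36.SqZero

set_option autoImplicit false

namespace Cfsg.Agent.Helper36

open Module

/-- Two square-zero endomorphisms of the same positive rank `ℓ` with `2ℓ < dim V` are conjugate by an
automorphism of determinant one (any field): rescale a kernel vector outside the image. -/
theorem exists_conj_of_sq_zero_of_lt {K : Type*} [Field K] {V : Type*} [AddCommGroup V] [Module K V]
    [FiniteDimensional K V] (f g : V →ₗ[K] V) (hf : ∀ x, f (f x) = 0) (hg : ∀ x, g (g x) = 0)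
    (ℓ : ℕ) (hℓ : 0 < ℓ) (hrf : finrank K (LinearMap.range f) = ℓ)
    (hrg : finrank K (LinearMap.range g) = ℓ) (hlt : 2 * ℓ < finrank K V) :
    ∃ e : V ≃ₗ[K] V, LinearMap.det (e : V →ₗ[K] V) = 1 ∧ ∀ x, e (f x) = g (e x) := by
  classical
  obtain ⟨bf, hf1, hf2, hf3⟩ := exists_basis_of_sq_zero f hf ℓ hℓ hrf
  obtain ⟨bg, hg1, hg2, hg3⟩ := exists_basis_of_sq_zero g hg ℓ hℓ hrg
  let e₀ : V ≃ₗ[K] V := bf.equiv bg (Equiv.refl _)
  have hδ : IsUnit (LinearMap.det (e₀ : V →ₗ[K] V)) := LinearEquiv.isUnit_det' e₀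
  set δ := LinearMap.det (e₀ : V →ₗ[K] V) with hδdef
  have hδ0 : δ ≠ 0 := hδ.ne_zero
  let ν : Kˣ := Units.mk0 δ⁻¹ (inv_ne_zero hδ0)
  let j0 : Fin (finrank K V - 2 * ℓ) := ⟨0, by omega⟩
  let w : Fin ℓ ⊕ (Fin ℓ ⊕ Fin (finrank K V - 2 * ℓ)) → Kˣ :=
    Sum.elim (fun _ => 1) (Sum.elim (fun _ => 1) (fun j => if j = j0 then ν else 1))
  let c : V ≃ₗ[K] V := bf.equiv (bf.unitsSMul w) (Equiv.refl _)
  have hc : ∀ i, c (bf i) = (w i : K) • bf i := by
    intro i
    show (bf.equiv (bf.unitsSMul w) (Equiv.refl _)) (bf i) = _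
    rw [Basis.equiv_apply, Equiv.refl_apply, Basis.unitsSMul_apply, Units.smul_def]
  have hdetc : LinearMap.det (c : V →ₗ[K] V) = δ⁻¹ := by
    rw [← LinearMap.det_toMatrix bf]
    have hmat : LinearMap.toMatrix bf bf (c : V →ₗ[K] V) = Matrix.diagonal (fun i => (w i : K)) := by
      ext i j
      rw [LinearMap.toMatrix_apply, LinearEquiv.coe_coe, hc, map_smul, Basis.repr_self, Matrix.diagonal_apply]
      by_cases hij : i = j
      · subst hij
        simp
      · rw [if_neg hij]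
        simp [Ne.symm hij]
    rw [hmat, Matrix.det_diagonal, Fintype.prod_sum_type, Fintype.prod_sum_type]
    simp only [w, Sum.elim_inl, Sum.elim_inr]
    have h1 : ∏ a₁ : Fin (finrank K V - 2 * ℓ), ((if a₁ = j0 then ν else 1 : Kˣ) : K) = δ⁻¹ := by
      rw [Finset.prod_eq_single j0]
      · simp [ν]
      · intro b _ hb
        simp [hb]
      · intro h
        exact absurd (Finset.mem_univ _) h
    rw [h1]
    simp
  let e : V ≃ₗ[K] V := c.trans e₀
  have he : ∀ i, e (bf i) = (w i : K) • bg i := by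
    intro i
    show e₀ (c (bf i)) = _
    rw [hc, map_smul]
    show (w i : K) • (bf.equiv bg (Equiv.refl _)) (bf i) = _
    rw [Basis.equiv_apply, Equiv.refl_apply]
  refine ⟨e, ?_, ?_⟩
  · have : (e : V →ₗ[K] V) = (e₀ : V →ₗ[K] V) ∘ₗ (c : V →ₗ[K] V) := rfl
    rw [this, LinearMap.det_comp, hdetc]
    exact mul_inv_cancel₀ hδ0
  · have hlin : (e : V →ₗ[K] V) ∘ₗ f = g ∘ₗ (e : V →ₗ[K] V) := by
      apply bf.ext
      intro i
      simp only [LinearMap.comp_apply, LinearEquiv.coe_coe]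
      rcases i with i | i | j
      · rw [hf1, he, he, map_smul, hg1]
        simp [w]
      · rw [hf2, he, map_smul, hg2, map_zero, smul_zero]
      · rw [hf3, he, map_smul, hg3, map_zero, smul_zero]
    intro x
    exact LinearMap.congr_fun hlin x

end Cfsg.Agent.Helper36
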