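import Mathlib

/-!
Helper36: a subgroup of order `p ^ k` in a group `G` with `c * |G| = p ^ k * m`, `p ∤ m`, is a Sylow
`p`-subgroup.
-/

set_option autoImplicit false

namespace Cfsg.Agent.Helper36

theorem exists_sylow_eq_of_card {G : Type*} [Group G] [Finite G] (p : ℕ) [Fact p.Prime]
    (U : Subgroup G) (k c m : ℕ) (hU : Nat.card U = p ^ k) (hG : c * Nat.card G = p ^ k * m)
    (hm : ¬ p ∣ m) : ∃ P : Sylow p G, (P : Subgroup G) = U := by
  have hp : p.Prime := Fact.out
  have hUp : IsPGroup p U := IsPGroup.of_card hU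
  obtain ⟨P, hP⟩ := hUp.exists_le_sylow
  refine ⟨P, ?_⟩
  have hcardP : Nat.card P = p ^ (Nat.card G).factorization p := P.card_eq_multiplicity
  have hGpos : 0 < Nat.card G := Nat.card_pos
  have hc0 : c ≠ 0 := by
    rintro rfl
    rw [zero_mul] at hG
    have : p ^ k * m ≠ 0 := by
      apply Nat.mul_ne_zero (pow_ne_zero _ hp.ne_zero)
      rintro rfl
      exact hm (dvd_zero p)
    exact this hG.symm
  have hm0 : m ≠ 0 := by
    rintro rfl
    exact hm (dvd_zero p)
  -- `v_p (|G|) ≤ k`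
  have hle : (Nat.card G).factorization p ≤ k := by
    have h1 : (c * Nat.card G).factorization p = (c.factorization p) + (Nat.card G).factorization p := by
      rw [Nat.factorization_mul hc0 hGpos.ne']; rfl
    have h2 : (p ^ k * m).factorization p = k := by
      rw [Nat.factorization_mul (pow_ne_zero _ hp.ne_zero) hm0, Nat.factorization_pow]
      simp [hp.factorization_self, Nat.factorization_eq_zero_of_not_dvd hm]
    rw [hG, h2] at h1
    omega
  have hcard_le : Nat.card P ≤ Nat.card U := by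
    rw [hcardP, hU]
    exact Nat.pow_le_pow_right hp.pos hle
  exact (Subgroup.eq_of_le_of_card_ge hP hcard_le).symm

theorem not_dvd_pow_sub_one {p q d : ℕ} (hp : p.Prime) (hq : p ∣ q) (hd : d ≠ 0) (hq0 : q ≠ 0) :
    ¬ p ∣ q ^ d - 1 := by
  intro h
  have h1 : p ∣ q ^ d := dvd_trans hq (dvd_pow_self q hd)
  have hpos : 1 ≤ q ^ d := Nat.one_le_pow _ _ (Nat.pos_of_ne_zero hq0)
  have h2 : p ∣ q ^ d - (q ^ d - 1) := Nat.dvd_sub h1 h
  have : q ^ d - (q ^ d - 1) = 1 := by omega
  rw [this] at h2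
  exact hp.one_lt.ne' (Nat.dvd_one.mp h2)

end Cfsg.Agent.Helper36
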