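import Cfsg.Agent.Helper36.TwistPair
import Cfsg.Prelude.Def_LieTwisted

/-!
Helper36: the twisted group `²E₆` (generated by `x_r(t)`, `φ t = t`, for `r = ±p₂, ±p₄`, and
`x_r(t) x_{r̄}(φ t)` for `(r, r̄) = ±(p₁, p₆), ±(p₃, p₅)`, `φ` a ring endomorphism of the field) is
perfect, given the commutator formula, the action of the `n_p` and of the `h_p(c)` on root elements.
-/

set_option autoImplicit false

namespace Cfsg.Agent.Helper36.TwistE6

open Cfsg Cfsg.Lie Cfsg.Agent.Helper40.ChevAdd Cfsg.Agent.Helper36.Perfect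
  Cfsg.Agent.Helper36.ChevSimple Cfsg.Agent.Helper36.Twist
open scoped commutatorElement

theorem haddE6 : addOK chevE6 = true := addOK_of_mem (by simp)

theorem ok16 : PairOK chevE6 56 36 15 35 0 5 :=
  ⟨by decide, by decide, by decide, by decide, by decide, by decide, by decide, by decide, by decide,
    by decide, by decide, by decide, by decide, by decide, by decide, by decide, by decide, by decide,
    by decide⟩

theorem ok35 : PairOK chevE6 42 37 29 34 2 4 :=
  ⟨by decide, by decide, by decide, by decide, by decide, by decide, by decide, by decide, by decide,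
    by decide, by decide, by decide, by decide, by decide, by decide, by decide, by decide, by decide,
    by decide⟩

section

variable {F : Type*} [Field F] (φ : F →+* F)

/-- the generators -/
def gens : Set (GL chevE6.Idx F) :=
  {g | ∃ t : F, φ t = t ∧ ∃ r ∈ [46, 25, 39, 32], g = xGL chevE6 haddE6 F r t} ∪
  {g | ∃ t : F, g = P2 chevE6 haddE6 φ 56 36 t ∨ g = P2 chevE6 haddE6 φ 15 35 t ∨
    g = P2 chevE6 haddE6 φ 42 37 t ∨ g = P2 chevE6 haddE6 φ 29 34 t}

/-- the twisted group -/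
def G₁ : Subgroup (GL chevE6.Idx F) := Subgroup.closure (gens φ)

/-- the parameters fixed by `φ` -/
def fixT : Set F := {t | φ t = t}

theorem fixT_neg : ∀ t ∈ fixT φ, -t ∈ fixT φ := by
  intro t ht
  show φ (-t) = -t
  rw [map_neg, show φ t = t from ht]

theorem fixT_one : (1 : F) ∈ fixT φ := map_one φ

theorem rootIn_fix (r : ℕ) (hr : r ∈ [46, 25, 39, 32]) : RootIn chevE6 haddE6 (G₁ φ) (fixT φ) r :=
  fun t ht => Subgroup.subset_closure (Or.inl ⟨t, ht, r, hr, rfl⟩)

theorem nProd3_mem : nProd (F := F) chevE6 haddE6 [3] ∈ G₁ φ := by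
  have e : nProd (F := F) chevE6 haddE6 [3] = nEl chevE6 haddE6 39 (1 : F) := by
    simp only [nProd, List.map_cons, List.map_nil, List.prod_cons, List.prod_nil, mul_one]
    rfl
  rw [e, nEl_eq]
  have e1 : chevE6.neg 39 = 32 := by decide
  rw [e1]
  refine Subgroup.mul_mem _ (Subgroup.mul_mem _ (rootIn_fix φ 39 (by simp) 1 (fixT_one φ))
    (rootIn_fix φ 32 (by simp) _ ?_)) (rootIn_fix φ 39 (by simp) 1 (fixT_one φ))
  show φ (-(1 : F)⁻¹) = -(1 : F)⁻¹
  simp

variable (hcomm : CommHyp F chevE6) (htor : TorHyp F chevE6) (hn : NConjHyp F chevE6)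

include hcomm hn in
theorem fixed_mem (r : ℕ) (hr : r ∈ [46, 25, 39, 32]) :
    ∀ v ∈ fixT φ, xGL chevE6 haddE6 F r v ∈ ⁅G₁ φ, G₁ φ⁆ := by
  have r47 : RootIn chevE6 haddE6 (G₁ φ) (fixT φ) 47 :=
    rootIn_reflectList chevE6 haddE6 hn (G₁ φ) (fixT φ) (fixT_neg φ) [3] 46 (by decide)
      (nProd3_mem φ) (rootIn_fix φ 46 (by simp))
  have r24 : RootIn chevE6 haddE6 (G₁ φ) (fixT φ) 24 :=
    rootIn_reflectList chevE6 haddE6 hn (G₁ φ) (fixT φ) (fixT_neg φ) [3] 25 (by decide)
      (nProd3_mem φ) (rootIn_fix φ 25 (by simp))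
  simp only [List.mem_cons, List.not_mem_nil, or_false] at hr
  rcases hr with rfl | rfl | rfl | rfl
  · exact comm_mem chevE6 haddE6 hcomm (G₁ φ) (fixT φ) (fixT_neg φ) (fixT_one φ) 47 32 46 (-1)
      (by decide) (by decide) (by decide) (by decide) (by decide) (Or.inr rfl) r47
      (rootIn_fix φ 32 (by simp))
  · exact comm_mem chevE6 haddE6 hcomm (G₁ φ) (fixT φ) (fixT_neg φ) (fixT_one φ) 24 39 25 1
      (by decide) (by decide) (by decide) (by decide) (by decide) (Or.inl rfl) r24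
      (rootIn_fix φ 39 (by simp))
  · exact comm_mem chevE6 haddE6 hcomm (G₁ φ) (fixT φ) (fixT_neg φ) (fixT_one φ) 47 25 39 1
      (by decide) (by decide) (by decide) (by decide) (by decide) (Or.inl rfl) r47
      (rootIn_fix φ 25 (by simp))
  · exact comm_mem chevE6 haddE6 hcomm (G₁ φ) (fixT φ) (fixT_neg φ) (fixT_one φ) 24 46 32 (-1)
      (by decide) (by decide) (by decide) (by decide) (by decide) (Or.inr rfl) r24
      (rootIn_fix φ 46 (by simp))

include hcomm hn htor in
/-- the twisted group is perfect -/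
theorem perfect (hl : ∃ l : F, l ≠ 0 ∧ l ^ 2 ≠ 1) : commutator ↥(G₁ φ) = ⊤ := by
  have h16 := pair_mem chevE6 haddE6 φ ok16 hcomm (G₁ φ)
    (fun t => Subgroup.subset_closure (Or.inr ⟨t, Or.inl rfl⟩))
    (fun t => Subgroup.subset_closure (Or.inr ⟨t, Or.inr (Or.inl rfl)⟩)) htor hl
  have h35 := pair_mem chevE6 haddE6 φ ok35 hcomm (G₁ φ)
    (fun t => Subgroup.subset_closure (Or.inr ⟨t, Or.inr (Or.inr (Or.inl rfl))⟩))
    (fun t => Subgroup.subset_closure (Or.inr ⟨t, Or.inr (Or.inr (Or.inr rfl))⟩)) htor hl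
  refine perfect_of_gens chevE6 (G₁ φ) (gens φ) rfl ?_
  rintro g (⟨t, ht, r, hr, rfl⟩ | ⟨t, rfl | rfl | rfl | rfl⟩)
  · exact fixed_mem φ hcomm hn r hr t ht
  · exact (h16 t).1
  · exact (h16 t).2
  · exact (h35 t).1
  · exact (h35 t).2

end

end Cfsg.Agent.Helper36.TwistE6
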