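import Cfsg.Agent.Helper36.TwistCoreD4
import Cfsg.Agent.Helper36.TwistE6

/-!
Helper36: the normal core of `B ∩ G¹` in the twisted group `G¹ = ²E₆` is trivial.
-/

set_option autoImplicit false

namespace Cfsg.Agent.Helper36.Twist

open Cfsg Cfsg.Lie Cfsg.Agent.Helper40.ChevAdd Cfsg.Agent.Helper36.Perfect
  Cfsg.Agent.Helper36.ChevSimple

section

variable {F : Type*} [Field F] (D : ChevalleyDatum)
  (hD : D ∈ [chevG2, chevB2, chevD4, chevF4, chevE6, chevE7, chevE8]) (hadd : addOK D = true)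
  (htor : TorHyp F D)

include hD htor in
/-- base step for the two roots of a twisted generator -/
theorem triv_pair (a b i : ℕ) (ha : a < D.nroots) (hb : b < D.nroots) (hi : i < D.rank)
    (hpn : (D.IsPosRoot a ∧ D.IsPosRoot b) ∨ (D.IsNegRoot a ∧ D.IsNegRoot b))
    (hib : D.cartan i b = 0) (l : F) (hl : l ≠ 0) (hla : l ^ (D.cartan i a) ≠ 1)
    (k : GL D.Idx F) (hk : k ∈ D.diagonalSubgroup F)
    (hconj : (xGL D hadd F a 1 * xGL D hadd F b 1) * k * (xGL D hadd F a 1 * xGL D hadd F b 1)⁻¹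
        ∈ D.diagonalSubgroup F) :
    Triv D hadd k a ∧ Triv D hadd k b := by
  obtain ⟨χ, -, hχ⟩ := diag_char D hD hadd k hk
  set u := xGL D hadd F a 1 * xGL D hadd F b 1 with hu
  have e : k * u * k⁻¹ = xGL D hadd F a (χ a * 1) * xGL D hadd F b (χ b * 1) := by
    rw [← hχ a ha, ← hχ b hb, hu]; group
  have h1 : k * u * k⁻¹ = u := by
    refine eq_conj_of_mem_diag D hD k u hk ?_ hconj
    rw [e]
    rcases hpn with ⟨pa, pb⟩ | ⟨na, nb⟩
    · left
      exact ⟨Subgroup.mul_mem _ (xGL_mem_pos _ _ a pa _) (xGL_mem_pos _ _ b pb _),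
        Subgroup.mul_mem _ (xGL_mem_pos _ _ a pa _) (xGL_mem_pos _ _ b pb _)⟩
    · right
      exact ⟨Subgroup.mul_mem _ (xGL_mem_neg _ _ a na _) (xGL_mem_neg _ _ b nb _),
        Subgroup.mul_mem _ (xGL_mem_neg _ _ a na _) (xGL_mem_neg _ _ b nb _)⟩
  rw [e, hu] at h1
  obtain ⟨e1, h2⟩ := head_indep D hD hadd htor i a hi ha l hl hla _ _
    (hEl_commute D hadd htor i b hi hb hib l hl _) (hEl_commute D hadd htor i b hi hb hib l hl _) _ _ h1
  have e2 := xGL_inj D hD hadd b hb _ _ h2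
  rw [mul_one] at e1 e2
  exact ⟨triv_of_char_one D hadd k χ a (hχ a ha) e1, triv_of_char_one D hadd k χ b (hχ b hb) e2⟩

end

end Cfsg.Agent.Helper36.Twist

namespace Cfsg.Agent.Helper36.TwistE6

open Cfsg Cfsg.Lie Cfsg.Agent.Helper40.ChevAdd Cfsg.Agent.Helper36.Perfect
  Cfsg.Agent.Helper36.ChevSimple Cfsg.Agent.Helper36.Twist

theorem hE6 : chevE6 ∈ [chevG2, chevB2, chevD4, chevF4, chevE6, chevE7, chevE8] := by simp

/-- a word for the longest element, in the twisted generators -/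
def w0E6 : List ℕ :=
  [1, 3, 2, 4, 0, 5, 1, 3, 2, 4, 0, 5, 1, 3, 2, 4, 0, 5, 1, 3, 2, 4, 0, 5, 1, 3, 2, 4, 0, 5,
   1, 3, 2, 4, 0, 5]

theorem w0E6_ok : w0OK chevE6 w0E6 = true := by decide +kernel

def baseE6 : List ℕ := [56, 15, 46, 25, 42, 29, 39, 32, 37, 34, 36, 35]

def certE6c : List (ℕ × ℕ × ℕ) :=
  [(14, (15, 29)), (13, (14, 32)), (10, (13, 25)), (9, (10, 34)), (7, (9, 32)), (4, (7, 29)), (3, (4, 35)), (2, (3, 34)), (1, (2, 32)), (0, (1, 25)), (5, (2, 42)), (6, (5, 37)), (8, (6, 39)), (11, (8, 46)), (12, (11, 36)), (16, (5, 56)), (17, (16, 37)), (18, (17, 36)), (19, (17, 39)), (20, (19, 36)), (21, (20, 37)), (22, (19, 42)), (23, (22, 36)), (24, (23, 37)), (26, (19, 46)), (27, (26, 36)), (28, (27, 37)), (30, (26, 42)), (31, (30, 36)), (33, (30, 39)), (38, (37, 36)), (40, (39, 37)), (41, (40, 36)), (43, (42, 39)), (44, (43, 37)), (45, (44, 36)), (47, (46, 39)), (48, (47, 37)), (49, (48, 36)), (50, (47, 42)), (51, (50,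 37)), (52, (51, 36)), (53, (51, 39)), (54, (53, 36)), (55, (54, 37)), (57, (56, 42)), (58, (57, 39)), (59, (58, 37)), (60, (59, 36)), (61, (58, 46)), (62, (61, 37)), (63, (62, 36)), (64, (62, 39)), (65, (64, 36)), (66, (65, 37)), (67, (64, 42)), (68, (67, 36)), (69, (68, 37)), (70, (69, 39)), (71, (70, 46))]

theorem certE6c_ok : trivCertOK chevE6 baseE6 certE6c = true := by decide +kernel

section

variable {F : Type*} [Field F] (φ : F →+* F) (hcomm : CommHyp F chevE6) (htor : TorHyp F chevE6)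
  (hn : NConjHyp F chevE6)

theorem P2_mem16 (t : F) : P2 chevE6 haddE6 φ 56 36 t ∈ G₁ φ :=
  Subgroup.subset_closure (Or.inr ⟨t, Or.inl rfl⟩)
theorem P2_mem16' (t : F) : P2 chevE6 haddE6 φ 15 35 t ∈ G₁ φ :=
  Subgroup.subset_closure (Or.inr ⟨t, Or.inr (Or.inl rfl)⟩)
theorem P2_mem35 (t : F) : P2 chevE6 haddE6 φ 42 37 t ∈ G₁ φ :=
  Subgroup.subset_closure (Or.inr ⟨t, Or.inr (Or.inr (Or.inl rfl))⟩)
theorem P2_mem35' (t : F) : P2 chevE6 haddE6 φ 29 34 t ∈ G₁ φ :=
  Subgroup.subset_closure (Or.inr ⟨t, Or.inr (Or.inr (Or.inr rfl))⟩)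

theorem nProd1_mem : nProd (F := F) chevE6 haddE6 [1] ∈ G₁ φ := by
  have e : nProd (F := F) chevE6 haddE6 [1] = nEl chevE6 haddE6 46 (1 : F) := by
    simp only [nProd, List.map_cons, List.map_nil, List.prod_cons, List.prod_nil, mul_one]
    rfl
  rw [e, nEl_eq]
  have e1 : chevE6.neg 46 = 25 := by decide
  rw [e1]
  refine Subgroup.mul_mem _ (Subgroup.mul_mem _ (rootIn_fix φ 46 (by simp) 1 (fixT_one φ))
    (rootIn_fix φ 25 (by simp) _ ?_)) (rootIn_fix φ 46 (by simp) 1 (fixT_one φ))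
  show φ (-(1 : F)⁻¹) = -(1 : F)⁻¹
  simp

include hcomm in
theorem nProd24_mem : nProd (F := F) chevE6 haddE6 [2, 4] ∈ G₁ φ := by
  have e : nProd (F := F) chevE6 haddE6 [2, 4] = nP chevE6 haddE6 φ 42 37 1 := by
    simp only [nProd, List.map_cons, List.map_nil, List.prod_cons, List.prod_nil, mul_one, nP, map_one]
    rfl
  rw [e, nP_eq chevE6 haddE6 φ ok35 hcomm]
  exact Subgroup.mul_mem _ (Subgroup.mul_mem _ (P2_mem35 φ _) (P2_mem35' φ _)) (P2_mem35 φ _)

include hcomm in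
theorem nProd05_mem : nProd (F := F) chevE6 haddE6 [0, 5] ∈ G₁ φ := by
  have e : nProd (F := F) chevE6 haddE6 [0, 5] = nP chevE6 haddE6 φ 56 36 1 := by
    simp only [nProd, List.map_cons, List.map_nil, List.prod_cons, List.prod_nil, mul_one, nP, map_one]
    rfl
  rw [e, nP_eq chevE6 haddE6 φ ok16 hcomm]
  exact Subgroup.mul_mem _ (Subgroup.mul_mem _ (P2_mem16 φ _) (P2_mem16' φ _)) (P2_mem16 φ _)

include hcomm in
theorem n0_mem : nProd (F := F) chevE6 haddE6 w0E6 ∈ G₁ φ := by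
  set c := nProd (F := F) chevE6 haddE6 [1] * (nProd (F := F) chevE6 haddE6 [3] *
    (nProd (F := F) chevE6 haddE6 [2, 4] * nProd (F := F) chevE6 haddE6 [0, 5])) with hc
  have e : nProd (F := F) chevE6 haddE6 w0E6 = c * (c * (c * (c * (c * c)))) := by
    simp only [hc, nProd, w0E6, List.map_cons, List.map_nil, List.prod_cons, List.prod_nil, mul_one,
      mul_assoc]
  have hcm : c ∈ G₁ φ :=
    Subgroup.mul_mem _ (nProd1_mem φ) (Subgroup.mul_mem _ (nProd3_mem φ)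
      (Subgroup.mul_mem _ (nProd24_mem φ hcomm) (nProd05_mem φ hcomm)))
  rw [e]
  exact Subgroup.mul_mem _ hcm (Subgroup.mul_mem _ hcm (Subgroup.mul_mem _ hcm
    (Subgroup.mul_mem _ hcm (Subgroup.mul_mem _ hcm hcm))))

include hcomm htor hn in
/-- the normal core of `B ∩ G¹` in `G¹` is trivial -/
theorem core_trivial (hl : ∃ l : F, l ≠ 0 ∧ l ^ 2 ≠ 1) :
    ((chevE6.borelSubgroup F ⊓ G₁ φ).subgroupOf (G₁ φ)).normalCore = ⊥ := by
  obtain ⟨l, hl0, hl1⟩ := hl
  rw [eq_bot_iff]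
  intro k hk
  rw [Subgroup.mem_bot]
  have hconjB : ∀ g ∈ G₁ φ, g * (k : GL chevE6.Idx F) * g⁻¹ ∈ chevE6.borelSubgroup F := by
    intro g hg
    have h1 := hk ⟨g, hg⟩
    rw [Subgroup.mem_subgroupOf] at h1
    exact h1.1
  have hn0 := n0_mem φ hcomm
  have hconjH : ∀ g ∈ G₁ φ, g * (k : GL chevE6.Idx F) * g⁻¹ ∈ chevE6.diagonalSubgroup F := by
    intro g hg
    refine mem_diag_of_conj chevE6 hE6 haddE6 hn w0E6 w0E6_ok _ (hconjB g hg) ?_
    have h1 := hconjB ((nProd (F := F) chevE6 haddE6 w0E6)⁻¹ * g)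
      (Subgroup.mul_mem _ (Subgroup.inv_mem _ hn0) hg)
    have e : (nProd (F := F) chevE6 haddE6 w0E6)⁻¹ * (g * (k : GL chevE6.Idx F) * g⁻¹) *
        nProd (F := F) chevE6 haddE6 w0E6
        = ((nProd (F := F) chevE6 haddE6 w0E6)⁻¹ * g) * (k : GL chevE6.Idx F) *
          ((nProd (F := F) chevE6 haddE6 w0E6)⁻¹ * g)⁻¹ := by group
    rw [e]; exact h1
  have hkH : (k : GL chevE6.Idx F) ∈ chevE6.diagonalSubgroup F := by
    have := hconjH 1 (Subgroup.one_mem _)
    simpa using this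
  -- base roots
  have tfix : ∀ r ∈ [46, 25, 39, 32], Triv chevE6 haddE6 (k : GL chevE6.Idx F) r := by
    intro r hr
    have hpn : chevE6.IsPosRoot r ∨ chevE6.IsNegRoot r := by
      simp only [List.mem_cons, List.not_mem_nil, or_false] at hr
      rcases hr with rfl | rfl | rfl | rfl
      · exact Or.inl (by decide)
      · exact Or.inr (by decide)
      · exact Or.inl (by decide)
      · exact Or.inr (by decide)
    exact triv_of_unit chevE6 hE6 haddE6 r hpn _ hkH (hconjH _ (rootIn_fix φ r hr 1 (fixT_one φ)))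
  have hP : ∀ a b : ℕ, P2 chevE6 haddE6 φ a b 1 ∈ G₁ φ →
      xGL chevE6 haddE6 F a 1 * xGL chevE6 haddE6 F b 1 ∈ G₁ φ := by
    intro a b h
    unfold P2 at h
    simpa using h
  have hz2 : l ^ (2 : ℤ) ≠ 1 := by rw [zpow_ofNat]; exact hl1
  have hzm2 : l ^ (-2 : ℤ) ≠ 1 := by
    rw [zpow_neg, zpow_ofNat]
    intro h
    apply hl1
    rw [← inv_inv (l ^ 2), h, inv_one]
  obtain ⟨t56, t36⟩ := triv_pair chevE6 hE6 haddE6 htor 56 36 0 (by decide) (by decide) (by decide)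
    (Or.inl ⟨by decide, by decide⟩) (by decide) l hl0
    (by rw [show chevE6.cartan 0 56 = 2 by decide]; exact hz2) _ hkH (hconjH _ (hP _ _ (P2_mem16 φ 1)))
  obtain ⟨t15, t35⟩ := triv_pair chevE6 hE6 haddE6 htor 15 35 0 (by decide) (by decide) (by decide)
    (Or.inr ⟨by decide, by decide⟩) (by decide) l hl0
    (by rw [show chevE6.cartan 0 15 = -2 by decide]; exact hzm2) _ hkH (hconjH _ (hP _ _ (P2_mem16' φ 1)))
  obtain ⟨t42, t37⟩ := triv_pair chevE6 hE6 haddE6 htor 42 37 2 (by decide) (by decide) (by decide)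
    (Or.inl ⟨by decide, by decide⟩) (by decide) l hl0
    (by rw [show chevE6.cartan 2 42 = 2 by decide]; exact hz2) _ hkH (hconjH _ (hP _ _ (P2_mem35 φ 1)))
  obtain ⟨t29, t34⟩ := triv_pair chevE6 hE6 haddE6 htor 29 34 2 (by decide) (by decide) (by decide)
    (Or.inr ⟨by decide, by decide⟩) (by decide) l hl0
    (by rw [show chevE6.cartan 2 29 = -2 by decide]; exact hzm2) _ hkH (hconjH _ (hP _ _ (P2_mem35' φ 1)))
  have hall := triv_all chevE6 haddE6 hcomm (k : GL chevE6.Idx F) certE6c baseE6 certE6c_ok (by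
    intro r hr
    simp only [baseE6, List.mem_cons, List.not_mem_nil, or_false] at hr
    rcases hr with rfl | rfl | rfl | rfl | rfl | rfl | rfl | rfl | rfl | rfl | rfl | rfl
    · exact t56
    · exact t15
    · exact tfix 46 (by simp)
    · exact tfix 25 (by simp)
    · exact t42
    · exact t29
    · exact tfix 39 (by simp)
    · exact tfix 32 (by simp)
    · exact t37
    · exact t34
    · exact t36
    · exact t35)
  have h1 := eq_one_of_triv chevE6 hE6 haddE6 (k : GL chevE6.Idx F) hkH hall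
  exact Subtype.ext h1

end

end Cfsg.Agent.Helper36.TwistE6
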