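import Cfsg.Agent.Helper36.TwistPerfect
import Cfsg.Prelude.Def_LieTwisted

/-!
Helper36: the twisted group `³D₄` (generated by `x_{±p₂}(t)`, `φ t = t`, and
`x_{±p₁}(t) x_{±p₃}(φ t) x_{±p₄}(φ² t)` for a ring endomorphism `φ` of the field) is perfect,
given the commutator formula, the action of the `n_p` and of the `h_p(c)` on root elements.
-/

set_option autoImplicit false

namespace Cfsg.Agent.Helper36.TwistD4

open Cfsg Cfsg.Lie Cfsg.Agent.Helper40.ChevAdd Cfsg.Agent.Helper36.Perfect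
  Cfsg.Agent.Helper36.ChevSimple Cfsg.Agent.Helper36.Twist
open scoped commutatorElement

theorem haddD4 : addOK chevD4 = true := addOK_of_mem (by simp)

section

variable {F : Type*} [Field F] (φ : F →+* F)

/-- `x_{p₁}(t) x_{p₃}(φ t) x_{p₄}(φ² t)` -/
def Yp (t : F) : GL chevD4.Idx F :=
  xGL chevD4 haddD4 F 18 t * xGL chevD4 haddD4 F 13 (φ t) * xGL chevD4 haddD4 F 12 (φ (φ t))

/-- `x_{-p₁}(t) x_{-p₃}(φ t) x_{-p₄}(φ² t)` -/
def Ym (t : F) : GL chevD4.Idx F :=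
  xGL chevD4 haddD4 F 5 t * xGL chevD4 haddD4 F 10 (φ t) * xGL chevD4 haddD4 F 11 (φ (φ t))

/-- the generators -/
def gens : Set (GL chevD4.Idx F) :=
  {g | ∃ t : F, φ t = t ∧ (g = xGL chevD4 haddD4 F 14 t ∨ g = xGL chevD4 haddD4 F 9 t)} ∪
  {g | ∃ t : F, g = Yp φ t ∨ g = Ym φ t}

/-- the twisted group -/
def G₁ : Subgroup (GL chevD4.Idx F) := Subgroup.closure (gens φ)

theorem Yp_mem (t : F) : Yp φ t ∈ G₁ φ := Subgroup.subset_closure (Or.inr ⟨t, Or.inl rfl⟩)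
theorem Ym_mem (t : F) : Ym φ t ∈ G₁ φ := Subgroup.subset_closure (Or.inr ⟨t, Or.inr rfl⟩)

variable (hcomm : CommHyp F chevD4)

local notation "B1" => blockGL (F := F) chevD4 haddD4 [18, 5]
local notation "B3" => blockGL (F := F) chevD4 haddD4 [13, 10]
local notation "B4" => blockGL (F := F) chevD4 haddD4 [12, 11]

include hcomm in
theorem c13 {x y : GL chevD4.Idx F} (hx : x ∈ B1) (hy : y ∈ B3) : Commute x y :=
  block_commute chevD4 haddD4 hcomm _ _ (by decide) hx hy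

include hcomm in
theorem c14 {x y : GL chevD4.Idx F} (hx : x ∈ B1) (hy : y ∈ B4) : Commute x y :=
  block_commute chevD4 haddD4 hcomm _ _ (by decide) hx hy

include hcomm in
theorem c34 {x y : GL chevD4.Idx F} (hx : x ∈ B3) (hy : y ∈ B4) : Commute x y :=
  block_commute chevD4 haddD4 hcomm _ _ (by decide) hx hy

include hcomm in
/-- products over the three commuting blocks multiply blockwise -/
theorem blk_mul {a₁ a₃ a₄ b₁ b₃ b₄ : GL chevD4.Idx F} (_ha1 : a₁ ∈ B1) (ha3 : a₃ ∈ B3) (ha4 : a₄ ∈ B4)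
    (hb1 : b₁ ∈ B1) (hb3 : b₃ ∈ B3) (_hb4 : b₄ ∈ B4) :
    (a₁ * a₃ * a₄) * (b₁ * b₃ * b₄) = (a₁ * b₁) * (a₃ * b₃) * (a₄ * b₄) :=
  prod2_three (c13 hcomm hb1 ha3) (c14 hcomm hb1 ha4) (c34 hcomm hb3 ha4)

include hcomm in
theorem blk_inv {a₁ a₃ a₄ : GL chevD4.Idx F} (ha1 : a₁ ∈ B1) (ha3 : a₃ ∈ B3) (ha4 : a₄ ∈ B4) :
    (a₁ * a₃ * a₄)⁻¹ = a₁⁻¹ * a₃⁻¹ * a₄⁻¹ := by
  rw [inv_eq_iff_mul_eq_one, blk_mul hcomm ha1 ha3 ha4 (Subgroup.inv_mem _ ha1) (Subgroup.inv_mem _ ha3)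
    (Subgroup.inv_mem _ ha4)]
  simp

theorem m18 (t : F) : xGL chevD4 haddD4 F 18 t ∈ B1 := xGL_mem_block _ _ (by simp) t
theorem m5 (t : F) : xGL chevD4 haddD4 F 5 t ∈ B1 := xGL_mem_block _ _ (by simp) t
theorem m13 (t : F) : xGL chevD4 haddD4 F 13 t ∈ B3 := xGL_mem_block _ _ (by simp) t
theorem m10 (t : F) : xGL chevD4 haddD4 F 10 t ∈ B3 := xGL_mem_block _ _ (by simp) t
theorem m12 (t : F) : xGL chevD4 haddD4 F 12 t ∈ B4 := xGL_mem_block _ _ (by simp) t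
theorem m11 (t : F) : xGL chevD4 haddD4 F 11 t ∈ B4 := xGL_mem_block _ _ (by simp) t

include hcomm in
theorem Yp_add (a b : F) : Yp φ a * Yp φ b = Yp φ (a + b) := by
  unfold Yp
  rw [blk_mul hcomm (m18 _) (m13 _) (m12 _) (m18 _) (m13 _) (m12 _), xGL_add, xGL_add, xGL_add]
  simp only [map_add]

include hcomm in
theorem Ym_add (a b : F) : Ym φ a * Ym φ b = Ym φ (a + b) := by
  unfold Ym
  rw [blk_mul hcomm (m5 _) (m10 _) (m11 _) (m5 _) (m10 _) (m11 _), xGL_add, xGL_add, xGL_add]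
  simp only [map_add]

theorem Yp_zero : Yp φ 0 = 1 := by
  unfold Yp; simp [xGL_zero]

theorem Ym_zero : Ym φ 0 = 1 := by
  unfold Ym; simp [xGL_zero]

include hcomm in
theorem Yp_sub (a b : F) : Yp φ a * (Yp φ b)⁻¹ = Yp φ (a - b) := by
  have h : (Yp φ b)⁻¹ = Yp φ (-b) := by
    rw [inv_eq_iff_mul_eq_one, Yp_add φ hcomm, add_neg_cancel, Yp_zero]
  rw [h, Yp_add φ hcomm, sub_eq_add_neg]

include hcomm in
theorem Ym_sub (a b : F) : Ym φ a * (Ym φ b)⁻¹ = Ym φ (a - b) := by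
  have h : (Ym φ b)⁻¹ = Ym φ (-b) := by
    rw [inv_eq_iff_mul_eq_one, Ym_add φ hcomm, add_neg_cancel, Ym_zero]
  rw [h, Ym_add φ hcomm, sub_eq_add_neg]

/-- `n(l) = n_{p₁}(l) n_{p₃}(φ l) n_{p₄}(φ² l)` -/
def nTw (l : F) : GL chevD4.Idx F :=
  nEl chevD4 haddD4 18 l * nEl chevD4 haddD4 13 (φ l) * nEl chevD4 haddD4 12 (φ (φ l))

theorem n18 (t : F) : nEl chevD4 haddD4 18 t ∈ B1 := nEl_mem_block _ _ (by simp) (by decide) t
theorem n13 (t : F) : nEl chevD4 haddD4 13 t ∈ B3 := nEl_mem_block _ _ (by simp) (by decide) t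
theorem n12 (t : F) : nEl chevD4 haddD4 12 t ∈ B4 := nEl_mem_block _ _ (by simp) (by decide) t

include hcomm in
theorem nTw_eq (l : F) : nTw φ l = Yp φ l * Ym φ (-l⁻¹) * Yp φ l := by
  unfold nTw Yp Ym
  rw [blk_mul hcomm (m18 _) (m13 _) (m12 _) (m5 _) (m10 _) (m11 _),
    blk_mul hcomm (Subgroup.mul_mem _ (m18 _) (m5 _)) (Subgroup.mul_mem _ (m13 _) (m10 _))
      (Subgroup.mul_mem _ (m12 _) (m11 _)) (m18 _) (m13 _) (m12 _),
    nEl_eq, nEl_eq, nEl_eq]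
  have e1 : chevD4.neg 18 = 5 := by decide
  have e3 : chevD4.neg 13 = 10 := by decide
  have e4 : chevD4.neg 12 = 11 := by decide
  rw [e1, e3, e4, map_neg, map_neg, map_inv₀, map_inv₀]

include hcomm in
theorem nTw_mem (l : F) : nTw φ l ∈ G₁ φ := by
  rw [nTw_eq φ hcomm]
  exact Subgroup.mul_mem _ (Subgroup.mul_mem _ (Yp_mem φ _) (Ym_mem φ _)) (Yp_mem φ _)

/-- `h(l) = h_{p₁}(l) h_{p₃}(φ l) h_{p₄}(φ² l)` -/
def hTw (l : F) : GL chevD4.Idx F :=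
  hEl chevD4 haddD4 18 l * hEl chevD4 haddD4 13 (φ l) * hEl chevD4 haddD4 12 (φ (φ l))

include hcomm in
theorem hTw_eq (l : F) : hTw φ l = nTw φ l * (nTw φ 1)⁻¹ := by
  unfold hTw nTw
  rw [map_one, map_one, blk_inv hcomm (n18 _) (n13 _) (n12 _),
    blk_mul hcomm (n18 _) (n13 _) (n12 _) (Subgroup.inv_mem _ (n18 _)) (Subgroup.inv_mem _ (n13 _))
      (Subgroup.inv_mem _ (n12 _)), hEl_eq, hEl_eq, hEl_eq]

include hcomm in
theorem hTw_mem (l : F) : hTw φ l ∈ G₁ φ := by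
  rw [hTw_eq φ hcomm]
  exact Subgroup.mul_mem _ (nTw_mem φ hcomm _) (Subgroup.inv_mem _ (nTw_mem φ hcomm _))

variable (htor : TorHyp F chevD4)

include htor in
/-- the action of `h(l)` on a root element -/
theorem hTw_conj (l : F) (hl : l ≠ 0) (s : ℕ) (hs : s < chevD4.nroots) (t : F) :
    hTw φ l * xGL chevD4 haddD4 F s t * (hTw φ l)⁻¹
      = xGL chevD4 haddD4 F s (l ^ (chevD4.cartan 0 s) * ((φ l) ^ (chevD4.cartan 2 s) *
          ((φ (φ l)) ^ (chevD4.cartan 3 s) * t))) := by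
  have hl3 : φ l ≠ 0 := (map_ne_zero φ).mpr hl
  have hl4 : φ (φ l) ≠ 0 := (map_ne_zero φ).mpr hl3
  have e0 := hEl_conj chevD4 haddD4 htor 0 s (by decide) hs l hl
  have e2 := hEl_conj chevD4 haddD4 htor 2 s (by decide) hs (φ l) hl3
  have e3 := hEl_conj chevD4 haddD4 htor 3 s (by decide) hs (φ (φ l)) hl4
  have s0 : chevD4.simple 0 = 18 := by decide
  have s2 : chevD4.simple 2 = 13 := by decide
  have s3 : chevD4.simple 3 = 12 := by decide
  rw [s0] at e0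
  rw [s2] at e2
  rw [s3] at e3
  unfold hTw
  rw [← e0, ← e2, ← e3]
  group

include hcomm htor in
theorem hTw_Yp (l : F) (hl : l ≠ 0) (t : F) :
    hTw φ l * Yp φ t * (hTw φ l)⁻¹ = Yp φ (l ^ 2 * t) := by
  have e : hTw φ l * Yp φ t * (hTw φ l)⁻¹
      = (hTw φ l * xGL chevD4 haddD4 F 18 t * (hTw φ l)⁻¹)
        * (hTw φ l * xGL chevD4 haddD4 F 13 (φ t) * (hTw φ l)⁻¹)
        * (hTw φ l * xGL chevD4 haddD4 F 12 (φ (φ t)) * (hTw φ l)⁻¹) := by
    unfold Yp; group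
  rw [e, hTw_conj φ htor l hl 18 (by decide), hTw_conj φ htor l hl 13 (by decide),
    hTw_conj φ htor l hl 12 (by decide)]
  have a1 : chevD4.cartan 0 18 = 2 := by decide
  have a2 : chevD4.cartan 2 18 = 0 := by decide
  have a3 : chevD4.cartan 3 18 = 0 := by decide
  have b1 : chevD4.cartan 0 13 = 0 := by decide
  have b2 : chevD4.cartan 2 13 = 2 := by decide
  have b3 : chevD4.cartan 3 13 = 0 := by decide
  have c1 : chevD4.cartan 0 12 = 0 := by decide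
  have c2 : chevD4.cartan 2 12 = 0 := by decide
  have c3 : chevD4.cartan 3 12 = 2 := by decide
  rw [a1, a2, a3, b1, b2, b3, c1, c2, c3]
  unfold Yp
  simp only [zpow_zero, pow_zero, one_mul, map_mul, map_pow, zpow_ofNat]

include hcomm htor in
theorem hTw_Ym (l : F) (hl : l ≠ 0) (t : F) :
    hTw φ l * Ym φ t * (hTw φ l)⁻¹ = Ym φ ((l ^ 2)⁻¹ * t) := by
  have e : hTw φ l * Ym φ t * (hTw φ l)⁻¹
      = (hTw φ l * xGL chevD4 haddD4 F 5 t * (hTw φ l)⁻¹)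
        * (hTw φ l * xGL chevD4 haddD4 F 10 (φ t) * (hTw φ l)⁻¹)
        * (hTw φ l * xGL chevD4 haddD4 F 11 (φ (φ t)) * (hTw φ l)⁻¹) := by
    unfold Ym; group
  rw [e, hTw_conj φ htor l hl 5 (by decide), hTw_conj φ htor l hl 10 (by decide),
    hTw_conj φ htor l hl 11 (by decide)]
  have a1 : chevD4.cartan 0 5 = -2 := by decide
  have a2 : chevD4.cartan 2 5 = 0 := by decide
  have a3 : chevD4.cartan 3 5 = 0 := by decide
  have b1 : chevD4.cartan 0 10 = 0 := by decide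
  have b2 : chevD4.cartan 2 10 = -2 := by decide
  have b3 : chevD4.cartan 3 10 = 0 := by decide
  have c1 : chevD4.cartan 0 11 = 0 := by decide
  have c2 : chevD4.cartan 2 11 = 0 := by decide
  have c3 : chevD4.cartan 3 11 = -2 := by decide
  rw [a1, a2, a3, b1, b2, b3, c1, c2, c3]
  unfold Ym
  simp only [zpow_zero, pow_zero, one_mul, map_mul, map_pow, map_inv₀, zpow_neg, zpow_ofNat]

variable (hn : NConjHyp F chevD4)

/-- the parameters fixed by `φ` -/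
def fixT : Set F := {t | φ t = t}

theorem fixT_neg : ∀ t ∈ fixT φ, -t ∈ fixT φ := by
  intro t ht
  show φ (-t) = -t
  rw [map_neg, show φ t = t from ht]

theorem fixT_one : (1 : F) ∈ fixT φ := map_one φ

theorem rootIn14 : RootIn chevD4 haddD4 (G₁ φ) (fixT φ) 14 :=
  fun t ht => Subgroup.subset_closure (Or.inl ⟨t, ht, Or.inl rfl⟩)

theorem rootIn9 : RootIn chevD4 haddD4 (G₁ φ) (fixT φ) 9 :=
  fun t ht => Subgroup.subset_closure (Or.inl ⟨t, ht, Or.inr rfl⟩)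

theorem nProd1_mem : nProd (F := F) chevD4 haddD4 [1] ∈ G₁ φ := by
  have e : nProd (F := F) chevD4 haddD4 [1] = nEl chevD4 haddD4 14 (1 : F) := by
    simp only [nProd, List.map_cons, List.map_nil, List.prod_cons, List.prod_nil, mul_one]
    rfl
  rw [e, nEl_eq]
  have e1 : chevD4.neg 14 = 9 := by decide
  rw [e1]
  refine Subgroup.mul_mem _ (Subgroup.mul_mem _ (rootIn14 φ 1 (fixT_one φ)) (rootIn9 φ _ ?_))
    (rootIn14 φ 1 (fixT_one φ))
  show φ (-(1 : F)⁻¹) = -(1 : F)⁻¹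
  simp

include hcomm in
theorem nProd023_mem : nProd (F := F) chevD4 haddD4 [0, 2, 3] ∈ G₁ φ := by
  have e : nProd (F := F) chevD4 haddD4 [0, 2, 3] = nTw φ 1 := by
    simp only [nProd, List.map_cons, List.map_nil, List.prod_cons, List.prod_nil, mul_one, nTw, map_one]
    rw [← mul_assoc]
    rfl
  rw [e]
  exact nTw_mem φ hcomm 1

include hcomm hn in
theorem x14_mem : ∀ v ∈ fixT φ, xGL chevD4 haddD4 F 14 v ∈ ⁅G₁ φ, G₁ φ⁆ := by
  have r22 : RootIn chevD4 haddD4 (G₁ φ) (fixT φ) 22 :=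
    rootIn_reflectList chevD4 haddD4 hn (G₁ φ) (fixT φ) (fixT_neg φ) [0, 2, 3] 14 (by decide)
      (nProd023_mem φ hcomm) (rootIn14 φ)
  have r23 : RootIn chevD4 haddD4 (G₁ φ) (fixT φ) 23 :=
    rootIn_reflectList chevD4 haddD4 hn (G₁ φ) (fixT φ) (fixT_neg φ) [1] 22 (by decide)
      (nProd1_mem φ) r22
  have r1 : RootIn chevD4 haddD4 (G₁ φ) (fixT φ) 1 :=
    rootIn_reflectList chevD4 haddD4 hn (G₁ φ) (fixT φ) (fixT_neg φ) [0, 2, 3] 9 (by decide)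
      (nProd023_mem φ hcomm) (rootIn9 φ)
  exact comm_mem chevD4 haddD4 hcomm (G₁ φ) (fixT φ) (fixT_neg φ) (fixT_one φ) 23 1 14 1
    (by decide) (by decide) (by decide) (by decide) (by decide) (Or.inl rfl) r23 r1

include hcomm hn in
theorem x9_mem : ∀ v ∈ fixT φ, xGL chevD4 haddD4 F 9 v ∈ ⁅G₁ φ, G₁ φ⁆ := by
  have r22 : RootIn chevD4 haddD4 (G₁ φ) (fixT φ) 22 :=
    rootIn_reflectList chevD4 haddD4 hn (G₁ φ) (fixT φ) (fixT_neg φ) [0, 2, 3] 14 (by decide)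
      (nProd023_mem φ hcomm) (rootIn14 φ)
  have r1 : RootIn chevD4 haddD4 (G₁ φ) (fixT φ) 1 :=
    rootIn_reflectList chevD4 haddD4 hn (G₁ φ) (fixT φ) (fixT_neg φ) [0, 2, 3] 9 (by decide)
      (nProd023_mem φ hcomm) (rootIn9 φ)
  have r0 : RootIn chevD4 haddD4 (G₁ φ) (fixT φ) 0 :=
    rootIn_reflectList chevD4 haddD4 hn (G₁ φ) (fixT φ) (fixT_neg φ) [1] 1 (by decide)
      (nProd1_mem φ) r1
  exact comm_mem chevD4 haddD4 hcomm (G₁ φ) (fixT φ) (fixT_neg φ) (fixT_one φ) 0 22 9 (-1)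
    (by decide) (by decide) (by decide) (by decide) (by decide) (Or.inr rfl) r0 r22

include hcomm hn htor in
/-- the twisted group is perfect -/
theorem perfect (hl : ∃ l : F, l ≠ 0 ∧ l ^ 2 ≠ 1) : commutator ↥(G₁ φ) = ⊤ := by
  obtain ⟨l, hl0, hl1⟩ := hl
  refine perfect_of_gens chevD4 (G₁ φ) (gens φ) rfl ?_
  rintro g (⟨t, ht, rfl | rfl⟩ | ⟨t, rfl | rfl⟩)
  · exact x14_mem φ hcomm hn t ht
  · exact x9_mem φ hcomm hn t ht
  · exact torus_trick chevD4 (G₁ φ) (Yp φ) (Yp_mem φ) (hTw φ l) (hTw_mem φ hcomm l) (l ^ 2)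
      (sub_ne_zero.mpr hl1) (hTw_Yp φ hcomm htor l hl0) (Yp_sub φ hcomm) t
  · refine torus_trick chevD4 (G₁ φ) (Ym φ) (Ym_mem φ) (hTw φ l) (hTw_mem φ hcomm l) (l ^ 2)⁻¹
      ?_ (hTw_Ym φ hcomm htor l hl0) (Ym_sub φ hcomm) t
    intro h
    apply hl1
    have : (l ^ 2)⁻¹ = 1 := sub_eq_zero.mp h
    rw [← inv_inv (l ^ 2), this, inv_one]

end

end Cfsg.Agent.Helper36.TwistD4
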