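import Cfsg.Agent.Helper36.TwistIndep
import Cfsg.Agent.Helper36.TwistD4

/-!
Helper36: the normal core of `B ∩ G¹` in the twisted group `G¹ = ³D₄` is trivial.
-/

set_option autoImplicit false

namespace Cfsg.Agent.Helper36.Twist

open Cfsg Cfsg.Lie Cfsg.Agent.Helper40.ChevAdd Cfsg.Agent.Helper36.Perfect
  Cfsg.Agent.Helper36.ChevSimple

theorem nProd_append {F : Type*} [Field F] (D : ChevalleyDatum) (hadd : addOK D = true)
    (l₁ l₂ : List ℕ) :
    nProd (F := F) D hadd (l₁ ++ l₂) = nProd D hadd l₁ * nProd D hadd l₂ := by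
  unfold nProd
  rw [List.map_append, List.prod_append]

end Cfsg.Agent.Helper36.Twist

namespace Cfsg.Agent.Helper36.TwistD4

open Cfsg Cfsg.Lie Cfsg.Agent.Helper40.ChevAdd Cfsg.Agent.Helper36.Perfect
  Cfsg.Agent.Helper36.ChevSimple Cfsg.Agent.Helper36.Twist

theorem hD4 : chevD4 ∈ [chevG2, chevB2, chevD4, chevF4, chevE6, chevE7, chevE8] := by simp

/-- a word for the longest element, in the twisted generators -/
def w0D4 : List ℕ := [0, 2, 3, 1, 0, 2, 3, 1, 0, 2, 3, 1]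

theorem w0D4_ok : w0OK chevD4 w0D4 = true := by decide +kernel

def baseD4 : List ℕ := [18, 5, 14, 9, 13, 10, 12, 11]

def certD4c : List (ℕ × ℕ × ℕ) :=
  [(4, 5, 9), (2, 4, 10), (1, 2, 11), (0, 1, 9), (3, 1, 13), (6, 1, 18), (7, 6, 12), (8, 6, 13), (15, 14, 12),
   (16, 14, 13), (17, 16, 12), (19, 18, 14), (20, 19, 12), (21, 19, 13), (22, 21, 12), (23, 22, 14)]

theorem certD4c_ok : trivCertOK chevD4 baseD4 certD4c = true := by decide +kernel

section

variable {F : Type*} [Field F] (φ : F →+* F) (hcomm : CommHyp F chevD4) (htor : TorHyp F chevD4)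
  (hn : NConjHyp F chevD4)

include hcomm in
theorem n0_mem : nProd (F := F) chevD4 haddD4 w0D4 ∈ G₁ φ := by
  have e : nProd (F := F) chevD4 haddD4 w0D4
      = (nProd (F := F) chevD4 haddD4 [0, 2, 3] * nProd (F := F) chevD4 haddD4 [1]) *
        ((nProd (F := F) chevD4 haddD4 [0, 2, 3] * nProd (F := F) chevD4 haddD4 [1]) *
          (nProd (F := F) chevD4 haddD4 [0, 2, 3] * nProd (F := F) chevD4 haddD4 [1])) := by
    simp only [nProd, w0D4, List.map_cons, List.map_nil, List.prod_cons, List.prod_nil, mul_one, mul_assoc]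
  rw [e]
  have h1 := nProd023_mem φ hcomm
  have h2 := nProd1_mem φ
  exact Subgroup.mul_mem _ (Subgroup.mul_mem _ h1 h2)
    (Subgroup.mul_mem _ (Subgroup.mul_mem _ h1 h2) (Subgroup.mul_mem _ h1 h2))

include htor in
/-- base step for the three roots of a twisted generator -/
theorem triv_triple (a b c i j : ℕ) (ha : a < chevD4.nroots) (hb : b < chevD4.nroots)
    (hc : c < chevD4.nroots) (hi : i < chevD4.rank) (hj : j < chevD4.rank)
    (hpn : (chevD4.IsPosRoot a ∧ chevD4.IsPosRoot b ∧ chevD4.IsPosRoot c) ∨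
      (chevD4.IsNegRoot a ∧ chevD4.IsNegRoot b ∧ chevD4.IsNegRoot c))
    (hib : chevD4.cartan i b = 0) (hic : chevD4.cartan i c = 0) (hjc : chevD4.cartan j c = 0)
    (l : F) (hl : l ≠ 0) (hla : l ^ (chevD4.cartan i a) ≠ 1) (hlb : l ^ (chevD4.cartan j b) ≠ 1)
    (k : GL chevD4.Idx F) (hk : k ∈ chevD4.diagonalSubgroup F)
    (hconj : (xGL chevD4 haddD4 F a 1 * xGL chevD4 haddD4 F b 1 * xGL chevD4 haddD4 F c 1) * k *
      (xGL chevD4 haddD4 F a 1 * xGL chevD4 haddD4 F b 1 * xGL chevD4 haddD4 F c 1)⁻¹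
        ∈ chevD4.diagonalSubgroup F) :
    Triv chevD4 haddD4 k a ∧ Triv chevD4 haddD4 k b ∧ Triv chevD4 haddD4 k c := by
  obtain ⟨χ, -, hχ⟩ := diag_char chevD4 hD4 haddD4 k hk
  set u := xGL chevD4 haddD4 F a 1 * xGL chevD4 haddD4 F b 1 * xGL chevD4 haddD4 F c 1 with hu
  have e : k * u * k⁻¹ = xGL chevD4 haddD4 F a (χ a * 1) * xGL chevD4 haddD4 F b (χ b * 1) *
      xGL chevD4 haddD4 F c (χ c * 1) := by
    rw [← hχ a ha, ← hχ b hb, ← hχ c hc, hu]; group
  have h1 : k * u * k⁻¹ = u := by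
    refine eq_conj_of_mem_diag chevD4 hD4 k u hk ?_ hconj
    rw [e]
    rcases hpn with ⟨pa, pb, pc⟩ | ⟨na, nb, nc⟩
    · left
      exact ⟨Subgroup.mul_mem _ (Subgroup.mul_mem _ (xGL_mem_pos _ _ a pa _) (xGL_mem_pos _ _ b pb _))
          (xGL_mem_pos _ _ c pc _),
        Subgroup.mul_mem _ (Subgroup.mul_mem _ (xGL_mem_pos _ _ a pa _) (xGL_mem_pos _ _ b pb _))
          (xGL_mem_pos _ _ c pc _)⟩
    · right
      exact ⟨Subgroup.mul_mem _ (Subgroup.mul_mem _ (xGL_mem_neg _ _ a na _) (xGL_mem_neg _ _ b nb _))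
          (xGL_mem_neg _ _ c nc _),
        Subgroup.mul_mem _ (Subgroup.mul_mem _ (xGL_mem_neg _ _ a na _) (xGL_mem_neg _ _ b nb _))
          (xGL_mem_neg _ _ c nc _)⟩
  rw [e, hu, mul_assoc, mul_assoc] at h1
  obtain ⟨e1, h2⟩ := head_indep chevD4 hD4 haddD4 htor i a hi ha l hl hla _ _
    ((hEl_commute chevD4 haddD4 htor i b hi hb hib l hl _).mul_right
      (hEl_commute chevD4 haddD4 htor i c hi hc hic l hl _))
    ((hEl_commute chevD4 haddD4 htor i b hi hb hib l hl _).mul_right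
      (hEl_commute chevD4 haddD4 htor i c hi hc hic l hl _)) _ _ h1
  obtain ⟨e2, h3⟩ := head_indep chevD4 hD4 haddD4 htor j b hj hb l hl hlb _ _
    (hEl_commute chevD4 haddD4 htor j c hj hc hjc l hl _)
    (hEl_commute chevD4 haddD4 htor j c hj hc hjc l hl _) _ _ h2
  have e3 := xGL_inj chevD4 hD4 haddD4 c hc _ _ h3
  rw [mul_one] at e1 e2 e3
  exact ⟨triv_of_char_one chevD4 haddD4 k χ a (hχ a ha) e1,
    triv_of_char_one chevD4 haddD4 k χ b (hχ b hb) e2,
    triv_of_char_one chevD4 haddD4 k χ c (hχ c hc) e3⟩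

include hcomm htor hn in
/-- the normal core of `B ∩ G¹` in `G¹` is trivial -/
theorem core_trivial (hl : ∃ l : F, l ≠ 0 ∧ l ^ 2 ≠ 1) :
    ((chevD4.borelSubgroup F ⊓ G₁ φ).subgroupOf (G₁ φ)).normalCore = ⊥ := by
  obtain ⟨l, hl0, hl1⟩ := hl
  rw [eq_bot_iff]
  intro k hk
  rw [Subgroup.mem_bot]
  have hconjB : ∀ g ∈ G₁ φ, g * (k : GL chevD4.Idx F) * g⁻¹ ∈ chevD4.borelSubgroup F := by
    intro g hg
    have h1 := hk ⟨g, hg⟩
    rw [Subgroup.mem_subgroupOf] at h1
    exact h1.1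
  have hn0 := n0_mem φ hcomm
  have hconjH : ∀ g ∈ G₁ φ, g * (k : GL chevD4.Idx F) * g⁻¹ ∈ chevD4.diagonalSubgroup F := by
    intro g hg
    refine mem_diag_of_conj chevD4 hD4 haddD4 hn w0D4 w0D4_ok _ (hconjB g hg) ?_
    have h1 := hconjB ((nProd (F := F) chevD4 haddD4 w0D4)⁻¹ * g)
      (Subgroup.mul_mem _ (Subgroup.inv_mem _ hn0) hg)
    have e : (nProd (F := F) chevD4 haddD4 w0D4)⁻¹ * (g * (k : GL chevD4.Idx F) * g⁻¹) *
        nProd (F := F) chevD4 haddD4 w0D4
        = ((nProd (F := F) chevD4 haddD4 w0D4)⁻¹ * g) * (k : GL chevD4.Idx F) *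
          ((nProd (F := F) chevD4 haddD4 w0D4)⁻¹ * g)⁻¹ := by group
    rw [e]; exact h1
  have hkH : (k : GL chevD4.Idx F) ∈ chevD4.diagonalSubgroup F := by
    have := hconjH 1 (Subgroup.one_mem _)
    simpa using this
  -- base roots
  have t14 : Triv chevD4 haddD4 (k : GL chevD4.Idx F) 14 :=
    triv_of_unit chevD4 hD4 haddD4 14 (Or.inl (by decide)) _ hkH
      (hconjH _ (rootIn14 φ 1 (fixT_one φ)))
  have t9 : Triv chevD4 haddD4 (k : GL chevD4.Idx F) 9 :=
    triv_of_unit chevD4 hD4 haddD4 9 (Or.inr (by decide)) _ hkH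
      (hconjH _ (rootIn9 φ 1 (fixT_one φ)))
  have hYp : xGL chevD4 haddD4 F 18 1 * xGL chevD4 haddD4 F 13 1 * xGL chevD4 haddD4 F 12 1 ∈ G₁ φ := by
    have := Yp_mem φ 1
    unfold Yp at this
    simpa using this
  have hYm : xGL chevD4 haddD4 F 5 1 * xGL chevD4 haddD4 F 10 1 * xGL chevD4 haddD4 F 11 1 ∈ G₁ φ := by
    have := Ym_mem φ 1
    unfold Ym at this
    simpa using this
  have hz2 : l ^ (2 : ℤ) ≠ 1 := by rw [zpow_ofNat]; exact hl1
  have hzm2 : l ^ (-2 : ℤ) ≠ 1 := by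
    rw [zpow_neg, zpow_ofNat]
    intro h
    apply hl1
    rw [← inv_inv (l ^ 2), h, inv_one]
  obtain ⟨t18, t13, t12⟩ := triv_triple htor 18 13 12 0 2 (by decide) (by decide) (by decide)
    (by decide) (by decide) (Or.inl ⟨by decide, by decide, by decide⟩) (by decide) (by decide)
    (by decide) l hl0 (by rw [show chevD4.cartan 0 18 = 2 by decide]; exact hz2)
    (by rw [show chevD4.cartan 2 13 = 2 by decide]; exact hz2) _ hkH (hconjH _ hYp)
  obtain ⟨t5, t10, t11⟩ := triv_triple htor 5 10 11 0 2 (by decide) (by decide) (by decide)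
    (by decide) (by decide) (Or.inr ⟨by decide, by decide, by decide⟩) (by decide) (by decide)
    (by decide) l hl0 (by rw [show chevD4.cartan 0 5 = -2 by decide]; exact hzm2)
    (by rw [show chevD4.cartan 2 10 = -2 by decide]; exact hzm2) _ hkH (hconjH _ hYm)
  have hall := triv_all chevD4 haddD4 hcomm (k : GL chevD4.Idx F) certD4c baseD4 certD4c_ok (by
    intro r hr
    simp only [baseD4, List.mem_cons, List.not_mem_nil, or_false] at hr
    rcases hr with rfl | rfl | rfl | rfl | rfl | rfl | rfl | rfl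
    · exact t18
    · exact t5
    · exact t14
    · exact t9
    · exact t13
    · exact t10
    · exact t12
    · exact t11)
  have h1 := eq_one_of_triv chevD4 hD4 haddD4 (k : GL chevD4.Idx F) hkH hall
  exact Subtype.ext h1

end

end Cfsg.Agent.Helper36.TwistD4
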