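import Cfsg.Agent.Helper36.TwistCore

/-!
Helper36: independence of root elements of different roots, by conjugation with a torus element
acting non-trivially on the first root only.
-/

set_option autoImplicit false

namespace Cfsg.Agent.Helper36.Twist

open Cfsg Cfsg.Lie Cfsg.Agent.Helper40.ChevAdd Cfsg.Agent.Helper36.Perfect
  Cfsg.Agent.Helper36.ChevSimple

section Indep

variable {F : Type*} [Field F] (D : ChevalleyDatum)
  (hD : D ∈ [chevG2, chevB2, chevD4, chevF4, chevE6, chevE7, chevE8]) (hadd : addOK D = true)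
  (htor : TorHyp F D)

include htor in
/-- `h_{p_i}(l)` commutes with the root elements of the roots `s` with `A_{i,s} = 0` -/
theorem hEl_commute (i s : ℕ) (hi : i < D.rank) (hs : s < D.nroots) (h0 : D.cartan i s = 0) (l : F)
    (hl : l ≠ 0) (t : F) : Commute (hEl D hadd (D.simple i) l) (xGL D hadd F s t) := by
  have := hEl_conj D hadd htor i s hi hs l hl t
  rw [h0, zpow_zero, one_mul] at this
  exact mul_inv_eq_iff_eq_mul.mp this

include hD htor in
theorem head_indep (i r : ℕ) (hi : i < D.rank) (hr : r < D.nroots) (l : F) (hl : l ≠ 0)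
    (hle : l ^ (D.cartan i r) ≠ 1) (y y' : GL D.Idx F)
    (hy : Commute (hEl D hadd (D.simple i) l) y) (hy' : Commute (hEl D hadd (D.simple i) l) y')
    (s₁ t₁ : F) (h : xGL D hadd F r s₁ * y = xGL D hadd F r t₁ * y') : s₁ = t₁ ∧ y = y' := by
  set g := hEl D hadd (D.simple i) l with hg
  set e := D.cartan i r with he
  have hc : ∀ t : F, g * xGL D hadd F r t * g⁻¹ = xGL D hadd F r (l ^ e * t) :=
    fun t => hEl_conj D hadd htor i r hi hr l hl t
  -- conjugate the relation by `g`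
  have h2 : xGL D hadd F r (l ^ e * s₁) * y = xGL D hadd F r (l ^ e * t₁) * y' := by
    have e1 : g * (xGL D hadd F r s₁ * y) * g⁻¹ = xGL D hadd F r (l ^ e * s₁) * y := by
      have : g * (xGL D hadd F r s₁ * y) * g⁻¹ = (g * xGL D hadd F r s₁ * g⁻¹) * (g * y * g⁻¹) := by
        group
      rw [this, hc, mul_inv_eq_iff_eq_mul.mpr hy.eq]
    have e2 : g * (xGL D hadd F r t₁ * y') * g⁻¹ = xGL D hadd F r (l ^ e * t₁) * y' := by
      have : g * (xGL D hadd F r t₁ * y') * g⁻¹ = (g * xGL D hadd F r t₁ * g⁻¹) * (g * y' * g⁻¹) := by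
        group
      rw [this, hc, mul_inv_eq_iff_eq_mul.mpr hy'.eq]
    rw [← e1, ← e2, h]
  -- `y y'⁻¹` computed in two ways
  have h3 : y * y'⁻¹ = xGL D hadd F r (t₁ - s₁) := by
    have : y * y'⁻¹ = (xGL D hadd F r s₁)⁻¹ * (xGL D hadd F r s₁ * y) * y'⁻¹ := by group
    rw [this, h, xGL_inv, ← mul_assoc, xGL_add, mul_inv_cancel_right]
    congr 1; ring
  have h4 : y * y'⁻¹ = xGL D hadd F r (l ^ e * t₁ - l ^ e * s₁) := by
    have : y * y'⁻¹ = (xGL D hadd F r (l ^ e * s₁))⁻¹ * (xGL D hadd F r (l ^ e * s₁) * y) * y'⁻¹ := by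
      group
    rw [this, h2, xGL_inv, ← mul_assoc, xGL_add, mul_inv_cancel_right]
    congr 1; ring
  have h5 : t₁ - s₁ = l ^ e * t₁ - l ^ e * s₁ := by
    have h6 := h3.symm.trans h4
    have h7 := congrArg (fun g : GL D.Idx F => (g : Matrix D.Idx D.Idx F)) h6
    simp only [coe_xGL] at h7
    exact Cfsg.Agent.Helper18.x_injective D hD r hr _ _ h7
  have h8 : (l ^ e - 1) * (t₁ - s₁) = 0 := by
    have : (l ^ e - 1) * (t₁ - s₁) = (l ^ e * t₁ - l ^ e * s₁) - (t₁ - s₁) := by ring
    rw [this, ← h5, sub_self]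
  have h9 : s₁ = t₁ := by
    rcases mul_eq_zero.mp h8 with h10 | h10
    · exact absurd (sub_eq_zero.mp h10) hle
    · exact (sub_eq_zero.mp h10).symm
  refine ⟨h9, ?_⟩
  subst h9
  exact mul_left_cancel h

include hD in
theorem xGL_inj (r : ℕ) (hr : r < D.nroots) (a b : F) (h : xGL D hadd F r a = xGL D hadd F r b) :
    a = b := by
  have h7 := congrArg (fun g : GL D.Idx F => (g : Matrix D.Idx D.Idx F)) h
  simp only [coe_xGL] at h7
  exact Cfsg.Agent.Helper18.x_injective D hD r hr _ _ h7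

end Indep

end Cfsg.Agent.Helper36.Twist
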