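import Cfsg.Agent.Helper36.TwistPerfect

/-!
Helper36: twisted root elements `x_a(t) x_b(φ t)` for two orthogonal fundamental roots `a`, `b`
(with `a ± b` not roots): if a subgroup contains all of them and all `x_{-a}(t) x_{-b}(φ t)`, then
they all lie in its commutator subgroup (the field having an element `l ≠ 0` with `l² ≠ 1`).
-/

set_option autoImplicit false

namespace Cfsg.Agent.Helper36.Twist

open Cfsg Cfsg.Lie Cfsg.Agent.Helper40.ChevAdd Cfsg.Agent.Helper36.Perfect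
  Cfsg.Agent.Helper36.ChevSimple
open scoped commutatorElement

/-- the numerical facts on the pair of fundamental roots `a = p_i`, `b = p_j` (`a' = -a`, `b' = -b`) -/
structure PairOK (D : ChevalleyDatum) (a b a' b' i j : ℕ) : Prop where
  blk : commBlocksOK D [a, a'] [b, b'] = true
  na : D.neg a = a'
  nb : D.neg b = b'
  si : D.simple i = a
  sj : D.simple j = b
  hi : i < D.rank
  hj : j < D.rank
  ha : a < D.nroots
  hb : b < D.nroots
  ha' : a' < D.nroots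
  hb' : b' < D.nroots
  c1 : D.cartan i a = 2
  c2 : D.cartan j a = 0
  c3 : D.cartan i b = 0
  c4 : D.cartan j b = 2
  c5 : D.cartan i a' = -2
  c6 : D.cartan j a' = 0
  c7 : D.cartan i b' = 0
  c8 : D.cartan j b' = -2

section Pair

variable {F : Type*} [Field F] (D : ChevalleyDatum) (hadd : addOK D = true) (φ : F →+* F)

/-- `x_r(t) x_s(φ t)` -/
def P2 (r s : ℕ) (t : F) : GL D.Idx F := xGL D hadd F r t * xGL D hadd F s (φ t)

variable {a b a' b' i j : ℕ} (ok : PairOK D a b a' b' i j) (hcomm : CommHyp F D)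

include ok hcomm in
theorem pair_blk_mul {x₁ x₂ y₁ y₂ : GL D.Idx F} (hx2 : x₂ ∈ blockGL (F := F) D hadd [b, b'])
    (hy1 : y₁ ∈ blockGL (F := F) D hadd [a, a']) :
    (x₁ * x₂) * (y₁ * y₂) = (x₁ * y₁) * (x₂ * y₂) :=
  prod2_two (block_commute D hadd hcomm _ _ ok.blk hy1 hx2)

include ok hcomm in
theorem pair_blk_inv {x₁ x₂ : GL D.Idx F} (hx1 : x₁ ∈ blockGL (F := F) D hadd [a, a'])
    (hx2 : x₂ ∈ blockGL (F := F) D hadd [b, b']) :
    (x₁ * x₂)⁻¹ = x₁⁻¹ * x₂⁻¹ := by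
  rw [inv_eq_iff_mul_eq_one, pair_blk_mul D hadd ok hcomm hx2 (Subgroup.inv_mem _ hx1)]
  simp

theorem pa (t : F) : xGL D hadd F a t ∈ blockGL (F := F) D hadd [a, a'] :=
  xGL_mem_block _ _ (by simp) t
theorem pa' (t : F) : xGL D hadd F a' t ∈ blockGL (F := F) D hadd [a, a'] :=
  xGL_mem_block _ _ (by simp) t
theorem pb (t : F) : xGL D hadd F b t ∈ blockGL (F := F) D hadd [b, b'] :=
  xGL_mem_block _ _ (by simp) t
theorem pb' (t : F) : xGL D hadd F b' t ∈ blockGL (F := F) D hadd [b, b'] :=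
  xGL_mem_block _ _ (by simp) t

include ok hcomm in
theorem P2_add (x y : F) : P2 D hadd φ a b x * P2 D hadd φ a b y = P2 D hadd φ a b (x + y) := by
  unfold P2
  rw [pair_blk_mul D hadd ok hcomm (pb D hadd _) (pa D hadd _), xGL_add, xGL_add, map_add]

include ok hcomm in
theorem P2_add' (x y : F) : P2 D hadd φ a' b' x * P2 D hadd φ a' b' y = P2 D hadd φ a' b' (x + y) := by
  unfold P2
  rw [pair_blk_mul D hadd ok hcomm (pb' D hadd _) (pa' D hadd _), xGL_add, xGL_add, map_add]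

theorem P2_zero (r s : ℕ) : P2 D hadd φ r s 0 = 1 := by
  unfold P2; simp [xGL_zero]

include ok hcomm in
theorem P2_sub (x y : F) : P2 D hadd φ a b x * (P2 D hadd φ a b y)⁻¹ = P2 D hadd φ a b (x - y) := by
  have h : (P2 D hadd φ a b y)⁻¹ = P2 D hadd φ a b (-y) := by
    rw [inv_eq_iff_mul_eq_one, P2_add D hadd φ ok hcomm, add_neg_cancel, P2_zero]
  rw [h, P2_add D hadd φ ok hcomm, sub_eq_add_neg]

include ok hcomm in
theorem P2_sub' (x y : F) :
    P2 D hadd φ a' b' x * (P2 D hadd φ a' b' y)⁻¹ = P2 D hadd φ a' b' (x - y) := by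
  have h : (P2 D hadd φ a' b' y)⁻¹ = P2 D hadd φ a' b' (-y) := by
    rw [inv_eq_iff_mul_eq_one, P2_add' D hadd φ ok hcomm, add_neg_cancel, P2_zero]
  rw [h, P2_add' D hadd φ ok hcomm, sub_eq_add_neg]

/-- `n(l) = n_a(l) n_b(φ l)` -/
def nP (a b : ℕ) (l : F) : GL D.Idx F := nEl D hadd a l * nEl D hadd b (φ l)

/-- `h(l) = h_a(l) h_b(φ l)` -/
def hP (a b : ℕ) (l : F) : GL D.Idx F := hEl D hadd a l * hEl D hadd b (φ l)

include ok in
theorem na_mem (t : F) : nEl D hadd a t ∈ blockGL (F := F) D hadd [a, a'] :=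
  nEl_mem_block _ _ (by simp) (by rw [ok.na]; simp) t

include ok in
theorem nb_mem (t : F) : nEl D hadd b t ∈ blockGL (F := F) D hadd [b, b'] :=
  nEl_mem_block _ _ (by simp) (by rw [ok.nb]; simp) t

include ok hcomm in
theorem nP_eq (l : F) :
    nP D hadd φ a b l = P2 D hadd φ a b l * P2 D hadd φ a' b' (-l⁻¹) * P2 D hadd φ a b l := by
  unfold nP P2
  rw [pair_blk_mul D hadd ok hcomm (pb D hadd _) (pa' D hadd _),
    pair_blk_mul D hadd ok hcomm (Subgroup.mul_mem _ (pb D hadd _) (pb' D hadd _)) (pa D hadd _),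
    nEl_eq, nEl_eq, ok.na, ok.nb, map_neg, map_inv₀]

include ok hcomm in
theorem hP_eq (l : F) : hP D hadd φ a b l = nP D hadd φ a b l * (nP D hadd φ a b 1)⁻¹ := by
  unfold hP nP
  rw [map_one, pair_blk_inv D hadd ok hcomm (na_mem D hadd ok _) (nb_mem D hadd ok _),
    pair_blk_mul D hadd ok hcomm (nb_mem D hadd ok _) (Subgroup.inv_mem _ (na_mem D hadd ok _)),
    hEl_eq, hEl_eq]

variable (G₁ : Subgroup (GL D.Idx F)) (hP1 : ∀ t, P2 D hadd φ a b t ∈ G₁)
  (hP2 : ∀ t, P2 D hadd φ a' b' t ∈ G₁)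

include ok hcomm hP1 hP2 in
theorem hP_mem (l : F) : hP D hadd φ a b l ∈ G₁ := by
  have hn : ∀ l, nP D hadd φ a b l ∈ G₁ := by
    intro l
    rw [nP_eq D hadd φ ok hcomm]
    exact Subgroup.mul_mem _ (Subgroup.mul_mem _ (hP1 _) (hP2 _)) (hP1 _)
  rw [hP_eq D hadd φ ok hcomm]
  exact Subgroup.mul_mem _ (hn _) (Subgroup.inv_mem _ (hn _))

variable (htor : TorHyp F D)

include ok htor in
theorem hP_conj (l : F) (hl : l ≠ 0) (s : ℕ) (hs : s < D.nroots) (t : F) :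
    hP D hadd φ a b l * xGL D hadd F s t * (hP D hadd φ a b l)⁻¹
      = xGL D hadd F s (l ^ (D.cartan i s) * ((φ l) ^ (D.cartan j s) * t)) := by
  have hl2 : φ l ≠ 0 := (map_ne_zero φ).mpr hl
  have e1 := hEl_conj D hadd htor i s ok.hi hs l hl
  have e2 := hEl_conj D hadd htor j s ok.hj hs (φ l) hl2
  rw [ok.si] at e1
  rw [ok.sj] at e2
  unfold hP
  rw [← e1, ← e2]
  group

include ok htor in
theorem hP_P2 (l : F) (hl : l ≠ 0) (t : F) :
    hP D hadd φ a b l * P2 D hadd φ a b t * (hP D hadd φ a b l)⁻¹ = P2 D hadd φ a b (l ^ 2 * t) := by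
  have e : hP D hadd φ a b l * P2 D hadd φ a b t * (hP D hadd φ a b l)⁻¹
      = (hP D hadd φ a b l * xGL D hadd F a t * (hP D hadd φ a b l)⁻¹)
        * (hP D hadd φ a b l * xGL D hadd F b (φ t) * (hP D hadd φ a b l)⁻¹) := by
    unfold P2; group
  rw [e, hP_conj D hadd φ ok htor l hl a ok.ha, hP_conj D hadd φ ok htor l hl b ok.hb,
    ok.c1, ok.c2, ok.c3, ok.c4]
  unfold P2
  simp only [zpow_zero, pow_zero, one_mul, map_mul, map_pow, zpow_ofNat]

include ok htor in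
theorem hP_P2' (l : F) (hl : l ≠ 0) (t : F) :
    hP D hadd φ a b l * P2 D hadd φ a' b' t * (hP D hadd φ a b l)⁻¹
      = P2 D hadd φ a' b' ((l ^ 2)⁻¹ * t) := by
  have e : hP D hadd φ a b l * P2 D hadd φ a' b' t * (hP D hadd φ a b l)⁻¹
      = (hP D hadd φ a b l * xGL D hadd F a' t * (hP D hadd φ a b l)⁻¹)
        * (hP D hadd φ a b l * xGL D hadd F b' (φ t) * (hP D hadd φ a b l)⁻¹) := by
    unfold P2; group
  rw [e, hP_conj D hadd φ ok htor l hl a' ok.ha', hP_conj D hadd φ ok htor l hl b' ok.hb',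
    ok.c5, ok.c6, ok.c7, ok.c8]
  unfold P2
  simp only [zpow_zero, pow_zero, one_mul, map_mul, map_pow, map_inv₀, zpow_neg, zpow_ofNat]

include ok hcomm htor hP1 hP2 in
theorem pair_mem (hl : ∃ l : F, l ≠ 0 ∧ l ^ 2 ≠ 1) (s : F) :
    P2 D hadd φ a b s ∈ ⁅G₁, G₁⁆ ∧ P2 D hadd φ a' b' s ∈ ⁅G₁, G₁⁆ := by
  obtain ⟨l, hl0, hl1⟩ := hl
  constructor
  · exact torus_trick D G₁ (P2 D hadd φ a b) hP1 (hP D hadd φ a b l)
      (hP_mem D hadd φ ok hcomm G₁ hP1 hP2 l) (l ^ 2) (sub_ne_zero.mpr hl1)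
      (hP_P2 D hadd φ ok htor l hl0) (P2_sub D hadd φ ok hcomm) s
  · refine torus_trick D G₁ (P2 D hadd φ a' b') hP2 (hP D hadd φ a b l)
      (hP_mem D hadd φ ok hcomm G₁ hP1 hP2 l) (l ^ 2)⁻¹ ?_
      (hP_P2' D hadd φ ok htor l hl0) (P2_sub' D hadd φ ok hcomm) s
    intro h
    apply hl1
    have : (l ^ 2)⁻¹ = 1 := sub_eq_zero.mp h
    rw [← inv_inv (l ^ 2), this, inv_one]

end Pair

end Cfsg.Agent.Helper36.Twist
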