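import Cfsg.Agent.Helper19.Twist.FixProd
import Cfsg.Agent.Helper19.Twist.UFix
import Cfsg.Agent.Helper36.SigmaChev

/-!
Helper36: fixed points of an automorphism `σ` (acting on the root elements as in `Spec`) on the
subgroup generated by the root subgroups of a closed list `A ++ R` of positive roots, where `A`
and `R` are closed and stable under the root permutation: they split as a product of the fixed
points on `A` and on `R`.
-/

set_option autoImplicit false
set_option maxRecDepth 100000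
set_option linter.unusedSectionVars false

namespace Cfsg.Agent.Helper36.USplit

open Cfsg Cfsg.Lie Cfsg.Agent.Helper18 Cfsg.Agent.Helper40.UProd Cfsg.Agent.Helper19.Twist
  Cfsg.Agent.Helper19.Poinc Cfsg.Agent.Helper19.Cox Cfsg.Agent.Helper36.SigmaChev

section

variable {K : Type*} [Field K] {D : ChevalleyDatum}
  (hD : D ∈ [chevG2, chevB2, chevD4, chevF4, chevE6, chevE7, chevE8])

/-- the fixed points of `σ`, as a subgroup of the general linear group -/
def FixS (σ : ↥(D.group K) ≃* ↥(D.group K)) : Subgroup (GL D.Idx K) where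
  carrier := {g | ∃ hg : g ∈ D.group K, σ ⟨g, hg⟩ = ⟨g, hg⟩}
  one_mem' := ⟨one_mem _, map_one σ⟩
  mul_mem' := by
    rintro a b ⟨ha, ha'⟩ ⟨hb, hb'⟩
    refine ⟨mul_mem ha hb, ?_⟩
    have : (⟨a * b, mul_mem ha hb⟩ : ↥(D.group K)) = ⟨a, ha⟩ * ⟨b, hb⟩ := rfl
    rw [this, map_mul, ha', hb']
  inv_mem' := by
    rintro a ⟨ha, ha'⟩
    refine ⟨inv_mem ha, ?_⟩
    have : (⟨a⁻¹, inv_mem ha⟩ : ↥(D.group K)) = (⟨a, ha⟩ : ↥(D.group K))⁻¹ := rfl
    rw [this, map_inv, ha']

theorem mem_FixS {σ : ↥(D.group K) ≃* ↥(D.group K)} (g : ↥(D.group K)) :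
    (g : GL D.Idx K) ∈ FixS σ ↔ σ g = g := by
  constructor
  · rintro ⟨hg, h⟩
    exact h
  · intro h
    exact ⟨g.2, h⟩

theorem listSubgroup_mono {P Q : List ℕ} (h : ∀ r ∈ P, r ∈ Q) :
    listSubgroup D K P ≤ listSubgroup D K Q := by
  unfold listSubgroup
  apply Subgroup.closure_mono
  rintro g ⟨r, t, hr, hg⟩
  exact ⟨r, t, h r hr, hg⟩

include hD in
theorem listSubgroup_le_group (P : List ℕ) : listSubgroup D K P ≤ D.group K := by
  have htri := triOK_of_mem D hD
  unfold listSubgroup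
  rw [Subgroup.closure_le]
  rintro g ⟨r, t, hr, hg⟩
  have e : g = xGL D K r t := Units.ext (by rw [hg, xGL_val D _ htri])
  rw [e]
  exact xGL_mem_group' D hD r t

variable {σ : ↥(D.group K) ≃* ↥(D.group K)} {π : ℕ → ℕ} {c : ℕ → K →+* K}

include hD in
/-- `σ` maps the subgroup of a list of roots into that of its image -/
theorem map_listSubgroup (hσ : Spec D σ π c) (P Q : List ℕ) (hP : ∀ r ∈ P, r < D.nroots)
    (hPQ : ∀ r ∈ P, π r ∈ Q) (g : ↥(D.group K)) (hg : (g : GL D.Idx K) ∈ listSubgroup D K P) :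
    ((σ g : ↥(D.group K)) : GL D.Idx K) ∈ listSubgroup D K Q := by
  have htri := triOK_of_mem D hD
  apply map_mem_of_closure σ _ _ _ g hg
  rintro x ⟨r, t, hr, hx⟩
  have e : x = xGL D K r t := Units.ext (by rw [hx, xGL_val D _ htri])
  subst e
  refine ⟨xGL_mem_group' D hD r t, ?_⟩
  rw [hσ.map_x r (hP r hr) t]
  exact Subgroup.subset_closure ⟨_, _, hPQ r hr, xGL_val D _ htri _ _⟩

variable {φ : ℕ → ℤ} {wit : ℕ → ℕ × ℕ} (hg : gradeOK' D φ wit = true)

include hD hg in
/-- uniqueness of the ordered expression over a closed list -/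
theorem pwG_inj (P : List ℕ) (hP : ClosedList D φ P) (t t' : ℕ → K)
    (h : pwG D K P t = pwG D K P t') : ∀ r ∈ P, t r = t' r := by
  have h' := congrArg (fun g : GL D.Idx K => (g : Matrix D.Idx D.Idx K)) h
  simp only [pwG_val D hD] at h'
  exact pw_inj' hg (Cfsg.Agent.Helper40.ChevAdd.addOK_of_mem hD) P hP.pos hP.sorted t t' h'

include hD hg in
/-- a fixed point on `A ++ R` is a product of a fixed point on `A` and one on `R` -/
theorem split_fix (hσ : Spec D σ π c) (A R : List ℕ) (hAR : ClosedList D φ (A ++ R))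
    (hA : ClosedList D φ A) (hR : ClosedList D φ R) (hπA : ∀ r ∈ A, π r ∈ A)
    (hπR : ∀ r ∈ R, π r ∈ R) (u : GL D.Idx K) (hu : u ∈ listSubgroup D K (A ++ R))
    (hfix : u ∈ FixS σ) :
    ∃ x ∈ listSubgroup D K A ⊓ FixS σ, ∃ r ∈ listSubgroup D K R ⊓ FixS σ, u = x * r := by
  classical
  obtain ⟨t, -, hut⟩ := exists_pwG hD hg _ hAR u hu
  rw [pwG_append] at hut
  have hxA := pwG_mem_listSubgroup (K := K) hD A t
  have hrR := pwG_mem_listSubgroup (K := K) hD R t
  have hxG := listSubgroup_le_group (K := K) hD A hxA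
  have hrG := listSubgroup_le_group (K := K) hD R hrR
  have hAlt : ∀ r ∈ A, r < D.nroots := fun r hr => (hA.pos r hr).1
  have hRlt : ∀ r ∈ R, r < D.nroots := fun r hr => (hR.pos r hr).1
  have hσx := map_listSubgroup hD hσ A A hAlt hπA ⟨_, hxG⟩ hxA
  have hσr := map_listSubgroup hD hσ R R hRlt hπR ⟨_, hrG⟩ hrR
  obtain ⟨t1, -, h1⟩ := exists_pwG hD hg _ hA _ hσx
  obtain ⟨t2, -, h2⟩ := exists_pwG hD hg _ hR _ hσr
  obtain ⟨huG, hfix'⟩ := hfix
  have e1 : (⟨u, huG⟩ : ↥(D.group K)) = ⟨_, hxG⟩ * ⟨_, hrG⟩ := Subtype.ext hut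
  have e2 : u = pwG D K A t1 * pwG D K R t2 := by
    have := congrArg Subtype.val hfix'
    rw [e1, map_mul, Subgroup.coe_mul, h1, h2, Subgroup.coe_mul] at this
    rw [this, hut]
  have hnd : (A ++ R).Nodup := by
    apply hAR.sorted.imp_of_mem
    intro a b _ _ hab heq
    rw [heq] at hab
    exact lt_irrefl _ hab
  have hdisj : ∀ r ∈ R, r ∉ A := fun r hr hr' => (List.nodup_append.mp hnd).2.2 r hr' r hr rfl
  set t3 : ℕ → K := fun s => if s ∈ A then t1 s else t2 s with ht3
  have e3 : pwG D K A t1 * pwG D K R t2 = pwG D K (A ++ R) t3 := by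
    rw [pwG_append]
    congr 1
    · apply pwG_congr
      intro r hr
      simp [ht3, hr]
    · apply pwG_congr
      intro r hr
      simp [ht3, hdisj r hr]
  have e4 : pwG D K (A ++ R) t = pwG D K (A ++ R) t3 := by
    rw [← e3, ← e2, pwG_append, hut]
  have h5 := pwG_inj hD hg _ hAR t t3 e4
  have e6 : pwG D K A t1 = pwG D K A t := by
    apply pwG_congr
    intro r hr
    have := h5 r (List.mem_append_left _ hr)
    rw [this]
    simp [ht3, hr]
  have e7 : pwG D K R t2 = pwG D K R t := by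
    apply pwG_congr
    intro r hr
    have := h5 r (List.mem_append_right _ hr)
    rw [this]
    simp [ht3, hdisj r hr]
  refine ⟨pwG D K A t, ⟨hxA, hxG, ?_⟩, pwG D K R t, ⟨hrR, hrG, ?_⟩, hut⟩
  · apply Subtype.ext
    rw [h1, e6]
  · apply Subtype.ext
    rw [h2, e7]

include hD hg in
/-- uniqueness of the splitting -/
theorem split_unique (A R : List ℕ) (hAR : ClosedList D φ (A ++ R))
    (hA : ClosedList D φ A) (hR : ClosedList D φ R) (x x' r r' : GL D.Idx K)
    (hx : x ∈ listSubgroup D K A) (hx' : x' ∈ listSubgroup D K A)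
    (hr : r ∈ listSubgroup D K R) (hr' : r' ∈ listSubgroup D K R) (h : x * r = x' * r') :
    x = x' ∧ r = r' := by
  classical
  obtain ⟨t1, -, rfl⟩ := exists_pwG hD hg _ hA _ hx
  obtain ⟨t1', -, rfl⟩ := exists_pwG hD hg _ hA _ hx'
  obtain ⟨t2, -, rfl⟩ := exists_pwG hD hg _ hR _ hr
  obtain ⟨t2', -, rfl⟩ := exists_pwG hD hg _ hR _ hr'
  have hnd : (A ++ R).Nodup := by
    apply hAR.sorted.imp_of_mem
    intro a b _ _ hab heq
    rw [heq] at hab
    exact lt_irrefl _ hab
  have hdisj : ∀ r ∈ R, r ∉ A := fun r hr hr' => (List.nodup_append.mp hnd).2.2 r hr' r hr rfl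
  have key : ∀ s1 s2 : ℕ → K, pwG D K A s1 * pwG D K R s2 =
      pwG D K (A ++ R) (fun s => if s ∈ A then s1 s else s2 s) := by
    intro s1 s2
    rw [pwG_append]
    congr 1
    · apply pwG_congr
      intro r hr
      simp [hr]
    · apply pwG_congr
      intro r hr
      simp [hdisj r hr]
  rw [key, key] at h
  have h5 := pwG_inj hD hg _ hAR _ _ h
  constructor
  · apply pwG_congr
    intro r hr
    have := h5 r (List.mem_append_left _ hr)
    simpa [hr] using this
  · apply pwG_congr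
    intro r hr
    have := h5 r (List.mem_append_right _ hr)
    simpa [hdisj r hr] using this

end

end Cfsg.Agent.Helper36.USplit
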